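import Mathlib
import Cfsg.Prelude.Def_Characters

/-!
# Centralizer ring of a permutation representation, part A (helper4)

Permutation matrices `pm g`, equivariant matrices `IsEqv G A` (the centralizer ring),
the class function `cA A g = tr (A * pm g)`, and two facts of linear algebra over `ℤ`:
the trace of an integral complex matrix is an algebraic integer, and `a * e` is integral
when `a` is integral and commutes with the idempotent `e`.
-/

open scoped Kronecker ComplexConjugate
open Polynomial

set_option linter.unusedSectionVars false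
set_option linter.unusedVariables false

namespace Cfsg.Agent.Lib.H4.CentRing

section LinAlg

variable {n : Type*} [Fintype n] [DecidableEq n]

/-- The trace of a complex matrix which is integral over `ℤ` is an algebraic integer. -/
theorem isIntegral_trace_of_isIntegral (M : Matrix n n ℂ) (h : IsIntegral ℤ M) :
    IsIntegral ℤ M.trace := by
  rw [Matrix.trace_eq_sum_roots_charpoly]
  refine IsIntegral.multiset_sum fun μ hμ => ?_
  obtain ⟨p, hp, hpM⟩ := h
  have hroot : M.charpoly.IsRoot μ := (Polynomial.mem_roots'.mp hμ).2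
  have hspec : μ ∈ spectrum ℂ M := Matrix.mem_spectrum_of_isRoot_charpoly hroot
  have : Nontrivial (Matrix n n ℂ) := by
    by_contra hne
    rw [not_nontrivial_iff_subsingleton] at hne
    rw [spectrum.of_subsingleton] at hspec
    exact hspec
  refine ⟨p, hp, ?_⟩
  have h1 := spectrum.subset_polynomial_aeval M (p.map (algebraMap ℤ ℂ)) ⟨μ, hspec, rfl⟩
  have h2 : aeval M (p.map (algebraMap ℤ ℂ)) = 0 := by
    rw [Polynomial.aeval_map_algebraMap ℂ]
    exact hpM
  rw [h2, spectrum.zero_eq, Set.mem_singleton_iff] at h1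
  simpa [Polynomial.eval_map] using h1

/-- If `a` is integral over `ℤ` and commutes with the idempotent `e`, then `a * e` is integral. -/
theorem isIntegral_mul_idempotent {R : Type*} [Ring R] (a e : R) (ha : IsIntegral ℤ a)
    (he : e * e = e) (hc : a * e = e * a) : IsIntegral ℤ (a * e) := by
  obtain ⟨p, hp, hpa⟩ := ha
  have hcm : Commute a e := hc
  have hpow : ∀ k : ℕ, (a * e) * (a * e) ^ k = a * a ^ k * e := by
    intro k
    rw [← pow_succ', hcm.mul_pow, IsIdempotentElem.pow_succ_eq k he, pow_succ']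
  have h1 : (a * e) * aeval (a * e) p = a * aeval a p * e := by
    rw [aeval_eq_sum_range, aeval_eq_sum_range, Finset.mul_sum, Finset.mul_sum, Finset.sum_mul]
    refine Finset.sum_congr rfl fun i _ => ?_
    rw [mul_smul_comm, mul_smul_comm, smul_mul_assoc, hpow]
  have h2 : aeval a p = 0 := hpa
  refine ⟨X * p, monic_X.mul hp, ?_⟩
  show aeval (a * e) (X * p) = 0
  rw [map_mul, aeval_X, h1, h2, mul_zero, zero_mul]

end LinAlg

section Perm

variable {G : Type*} [Group G] {Ω : Type*} [Fintype Ω] [DecidableEq Ω] [MulAction G Ω]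

/-- The permutation matrix of `g`, sending the basis vector `y` to `g • y`. -/
def pm (g : G) : Matrix Ω Ω ℂ := fun x y => if x = g • y then 1 else 0

theorem pm_apply (g : G) (x y : Ω) : pm g x y = if x = g • y then 1 else 0 := rfl

theorem mul_pm_apply (A : Matrix Ω Ω ℂ) (g : G) (x y : Ω) : (A * pm g : Matrix Ω Ω ℂ) x y = A x (g • y) := by
  rw [Matrix.mul_apply, Finset.sum_eq_single (g • y)]
  · simp [pm_apply]
  · intro z _ hz
    simp [pm_apply, hz]
  · intro h
    exact absurd (Finset.mem_univ _) h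

theorem pm_mul_apply (A : Matrix Ω Ω ℂ) (g : G) (x y : Ω) : (pm g * A : Matrix Ω Ω ℂ) x y = A (g⁻¹ • x) y := by
  rw [Matrix.mul_apply, Finset.sum_eq_single (g⁻¹ • x)]
  · simp [pm_apply]
  · intro z _ hz
    have : x ≠ g • z := by
      intro h
      apply hz
      rw [h, inv_smul_smul]
    simp [pm_apply, this]
  · intro h
    exact absurd (Finset.mem_univ _) h

theorem pm_one : pm (1 : G) = (1 : Matrix Ω Ω ℂ) := by
  ext x y
  simp [pm_apply, Matrix.one_apply]

theorem pm_mul (g h : G) : pm (g * h) = (pm g * pm h : Matrix Ω Ω ℂ) := by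
  ext x y
  rw [mul_pm_apply, pm_apply, pm_apply, mul_smul]

theorem pm_transpose (g : G) : (pm g : Matrix Ω Ω ℂ).transpose = pm g⁻¹ := by
  ext x y
  rw [Matrix.transpose_apply, pm_apply, pm_apply]
  congr 1
  rw [eq_iff_iff]
  constructor
  · intro h
    rw [h, inv_smul_smul]
  · intro h
    rw [h, smul_inv_smul]

theorem trace_pm (g : G) : (pm g : Matrix Ω Ω ℂ).trace = (Nat.card (MulAction.fixedBy Ω g) : ℂ) := by
  classical
  rw [Matrix.trace]
  simp only [Matrix.diag_apply, pm_apply]
  rw [Finset.sum_boole, Nat.card_eq_fintype_card, Fintype.card_subtype]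
  congr 2
  ext x
  simp [MulAction.mem_fixedBy, eq_comm]

/-- `A` lies in the centralizer ring: it is constant on the orbits of `G` on pairs. -/
def IsEqv (G : Type*) [Group G] [MulAction G Ω] (A : Matrix Ω Ω ℂ) : Prop :=
  ∀ (g : G) (x y : Ω), A (g • x) (g • y) = A x y

theorem IsEqv.comm {A : Matrix Ω Ω ℂ} (hA : IsEqv G A) (g : G) : A * pm g = pm g * A := by
  ext x y
  rw [mul_pm_apply, pm_mul_apply]
  have := hA g⁻¹ x (g • y)
  rw [inv_smul_smul] at this
  exact this.symm

theorem isEqv_of_comm {A : Matrix Ω Ω ℂ} (hA : ∀ g : G, A * pm g = pm g * A) : IsEqv G A := by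
  intro g x y
  have h := congrFun (congrFun (hA g) (g • x)) y
  rw [mul_pm_apply, pm_mul_apply, inv_smul_smul] at h
  exact h

theorem IsEqv.mul {A B : Matrix Ω Ω ℂ} (hA : IsEqv G A) (hB : IsEqv G B) : IsEqv G (A * B) := by
  apply isEqv_of_comm
  intro g
  rw [mul_assoc, hB.comm, ← mul_assoc, hA.comm, mul_assoc]

theorem IsEqv.add {A B : Matrix Ω Ω ℂ} (hA : IsEqv G A) (hB : IsEqv G B) : IsEqv G (A + B) := by
  intro g x y
  simp [Matrix.add_apply, hA g x y, hB g x y]

theorem IsEqv.smul (c : ℂ) {A : Matrix Ω Ω ℂ} (hA : IsEqv G A) : IsEqv G (c • A) := by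
  intro g x y
  simp [Matrix.smul_apply, hA g x y]

theorem IsEqv.transpose {A : Matrix Ω Ω ℂ} (hA : IsEqv G A) : IsEqv G A.transpose := by
  intro g x y
  simp [Matrix.transpose_apply, hA g y x]

theorem isEqv_one : IsEqv G (1 : Matrix Ω Ω ℂ) := by
  intro g x y
  simp [Matrix.one_apply]

/-- The class function `g ↦ tr (A * pm g) = ∑ x, A x (g • x)`. -/
noncomputable def cA (A : Matrix Ω Ω ℂ) (g : G) : ℂ := (A * pm g).trace

theorem cA_eq (A : Matrix Ω Ω ℂ) (g : G) : cA A g = ∑ x, A x (g • x) := by
  rw [cA, Matrix.trace]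
  simp only [Matrix.diag_apply, mul_pm_apply]

theorem cA_isClassFunction {A : Matrix Ω Ω ℂ} (hA : IsEqv G A) : Cfsg.IsClassFunction G (cA A) := by
  intro g h
  rw [cA_eq, cA_eq]
  refine Fintype.sum_equiv (MulAction.toPerm h⁻¹) _ _ fun x => ?_
  simp only [MulAction.toPerm_apply]
  rw [← hA h (h⁻¹ • x) (g • h⁻¹ • x), smul_inv_smul, mul_smul, mul_smul]

end Perm

end Cfsg.Agent.Lib.H4.CentRing
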