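import Cfsg.Prelude.Def_ClassicalGeometry

set_option autoImplicit false

namespace Cfsg.Agent.Lib.H4

open Matrix

set_option linter.unusedSectionVars false

section
variable {F : Type*} [Field F] [Fintype F] {q : ℕ}

/-- When `|F| = q²`, the map `x ↦ x ^ q` is a ring endomorphism of `F`. -/
theorem exists_frob (hF : Fintype.card F = q ^ 2) :
    ∃ φ : F →+* F, (∀ x, φ x = x ^ q) ∧ ∀ x, φ (φ x) = x := by
  obtain ⟨p, hp⟩ := CharP.exists F
  obtain ⟨⟨k, hk⟩, hpprime, hcard⟩ := FiniteField.card F p
  have : Fact p.Prime := ⟨hpprime⟩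
  have hq0 : q ≠ 0 := by
    rintro rfl
    simp at hF
  have hdvd : q ∣ p ^ k := by
    have hcard' : Fintype.card F = p ^ k := hcard
    rw [← hcard', hF]; exact Dvd.intro_left _ (by ring)
  obtain ⟨j, -, hj⟩ := (Nat.dvd_prime_pow hpprime).mp hdvd
  refine ⟨{ toFun := fun x => x ^ q
            map_one' := one_pow q
            map_mul' := fun a b => mul_pow a b q
            map_zero' := zero_pow hq0
            map_add' := fun a b => by rw [hj]; exact add_pow_char_pow a b p j }, fun x => rfl, ?_⟩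
  intro x
  show (x ^ q) ^ q = x
  rw [← pow_mul, ← sq, ← hF]
  exact FiniteField.pow_card x

variable (n : ℕ)

theorem hermForm_add_left (u u' v : Fin n → F) :
    Cfsg.hermForm n F q (u + u') v = Cfsg.hermForm n F q u v + Cfsg.hermForm n F q u' v := by
  simp [Cfsg.hermForm, add_mul, Finset.sum_add_distrib]

theorem hermForm_smul_left (a : F) (u v : Fin n → F) :
    Cfsg.hermForm n F q (a • u) v = a * Cfsg.hermForm n F q u v := by
  simp [Cfsg.hermForm, Finset.mul_sum, mul_assoc]

theorem hermForm_smul_right (a : F) (u v : Fin n → F) :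
    Cfsg.hermForm n F q u (a • v) = a ^ q * Cfsg.hermForm n F q u v := by
  simp only [Cfsg.hermForm, Finset.mul_sum, Pi.smul_apply, smul_eq_mul, mul_pow]
  refine Finset.sum_congr rfl fun i _ => by ring

theorem hermForm_add_right (hF : Fintype.card F = q ^ 2) (u v v' : Fin n → F) :
    Cfsg.hermForm n F q u (v + v') = Cfsg.hermForm n F q u v + Cfsg.hermForm n F q u v' := by
  obtain ⟨φ, hφ, -⟩ := exists_frob hF
  simp only [Cfsg.hermForm, Pi.add_apply, ← hφ, map_add, mul_add, Finset.sum_add_distrib]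

theorem hermForm_conj (hF : Fintype.card F = q ^ 2) (u v : Fin n → F) :
    (Cfsg.hermForm n F q u v) ^ q = Cfsg.hermForm n F q v u := by
  obtain ⟨φ, hφ, hφ2⟩ := exists_frob hF
  simp only [Cfsg.hermForm, ← hφ, map_sum, map_mul, hφ2]
  refine Finset.sum_congr rfl fun i _ => by ring

theorem unitaryTransvection_mulVec (v : Fin n → F) (c : F) (x : Fin n → F) :
    Cfsg.unitaryTransvection n q v c *ᵥ x = x + (c * Cfsg.hermForm n F q x v) • v := by
  rw [Cfsg.unitaryTransvection, Matrix.add_mulVec, Matrix.one_mulVec, Matrix.smul_mulVec,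
    Matrix.vecMulVec_mulVec, mul_smul]
  congr 2
  ext i
  simp only [Pi.smul_apply, smul_eq_mul, Cfsg.hermForm, dotProduct, MulOpposite.smul_eq_mul_unop,
    MulOpposite.unop_op]
  rw [mul_comm]
  congr 1
  refine Finset.sum_congr rfl fun j _ => by ring

end

end Cfsg.Agent.Lib.H4
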