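import Cfsg.Prelude.Def_ClassicalGeometry

set_option autoImplicit false

namespace Cfsg.Agent.Lib.H4

open Matrix

variable {F : Type*} [CommRing F] (m : ℕ)

theorem J_mulVec_J_mulVec (v : Fin m ⊕ Fin m → F) :
    Matrix.J (Fin m) F *ᵥ (Matrix.J (Fin m) F *ᵥ v) = -v := by
  rw [Matrix.mulVec_mulVec, Matrix.J_squared, Matrix.neg_mulVec, Matrix.one_mulVec]

theorem J_vecMul_J (v : Fin m ⊕ Fin m → F) :
    (Matrix.J (Fin m) F *ᵥ v) ᵥ* Matrix.J (Fin m) F = v := by
  rw [← Matrix.mulVec_transpose, Matrix.J_transpose, Matrix.neg_mulVec, J_mulVec_J_mulVec, neg_neg]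

theorem dot_J_self (v : Fin m ⊕ Fin m → F) :
    v ⬝ᵥ (Matrix.J (Fin m) F *ᵥ v) = 0 := by
  simp only [Matrix.J, dotProduct, Fintype.sum_sum_type, Matrix.mulVec, Matrix.fromBlocks_apply₁₁,
    Matrix.fromBlocks_apply₁₂, Matrix.fromBlocks_apply₂₁, Matrix.fromBlocks_apply₂₂,
    Matrix.zero_apply, zero_mul, Finset.sum_const_zero, zero_add, add_zero, Matrix.neg_apply,
    Matrix.one_apply, neg_mul, ite_mul, one_mul, Finset.sum_neg_distrib, Finset.sum_ite_eq,
    Finset.mem_univ, if_true, mul_neg]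
  rw [neg_add_eq_zero]
  exact Finset.sum_congr rfl fun i _ => mul_comm _ _

theorem sympForm_self (v : Fin m ⊕ Fin m → F) : Cfsg.sympForm m F v v = 0 :=
  dot_J_self m v

theorem sympForm_add_left (u u' v : Fin m ⊕ Fin m → F) :
    Cfsg.sympForm m F (u + u') v = Cfsg.sympForm m F u v + Cfsg.sympForm m F u' v := by
  simp [Cfsg.sympForm, add_dotProduct]

theorem sympForm_add_right (u v v' : Fin m ⊕ Fin m → F) :
    Cfsg.sympForm m F u (v + v') = Cfsg.sympForm m F u v + Cfsg.sympForm m F u v' := by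
  simp [Cfsg.sympForm, Matrix.mulVec_add, dotProduct_add]

theorem sympForm_smul_left (a : F) (u v : Fin m ⊕ Fin m → F) :
    Cfsg.sympForm m F (a • u) v = a * Cfsg.sympForm m F u v := by
  simp [Cfsg.sympForm, smul_dotProduct]

theorem sympForm_smul_right (a : F) (u v : Fin m ⊕ Fin m → F) :
    Cfsg.sympForm m F u (a • v) = a * Cfsg.sympForm m F u v := by
  simp [Cfsg.sympForm, Matrix.mulVec_smul, dotProduct_smul]

theorem sympForm_swap (u v : Fin m ⊕ Fin m → F) :
    Cfsg.sympForm m F u v = - Cfsg.sympForm m F v u := by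
  have h := sympForm_self m (u + v)
  rw [sympForm_add_left, sympForm_add_right, sympForm_add_right, sympForm_self, sympForm_self] at h
  linear_combination h

/-- The transvection matrix acts as `x ↦ x + c f(x, v) v`. -/
theorem sympTransvection_mulVec (v : Fin m ⊕ Fin m → F) (c : F) (x : Fin m ⊕ Fin m → F) :
    Cfsg.sympTransvection m v c *ᵥ x = x + (c * Cfsg.sympForm m F x v) • v := by
  rw [Cfsg.sympTransvection, Matrix.add_mulVec, Matrix.one_mulVec, Matrix.smul_mulVec,
    Matrix.vecMulVec_mulVec, Cfsg.sympForm, dotProduct_comm x]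
  rw [mul_smul]
  congr 1
  ext i
  simp [mul_comm]

theorem mem_symplecticGroup_iff_sympForm (A : Matrix (Fin m ⊕ Fin m) (Fin m ⊕ Fin m) F) :
    A ∈ Matrix.symplecticGroup (Fin m) F ↔
      ∀ u v, Cfsg.sympForm m F (A *ᵥ u) (A *ᵥ v) = Cfsg.sympForm m F u v := by
  rw [SymplecticGroup.mem_iff']
  constructor
  · intro h u v
    unfold Cfsg.sympForm
    rw [Matrix.mulVec_mulVec, ← Matrix.vecMul_transpose,
      ← Matrix.dotProduct_mulVec, Matrix.mulVec_mulVec, ← Matrix.mul_assoc, h]
  · intro h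
    ext i j
    have := h (Pi.single i 1) (Pi.single j 1)
    unfold Cfsg.sympForm at this
    rw [Matrix.mulVec_mulVec, ← Matrix.vecMul_transpose,
      ← Matrix.dotProduct_mulVec, Matrix.mulVec_mulVec, ← Matrix.mul_assoc] at this
    simpa using this

theorem sympTransvection_mem (v : Fin m ⊕ Fin m → F) (c : F) :
    Cfsg.sympTransvection m v c ∈ Matrix.symplecticGroup (Fin m) F := by
  rw [mem_symplecticGroup_iff_sympForm]
  intro x y
  rw [sympTransvection_mulVec, sympTransvection_mulVec]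
  simp only [sympForm_add_left, sympForm_add_right, sympForm_smul_left, sympForm_smul_right,
    sympForm_self]
  rw [sympForm_swap m v y]
  ring

theorem sympTransvection_mul (v : Fin m ⊕ Fin m → F) (c d : F) :
    Cfsg.sympTransvection m v c * Cfsg.sympTransvection m v d =
      Cfsg.sympTransvection m v (c + d) := by
  unfold Cfsg.sympTransvection
  rw [add_mul, mul_add, mul_add, one_mul, mul_one, one_mul, Matrix.smul_mul, Matrix.mul_smul,
    Matrix.vecMulVec_mul_vecMulVec, dotProduct_comm, dot_J_self]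
  simp [add_smul, add_assoc, add_comm]

theorem sympTransvection_conj (v : Fin m ⊕ Fin m → F)
    (A : Matrix (Fin m ⊕ Fin m) (Fin m ⊕ Fin m) F) (a : F)
    (hA : A ∈ Matrix.symplecticGroup (Fin m) F) (hv : A *ᵥ v = a • v) (c : F) :
    A * Cfsg.sympTransvection m v c * A⁻¹ = Cfsg.sympTransvection m v (c * a * a) := by
  have hdet : IsUnit A.det := SymplecticGroup.symplectic_det hA
  have hinv : A⁻¹ = -Matrix.J (Fin m) F * Aᵀ * Matrix.J (Fin m) F :=
    SymplecticGroup.inv_eq_symplectic_inv A hA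
  have key : (Matrix.J (Fin m) F *ᵥ v) ᵥ* A⁻¹ = a • (Matrix.J (Fin m) F *ᵥ v) := by
    rw [hinv, ← Matrix.vecMul_vecMul, ← Matrix.vecMul_vecMul, Matrix.vecMul_neg, J_vecMul_J,
      Matrix.neg_vecMul, Matrix.vecMul_transpose, hv, Matrix.neg_vecMul, Matrix.smul_vecMul,
      ← Matrix.mulVec_transpose, Matrix.J_transpose, Matrix.neg_mulVec]
    simp
  unfold Cfsg.sympTransvection
  rw [mul_add, add_mul, mul_one, Matrix.mul_nonsing_inv A hdet, Matrix.mul_smul, Matrix.smul_mul,
    Matrix.mul_vecMulVec, Matrix.vecMulVec_mul, key, hv, Matrix.smul_vecMulVec,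
    Matrix.vecMulVec_smul, smul_smul, smul_smul]

end Cfsg.Agent.Lib.H4
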