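import Mathlib

/-!
# S4404 piece P3 (helper4; architect helper1): `pair_abstract`

A `{3,p}`-group (`p ≥ 5`) of order dividing `20160` generated by two elements of order dividing 3 is abelian,
or `p = 7` and it has a normal subgroup `⟨z⟩` of order 7 not centralised by both generators.
-/

set_option autoImplicit false

namespace Cfsg.Agent.Lib.H4.FG19

/-- a group of order a power of three dividing `20160` is commutative -/
theorem p3_comm_of_three_group {G : Type*} [Group G] [Finite G] (h3 : IsPGroup 3 G)
    (hdvd : Nat.card G ∣ 20160) (x y : G) : x * y = y * x := by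
  have : Fact (Nat.Prime 3) := ⟨by norm_num⟩
  obtain ⟨k, hk⟩ := (IsPGroup.iff_card).mp h3
  have hk2 : k ≤ 2 := by
    by_contra hcon
    push Not at hcon
    have h27 : (27 : ℕ) ∣ 20160 := by
      have : (3 : ℕ) ^ 3 ∣ 3 ^ k := pow_dvd_pow 3 hcon
      exact (by norm_num : (27 : ℕ) = 3 ^ 3) ▸ (this.trans (hk ▸ hdvd))
    norm_num at h27
  interval_cases k
  · -- card 1
    haveI : Subsingleton G := (Nat.card_eq_one_iff_unique.mp (by simpa using hk)).1
    exact Subsingleton.elim _ _
  · -- card 3
    haveI : IsCyclic G := isCyclic_of_prime_card (p := 3) (by simpa using hk)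
    exact (IsCyclic.commGroup (α := G)).mul_comm x y
  · -- card 9
    have := IsPGroup.commutative_of_card_eq_prime_sq (p := 3) (G := G) (by simpa using hk)
    exact this x y

theorem pair_abstract {G : Type*} [Group G] [Finite G] {p a b : ℕ} (hp : p.Prime) (hp5 : 5 ≤ p)
    (hG : Nat.card G = 3 ^ a * p ^ b) (hdvd : Nat.card G ∣ 20160) (x y : G) (hx : x ^ 3 = 1)
    (hy : y ^ 3 = 1) (hgen : Subgroup.closure {x, y} = ⊤) :
    x * y = y * x ∨ (p = 7 ∧ ∃ z : G, z ^ 7 = 1 ∧ z ≠ 1 ∧ (∀ g : G, g * z * g⁻¹ ∈ Subgroup.zpowers z) ∧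
      (x * z * x⁻¹ ≠ z ∨ y * z * y⁻¹ ≠ z)) := by
  classical
  haveI h3 : Fact (Nat.Prime 3) := ⟨by norm_num⟩
  haveI h7 : Fact (Nat.Prime 7) := ⟨by norm_num⟩
  have hp3 : p ≠ 3 := by omega
  have hp2 : p ≠ 2 := by omega
  -- p^b divides 35
  have hcop576 : Nat.Coprime (p ^ b) 576 := by
    apply Nat.Coprime.pow_left
    have : (576 : ℕ) = 2 ^ 6 * 3 ^ 2 := by norm_num
    rw [this]
    apply Nat.Coprime.mul_right
    · apply Nat.Coprime.pow_right
      exact (Nat.coprime_primes hp Nat.prime_two).mpr hp2
    · apply Nat.Coprime.pow_right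
      exact (Nat.coprime_primes hp Nat.prime_three).mpr hp3
  have hpb35 : p ^ b ∣ 35 := by
    have h1 : p ^ b ∣ 576 * 35 := by
      have : p ^ b ∣ Nat.card G := hG ▸ Dvd.intro_left _ rfl
      exact (this.trans hdvd).trans (by norm_num)
    exact hcop576.dvd_of_dvd_mul_left h1
  -- the number of Sylow 3-subgroups
  let T : Sylow 3 G := default
  have hn3dvdG : Nat.card (Sylow 3 G) ∣ Nat.card G :=
    (Sylow.card_dvd_index T).trans (Subgroup.index_dvd_card _)
  have hn3mod : Nat.card (Sylow 3 G) ≡ 1 [MOD 3] := card_sylow_modEq_one 3 G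
  have hn3cop : Nat.Coprime (Nat.card (Sylow 3 G)) (3 ^ a) := by
    apply Nat.Coprime.pow_right
    rw [Nat.coprime_comm, Nat.Prime.coprime_iff_not_dvd Nat.prime_three]
    intro hdv
    have := (Nat.modEq_zero_iff_dvd.mpr hdv).symm.trans hn3mod
    exact absurd this (by decide)
  have hn3pb : Nat.card (Sylow 3 G) ∣ p ^ b := by
    rw [hG] at hn3dvdG
    exact hn3cop.dvd_of_dvd_mul_left hn3dvdG
  have hn3_35 : Nat.card (Sylow 3 G) ∣ 35 := hn3pb.trans hpb35
  have hn3cases : Nat.card (Sylow 3 G) = 1 ∨ Nat.card (Sylow 3 G) = 7 := by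
    have hle : Nat.card (Sylow 3 G) ≤ 35 := Nat.le_of_dvd (by norm_num) hn3_35
    have hmod : Nat.card (Sylow 3 G) % 3 = 1 := hn3mod
    generalize Nat.card (Sylow 3 G) = n at *
    interval_cases n <;> simp_all <;> omega
  rcases hn3cases with hn1 | hn7
  · -- unique Sylow 3-subgroup: G is a 3-group
    left
    haveI : Subsingleton (Sylow 3 G) := (Nat.card_eq_one_iff_unique.mp hn1).1
    have hmem : ∀ g : G, g ^ 3 = 1 → g ∈ (T : Subgroup G) := by
      intro g hg
      have hPg : IsPGroup 3 (Subgroup.zpowers g) := by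
        rw [IsPGroup.iff_card]
        have : Nat.card (Subgroup.zpowers g) ∣ 3 := by
          rw [Nat.card_zpowers]
          exact orderOf_dvd_of_pow_eq_one hg
        rcases (Nat.dvd_prime Nat.prime_three).mp this with h | h
        · exact ⟨0, by simpa using h⟩
        · exact ⟨1, by simpa using h⟩
      obtain ⟨Q, hQ⟩ := hPg.exists_le_sylow
      have : Q = T := Subsingleton.elim _ _
      exact this ▸ hQ (Subgroup.mem_zpowers g)
    have htop : (T : Subgroup G) = ⊤ := by
      rw [eq_top_iff, ← hgen, Subgroup.closure_le]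
      intro g hg
      rcases hg with rfl | rfl
      · exact hmem _ hx
      · exact hmem _ hy
    have hG3 : IsPGroup 3 G := by
      have h := T.isPGroup'
      intro g
      obtain ⟨k, hk⟩ := h ⟨g, htop ▸ Subgroup.mem_top g⟩
      exact ⟨k, by simpa [Subtype.ext_iff] using hk⟩
    exact p3_comm_of_three_group hG3 hdvd x y
  · -- seven Sylow 3-subgroups
    right
    have h7p : 7 ∣ p ^ b := hn7 ▸ hn3pb
    have hp7 : p = 7 := by
      have := (Nat.Prime.dvd_of_dvd_pow (by norm_num : Nat.Prime 7) h7p)
      exact ((Nat.prime_dvd_prime_iff_eq (by norm_num) hp).mp this).symm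
    refine ⟨hp7, ?_⟩
    subst hp7
    have h7G : 7 ∣ Nat.card G := hn7 ▸ hn3dvdG
    have h49 : ¬ (49 : ℕ) ∣ Nat.card G := by
      intro h
      have := h.trans hdvd
      norm_num at this
    -- unique Sylow 7-subgroup
    let P : Sylow 7 G := default
    have hn7dvdG : Nat.card (Sylow 7 G) ∣ Nat.card G :=
      (Sylow.card_dvd_index P).trans (Subgroup.index_dvd_card _)
    have hn7mod : Nat.card (Sylow 7 G) ≡ 1 [MOD 7] := card_sylow_modEq_one 7 G
    have hn7cop : Nat.Coprime (Nat.card (Sylow 7 G)) (7 ^ b) := by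
      apply Nat.Coprime.pow_right
      rw [Nat.coprime_comm, Nat.Prime.coprime_iff_not_dvd (by norm_num : Nat.Prime 7)]
      intro hdv
      have := (Nat.modEq_zero_iff_dvd.mpr hdv).symm.trans hn7mod
      exact absurd this (by decide)
    have hn7_3a : Nat.card (Sylow 7 G) ∣ 3 ^ a := by
      rw [hG] at hn7dvdG
      exact hn7cop.dvd_of_dvd_mul_right hn7dvdG
    have hn7one : Nat.card (Sylow 7 G) = 1 := by
      obtain ⟨j, -, hj⟩ := (Nat.dvd_prime_pow Nat.prime_three).mp hn7_3a
      have hj2 : j ≤ 2 := by
        by_contra hcon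
        push Not at hcon
        have h27 : (27 : ℕ) ∣ 20160 := by
          have : (3 : ℕ) ^ 3 ∣ 3 ^ j := pow_dvd_pow 3 hcon
          exact (by norm_num : (27 : ℕ) = 3 ^ 3) ▸ (this.trans (hj ▸ (hn7dvdG.trans hdvd)))
        norm_num at h27
      have hmod : Nat.card (Sylow 7 G) % 7 = 1 := hn7mod
      rw [hj] at hmod ⊢
      interval_cases j <;> simp_all
    haveI : Subsingleton (Sylow 7 G) := (Nat.card_eq_one_iff_unique.mp hn7one).1
    haveI hPn : (P : Subgroup G).Normal := Sylow.normal_of_subsingleton P
    -- an element of order 7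
    obtain ⟨z, hz⟩ := exists_prime_orderOf_dvd_card' (G := G) 7 h7G
    have hz7 : z ^ 7 = 1 := hz ▸ pow_orderOf_eq_one z
    have hz1 : z ≠ 1 := by
      intro h
      rw [h, orderOf_one] at hz
      norm_num at hz
    have hPz : IsPGroup 7 (Subgroup.zpowers z) := by
      rw [IsPGroup.iff_card]
      exact ⟨1, by rw [Nat.card_zpowers, hz, pow_one]⟩
    have hzP : Subgroup.zpowers z ≤ (P : Subgroup G) := by
      obtain ⟨Q, hQ⟩ := hPz.exists_le_sylow
      have : Q = P := Subsingleton.elim _ _
      exact this ▸ hQ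
    have hPcard : Nat.card (P : Subgroup G) = 7 := by
      obtain ⟨k, hk⟩ := (IsPGroup.iff_card).mp P.isPGroup'
      have hk1 : k ≤ 1 := by
        by_contra hcon
        push Not at hcon
        apply h49
        have : (7 : ℕ) ^ 2 ∣ 7 ^ k := pow_dvd_pow 7 hcon
        exact (by norm_num : (49 : ℕ) = 7 ^ 2) ▸ (this.trans (hk ▸ Subgroup.card_subgroup_dvd_card _))
      have hk0 : k ≠ 0 := by
        intro h0
        rw [h0, pow_zero] at hk
        have h7le := Subgroup.card_le_of_le hzP
        rw [Nat.card_zpowers, hz, hk] at h7le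
        omega
      have : k = 1 := by omega
      rw [hk, this, pow_one]
    have hPeq : Subgroup.zpowers z = (P : Subgroup G) := by
      apply Subgroup.eq_of_le_of_card_ge hzP
      rw [hPcard, Nat.card_zpowers, hz]
    refine ⟨z, hz7, hz1, ?_, ?_⟩
    · intro g
      rw [hPeq]
      exact hPn.conj_mem z (hPeq ▸ Subgroup.mem_zpowers z) g
    · by_contra hcon
      push Not at hcon
      obtain ⟨hxz, hyz⟩ := hcon
      -- z is central
      have hcent : ∀ g : G, g * z = z * g := by
        have hle : Subgroup.closure {x, y} ≤ Subgroup.centralizer {z} := by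
          rw [Subgroup.closure_le]
          intro g hg
          rw [SetLike.mem_coe, Subgroup.mem_centralizer_singleton_iff]
          rcases hg with rfl | rfl
          · have := hxz
            rw [mul_inv_eq_iff_eq_mul] at this
            exact this
          · have := hyz
            rw [mul_inv_eq_iff_eq_mul] at this
            exact this
        intro g
        have hg : g ∈ Subgroup.centralizer {z} := hle (hgen ▸ Subgroup.mem_top g)
        rw [Subgroup.mem_centralizer_singleton_iff] at hg
        exact hg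
      -- z normalizes T, so 7 divides the order of the normalizer
      have hzN : z ∈ Subgroup.normalizer ((T : Subgroup G) : Set G) := by
        rw [Subgroup.mem_normalizer_iff]
        intro h
        have : z * h * z⁻¹ = h := by
          rw [← hcent h, mul_inv_cancel_right]
        rw [this]
      have h7N : 7 ∣ Nat.card (Subgroup.normalizer ((T : Subgroup G) : Set G)) := by
        have := Subgroup.orderOf_dvd_natCard (Subgroup.normalizer ((T : Subgroup G) : Set G)) hzN
        rwa [hz] at this
      have hidx : Nat.card (Sylow 3 G) = (Subgroup.normalizer ((T : Subgroup G) : Set G)).index :=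
        Sylow.card_eq_index_normalizer T
      apply h49
      have hmul := Subgroup.card_mul_index (Subgroup.normalizer ((T : Subgroup G) : Set G))
      rw [← hmul, ← hidx, hn7]
      exact (by norm_num : (49 : ℕ) = 7 * 7) ▸ Nat.mul_dvd_mul_right h7N 7

end Cfsg.Agent.Lib.H4.FG19
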