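import Cfsg.Agent.Lib.H1.FG19.Defs

/-!
# S4404 piece A1 (helper4 twin; architect helper1): `comm_of_cube`

Elementwise version of the argument of `tools/blueprints/S4404.md` §A1: with `G0 = Γ`, `G1 = X Γ X⁻¹`,
`G2 = X² Γ X⁻²` (commuting, cubes trivial, product trivial) the subgroup `W0 = C_A(G0) ∩ [A,G1]` embeds twice
into `[A,X]`, so `|W0| ≤ 2`, and `G1` has no fixed point on it, so `W0 = 1`; hence `C_A(G0) = C_A(G1) = C_A(G2)`,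
and on `[A,G0]` the relations `t² = t + 1` for `G0`, `G1`, `G0 G1` force `G0 = G1`.
-/

set_option autoImplicit false

namespace Cfsg.Agent.Lib.H4.FG19

open Cfsg.Agent.Lib.H1.FG19

variable {A : Type*} [CommGroup A]

/-- the norm `a ↦ a * Z a * Z (Z a)` -/
def a1nm (Z : MulAut A) (a : A) : A := a * Z a * Z (Z a)

theorem a1_inv_self (h2 : ∀ a : A, a * a = 1) (a : A) : a⁻¹ = a := by
  rw [inv_eq_iff_mul_eq_one]; exact h2 a

theorem a1_eq_of_mul_eq_one (h2 : ∀ a : A, a * a = 1) {a b : A} (h : a * b = 1) : a = b := by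
  have := eq_inv_of_mul_eq_one_left h
  rw [this, a1_inv_self h2]

theorem a1_cube_apply {Z : MulAut A} (hZ : Z ^ 3 = 1) (a : A) : Z (Z (Z a)) = a := by
  have := congrArg (fun f : MulAut A => f a) hZ
  simpa [pow_succ, MulAut.mul_apply] using this

theorem a1_comm_apply {Y Z : MulAut A} (h : Commute Y Z) (a : A) : Y (Z a) = Z (Y a) := by
  have := congrArg (fun f : MulAut A => f a) h.eq
  simpa [MulAut.mul_apply] using this

theorem a1nm_mul (Z : MulAut A) (a b : A) : a1nm Z (a * b) = a1nm Z a * a1nm Z b := by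
  simp only [a1nm, map_mul]
  ac_rfl

theorem a1nm_fixed {Z : MulAut A} (hZ : Z ^ 3 = 1) (a : A) : Z (a1nm Z a) = a1nm Z a := by
  simp only [a1nm, map_mul, a1_cube_apply hZ]
  ac_rfl

theorem a1nm_mem_fx {Z : MulAut A} (hZ : Z ^ 3 = 1) (a : A) : a1nm Z a ∈ fx Z :=
  mem_fx.mpr (a1nm_fixed hZ a)

theorem a1nm_of_fx (h2 : ∀ a : A, a * a = 1) {Z : MulAut A} {a : A} (ha : a ∈ fx Z) :
    a1nm Z a = a := by
  have h := mem_fx.mp ha
  simp only [a1nm, h, h2, one_mul]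

theorem a1nm_of_cm (h2 : ∀ a : A, a * a = 1) {Z : MulAut A} (hZ : Z ^ 3 = 1) {a : A}
    (ha : a ∈ cm Z) : a1nm Z a = 1 := by
  obtain ⟨m, rfl⟩ := mem_cm.mp ha
  simp only [a1nm, map_mul, a1_cube_apply hZ, a1_inv_self h2]
  have : Z m * m * (Z (Z m) * Z m) * (m * Z (Z m)) = (m * m) * ((Z m * Z m) * (Z (Z m) * Z (Z m))) := by
    ac_rfl
  rw [this, h2, h2, h2]; simp

/-- `C_A(Z) ∩ [A,Z] = 1` -/
theorem a1_fx_cm (h2 : ∀ a : A, a * a = 1) {Z : MulAut A} (hZ : Z ^ 3 = 1) {a : A}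
    (h1 : a ∈ fx Z) (h2' : a ∈ cm Z) : a = 1 := by
  rw [← a1nm_of_fx h2 h1, a1nm_of_cm h2 hZ h2']

/-- `a * N(a) ∈ [A,Z]` -/
theorem a1_mul_nm_mem_cm (h2 : ∀ a : A, a * a = 1) (Z : MulAut A) (a : A) :
    a * a1nm Z a ∈ cm Z := by
  rw [mem_cm]
  refine ⟨Z a, ?_⟩
  rw [a1_inv_self h2, a1nm, ← mul_assoc, ← mul_assoc, h2, one_mul, mul_comm]

/-- a commuting automorphism preserves `C_A(Z)` -/
theorem a1_apply_mem_fx {Y Z : MulAut A} (h : Commute Y Z) {a : A} (ha : a ∈ fx Z) : Y a ∈ fx Z := by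
  rw [mem_fx] at ha ⊢
  rw [← a1_comm_apply h, ha]

/-- a commuting automorphism preserves `[A,Z]` -/
theorem a1_apply_mem_cm {Y Z : MulAut A} (h : Commute Y Z) {a : A} (ha : a ∈ cm Z) : Y a ∈ cm Z := by
  rw [mem_cm] at ha ⊢
  obtain ⟨m, rfl⟩ := ha
  refine ⟨Y m, ?_⟩
  rw [map_mul, map_inv, a1_comm_apply h]

theorem a1nm_mem_fx_of_comm {Y Z : MulAut A} (h : Commute Y Z) {a : A} (ha : a ∈ fx Z) :
    a1nm Y a ∈ fx Z := by
  unfold a1nm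
  exact mul_mem (mul_mem ha (a1_apply_mem_fx h ha)) (a1_apply_mem_fx h (a1_apply_mem_fx h ha))

theorem a1nm_mem_cm_of_comm {Y Z : MulAut A} (h : Commute Y Z) {a : A} (ha : a ∈ cm Z) :
    a1nm Y a ∈ cm Z := by
  unfold a1nm
  exact mul_mem (mul_mem ha (a1_apply_mem_cm h ha)) (a1_apply_mem_cm h (a1_apply_mem_cm h ha))

/-- image of `C_A(Z)` under `Y` -/
theorem a1_map_mem_fx (Y Z : MulAut A) {a : A} (ha : a ∈ fx Z) : Y a ∈ fx (Y * Z * Y⁻¹) := by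
  rw [mem_fx] at ha ⊢
  simp only [MulAut.mul_apply, MulAut.inv_apply_self, ha]

theorem a1_map_mem_cm (Y Z : MulAut A) {a : A} (ha : a ∈ cm Z) : Y a ∈ cm (Y * Z * Y⁻¹) := by
  rw [mem_cm] at ha ⊢
  obtain ⟨m, rfl⟩ := ha
  refine ⟨Y m, ?_⟩
  simp only [MulAut.mul_apply, MulAut.inv_apply_self, map_mul, map_inv]

theorem a1_inv_mem_fx (Y Z : MulAut A) {a : A} (ha : a ∈ fx (Y * Z * Y⁻¹)) : Y⁻¹ a ∈ fx Z := by
  have := a1_map_mem_fx Y⁻¹ (Y * Z * Y⁻¹) ha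
  have e : Y⁻¹ * (Y * Z * Y⁻¹) * Y⁻¹⁻¹ = Z := by group
  rwa [e] at this

theorem a1_inv_mem_cm (Y Z : MulAut A) {a : A} (ha : a ∈ cm (Y * Z * Y⁻¹)) : Y⁻¹ a ∈ cm Z := by
  have := a1_map_mem_cm Y⁻¹ (Y * Z * Y⁻¹) ha
  have e : Y⁻¹ * (Y * Z * Y⁻¹) * Y⁻¹⁻¹ = Z := by group
  rwa [e] at this

/-- if `C_A(Z0) ∩ [A,Z1] = 1` for commuting `Z0`, `Z1` then `C_A(Z0) ≤ C_A(Z1)` -/
theorem a1_fx_le_fx (h2 : ∀ a : A, a * a = 1) {Z0 Z1 : MulAut A} (hc : Commute Z0 Z1)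
    (h1 : Z1 ^ 3 = 1) (hW : ∀ a : A, a ∈ fx Z0 → a ∈ cm Z1 → a = 1) {a : A} (ha : a ∈ fx Z0) :
    a ∈ fx Z1 := by
  have hd : a * a1nm Z1 a = 1 :=
    hW _ (mul_mem ha (a1nm_mem_fx_of_comm hc.symm ha)) (a1_mul_nm_mem_cm h2 Z1 a)
  have : a = a1nm Z1 a := a1_eq_of_mul_eq_one h2 hd
  rw [this]
  exact a1nm_mem_fx h1 a

/-- independence of the three pieces -/
theorem a1_indep (h2 : ∀ a : A, a * a = 1) {G0 G1 G2 : MulAut A} (h0 : G0 ^ 3 = 1) (h1 : G1 ^ 3 = 1)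
    (hg2 : G2 ^ 3 = 1) (c01 : Commute G0 G1) {w0 w1 w2 : A}
    (a0 : w0 ∈ fx G0) (b0 : w0 ∈ cm G1) (a1 : w1 ∈ fx G1) (b1 : w1 ∈ cm G2) (a2 : w2 ∈ fx G2)
    (b2 : w2 ∈ cm G0) (h : w0 * w1 * w2 = 1) : w1 = 1 ∧ w2 = 1 := by
  have hn := congrArg (a1nm G0) h
  rw [a1nm_mul, a1nm_mul, a1nm_of_fx h2 a0, a1nm_of_cm h2 h0 b2, mul_one] at hn
  have hn1 : a1nm G0 1 = (1 : A) := by simp [a1nm]
  rw [hn1] at hn
  have hw0 : w0 = a1nm G0 w1 := a1_eq_of_mul_eq_one h2 hn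
  have hw0fx : w0 ∈ fx G1 := hw0 ▸ a1nm_mem_fx_of_comm c01 a1
  have hw0one : w0 = 1 := a1_fx_cm h2 h1 hw0fx b0
  rw [hw0one, one_mul] at h
  have hw12 : w1 = w2 := a1_eq_of_mul_eq_one h2 h
  have hw1one : w1 = 1 := a1_fx_cm h2 hg2 (hw12 ▸ a2) b1
  exact ⟨hw1one, by rw [← hw12, hw1one]⟩

/-- the key counting step: `C_A(G0) ∩ [A,G1] = 1` -/
theorem a1_W0_trivial [Finite A] (h2 : ∀ a : A, a * a = 1) {X G0 G1 G2 : MulAut A}
    (h0 : G0 ^ 3 = 1) (h1 : G1 ^ 3 = 1) (hg2 : G2 ^ 3 = 1) (c01 : Commute G0 G1)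
    (e1 : X * G0 * X⁻¹ = G1) (e2 : X * G1 * X⁻¹ = G2) (e0 : X * G2 * X⁻¹ = G0)
    (hV : Nat.card (cm X) ≤ 4) : ∀ a : A, a ∈ fx G0 → a ∈ cm G1 → a = 1 := by
  classical
  let W0 : Subgroup A := fx G0 ⊓ cm G1
  -- the homomorphism `(m, m') ↦ [m, X] [m', X²]`
  let φ : ↥W0 × ↥W0 →* A :=
    ((cmHom X).comp (W0.subtype.comp (MonoidHom.fst ↥W0 ↥W0))) *
      ((cmHom (X * X)).comp (W0.subtype.comp (MonoidHom.snd ↥W0 ↥W0)))
  have hφ : ∀ k k' : ↥W0, φ (k, k') = (X k * (k : A)⁻¹) * (X (X k') * (k' : A)⁻¹) := by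
    intro k k'
    rfl
  have hinj : Function.Injective φ := by
    rw [injective_iff_map_eq_one]
    rintro ⟨k, k'⟩ hk
    rw [hφ, a1_inv_self h2, a1_inv_self h2] at hk
    have hk0 := k.2
    have hk0' := k'.2
    have hw0 : (k : A) * k' ∈ W0 := mul_mem hk0 hk0'
    have hw1a : X k ∈ fx G1 := e1 ▸ a1_map_mem_fx X G0 hk0.1
    have hw1b : X k ∈ cm G2 := e2 ▸ a1_map_mem_cm X G1 hk0.2
    have hw2a : X (X k') ∈ fx G2 :=
      e2 ▸ a1_map_mem_fx X G1 (e1 ▸ a1_map_mem_fx X G0 hk0'.1)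
    have hw2b : X (X k') ∈ cm G0 :=
      e0 ▸ a1_map_mem_cm X G2 (e2 ▸ a1_map_mem_cm X G1 hk0'.2)
    have hprod : ((k : A) * k') * X k * X (X k') = 1 := by
      rw [← hk]; ac_rfl
    obtain ⟨hx1, hx2⟩ := a1_indep h2 h0 h1 hg2 c01 hw0.1 hw0.2 hw1a hw1b hw2a hw2b hprod
    have hk1 : (k : A) = 1 := by
      have := congrArg (fun a => X⁻¹ a) hx1
      simpa using this
    have hk1' : (k' : A) = 1 := by
      have := congrArg (fun a => X⁻¹ (X⁻¹ a)) hx2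
      simpa using this
    exact Prod.ext (Subtype.ext hk1) (Subtype.ext hk1')
  have hrange : φ.range ≤ cm X := by
    rintro _ ⟨⟨k, k'⟩, rfl⟩
    rw [hφ]
    refine mul_mem (mem_cm.mpr ⟨k, rfl⟩) ?_
    have : X (X (k' : A)) * (k' : A)⁻¹ = (X (X k') * (X (k' : A))⁻¹) * (X k' * (k' : A)⁻¹) := by
      rw [mul_assoc, inv_mul_cancel_left]
    rw [this]
    exact mul_mem (mem_cm.mpr ⟨X k', rfl⟩) (mem_cm.mpr ⟨k', rfl⟩)
  have hcard : Nat.card ↥W0 * Nat.card ↥W0 ≤ 4 := by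
    calc Nat.card ↥W0 * Nat.card ↥W0 = Nat.card (↥W0 × ↥W0) := (Nat.card_prod _ _).symm
      _ = Nat.card φ.range := Nat.card_congr (MonoidHom.ofInjective hinj).toEquiv
      _ ≤ Nat.card (cm X) := Subgroup.card_le_of_le hrange
      _ ≤ 4 := hV
  have hW2 : Nat.card ↥W0 ≤ 2 := by nlinarith
  intro a ha hb
  by_contra hne
  have haW : a ∈ W0 := ⟨ha, hb⟩
  have hGa : G1 a ∈ W0 := ⟨a1_apply_mem_fx c01.symm ha, a1_apply_mem_cm (Commute.refl G1) hb⟩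
  have hGa1 : G1 a ≠ 1 := by
    intro h
    apply hne
    have := congrArg (fun b => G1⁻¹ b) h
    simpa using this
  have hGa2 : G1 a ≠ a := fun h => hne (a1_fx_cm h2 h1 (mem_fx.mpr h) hb)
  have hne' : (1 : A) ≠ a := fun h => hne h.symm
  have hGa1' : (1 : A) ≠ G1 a := fun h => hGa1 h.symm
  have hGa2' : a ≠ G1 a := fun h => hGa2 h.symm
  let f : Fin 3 → ↥W0 := ![1, ⟨a, haW⟩, ⟨G1 a, hGa⟩]
  have hf : Function.Injective f := by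
    intro i j hij
    fin_cases i <;> fin_cases j <;>
      first
        | rfl
        | (exfalso; simp [f, Subtype.ext_iff] at hij; first | exact hne hij | exact hne' hij | exact hGa1 hij | exact hGa1' hij | exact hGa2 hij | exact hGa2' hij)
  have h3 := Nat.card_le_card_of_injective f hf
  rw [Nat.card_fin] at h3
  omega

theorem comm_of_cube [Finite A] (h2 : ∀ a : A, a * a = 1) (X Γ : MulAut A) (hX : X ^ 3 = 1)
    (hΓ : Γ ^ 3 = 1) (hc1 : Commute Γ (X * Γ * X⁻¹)) (hc2 : Commute Γ (X ^ 2 * Γ * (X ^ 2)⁻¹))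
    (hXΓ : (X * Γ) ^ 3 = 1) (hV : Nat.card (cm X) ≤ 4) : X * Γ = Γ * X := by
  -- the three conjugates
  obtain ⟨G1, hG1⟩ : ∃ G1 : MulAut A, G1 = X * Γ * X⁻¹ := ⟨_, rfl⟩
  obtain ⟨G2, hG2⟩ : ∃ G2 : MulAut A, G2 = X ^ 2 * Γ * (X ^ 2)⁻¹ := ⟨_, rfl⟩
  have e1 : X * Γ * X⁻¹ = G1 := hG1.symm
  have e2 : X * G1 * X⁻¹ = G2 := by
    rw [hG1, hG2, pow_two, mul_inv_rev]
    simp only [mul_assoc]
  have e0 : X * G2 * X⁻¹ = Γ := by
    rw [hG2]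
    have : X * (X ^ 2 * Γ * (X ^ 2)⁻¹) * X⁻¹ = X ^ 3 * Γ * (X ^ 3)⁻¹ := by group
    rw [this, hX]; simp
  have c01 : Commute Γ G1 := hG1 ▸ hc1
  have c02 : Commute Γ G2 := hG2 ▸ hc2
  have c12 : Commute G1 G2 := by
    have : Commute (X * Γ * X⁻¹) (X * G1 * X⁻¹) := by
      have h := c01.eq
      show X * Γ * X⁻¹ * (X * G1 * X⁻¹) = X * G1 * X⁻¹ * (X * Γ * X⁻¹)
      calc X * Γ * X⁻¹ * (X * G1 * X⁻¹) = X * (Γ * G1) * X⁻¹ := by group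
        _ = X * (G1 * Γ) * X⁻¹ := by rw [h]
        _ = X * G1 * X⁻¹ * (X * Γ * X⁻¹) := by group
    rwa [e1, e2] at this
  have h1 : G1 ^ 3 = 1 := by
    rw [hG1, conj_pow, hΓ]; simp
  have hg2 : G2 ^ 3 = 1 := by
    rw [hG2, conj_pow, hΓ]; simp
  -- product relation
  have hprod : G1 * G2 * Γ = 1 := by
    have : (X * Γ) ^ 3 = (X * Γ * X⁻¹) * (X ^ 2 * Γ * (X ^ 2)⁻¹) * (X ^ 3 * Γ * (X ^ 3)⁻¹) * X ^ 3 := by
      simp only [pow_succ, pow_zero, one_mul]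
      group
    rw [hXΓ, hX, ← hG1, ← hG2] at this
    simpa using this.symm
  -- the three trivial intersections
  have W0 : ∀ a : A, a ∈ fx Γ → a ∈ cm G1 → a = 1 :=
    a1_W0_trivial h2 hΓ h1 hg2 c01 e1 e2 e0 hV
  have W1 : ∀ a : A, a ∈ fx G1 → a ∈ cm G2 → a = 1 := by
    intro a ha hb
    have h := W0 (X⁻¹ a) (a1_inv_mem_fx X Γ (e1 ▸ ha)) (a1_inv_mem_cm X G1 (e2 ▸ hb))
    have := congrArg (fun b => X b) h
    simpa using this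
  have W2 : ∀ a : A, a ∈ fx G2 → a ∈ cm Γ → a = 1 := by
    intro a ha hb
    have h := W1 (X⁻¹ a) (a1_inv_mem_fx X G1 (e2 ▸ ha)) (a1_inv_mem_cm X G2 (e0 ▸ hb))
    have := congrArg (fun b => X b) h
    simpa using this
  have f01 : ∀ {a : A}, a ∈ fx Γ → a ∈ fx G1 := fun ha => a1_fx_le_fx h2 c01 h1 W0 ha
  have f12 : ∀ {a : A}, a ∈ fx G1 → a ∈ fx G2 := fun ha => a1_fx_le_fx h2 c12 hg2 W1 ha
  have f20 : ∀ {a : A}, a ∈ fx G2 → a ∈ fx Γ := fun ha => a1_fx_le_fx h2 c02.symm hΓ W2 ha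
  -- norms vanish on `[A, Γ]`
  have nmZ : ∀ (Z : MulAut A), Z ^ 3 = 1 → Commute Z Γ → (∀ {a : A}, a ∈ fx Z → a ∈ fx Γ) →
      ∀ {d : A}, d ∈ cm Γ → a1nm Z d = 1 := by
    intro Z hZ hc hle d hd
    exact a1_fx_cm h2 hΓ (hle (a1nm_mem_fx hZ d)) (a1nm_mem_cm_of_comm hc hd)
  -- `Γ G1`
  have hP3 : (Γ * G1) ^ 3 = 1 := by
    rw [c01.mul_pow, hΓ, h1, one_mul]
  have hPc : Commute (Γ * G1) Γ := (Commute.refl Γ).mul_left c01.symm
  have hPle : ∀ {a : A}, a ∈ fx (Γ * G1) → a ∈ fx Γ := by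
    intro a ha
    apply f20
    rw [mem_fx] at ha ⊢
    have hinv : G2 * (Γ * G1) = 1 := by
      have h' : Γ * G1 * G2 = 1 := by
        calc Γ * G1 * G2 = Γ * (G1 * G2) := mul_assoc _ _ _
          _ = G1 * G2 * Γ := (c01.mul_right c02).eq
          _ = 1 := hprod
      exact mul_eq_one_comm.mp h'
    have := congrArg (fun f : MulAut A => f a) hinv
    simp only [MulAut.mul_apply, MulAut.one_apply] at this
    rw [MulAut.mul_apply] at ha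
    rw [ha] at this
    exact this
  -- pointwise equality on `[A, Γ]`
  have key : ∀ {d : A}, d ∈ cm Γ → Γ d = G1 d := by
    intro d hd
    have hd1 : G1 d ∈ cm Γ := a1_apply_mem_cm c01.symm hd
    have n0 := nmZ Γ hΓ (Commute.refl Γ) (fun h => h) hd
    have n1 := nmZ G1 h1 c01.symm (fun h => f20 (f12 h)) hd
    have n0' := nmZ Γ hΓ (Commute.refl Γ) (fun h => h) hd1
    have nP := nmZ (Γ * G1) hP3 hPc hPle hd
    simp only [a1nm, MulAut.mul_apply] at n0 n1 n0' nP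
    -- rewrite the squares
    have s0 : Γ (Γ d) = d * Γ d := by
      have : (d * Γ d) * Γ (Γ d) = 1 := n0
      exact (a1_eq_of_mul_eq_one h2 this).symm
    have s1 : G1 (G1 d) = d * G1 d := by
      have : (d * G1 d) * G1 (G1 d) = 1 := n1
      exact (a1_eq_of_mul_eq_one h2 this).symm
    have s0' : Γ (Γ (G1 d)) = G1 d * Γ (G1 d) := by
      have : (G1 d * Γ (G1 d)) * Γ (Γ (G1 d)) = 1 := n0'
      exact (a1_eq_of_mul_eq_one h2 this).symm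
    rw [a1_comm_apply c01.symm (G1 d)] at nP
    rw [s1, map_mul, map_mul, s0, s0'] at nP
    have : d * Γ (G1 d) * (d * Γ d * (G1 d * Γ (G1 d))) = (d * d) * (Γ (G1 d) * Γ (G1 d)) * (Γ d * G1 d) := by
      ac_rfl
    rw [this, h2, h2, one_mul, one_mul] at nP
    exact a1_eq_of_mul_eq_one h2 nP
  -- equality everywhere
  have hall : Γ = G1 := by
    ext a
    obtain ⟨c, hcdef⟩ : ∃ c : A, c = a1nm Γ a := ⟨_, rfl⟩
    obtain ⟨d, hddef⟩ : ∃ d : A, d = a * a1nm Γ a := ⟨_, rfl⟩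
    have hc : c ∈ fx Γ := hcdef ▸ a1nm_mem_fx hΓ a
    have hd : d ∈ cm Γ := hddef ▸ a1_mul_nm_mem_cm h2 Γ a
    have ha : a = c * d := by rw [hcdef, hddef, mul_comm a, ← mul_assoc, h2, one_mul]
    rw [ha, map_mul, map_mul, key hd, mem_fx.mp hc, mem_fx.mp (f01 hc)]
  rw [hG1] at hall
  calc X * Γ = X * Γ * X⁻¹ * X := by group
    _ = Γ * X := by rw [← hall]

end Cfsg.Agent.Lib.H4.FG19
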