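import Cfsg.Prelude.Def_ClassicalGeometry

set_option autoImplicit false

namespace Cfsg.Agent.Lib.H4

open Matrix

section
variable {F : Type*} [Field F] {ι : Type} [Fintype ι] [DecidableEq ι]

theorem polarVec_dotProduct (Q : QuadraticForm F (ι → F)) (v x : ι → F) :
    Cfsg.polarVec (⇑Q) v ⬝ᵥ x = QuadraticMap.polar (⇑Q) v x := by
  have h := LinearMap.pi_apply_eq_sum_univ (QuadraticMap.polarBilin Q v) x
  simp only [QuadraticMap.polarBilin_apply_apply, smul_eq_mul] at h
  rw [h, dotProduct]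
  refine Finset.sum_congr rfl fun i _ => ?_
  rw [mul_comm]
  unfold Cfsg.polarVec
  congr 2
  ext j
  simp [Pi.single_apply, eq_comm]

theorem polar_self (Q : QuadraticForm F (ι → F)) (v : ι → F) :
    QuadraticMap.polar (⇑Q) v v = 2 * Q v := by
  simp only [QuadraticMap.polar, QuadraticMap.map_add_self]
  simp
  ring

theorem reflectionMatrix_mulVec (Q : QuadraticForm F (ι → F)) (v x : ι → F) :
    Cfsg.reflectionMatrix (⇑Q) v *ᵥ x = x - ((Q v)⁻¹ * QuadraticMap.polar (⇑Q) v x) • v := by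
  rw [Cfsg.reflectionMatrix, Matrix.sub_mulVec, Matrix.one_mulVec, Matrix.smul_mulVec,
    Matrix.vecMulVec_mulVec, polarVec_dotProduct, mul_smul]
  congr 2
  ext i
  simp [mul_comm]

theorem siegelMatrix_mulVec (Q : QuadraticForm F (ι → F)) (u v : ι → F) (c : F) (x : ι → F) :
    Cfsg.siegelMatrix (⇑Q) u v c *ᵥ x =
      x + (c * QuadraticMap.polar (⇑Q) u x) • v - (c * QuadraticMap.polar (⇑Q) v x) • u := by
  rw [Cfsg.siegelMatrix, Matrix.add_mulVec, Matrix.one_mulVec, Matrix.smul_mulVec,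
    Matrix.sub_mulVec, Matrix.vecMulVec_mulVec, Matrix.vecMulVec_mulVec, polarVec_dotProduct,
    polarVec_dotProduct, smul_sub, add_sub_assoc, mul_smul, mul_smul]
  congr 3
  · ext i; simp [mul_comm]
  · ext i; simp [mul_comm]

theorem Q_add_smul (Q : QuadraticForm F (ι → F)) (x v : ι → F) (t : F) :
    Q (x + t • v) = Q x + t * t * Q v + t * QuadraticMap.polar (⇑Q) x v := by
  rw [QuadraticMap.map_add (⇑Q), QuadraticMap.map_smul, QuadraticMap.polar_smul_right]
  simp

end

end Cfsg.Agent.Lib.H4
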