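import Mathlib

/-!
S4429 piece (F11a) `count_dvd` in the exact signature of `tools/blueprints/S4429_sigs.lean` (helper27 architect).
PURE group theory: the number of pairs `(s, t)` with `z^s z^t = x` is a multiple of `|C_G(z)|^2`.
-/
set_option autoImplicit false
namespace Cfsg.Agent.Lib.H4.M7920
open scoped BigOperators
universe u

section
variable {G : Type u} [Group G] [Fintype G] [DecidableEq G]

/-- The fibres of `s ↦ s z s⁻¹` have `|C_G(z)|` elements. -/
theorem card_fiber_conj (z s₀ : G) :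
    (Finset.univ.filter (fun s : G => s * z * s⁻¹ = s₀ * z * s₀⁻¹)).card =
      Nat.card (Subgroup.centralizer ({z} : Set G)) := by
  classical
  rw [Nat.card_eq_fintype_card, ← Finset.card_univ]
  symm
  refine Finset.card_bij (fun c _ => s₀ * (c : G)) ?_ ?_ ?_
  · intro c _
    rw [Finset.mem_filter]
    refine ⟨Finset.mem_univ _, ?_⟩
    have hc := Subgroup.mem_centralizer_singleton_iff.1 c.2
    -- hc : c * z = z * c
    have : (c : G) * z * (c : G)⁻¹ = z := by
      rw [hc, mul_assoc, mul_inv_cancel, mul_one]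
    calc s₀ * (c : G) * z * (s₀ * (c : G))⁻¹ = s₀ * ((c : G) * z * (c : G)⁻¹) * s₀⁻¹ := by group
      _ = s₀ * z * s₀⁻¹ := by rw [this]
  · intro c₁ _ c₂ _ h
    exact Subtype.ext (mul_left_cancel h)
  · intro s hs
    rw [Finset.mem_filter] at hs
    have h := hs.2
    refine ⟨⟨s₀⁻¹ * s, ?_⟩, Finset.mem_univ _, ?_⟩
    · rw [Subgroup.mem_centralizer_singleton_iff]
      -- (s₀⁻¹ s) z = z (s₀⁻¹ s)
      have h1 : s₀⁻¹ * (s * z * s⁻¹) * s₀ = z := by rw [h]; group
      calc s₀⁻¹ * s * z = s₀⁻¹ * (s * z * s⁻¹) * s₀ * (s₀⁻¹ * s) := by group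
        _ = z * (s₀⁻¹ * s) := by rw [h1]
    · show s₀ * (s₀⁻¹ * s) = s
      group

/-- Summing a function of the conjugate `s z s⁻¹` over `s : G`. -/
theorem sum_conj_eq (z : G) (g : G → ℂ) :
    ∑ s : G, g (s * z * s⁻¹) =
      (Nat.card (Subgroup.centralizer ({z} : Set G)) : ℂ) *
        ∑ a ∈ Finset.univ.image (fun s : G => s * z * s⁻¹), g a := by
  classical
  rw [Finset.sum_comp g (fun s : G => s * z * s⁻¹), Finset.mul_sum]
  refine Finset.sum_congr rfl fun b hb => ?_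
  obtain ⟨s₀, _, rfl⟩ := Finset.mem_image.1 hb
  rw [card_fiber_conj z s₀, nsmul_eq_mul]

/-- (F11a) -/
theorem count_dvd (z x : G) :
    ∃ n : ℕ, (∑ s : G, ∑ t : G, if (s * z * s⁻¹) * (t * z * t⁻¹) = x then (1 : ℂ) else 0) =
      (n : ℂ) * (Nat.card (Subgroup.centralizer ({z} : Set G)) : ℂ) ^ 2 := by
  classical
  set I : Finset G := Finset.univ.image (fun s : G => s * z * s⁻¹) with hI
  refine ⟨∑ a ∈ I, ∑ b ∈ I, if a * b = x then 1 else 0, ?_⟩
  have h1 : ∀ s : G, (∑ t : G, if (s * z * s⁻¹) * (t * z * t⁻¹) = x then (1 : ℂ) else 0) =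
      (Nat.card (Subgroup.centralizer ({z} : Set G)) : ℂ) *
        ∑ b ∈ I, if (s * z * s⁻¹) * b = x then (1 : ℂ) else 0 := by
    intro s
    exact sum_conj_eq z (fun b => if (s * z * s⁻¹) * b = x then (1 : ℂ) else 0)
  simp only [h1]
  rw [← Finset.mul_sum]
  have h2 := sum_conj_eq z (fun a => ∑ b ∈ I, if a * b = x then (1 : ℂ) else 0)
  rw [h2]
  push_cast
  ring

end

end Cfsg.Agent.Lib.H4.M7920
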