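import Mathlib
import Cfsg.Prelude.Def_Characters
import Cfsg.Agent.Lib.H4.M7920F11a
import Cfsg.Agent.Lib.H24.CharBasic
import Cfsg.Agent.Lib.H23.ClassProduct
import Cfsg.Agent.Lib.L0.CharOps

/-!
S4429 piece (F11) `cent5_caseA` in the exact signature of `tools/blueprints/S4429_sigs.lean` (helper27 architect):
class multiplication `(y, y → x)` in pattern (A): the pair count is `7425 = 15^2 * 33`, so `|C_G(y)|` divides 15.
-/
set_option autoImplicit false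
namespace Cfsg.Agent.Lib.H4.M7920
open Cfsg
open scoped BigOperators ComplexConjugate
universe u

theorem dvd_fifteen_of_sq_dvd (c : ℕ) (h : c ^ 2 ∣ 7425) : c ∣ 15 := by
  have hle : c ≤ 86 := by
    have h1 : c ^ 2 ≤ 7425 := Nat.le_of_dvd (by norm_num) h
    nlinarith
  interval_cases c <;> first | decide | (exfalso; revert h; decide)

theorem cent5_caseA {G : Type u} [Group G] [Fintype G] [DecidableEq G] (hG : Nat.card G = 7920)
    {x y : G} (η : ℂ) (χ₁ χ₂ : IrrCharacter G) (hne : χ₁ ≠ χ₂)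
    (h1 : (χ₁ : G → ℂ) ≠ 1) (h2 : (χ₂ : G → ℂ) ≠ 1)
    (hx1 : (χ₁ : G → ℂ) x = -(1 + η)) (hx2 : (χ₂ : G → ℂ) x = η)
    (hd1 : (χ₁ : G → ℂ) 1 = 16) (hd2 : (χ₂ : G → ℂ) 1 = 16)
    (hy1 : (χ₁ : G → ℂ) y = 1) (hy2 : (χ₂ : G → ℂ) y = 1)
    (hvan : ∀ ψ : IrrCharacter G, (ψ : G → ℂ) ≠ 1 → ψ ≠ χ₁ → ψ ≠ χ₂ → (ψ : G → ℂ) y = 0 ∨ (ψ : G → ℂ) x = 0) :
    Nat.card (Subgroup.centralizer ({y} : Set G)) ∣ 15 := by
  classical
  have : Fintype (IrrCharacter G) := Fintype.ofFinite _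
  obtain ⟨n, hn⟩ := count_dvd y x
  rw [Cfsg.Agent.Lib.H23.sum_sum_ite_conj_mul_eq y y x, hG] at hn
  set triv : IrrCharacter G := ⟨(1 : G → ℂ), Cfsg.Agent.Lib.L0.isIrrCharacter_one⟩ with htriv
  have ht1 : ∀ g, (triv : G → ℂ) g = 1 := fun g => rfl
  have ht₁ : triv ≠ χ₁ := fun h => h1 (by rw [← h])
  have ht₂ : triv ≠ χ₂ := fun h => h2 (by rw [← h])
  set f : IrrCharacter G → ℂ := fun ψ =>
    (ψ : G → ℂ) y * (ψ : G → ℂ) y * (ψ : G → ℂ) x⁻¹ / (ψ : G → ℂ) 1 with hf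
  have hS : ∑ ψ ∈ ({triv, χ₁, χ₂} : Finset (IrrCharacter G)), f ψ = f triv + f χ₁ + f χ₂ := by
    rw [Finset.sum_insert, Finset.sum_insert, Finset.sum_singleton]
    · ring
    · simpa using hne
    · simp only [Finset.mem_insert, Finset.mem_singleton, not_or]
      exact ⟨ht₁, ht₂⟩
  have hsum : ∑ ψ : IrrCharacter G, f ψ = f triv + f χ₁ + f χ₂ := by
    rw [← hS]
    symm
    apply Finset.sum_subset (Finset.subset_univ _)
    intro ψ _ hψ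
    simp only [Finset.mem_insert, Finset.mem_singleton, not_or] at hψ
    show (ψ : G → ℂ) y * (ψ : G → ℂ) y * (ψ : G → ℂ) x⁻¹ / (ψ : G → ℂ) 1 = 0
    rcases hvan ψ (fun h => hψ.1 (Subtype.ext h)) hψ.2.1 hψ.2.2 with h0 | h0
    · rw [h0, zero_mul, zero_mul, zero_div]
    · rw [Cfsg.Agent.Lib.H24.irr_inv, h0, map_zero, mul_zero, zero_div]
  have hsum' : ∑ ψ : IrrCharacter G,
      (ψ : G → ℂ) y * (ψ : G → ℂ) y * (ψ : G → ℂ) x⁻¹ / (ψ : G → ℂ) 1 =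
      f triv + f χ₁ + f χ₂ := hsum
  rw [hsum'] at hn
  have e1 : f triv = 1 := by
    show (triv : G → ℂ) y * (triv : G → ℂ) y * (triv : G → ℂ) x⁻¹ / (triv : G → ℂ) 1 = 1
    simp only [ht1]
    norm_num
  have e2 : f χ₁ = -(1 + conj η) / 16 := by
    show (χ₁ : G → ℂ) y * (χ₁ : G → ℂ) y * (χ₁ : G → ℂ) x⁻¹ / (χ₁ : G → ℂ) 1 = _
    rw [Cfsg.Agent.Lib.H24.irr_inv, hx1, hy1, hd1]
    simp
  have e3 : f χ₂ = conj η / 16 := by
    show (χ₂ : G → ℂ) y * (χ₂ : G → ℂ) y * (χ₂ : G → ℂ) x⁻¹ / (χ₂ : G → ℂ) 1 = _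
    rw [Cfsg.Agent.Lib.H24.irr_inv, hx2, hy2, hd2]
    simp
  rw [e1, e2, e3] at hn
  have hval : ((7920 : ℕ) : ℂ) * (1 + -(1 + conj η) / 16 + conj η / 16) = ((7425 : ℕ) : ℂ) := by
    push_cast
    ring
  rw [hval] at hn
  have hnat : 7425 = n * Nat.card (Subgroup.centralizer ({y} : Set G)) ^ 2 := by
    exact_mod_cast hn
  apply dvd_fifteen_of_sq_dvd
  exact ⟨n, by rw [hnat]; ring⟩

end Cfsg.Agent.Lib.H4.M7920
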