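import Mathlib

/-!
# S3626: the group `Y = M₂(K) ⋊ (2 × L₂(q))` (definitions)

`K` a field of characteristic `3`.  `W K` is the additive group of `2 × 2` matrices over `K`
(written multiplicatively), `rho K : ℤˣ × SL(2,K) →* MulAut (W K)` is the action
`X ↦ ε • (A * X * (A^(3))ᵀ)` where `A^(3)` is the entrywise cube (Frobenius) of `A`,
`Mq K` its range and `Y K = W K ⋊ Mq K`.
-/

set_option autoImplicit false

namespace Cfsg.Agent.Lib.H4.ReeSpec

open Matrix

variable (K : Type*) [Field K] [CharP K 3]

/-- `2 × 2` matrices. -/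
abbrev M2 := Matrix (Fin 2) (Fin 2) K

/-- The acting group before passing to its image. -/
abbrev G0 := ℤˣ × Matrix.SpecialLinearGroup (Fin 2) K

/-- The module, written multiplicatively. -/
abbrev W := Multiplicative (M2 K)

variable {K}

/-- Entrywise cube (Frobenius) of a matrix. -/
def cube (A : M2 K) : M2 K := A.map (frobenius K 3)

theorem cube_apply (A : M2 K) (i j : Fin 2) : cube A i j = A i j ^ 3 := rfl

theorem cube_mul (A B : M2 K) : cube (A * B) = cube A * cube B := by
  unfold cube
  exact Matrix.map_mul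

theorem cube_one : cube (1 : M2 K) = 1 := by
  unfold cube
  simp

/-- The additive action of `(ε, A)`: `X ↦ ε • (A * X * (A^(3))ᵀ)`. -/
def act (g : G0 K) (X : M2 K) : M2 K :=
  (((g.1 : ℤˣ) : ℤ) : K) • ((g.2 : M2 K) * X * (cube (g.2 : M2 K))ᵀ)

theorem act_add (g : G0 K) (X Y : M2 K) : act g (X + Y) = act g X + act g Y := by
  unfold act
  rw [mul_add, add_mul, smul_add]

theorem act_one (X : M2 K) : act (1 : G0 K) X = X := by
  unfold act
  simp [cube_one]

theorem act_mul (g h : G0 K) (X : M2 K) : act (g * h) X = act g (act h X) := by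
  unfold act
  simp only [Prod.fst_mul, Prod.snd_mul, Units.val_mul, Int.cast_mul,
    Matrix.SpecialLinearGroup.coe_mul, cube_mul, Matrix.transpose_mul, Matrix.mul_smul,
    Matrix.smul_mul, smul_smul]
  simp only [Matrix.mul_assoc]

/-- `act g` as an additive equivalence. -/
def actEquiv (g : G0 K) : M2 K ≃+ M2 K where
  toFun := act g
  invFun := act g⁻¹
  left_inv X := by rw [← act_mul, inv_mul_cancel, act_one]
  right_inv X := by rw [← act_mul, mul_inv_cancel, act_one]
  map_add' := act_add g

variable (K)

/-- The action `ρ : ℤˣ × SL(2,K) →* Aut(W)`. -/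
def rho : G0 K →* MulAut (W K) where
  toFun g := AddEquiv.toMultiplicative (actEquiv g)
  map_one' := by
    apply MulEquiv.ext
    intro X
    exact congrArg Multiplicative.ofAdd (act_one (Multiplicative.toAdd X))
  map_mul' g h := by
    apply MulEquiv.ext
    intro X
    exact congrArg Multiplicative.ofAdd (act_mul g h (Multiplicative.toAdd X))

variable {K}

theorem rho_apply (g : G0 K) (X : M2 K) :
    rho K g (Multiplicative.ofAdd X) = Multiplicative.ofAdd (act g X) := rfl

variable (K)

/-- The image of `ρ`, isomorphic to `2 × L₂(q)` when `K` is finite. -/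
abbrev Mq : Subgroup (MulAut (W K)) := (rho K).range

/-- The group `Y = W ⋊ M`. -/
abbrev Y := W K ⋊[(Mq K).subtype] (Mq K)

/-- The element `ρ(g)` of `Mq K`. -/
abbrev rhoM : G0 K →* Mq K := (rho K).rangeRestrict

end Cfsg.Agent.Lib.H4.ReeSpec
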