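import Mathlib

/-!
# S3571, block NT (Sylvester-Schur), pieces SS2 and SS3 (helper4)

* `pow_le_pow_mul_choose` : `n ^ k ≤ k ^ k * n.choose k` for `k ≤ n`.
* `pow_mul_centralBinom_le` : `n ^ k * (2 * k).choose k ≤ (2 * k) ^ k * n.choose k` for `2 * k ≤ n`.
* `two_mul_pow_le` : `(2 * n) ^ k ≤ 2 * k * k ^ k * n.choose k` for `1 ≤ k`, `2 * k ≤ n`.
-/

set_option autoImplicit false

namespace Cfsg.Agent.Lib.H4.S3571SS

open Finset

/-- termwise comparison of two descending factorials -/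
theorem pow_mul_descFactorial_le (a c k : ℕ) (hac : a ≤ c) :
    c ^ k * a.descFactorial k ≤ a ^ k * c.descFactorial k := by
  rw [Nat.descFactorial_eq_prod_range, Nat.descFactorial_eq_prod_range]
  have h1 : c ^ k * ∏ i ∈ range k, (a - i) = ∏ i ∈ range k, (c * (a - i)) := by
    rw [Finset.prod_mul_distrib, Finset.prod_const, Finset.card_range]
  have h2 : a ^ k * ∏ i ∈ range k, (c - i) = ∏ i ∈ range k, (a * (c - i)) := by
    rw [Finset.prod_mul_distrib, Finset.prod_const, Finset.card_range]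
  rw [h1, h2]
  apply Finset.prod_le_prod'
  intro i _
  -- c * (a - i) ≤ a * (c - i)
  rcases le_or_gt i a with hia | hia
  · have hic : i ≤ c := hia.trans hac
    zify [hia, hic]
    have h3 : (a : ℤ) ≤ c := by exact_mod_cast hac
    have h4 : (0 : ℤ) ≤ i := by positivity
    nlinarith
  · have : a - i = 0 := Nat.sub_eq_zero_of_le hia.le
    rw [this, mul_zero]
    exact Nat.zero_le _

/-- **SS2**: `n ^ k ≤ k ^ k * C(n, k)` for `k ≤ n`. -/
theorem pow_le_pow_mul_choose (n k : ℕ) (hk : k ≤ n) : n ^ k ≤ k ^ k * n.choose k := by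
  have h := pow_mul_descFactorial_le k n k hk
  rw [Nat.descFactorial_self, Nat.descFactorial_eq_factorial_mul_choose] at h
  -- h : n ^ k * k ! ≤ k ^ k * (k ! * n.choose k)
  have hpos : 0 < k.factorial := Nat.factorial_pos k
  have h' : n ^ k * k.factorial ≤ (k ^ k * n.choose k) * k.factorial := by
    calc n ^ k * k.factorial ≤ k ^ k * (k.factorial * n.choose k) := h
      _ = (k ^ k * n.choose k) * k.factorial := by ring
  exact Nat.le_of_mul_le_mul_right h' hpos

/-- `n ^ k * C(2k, k) ≤ (2k) ^ k * C(n, k)` for `2 * k ≤ n`. -/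
theorem pow_mul_centralBinom_le (n k : ℕ) (hn : 2 * k ≤ n) :
    n ^ k * (2 * k).choose k ≤ (2 * k) ^ k * n.choose k := by
  have h := pow_mul_descFactorial_le (2 * k) n k hn
  rw [Nat.descFactorial_eq_factorial_mul_choose, Nat.descFactorial_eq_factorial_mul_choose] at h
  have hpos : 0 < k.factorial := Nat.factorial_pos k
  have h' : (n ^ k * (2 * k).choose k) * k.factorial ≤ ((2 * k) ^ k * n.choose k) * k.factorial := by
    calc (n ^ k * (2 * k).choose k) * k.factorial
        = n ^ k * (k.factorial * (2 * k).choose k) := by ring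
      _ ≤ (2 * k) ^ k * (k.factorial * n.choose k) := h
      _ = ((2 * k) ^ k * n.choose k) * k.factorial := by ring
  exact Nat.le_of_mul_le_mul_right h' hpos

/-- **SS3**: `(2n) ^ k ≤ 2k * k ^ k * C(n, k)` for `1 ≤ k`, `2 * k ≤ n`. -/
theorem two_mul_pow_le (n k : ℕ) (hk : 1 ≤ k) (hn : 2 * k ≤ n) :
    (2 * n) ^ k ≤ 2 * k * k ^ k * n.choose k := by
  have h1 := pow_mul_centralBinom_le n k hn
  have h2 : 4 ^ k ≤ 2 * k * (2 * k).choose k := by
    have := Nat.four_pow_le_two_mul_self_mul_centralBinom k hk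
    simpa [Nat.centralBinom] using this
  -- multiply: 4^k * n^k ≤ 2k * C(2k,k) * n^k ≤ 2k * (2k)^k * C(n,k)
  have h3 : 4 ^ k * n ^ k ≤ 2 * k * ((2 * k) ^ k * n.choose k) := by
    calc 4 ^ k * n ^ k ≤ (2 * k * (2 * k).choose k) * n ^ k := Nat.mul_le_mul_right _ h2
      _ = 2 * k * (n ^ k * (2 * k).choose k) := by ring
      _ ≤ 2 * k * ((2 * k) ^ k * n.choose k) := Nat.mul_le_mul_left _ h1
  -- cancel 2^k
  have h4 : 2 ^ k * (2 * n) ^ k ≤ 2 ^ k * (2 * k * k ^ k * n.choose k) := by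
    calc 2 ^ k * (2 * n) ^ k = 4 ^ k * n ^ k := by
          rw [mul_pow, ← mul_assoc, ← mul_pow]; norm_num
      _ ≤ 2 * k * ((2 * k) ^ k * n.choose k) := h3
      _ = 2 ^ k * (2 * k * k ^ k * n.choose k) := by rw [mul_pow]; ring
  exact Nat.le_of_mul_le_mul_left h4 (by positivity)

end Cfsg.Agent.Lib.H4.S3571SS
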