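import Mathlib
import Cfsg.Agent.Lib.H8.S3571SSDefs
import Cfsg.Agent.Lib.H4.S3571SS23

/-!
# S3571, block NT: SS2 and SS3 in the exact shapes of helper8's cut (helper4)
-/

set_option autoImplicit false

namespace Cfsg.Agent.Lib.H4.S3571SS

open Cfsg.Agent.Lib.H8.S3571SS

theorem ss2 : SS2Stmt := fun n k hk => pow_le_pow_mul_choose n k hk

theorem ss3 : SS3Stmt := fun n k hk hn => two_mul_pow_le n k hk hn

end Cfsg.Agent.Lib.H4.S3571SS
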