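import Mathlib

/-!
helper4: S4130-B3 (Burnside transfer).  `P` an abelian Sylow `p`-subgroup, `u ∈ P` central in `N_G(P)`:
the transfer `G → P` maps `u` to `u ^ |G:P|`, so `u ∈ G'` forces `u = 1`.
-/

set_option autoImplicit false

namespace Cfsg.Agent.Lib.H4.SF

open scoped IsMulCommutative in
/-- **S4130-B3** (Burnside transfer). -/
theorem eq_one_of_mem_commutator_of_central_normalizer {G : Type*} [Group G] [Finite G] {p : ℕ}
    [Fact p.Prime] (P : Sylow p G) (hab : ∀ a ∈ P, ∀ b ∈ P, a * b = b * a) (u : G) (hu : u ∈ P)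
    (hc : ∀ n ∈ Subgroup.normalizer ((P : Subgroup G) : Set G), n * u = u * n) (hcomm : u ∈ commutator G) : u = 1 := by
  have hp : p.Prime := Fact.out
  haveI : IsMulCommutative (P : Subgroup G) :=
    ⟨⟨fun a b => Subtype.ext (hab a a.2 b b.2)⟩⟩
  have key : ∀ (k : ℕ) (g₀ : G), g₀⁻¹ * u ^ k * g₀ ∈ (P : Subgroup G) →
      g₀⁻¹ * u ^ k * g₀ = u ^ k := by
    intro k g₀ h
    obtain ⟨n, hn, hn'⟩ := P.conj_eq_normalizer_conj_of_mem (u ^ k) g₀ (pow_mem hu k) h
    rw [hn']
    have h1 : Commute n u := hc n hn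
    have h2 : n * u ^ k = u ^ k * n := (h1.pow_right k).eq
    rw [mul_assoc, ← h2, inv_mul_cancel_left]
  have ht := MonoidHom.transfer_eq_pow (H := (P : Subgroup G)) (MonoidHom.id (P : Subgroup G)) u key
  have hker : u ∈ (MonoidHom.transfer (MonoidHom.id (P : Subgroup G))).ker :=
    Abelianization.commutator_subset_ker _ hcomm
  rw [MonoidHom.mem_ker, ht] at hker
  have hpow : u ^ (P : Subgroup G).index = 1 := by
    have := congrArg Subtype.val hker
    simpa using this
  obtain ⟨k, hk⟩ := P.2 ⟨u, hu⟩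
  have hk' : u ^ (p ^ k) = 1 := by
    have := congrArg Subtype.val hk
    simpa using this
  have hcop : Nat.Coprime (p ^ k) (P : Subgroup G).index :=
    ((Nat.Prime.coprime_iff_not_dvd hp).2 P.not_dvd_index).pow_left k
  have h1 : orderOf u ∣ p ^ k := orderOf_dvd_of_pow_eq_one hk'
  have h2 : orderOf u ∣ (P : Subgroup G).index := orderOf_dvd_of_pow_eq_one hpow
  have h3 : orderOf u ∣ 1 := by
    have := Nat.dvd_gcd h1 h2
    rwa [hcop.gcd_eq_one] at this
  exact orderOf_eq_one_iff.mp (Nat.dvd_one.mp h3)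

end Cfsg.Agent.Lib.H4.SF
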