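import Mathlib
import Cfsg.Prelude.Def_Blocks
import Cfsg.Agent.Lib.H21.AD.Defs

/-!
# S4937, piece (COSET) `coset_count` (helper4)

Partition the `p`-regular elements of `J` into left cosets of `N`: a coset containing a `p`-regular
element `y` of `J` contributes `cSum p N f y = sSum p N f`, the others contribute `0`.
-/

set_option autoImplicit false
open Cfsg.Agent.Lib.H21.AD

namespace Cfsg.Agent.Lib.H4.AD

variable {G : Type*} [Group G] [Finite G]

/-- (COSET) partition of the `p`-regular elements of `J` into cosets of `N`. PURE. -/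
theorem coset_count (p : ℕ) (N J : Subgroup G) (hNJ : N ≤ J) (f : G → ℂ)
    (h : ∀ y ∈ J, ¬ p ∣ orderOf y → cSum p N f y = sSum p N f) :
    ∃ k : ℕ, 0 < k ∧ sSum p J f = (k : ℂ) * sSum p N f := by
  classical
  haveI := Fintype.ofFinite G
  haveI : Fintype (G ⧸ N) := Fintype.ofFinite _
  set S : ℂ := sSum p N f with hS
  set F : G → ℂ := fun g => if g ∈ J ∧ ¬ p ∣ orderOf g then f g else 0 with hF
  have hsJ : sSum p J f = ∑ g : G, F g := by
    rw [sSum, finsum_eq_sum_of_fintype]
  -- the good cosets
  set P : G ⧸ N → Prop := fun c => ∃ y : G, (QuotientGroup.mk y : G ⧸ N) = c ∧ y ∈ J ∧ ¬ p ∣ orderOf y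
    with hP
  have hfib : ∀ c : G ⧸ N,
      (∑ g ∈ Finset.univ.filter (fun g : G => (QuotientGroup.mk g : G ⧸ N) = c), F g) =
        if P c then S else 0 := by
    intro c
    by_cases hc : P c
    · rw [if_pos hc]
      obtain ⟨y, rfl, hyJ, hyp⟩ := hc
      rw [← h y hyJ hyp, cSum, finsum_eq_sum_of_fintype, Finset.sum_filter]
      -- reindex the coset sum by `n ↦ y * n`
      rw [← Equiv.sum_comp (Equiv.mulLeft y)
        (fun g => if (QuotientGroup.mk g : G ⧸ N) = QuotientGroup.mk y then F g else 0)]
      refine Finset.sum_congr rfl (fun n _ => ?_)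
      simp only [Equiv.coe_mulLeft]
      have hiff : ((QuotientGroup.mk (y * n) : G ⧸ N) = QuotientGroup.mk y) ↔ n ∈ N := by
        rw [eq_comm, QuotientGroup.eq]
        simp
      by_cases hn : n ∈ N
      · have hynJ : y * n ∈ J := J.mul_mem hyJ (hNJ hn)
        simp only [hiff, hF, hn, hynJ, true_and, if_true]
      · simp only [hiff, hn, false_and, if_false]
    · rw [if_neg hc]
      refine Finset.sum_eq_zero (fun g hg => ?_)
      have hgc : (QuotientGroup.mk g : G ⧸ N) = c := (Finset.mem_filter.1 hg).2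
      simp only [hF]
      rw [if_neg]
      intro hgJ
      exact hc ⟨g, hgc, hgJ.1, hgJ.2⟩
  have htot : sSum p J f = ∑ c : G ⧸ N, if P c then S else 0 := by
    rw [hsJ, ← Finset.sum_fiberwise (Finset.univ : Finset G)
      (fun g : G => (QuotientGroup.mk g : G ⧸ N)) F]
    exact Finset.sum_congr rfl (fun c _ => hfib c)
  have htot2 : sSum p J f = ((Finset.univ.filter P).card : ℂ) * S := by
    rw [htot, ← Finset.sum_filter, Finset.sum_const, nsmul_eq_mul]
  by_cases hk : (Finset.univ.filter P).card = 0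
  · -- no good coset: both sums vanish
    refine ⟨1, Nat.one_pos, ?_⟩
    rw [htot2, hk]
    have hS0 : S = 0 := by
      rw [hS, sSum, finsum_eq_sum_of_fintype]
      refine Finset.sum_eq_zero (fun n _ => ?_)
      rw [if_neg]
      intro hn
      have hPn : P (QuotientGroup.mk n) := ⟨n, rfl, hNJ hn.1, hn.2⟩
      have : (QuotientGroup.mk n : G ⧸ N) ∈ Finset.univ.filter P :=
        Finset.mem_filter.2 ⟨Finset.mem_univ _, hPn⟩
      rw [Finset.card_eq_zero] at hk
      rw [hk] at this
      exact absurd this (Finset.notMem_empty _)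
    rw [hS0]
    simp
  · exact ⟨(Finset.univ.filter P).card, Nat.pos_of_ne_zero hk, htot2⟩

end Cfsg.Agent.Lib.H4.AD
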