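import Mathlib
import Cfsg.Prelude.Def_Blocks
import Cfsg.Agent.Lib.H21.AD.Defs
import Cfsg.Agent.Lib.H8.ADFOUR
import Cfsg.Agent.Lib.H5.ADKEY

/-!
# S4937, piece (END1) `coset_const` (helper4)

All coset sums of `ψ * λ` over `p`-regular cosets of `N` are equal: `J := N ⊔ zpowers y` is abelian
over `N` with `p ∤ |J : N|`; `λ` is good on `J`; a nontrivial twist `μ` has vanishing sum (else `λ μ`
would be good and (KEY) forces `μ = 1`); Fourier inversion (FOUR).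
-/

set_option autoImplicit false
open Cfsg.Agent.Lib.H21.AD

namespace Cfsg.Agent.Lib.H4.AD

variable {G : Type*} [Group G] [Finite G] {p : ℕ} {M : Ideal Cfsg.AlgInt}

/-- commutators of `N ⊔ zpowers y` lie in the normal subgroup `N` -/
theorem comm_mem_of_sup_zpowers (N : Subgroup G) [N.Normal] (y : G) (a b : G)
    (ha : a ∈ N ⊔ Subgroup.zpowers y) (hb : b ∈ N ⊔ Subgroup.zpowers y) :
    a * b * a⁻¹ * b⁻¹ ∈ N := by
  have hmap : ∀ x ∈ N ⊔ Subgroup.zpowers y,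
      (QuotientGroup.mk' N x) ∈ Subgroup.zpowers (QuotientGroup.mk' N y) := by
    intro x hx
    have h1 : QuotientGroup.mk' N x ∈ (N ⊔ Subgroup.zpowers y).map (QuotientGroup.mk' N) :=
      Subgroup.mem_map_of_mem _ hx
    rw [Subgroup.map_sup, MonoidHom.map_zpowers, QuotientGroup.map_mk'_self, bot_sup_eq] at h1
    exact h1
  obtain ⟨i, hi⟩ := Subgroup.mem_zpowers_iff.1 (hmap a ha)
  obtain ⟨j, hj⟩ := Subgroup.mem_zpowers_iff.1 (hmap b hb)
  rw [← QuotientGroup.ker_mk' N, MonoidHom.mem_ker]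
  simp only [map_mul, map_inv]
  rw [← hi, ← hj]
  group

/-- `|N ⊔ ⟨y⟩ : N|` divides the order of `y` -/
theorem relIndex_sup_zpowers_dvd (N : Subgroup G) [N.Normal] (y : G) :
    N.relIndex (N ⊔ Subgroup.zpowers y) ∣ orderOf y := by
  rw [Subgroup.relIndex_sup_left, ← Nat.card_zpowers]
  exact Subgroup.relIndex_dvd_card _ _

/-- (END1) all coset sums of `ψ * λ` over `p`-regular cosets are equal -/
theorem coset_const (hM : Cfsg.IsPModular p M) (N : Subgroup G) [N.Normal] (Q : Subgroup G) (hQN : Q ≤ N)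
    (hQ : ¬ p ∣ Q.relIndex N)
    (hcov : ∀ g : G, ∃ n ∈ N, ∃ c ∈ Subgroup.centralizer (Q : Set G), g = n * c)
    (ψ : G → ℂ) (hψ : Cfsg.IsIrrCharacter G ψ) (hψN : Cfsg.IsIrrCharacter N (fun n : N => ψ n))
    (lam : G →* ℂˣ) (hlamN : ∀ n ∈ N, lam n = 1)
    (hlam : ∀ J : Subgroup G, N ≤ J → ¬ p ∣ N.relIndex J → (∀ a ∈ J, ∀ b ∈ J, a * b * a⁻¹ * b⁻¹ ∈ N) →
        sSum p J (fun g => ψ g * (lam g : ℂ)) ≠ 0)
    (y : G) (hy : ¬ p ∣ orderOf y) :
    cSum p N (fun g => ψ g * (lam g : ℂ)) y = sSum p N (fun g => ψ g * (lam g : ℂ)) := by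
  set J : Subgroup G := N ⊔ Subgroup.zpowers y with hJ
  have hNJ : N ≤ J := le_sup_left
  have hyJ : y ∈ J := (le_sup_right : Subgroup.zpowers y ≤ J) (Subgroup.mem_zpowers y)
  have hpJ : ¬ p ∣ N.relIndex J := fun h => hy (dvd_trans h (relIndex_sup_zpowers_dvd N y))
  have habJ : ∀ a ∈ J, ∀ b ∈ J, a * b * a⁻¹ * b⁻¹ ∈ N :=
    fun a ha b hb => comm_mem_of_sup_zpowers N y a b ha hb
  have hnormJ : ∀ a ∈ J, ∀ b ∈ N, a * b * a⁻¹ ∈ N :=
    fun a _ b hb => (inferInstance : N.Normal).conj_mem b hb a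
  -- `λ` is a good twist on `J`
  have htw : IsTwist N J (fun g => (lam g : ℂ)) := by
    refine ⟨fun a _ b _ => ?_, fun n hn => ?_⟩
    · simp only [map_mul, Units.val_mul]
    · simp only [hlamN n hn, Units.val_one]
  have hgood : Good p ψ N J (fun g => (lam g : ℂ)) := ⟨htw, hlam J hNJ hpJ habJ⟩
  refine Cfsg.Agent.Lib.H8.AD.four p N J hNJ hnormJ habJ (fun g => ψ g * (lam g : ℂ)) ?_ y hyJ
  intro μ hμ hne
  by_contra hsum
  -- then `λ μ` is good and (KEY) gives `μ = 1` on `J`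
  have htw2 : IsTwist N J (fun g => (lam g : ℂ) * μ g) := by
    refine ⟨fun a ha b hb => ?_, fun n hn => ?_⟩
    · simp only [map_mul, Units.val_mul, hμ.1 a ha b hb]
      ring
    · simp only [hlamN n hn, Units.val_one, hμ.2 n hn, mul_one]
  have hgood2 : Good p ψ N J (fun g => (lam g : ℂ) * μ g) := by
    refine ⟨htw2, ?_⟩
    have hfun : (fun g => ψ g * ((lam g : ℂ) * μ g)) = (fun g => ψ g * (lam g : ℂ) * μ g) := by
      funext g
      ring
    rw [hfun]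
    exact hsum
  have hk := Cfsg.Agent.Lib.H5.AD.key hM N Q hQN hQ hcov ψ hψ hψN J J hNJ le_rfl hpJ _ _ hgood2 hgood
  obtain ⟨g, hgJ, hg⟩ := hne
  apply hg
  have h1 := hk g hgJ
  have hl0 : (lam g : ℂ) ≠ 0 := Units.ne_zero _
  have h2 : (lam g : ℂ) * μ g = (lam g : ℂ) * 1 := by rw [mul_one]; exact h1
  exact mul_left_cancel₀ hl0 h2

end Cfsg.Agent.Lib.H4.AD
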