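import Mathlib
import Cfsg.Prelude.Def_PLocal
import Cfsg.Prelude.Def_Local
import Cfsg.Agent.Lib.H1.PCore
import Cfsg.Agent.Lib.H7.CoprimeQuot
import Cfsg.Agent.Lib.H9.PPrimeCore
import Cfsg.Agent.Lib.H20.PowDecomp
import Cfsg.Agent.Lib.H22.PPrimeCore

/-!
`p`-stability (`Cfsg.IsPStable`) versus `p`-stable action (`Cfsg.IsPStableOn`), and the passage
to the quotient by `O_{p'}` (helper4).
-/

set_option autoImplicit false

namespace Cfsg.Agent.Lib.H4.PStable

open scoped commutatorElement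

theorem pCore_map_le' {X Y : Type*} [Group X] [Group Y] {p : ℕ} [Fact p.Prime]
    (f : X →* Y) (hf : Function.Surjective f) :
    (Cfsg.pCore p X).map f ≤ Cfsg.pCore p Y :=
  Cfsg.Agent.Lib.H1.le_pCore ((Cfsg.Agent.Lib.H1.pCore_normal p X).map f hf)
    ((Cfsg.Agent.Lib.H1.pCore_isPGroup p X).map f)

theorem comap_pCore_le' {X Y : Type*} [Group X] [Group Y] {p : ℕ} [Fact p.Prime]
    (f : X →* Y) (hf : Function.Injective f) :
    (Cfsg.pCore p Y).comap f ≤ Cfsg.pCore p X :=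
  Cfsg.Agent.Lib.H1.le_pCore ((Cfsg.Agent.Lib.H1.pCore_normal p Y).comap f)
    ((Cfsg.Agent.Lib.H1.pCore_isPGroup p Y).comap_of_injective f hf)

theorem commutatorElement_pow_of_commute {X : Type*} [Group X] (v a : X)
    (h : Commute ⁅v, a⁆ a) (n : ℕ) : ⁅v, a ^ n⁆ = ⁅v, a⁆ ^ n := by
  have h1 : v * a * v⁻¹ = ⁅v, a⁆ * a := by simp [commutatorElement_def]
  have h2 : v * a ^ n * v⁻¹ = ⁅v, a⁆ ^ n * a ^ n := by
    rw [← conj_pow, h1, h.mul_pow]
  rw [commutatorElement_def, h2, mul_inv_cancel_right]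

/-- An element acting quadratically on the normal subgroup `V` has its `|V|`-th power
centralizing `V`. -/
theorem pow_card_mem_centralizer {X : Type*} [Group X] [Finite X] (V : Subgroup X) [hV : V.Normal]
    (a : X) (ha : ⁅⁅V, Subgroup.zpowers a⁆, Subgroup.zpowers a⁆ = ⊥) :
    a ^ Nat.card V ∈ Subgroup.centralizer (V : Set X) := by
  rw [Subgroup.mem_centralizer_iff]
  intro v hv
  have hc : ⁅v, a⁆ ∈ ⁅V, Subgroup.zpowers a⁆ :=
    Subgroup.commutator_mem_commutator hv (Subgroup.mem_zpowers a)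
  have hcc : ⁅⁅v, a⁆, a⁆ = 1 := by
    have : ⁅⁅v, a⁆, a⁆ ∈ ⁅⁅V, Subgroup.zpowers a⁆, Subgroup.zpowers a⁆ :=
      Subgroup.commutator_mem_commutator hc (Subgroup.mem_zpowers a)
    rwa [ha, Subgroup.mem_bot] at this
  have hcomm : Commute ⁅v, a⁆ a := commutatorElement_eq_one_iff_commute.mp hcc
  have hcV : ⁅v, a⁆ ∈ V := by
    rw [commutatorElement_def]
    have : v * a * v⁻¹ * a⁻¹ = v * (a * v⁻¹ * a⁻¹) := by group
    rw [this]
    exact V.mul_mem hv (hV.conj_mem _ (V.inv_mem hv) a)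
  have hpow : ⁅v, a⁆ ^ Nat.card V = 1 := by
    have := pow_card_eq_one' (G := V) (x := ⟨_, hcV⟩)
    exact congrArg Subtype.val this
  have h3 := commutatorElement_pow_of_commute v a hcomm (Nat.card V)
  rw [hpow] at h3
  exact commutatorElement_eq_one_iff_mul_comm.mp h3


theorem pCore_le_pPrimePCore {X : Type*} [Group X] (p : ℕ) [Fact p.Prime] :
    Cfsg.pCore p X ≤ Cfsg.pPrimePCore p X := by
  intro x hx
  unfold Cfsg.pPrimePCore
  rw [Subgroup.mem_comap]
  exact pCore_map_le' (QuotientGroup.mk' (Cfsg.pPrimeCore p X)) (QuotientGroup.mk'_surjective _)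
    ⟨x, hx, rfl⟩

/-- A `p`-stable group (in the sense of `Cfsg.IsPStable`) acts `p`-stably on each of its normal
`p`-subgroups. -/
theorem isPStableOn_of_isPStable {X : Type*} [Group X] [Finite X] {p : ℕ} [hp : Fact p.Prime]
    (hs : Cfsg.IsPStable p X) (V : Subgroup X) [hVn : V.Normal] (hV : IsPGroup p V) :
    Cfsg.IsPStableOn p V := by
  intro a ha
  obtain ⟨_, _, hcond⟩ := hs
  -- decompose `a`
  obtain ⟨k, l, hkl, ⟨e, he⟩, hl⟩ :=
    Cfsg.Agent.Lib.H20.exists_pPart_pPrimePart a (isOfFinOrder_of_finite a) p hp.out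
  -- the `p'`-part centralizes `V`
  have hcent := pow_card_mem_centralizer V a ha
  obtain ⟨j, hj⟩ := IsPGroup.iff_card.mp hV
  rw [hj] at hcent
  have hl1 : (QuotientGroup.mk (a ^ l) : X ⧸ Subgroup.centralizer (V : Set X)) = 1 := by
    have h1 : (QuotientGroup.mk (a ^ l) : X ⧸ Subgroup.centralizer (V : Set X)) ^ (p ^ j) = 1 := by
      rw [← QuotientGroup.mk_pow, ← pow_mul, mul_comm, pow_mul, QuotientGroup.mk_pow,
        (QuotientGroup.eq_one_iff _).mpr hcent, one_pow]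
    have h2 : (QuotientGroup.mk (a ^ l) : X ⧸ Subgroup.centralizer (V : Set X)) ^ orderOf (a ^ l)
        = 1 := by
      rw [← QuotientGroup.mk_pow, pow_orderOf_eq_one, QuotientGroup.mk_one]
    have h3 := orderOf_dvd_of_pow_eq_one h1
    have h4 := orderOf_dvd_of_pow_eq_one h2
    have h5 : orderOf (QuotientGroup.mk (a ^ l) : X ⧸ Subgroup.centralizer (V : Set X)) = 1 := by
      exact Nat.Coprime.eq_one_of_dvd (Nat.Coprime.coprime_dvd_left h4 (hl.pow_right j)) h3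
    exact orderOf_eq_one_iff.mp h5
  -- the `p`-part generates a `p`-group acting quadratically
  obtain ⟨A, hA⟩ : ∃ A, A = Subgroup.zpowers (a ^ k) := ⟨_, rfl⟩
  have hAle : A ≤ Subgroup.zpowers a := by
    rw [hA, Subgroup.zpowers_le]
    exact Subgroup.pow_mem _ (Subgroup.mem_zpowers a) k
  have hAp : IsPGroup p A := by
    intro g
    refine ⟨e, ?_⟩
    apply Subtype.ext
    obtain ⟨z, hz⟩ := Subgroup.mem_zpowers_iff.mp (hA ▸ g.2 : (g : X) ∈ Subgroup.zpowers (a ^ k))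
    have : ((g ^ (p ^ e) : A) : X) = (g : X) ^ (p ^ e) := rfl
    rw [this, ← hz, ← zpow_natCast, ← zpow_mul, mul_comm, zpow_mul, zpow_natCast, ← he,
      pow_orderOf_eq_one, one_zpow]
    rfl
  have hAV : ∀ x ∈ A, ∀ v ∈ V, x * v * x⁻¹ ∈ V := fun x _ v hv => hVn.conj_mem v hv x
  have hVle : V ≤ Cfsg.pPrimePCore p X :=
    (Cfsg.Agent.Lib.H1.le_pCore hVn hV).trans (pCore_le_pPrimePCore p)
  have hsupn : (Cfsg.pPrimeCore p X ⊔ V).Normal := inferInstance
  have hquad : ⁅⁅V, A⁆, A⁆ = ⊥ := by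
    rw [eq_bot_iff, ← ha]
    exact Subgroup.commutator_mono (Subgroup.commutator_mono le_rfl hAle) hAle
  have hmain := hcond A V hAp hV hAV hVle hsupn hquad
  -- transfer to `X ⧸ C_X(V)`
  have hNtop : Subgroup.normalizer (V : Set X) = ⊤ := Subgroup.normalizer_eq_top_iff.mpr hVn
  obtain ⟨φ, hφ⟩ : ∃ φ : (↥(Subgroup.normalizer (V : Set X)) ⧸
      (Subgroup.centralizer (V : Set X)).subgroupOf (Subgroup.normalizer (V : Set X))) →*
        X ⧸ Subgroup.centralizer (V : Set X),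
      ∀ x : ↥(Subgroup.normalizer (V : Set X)), φ (QuotientGroup.mk x) = QuotientGroup.mk (x : X) :=
    ⟨QuotientGroup.map _ _ (Subgroup.normalizer (V : Set X)).subtype (fun x hx => hx),
      fun x => rfl⟩
  have hφs : Function.Surjective φ := by
    intro y
    obtain ⟨x, rfl⟩ := QuotientGroup.mk_surjective y
    exact ⟨QuotientGroup.mk ⟨x, by rw [hNtop]; exact Subgroup.mem_top x⟩, hφ _⟩
  have hak : (QuotientGroup.mk (a ^ k) : X ⧸ Subgroup.centralizer (V : Set X)) ∈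
      Cfsg.pCore p (X ⧸ Subgroup.centralizer (V : Set X)) := by
    apply pCore_map_le' φ hφs
    have hakN : a ^ k ∈ Subgroup.normalizer (V : Set X) := by rw [hNtop]; exact Subgroup.mem_top _
    refine ⟨QuotientGroup.mk ⟨a ^ k, hakN⟩, ?_, hφ _⟩
    apply hmain
    refine ⟨⟨a ^ k, hakN⟩, ?_, rfl⟩
    rw [SetLike.mem_coe, Subgroup.mem_subgroupOf, hA]
    exact Subgroup.mem_zpowers _
  have : (QuotientGroup.mk a : X ⧸ Subgroup.centralizer (V : Set X)) =
      QuotientGroup.mk (a ^ k) := by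
    conv_lhs => rw [← hkl]
    rw [QuotientGroup.mk_mul, hl1, mul_one]
  rw [this]
  exact hak


/-! ### The section `N_G(Q) / C_G(Q)` modulo a normal `p'`-subgroup -/

section transfer

variable {G : Type*} [Group G] (N : Subgroup G) [N.Normal] (Q : Subgroup G)

/-- `N_G(Q) → N_{G/N}(QN/N)`. -/
def normMap : ↥(Subgroup.normalizer (Q : Set G)) →*
    ↥(Subgroup.normalizer ((Q.map (QuotientGroup.mk' N) : Subgroup (G ⧸ N)) : Set (G ⧸ N))) where
  toFun x := ⟨QuotientGroup.mk' N x, Subgroup.le_normalizer_map _ ⟨x, x.2, rfl⟩⟩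
  map_one' := by apply Subtype.ext; simp
  map_mul' x y := by
    apply Subtype.ext
    show QuotientGroup.mk' N ((x * y : ↥(Subgroup.normalizer (Q : Set G))) : G) =
      QuotientGroup.mk' N x * QuotientGroup.mk' N y
    rw [Subgroup.coe_mul, map_mul]

theorem normMap_coe (x : ↥(Subgroup.normalizer (Q : Set G))) :
    ((normMap N Q x : ↥(Subgroup.normalizer ((Q.map (QuotientGroup.mk' N) :
      Subgroup (G ⧸ N)) : Set (G ⧸ N)))) : G ⧸ N) = QuotientGroup.mk' N x := rfl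

theorem normMap_mem_centralizer {x : ↥(Subgroup.normalizer (Q : Set G))}
    (hx : x ∈ (Subgroup.centralizer (Q : Set G)).subgroupOf (Subgroup.normalizer (Q : Set G))) :
    normMap N Q x ∈ (Subgroup.centralizer ((Q.map (QuotientGroup.mk' N) :
      Subgroup (G ⧸ N)) : Set (G ⧸ N))).subgroupOf (Subgroup.normalizer ((Q.map (QuotientGroup.mk' N) :
      Subgroup (G ⧸ N)) : Set (G ⧸ N))) := by
  rw [Subgroup.mem_subgroupOf] at hx ⊢
  rw [normMap_coe, Subgroup.mem_centralizer_iff]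
  rintro _ ⟨q, hq, rfl⟩
  rw [← map_mul, ← map_mul, (Subgroup.mem_centralizer_iff.mp hx) q hq]

/-- `N_G(Q)/C_G(Q) → N_{G/N}(QN/N)/C_{G/N}(QN/N)`. -/
def secMap : (↥(Subgroup.normalizer (Q : Set G)) ⧸
      (Subgroup.centralizer (Q : Set G)).subgroupOf (Subgroup.normalizer (Q : Set G))) →*
    (↥(Subgroup.normalizer ((Q.map (QuotientGroup.mk' N) : Subgroup (G ⧸ N)) : Set (G ⧸ N))) ⧸
      (Subgroup.centralizer ((Q.map (QuotientGroup.mk' N) : Subgroup (G ⧸ N)) : Set (G ⧸ N))).subgroupOf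
        (Subgroup.normalizer ((Q.map (QuotientGroup.mk' N) : Subgroup (G ⧸ N)) : Set (G ⧸ N)))) :=
  QuotientGroup.map _ _ (normMap N Q) (fun _ hx => normMap_mem_centralizer N Q hx)

theorem secMap_mk (x : ↥(Subgroup.normalizer (Q : Set G))) :
    secMap N Q (QuotientGroup.mk x) = QuotientGroup.mk (normMap N Q x) := rfl

variable [Finite G] {p : ℕ} [Fact p.Prime]

theorem secMap_surjective (hN : (Nat.card N).Coprime p) (hQ : IsPGroup p Q) :
    Function.Surjective (secMap N Q) := by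
  intro y
  obtain ⟨⟨y, hy⟩, rfl⟩ := QuotientGroup.mk_surjective y
  rw [← Cfsg.Agent.Lib.H7.map_normalizer_of_coprime p hN hQ] at hy
  obtain ⟨x, hx, hxy⟩ := hy
  refine ⟨QuotientGroup.mk ⟨x, hx⟩, ?_⟩
  rw [secMap_mk]
  congr 1
  apply Subtype.ext
  exact hxy

theorem secMap_injective (hN : (Nat.card N).Coprime p) (hQ : IsPGroup p Q) :
    Function.Injective (secMap N Q) := by
  rw [injective_iff_map_eq_one]
  intro y hy
  obtain ⟨x, rfl⟩ := QuotientGroup.mk_surjective y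
  rw [secMap_mk, QuotientGroup.eq_one_iff, Subgroup.mem_subgroupOf, normMap_coe] at hy
  rw [QuotientGroup.eq_one_iff, Subgroup.mem_subgroupOf, Subgroup.mem_centralizer_iff]
  intro q hq
  have hdisj : Q ⊓ N = ⊥ := by
    apply disjoint_iff.mp
    apply Subgroup.disjoint_of_coprime_natCard
    obtain ⟨k, hk⟩ := IsPGroup.iff_card.1 hQ
    rw [hk]
    exact (Nat.Coprime.pow_right k hN).symm
  have h1 : (x : G) * q * (x : G)⁻¹ * q⁻¹ ∈ Q :=
    Q.mul_mem ((Subgroup.mem_normalizer_iff.1 x.2 q).1 hq) (Q.inv_mem hq)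
  have h2 : (x : G) * q * (x : G)⁻¹ * q⁻¹ ∈ N := by
    rw [← QuotientGroup.eq_one_iff, ← QuotientGroup.mk'_apply]
    simp only [map_mul, map_inv]
    have := Subgroup.mem_centralizer_iff.1 hy (QuotientGroup.mk' N q)
      (Subgroup.mem_map_of_mem _ hq)
    rw [← this]; group
  have h3 : (x : G) * q * (x : G)⁻¹ * q⁻¹ = 1 := by
    have : (x : G) * q * (x : G)⁻¹ * q⁻¹ ∈ Q ⊓ N := ⟨h1, h2⟩
    rwa [hdisj, Subgroup.mem_bot] at this
  have h4 : (x : G) * q * (x : G)⁻¹ = q := mul_inv_eq_one.1 h3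
  calc q * (x : G) = ((x : G) * q * (x : G)⁻¹) * x := by rw [h4]
    _ = x * q := by group

/-- The image of `A` in the section of `G` lies in `O_p` iff the image of `AN/N` does. -/
theorem image_le_pCore_iff (hN : (Nat.card N).Coprime p) (hQ : IsPGroup p Q) (A : Subgroup G)
    (hA : A ≤ Subgroup.normalizer (Q : Set G)) :
    (A.subgroupOf (Subgroup.normalizer (Q : Set G))).map
        (QuotientGroup.mk' ((Subgroup.centralizer (Q : Set G)).subgroupOf
          (Subgroup.normalizer (Q : Set G)))) ≤ Cfsg.pCore p _ ↔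
    ((A.map (QuotientGroup.mk' N)).subgroupOf (Subgroup.normalizer
        ((Q.map (QuotientGroup.mk' N) : Subgroup (G ⧸ N)) : Set (G ⧸ N)))).map
        (QuotientGroup.mk' ((Subgroup.centralizer ((Q.map (QuotientGroup.mk' N) :
          Subgroup (G ⧸ N)) : Set (G ⧸ N))).subgroupOf (Subgroup.normalizer
            ((Q.map (QuotientGroup.mk' N) : Subgroup (G ⧸ N)) : Set (G ⧸ N))))) ≤
      Cfsg.pCore p _ := by
  constructor
  · rintro h _ ⟨⟨y, hyN⟩, hy, rfl⟩
    rw [SetLike.mem_coe, Subgroup.mem_subgroupOf] at hy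
    obtain ⟨a, ha, hay⟩ := hy
    have : (QuotientGroup.mk' ((Subgroup.centralizer ((Q.map (QuotientGroup.mk' N) :
          Subgroup (G ⧸ N)) : Set (G ⧸ N))).subgroupOf (Subgroup.normalizer
            ((Q.map (QuotientGroup.mk' N) : Subgroup (G ⧸ N)) : Set (G ⧸ N))))) ⟨y, hyN⟩ =
        secMap N Q (QuotientGroup.mk ⟨a, hA ha⟩) := by
      rw [secMap_mk]
      show QuotientGroup.mk _ = QuotientGroup.mk _
      congr 1
      apply Subtype.ext
      exact hay.symm
    rw [this]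
    apply pCore_map_le' (secMap N Q) (secMap_surjective N Q hN hQ)
    refine ⟨_, h ?_, rfl⟩
    refine ⟨⟨a, hA ha⟩, ?_, rfl⟩
    rw [SetLike.mem_coe, Subgroup.mem_subgroupOf]
    exact ha
  · rintro h _ ⟨⟨a, haN⟩, ha, rfl⟩
    rw [SetLike.mem_coe, Subgroup.mem_subgroupOf] at ha
    apply comap_pCore_le' (secMap N Q) (secMap_injective N Q hN hQ)
    rw [Subgroup.mem_comap]
    apply h
    refine ⟨normMap N Q ⟨a, haN⟩, ?_, rfl⟩
    rw [SetLike.mem_coe, Subgroup.mem_subgroupOf, normMap_coe]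
    exact ⟨a, ha, rfl⟩

end transfer


/-! ### `p`-stability and the quotient by `O_{p'}` -/

section quotient

variable {G : Type*} [Group G]

theorem le_normalizer_of_conj_mem {A Q : Subgroup G}
    (h : ∀ a ∈ A, ∀ x ∈ Q, a * x * a⁻¹ ∈ Q) : A ≤ Subgroup.normalizer (Q : Set G) := by
  intro a ha
  rw [Subgroup.mem_normalizer_iff]
  intro x
  constructor
  · exact h a ha x
  · intro hx
    have := h a⁻¹ (A.inv_mem ha) _ hx
    have e : a⁻¹ * (a * x * a⁻¹) * a⁻¹⁻¹ = x := by group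
    rwa [e] at this

theorem map_inf_comap_of_le {H : Type*} [Group H] (f : G →* H) (R : Subgroup G) (Y : Subgroup H)
    (hY : Y ≤ R.map f) : (R ⊓ Y.comap f).map f = Y := by
  apply le_antisymm
  · rintro _ ⟨x, hx, rfl⟩
    exact hx.2
  · intro y hy
    obtain ⟨r, hr, rfl⟩ := hY hy
    exact ⟨r, ⟨hr, hy⟩, rfl⟩

theorem exists_pGroup_lift [Finite G] {p : ℕ} [Fact p.Prime] (N : Subgroup G) [N.Normal]
    (Rbar : Subgroup (G ⧸ N)) (hR : IsPGroup p Rbar) :
    ∃ R : Subgroup G, IsPGroup p R ∧ R.map (QuotientGroup.mk' N) = Rbar := by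
  obtain ⟨Sbar, hSbar⟩ := hR.exists_le_sylow
  obtain ⟨S, hS⟩ := Sylow.mapSurjective_surjective (QuotientGroup.mk'_surjective N) p Sbar
  refine ⟨(S : Subgroup G) ⊓ Rbar.comap (QuotientGroup.mk' N), S.isPGroup'.to_le inf_le_left, ?_⟩
  apply map_inf_comap_of_le
  rw [← Sylow.coe_mapSurjective (QuotientGroup.mk'_surjective N) S, hS]
  exact hSbar

theorem pPrimePCore_le_pCore_of_bot {X : Type*} [Group X] {p : ℕ} [Fact p.Prime]
    (h : Cfsg.pPrimeCore p X = ⊥) : Cfsg.pPrimePCore p X ≤ Cfsg.pCore p X := by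
  apply Cfsg.Agent.Lib.H1.le_pCore
  · unfold Cfsg.pPrimePCore
    infer_instance
  · unfold Cfsg.pPrimePCore
    apply (Cfsg.Agent.Lib.H1.pCore_isPGroup p _).comap_of_ker_isPGroup
    rw [QuotientGroup.ker_mk', h]
    exact IsPGroup.of_bot

theorem inf_eq_bot_of_isPGroup_of_coprime [Finite G] {p : ℕ} [Fact p.Prime] {R N : Subgroup G}
    (hR : IsPGroup p R) (hN : (Nat.card N).Coprime p) : R ⊓ N = ⊥ := by
  apply disjoint_iff.mp
  apply Subgroup.disjoint_of_coprime_natCard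
  obtain ⟨k, hk⟩ := IsPGroup.iff_card.1 hR
  rw [hk]
  exact (Nat.Coprime.pow_right k hN).symm

variable [Finite G] {p : ℕ} [Fact p.Prime]

/-- `p`-stability passes to the quotient by `O_{p'}`. -/
theorem isPStable_quotient (hs : Cfsg.IsPStable p G) :
    Cfsg.IsPStable p (G ⧸ Cfsg.pPrimeCore p G) := by
  obtain ⟨hodd, hO, hcond⟩ := hs
  have hN : (Nat.card (Cfsg.pPrimeCore p G)).Coprime p :=
    Cfsg.Agent.Lib.H22.card_pPrimeCore_coprime p
  have hbot : Cfsg.pPrimeCore p (G ⧸ Cfsg.pPrimeCore p G) = ⊥ :=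
    Cfsg.Agent.Lib.H9.pPrimeCore_quotient_eq_bot p
  refine ⟨hodd, ?_, ?_⟩
  · intro h
    apply hO
    have h1 : (Cfsg.pCore p G).map (QuotientGroup.mk' (Cfsg.pPrimeCore p G)) ≤
        Cfsg.pCore p (G ⧸ Cfsg.pPrimeCore p G) :=
      pCore_map_le' _ (QuotientGroup.mk'_surjective _)
    rw [h, le_bot_iff, Subgroup.map_eq_bot_iff, QuotientGroup.ker_mk'] at h1
    have h2 : Cfsg.pCore p G ≤ Cfsg.pCore p G ⊓ Cfsg.pPrimeCore p G := le_inf le_rfl h1
    rw [inf_eq_bot_of_isPGroup_of_coprime (Cfsg.Agent.Lib.H1.pCore_isPGroup p G) hN] at h2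
    exact le_bot_iff.mp h2
  · intro Abar Qbar hAbar hQbar hnorm hle hnormal hquad
    rw [hbot, bot_sup_eq] at hnormal
    haveI := hnormal
    have hRbar : IsPGroup p (Qbar ⊔ Abar : Subgroup (G ⧸ Cfsg.pPrimeCore p G)) :=
      IsPGroup.to_sup_of_normal_left hQbar hAbar
    obtain ⟨R, hRp, hRmap⟩ := exists_pGroup_lift (Cfsg.pPrimeCore p G) _ hRbar
    obtain ⟨Q, hQdef⟩ : ∃ Q, Q = R ⊓ Qbar.comap (QuotientGroup.mk' (Cfsg.pPrimeCore p G)) :=
      ⟨_, rfl⟩
    obtain ⟨A, hAdef⟩ : ∃ A, A = R ⊓ Abar.comap (QuotientGroup.mk' (Cfsg.pPrimeCore p G)) :=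
      ⟨_, rfl⟩
    have hQmap : Q.map (QuotientGroup.mk' (Cfsg.pPrimeCore p G)) = Qbar := by
      rw [hQdef]
      apply map_inf_comap_of_le
      rw [hRmap]; exact le_sup_left
    have hAmap : A.map (QuotientGroup.mk' (Cfsg.pPrimeCore p G)) = Abar := by
      rw [hAdef]
      apply map_inf_comap_of_le
      rw [hRmap]; exact le_sup_right
    have hQR : Q ≤ R := hQdef ▸ inf_le_left
    have hAR : A ≤ R := hAdef ▸ inf_le_left
    have hQp : IsPGroup p Q := hRp.to_le hQR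
    have hAp : IsPGroup p A := hRp.to_le hAR
    have hAQ : ∀ a ∈ A, ∀ x ∈ Q, a * x * a⁻¹ ∈ Q := by
      intro a ha x hx
      rw [hQdef]
      refine Subgroup.mem_inf.mpr
        ⟨R.mul_mem (R.mul_mem (hAR ha) (hQR hx)) (R.inv_mem (hAR ha)), ?_⟩
      rw [Subgroup.mem_comap, map_mul, map_mul, map_inv]
      apply hnorm
      · rw [← hAmap]; exact ⟨a, ha, rfl⟩
      · rw [← hQmap]; exact ⟨x, hx, rfl⟩
    have hQle : Q ≤ Cfsg.pPrimePCore p G := by
      intro q hq
      show QuotientGroup.mk' (Cfsg.pPrimeCore p G) q ∈ Cfsg.pCore p (G ⧸ Cfsg.pPrimeCore p G)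
      apply pPrimePCore_le_pCore_of_bot hbot
      apply hle
      rw [← hQmap]; exact ⟨q, hq, rfl⟩
    have hQN : (Cfsg.pPrimeCore p G ⊔ Q).Normal := by
      have : Cfsg.pPrimeCore p G ⊔ Q = Qbar.comap (QuotientGroup.mk' (Cfsg.pPrimeCore p G)) := by
        rw [← hQmap, Subgroup.comap_map_eq, QuotientGroup.ker_mk', sup_comm]
      rw [this]
      infer_instance
    have hquad' : ⁅⁅Q, A⁆, A⁆ = ⊥ := by
      have h1 : ⁅⁅Q, A⁆, A⁆ ≤ R := by
        have h0 : ⁅Q, A⁆ ≤ R := by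
          rw [Subgroup.commutator_le]
          intro x hx y hy
          exact R.mul_mem (R.mul_mem (R.mul_mem (hQR hx) (hAR hy)) (R.inv_mem (hQR hx)))
            (R.inv_mem (hAR hy))
        rw [Subgroup.commutator_le]
        intro x hx y hy
        exact R.mul_mem (R.mul_mem (R.mul_mem (h0 hx) (hAR hy)) (R.inv_mem (h0 hx)))
          (R.inv_mem (hAR hy))
      have h2 : ⁅⁅Q, A⁆, A⁆ ≤ Cfsg.pPrimeCore p G := by
        have : (⁅⁅Q, A⁆, A⁆).map (QuotientGroup.mk' (Cfsg.pPrimeCore p G)) = ⊥ := by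
          rw [Subgroup.map_commutator, Subgroup.map_commutator, hQmap, hAmap]
          exact hquad
        rw [Subgroup.map_eq_bot_iff, QuotientGroup.ker_mk'] at this
        exact this
      rw [eq_bot_iff, ← inf_eq_bot_of_isPGroup_of_coprime hRp hN]
      exact le_inf h1 h2
    have hmain := hcond A Q hAp hQp hAQ hQle hQN hquad'
    have hAn := le_normalizer_of_conj_mem hAQ
    have hfin := (image_le_pCore_iff (Cfsg.pPrimeCore p G) Q hN hQp A hAn).mp hmain
    clear hQdef hAdef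
    subst hQmap
    subst hAmap
    exact hfin

/-- `p`-stability passes from the quotient by `O_{p'}` back to the group. -/
theorem isPStable_of_quotient (hO : Cfsg.pCore p G ≠ ⊥)
    (hs : Cfsg.IsPStable p (G ⧸ Cfsg.pPrimeCore p G)) : Cfsg.IsPStable p G := by
  obtain ⟨hodd, _, hcond⟩ := hs
  have hN : (Nat.card (Cfsg.pPrimeCore p G)).Coprime p :=
    Cfsg.Agent.Lib.H22.card_pPrimeCore_coprime p
  have hbot : Cfsg.pPrimeCore p (G ⧸ Cfsg.pPrimeCore p G) = ⊥ :=
    Cfsg.Agent.Lib.H9.pPrimeCore_quotient_eq_bot p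
  refine ⟨hodd, hO, ?_⟩
  intro A Q hA hQ hAQ hQle hQN hquad
  have hAn := le_normalizer_of_conj_mem hAQ
  apply (image_le_pCore_iff (Cfsg.pPrimeCore p G) Q hN hQ A hAn).mpr
  apply hcond _ _ (hA.map _) (hQ.map _)
  · rintro _ ⟨a, ha, rfl⟩ _ ⟨x, hx, rfl⟩
    exact ⟨a * x * a⁻¹, hAQ a ha x hx, by simp⟩
  · rintro _ ⟨q, hq, rfl⟩
    apply pCore_le_pPrimePCore p
    exact hQle hq
  · rw [hbot, bot_sup_eq]
    have : Q.map (QuotientGroup.mk' (Cfsg.pPrimeCore p G)) =
        (Cfsg.pPrimeCore p G ⊔ Q).map (QuotientGroup.mk' (Cfsg.pPrimeCore p G)) := by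
      rw [Subgroup.map_sup]
      have : (Cfsg.pPrimeCore p G).map (QuotientGroup.mk' (Cfsg.pPrimeCore p G)) = ⊥ := by
        rw [Subgroup.map_eq_bot_iff, QuotientGroup.ker_mk']
      rw [this, bot_sup_eq]
    rw [this]
    exact Subgroup.Normal.map hQN _ (QuotientGroup.mk'_surjective _)
  · rw [← Subgroup.map_commutator, ← Subgroup.map_commutator, hquad, Subgroup.map_bot]

end quotient

end Cfsg.Agent.Lib.H4.PStable
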