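import Mathlib

/-!
# p-groups acting linearly in characteristic p have fixed vectors; Sylow p-subgroups are
transitive in transitive actions of p-power degree.
-/

set_option autoImplicit false

namespace Cfsg.Agent.Lib.H4

/-- A finite `p`-group acting linearly on a vector space over a field of characteristic `p`
fixes a non-zero vector in every non-zero invariant subspace. The field may be infinite. -/
theorem exists_fixed_vector {P : Type*} [Group P] [Finite P] {K : Type*} [Field K] {p : ℕ}
    [Fact p.Prime] [CharP K p] (hP : IsPGroup p P) {V : Type*} [AddCommGroup V] [Module K V]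
    (ρ : Representation K P V) (U : Submodule K V) (hU : ∀ g, ∀ u ∈ U, ρ g u ∈ U)
    (hne : U ≠ ⊥) : ∃ v ∈ U, v ≠ 0 ∧ ∀ g, ρ g v = v := by
  classical
  letI : Fintype P := Fintype.ofFinite P
  obtain ⟨v, hvU, hv0⟩ := (Submodule.ne_bot_iff U).1 hne
  let φ : ZMod p →+* K := ZMod.castHom (dvd_refl p) K
  let Ψ : (P → ZMod p) →+ V :=
    { toFun := fun c => ∑ g, φ (c g) • ρ g v
      map_zero' := by simp
      map_add' := by
        intro c d
        simp [add_smul, Finset.sum_add_distrib] }
  have hΨ : ∀ c, Ψ c = ∑ g, φ (c g) • ρ g v := fun c => rfl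
  let M : AddSubgroup V := Ψ.range
  have hMU : ∀ m ∈ M, m ∈ U := by
    rintro _ ⟨c, rfl⟩
    rw [hΨ]
    exact Submodule.sum_mem _ fun g _ => Submodule.smul_mem _ _ (hU g v hvU)
  have hvM : v ∈ M := by
    refine ⟨Pi.single 1 1, ?_⟩
    rw [hΨ, Finset.sum_eq_single 1]
    · simp
    · intro b _ hb
      simp [hb]
    · intro h
      exact absurd (Finset.mem_univ _) h
  have hstab : ∀ (h : P) (m : V), m ∈ M → ρ h m ∈ M := by
    rintro h _ ⟨c, rfl⟩
    refine ⟨fun g => c (h⁻¹ * g), ?_⟩
    rw [hΨ, hΨ, map_sum]
    refine (Fintype.sum_equiv (Equiv.mulLeft h⁻¹) _ _ ?_)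
    intro g
    simp only [Equiv.coe_mulLeft, map_smul]
    rw [← Module.End.mul_apply, ← map_mul, mul_inv_cancel_left]
  haveI : Finite M := by
    have : Finite (Set.range Ψ) := Set.finite_range Ψ
    exact this
  letI : MulAction P M :=
    { smul := fun h m => ⟨ρ h m.1, hstab h m.1 m.2⟩
      one_smul := by
        intro m
        apply Subtype.ext
        change ρ 1 m.1 = m.1
        simp
      mul_smul := by
        intro a b m
        apply Subtype.ext
        change ρ (a * b) m.1 = ρ a (ρ b m.1)
        simp }
  have hsmul : ∀ (h : P) (m : M), ((h • m : M) : V) = ρ h m.1 := fun h m => rfl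
  have hdvd : p ∣ Nat.card M := by
    have h1 : Nat.card M ∣ Nat.card (P → ZMod p) := AddSubgroup.card_range_dvd Ψ
    rw [Nat.card_fun, Nat.card_zmod] at h1
    obtain ⟨k, _, hk⟩ := (Nat.dvd_prime_pow (Fact.out (p := p.Prime))).1 h1
    have h2 : 1 < Nat.card M := by
      rw [Finite.one_lt_card_iff_nontrivial]
      exact ⟨⟨⟨v, hvM⟩, 0, fun h => hv0 (congrArg Subtype.val h)⟩⟩
    rw [hk] at h2 ⊢
    have : k ≠ 0 := by
      rintro rfl
      simp at h2
    exact dvd_pow_self p this
  have h0 : (0 : M) ∈ MulAction.fixedPoints P M := by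
    intro h
    apply Subtype.ext
    rw [hsmul]
    simp
  obtain ⟨b, hb, hb0⟩ := hP.exists_fixed_point_of_prime_dvd_card_of_fixed_point M hdvd h0
  refine ⟨b.1, hMU _ b.2, ?_, ?_⟩
  · intro h
    exact hb0 (Subtype.ext h.symm)
  · intro g
    have := hb g
    rw [← hsmul, this]

/-- In a transitive action of `p`-power degree, every Sylow `p`-subgroup is transitive. -/
theorem sylow_isPretransitive {G : Type*} [Group G] [Finite G] {p f : ℕ} [Fact p.Prime]
    {Ω : Type*} [Fintype Ω] [MulAction G Ω] [MulAction.IsPretransitive G Ω]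
    (hcard : Fintype.card Ω = p ^ f) (P : Sylow p G) : MulAction.IsPretransitive P Ω := by
  classical
  have hp : p.Prime := Fact.out
  have hne : Nonempty Ω := by
    rw [← Fintype.card_pos_iff, hcard]
    exact pos_of_ne_zero (pow_ne_zero _ hp.ne_zero)
  obtain ⟨x⟩ := hne
  -- orbit-stabilizer for G
  have h1 : Nat.card (MulAction.stabilizer G x) * (MulAction.stabilizer G x).index = Nat.card G :=
    Subgroup.card_mul_index _
  have h2 : (MulAction.stabilizer G x).index = p ^ f := by
    rw [MulAction.index_stabilizer_of_transitive, Nat.card_eq_fintype_card, hcard]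
  rw [h2] at h1
  have hm0 : Nat.card (MulAction.stabilizer G x) ≠ 0 := Nat.card_pos.ne'
  -- orbit-stabilizer for P
  have h3 : Nat.card (MulAction.stabilizer P x) * (MulAction.stabilizer P x).index = Nat.card P :=
    Subgroup.card_mul_index _
  rw [MulAction.index_stabilizer] at h3
  have h4 : Nat.card P = p ^ (Nat.card G).factorization p := P.card_eq_multiplicity
  have h5 : (Nat.card G).factorization p =
      (Nat.card (MulAction.stabilizer G x)).factorization p + f := by
    rw [← h1, Nat.factorization_mul hm0 (pow_ne_zero _ hp.ne_zero), hp.factorization_pow]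
    simp
  obtain ⟨k, hk⟩ := (P.isPGroup'.to_subgroup (MulAction.stabilizer P x)).exists_card_eq
  have h6 : Nat.card (MulAction.stabilizer P x) ∣ Nat.card (MulAction.stabilizer G x) := by
    let φ : MulAction.stabilizer P x →* MulAction.stabilizer G x :=
      { toFun := fun s => ⟨(s.1 : G), by
          have := s.2
          rw [MulAction.mem_stabilizer_iff] at this ⊢
          exact this⟩
        map_one' := rfl
        map_mul' := fun _ _ => rfl }
    refine Subgroup.card_dvd_of_injective φ ?_
    intro a b hab
    apply Subtype.ext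
    apply Subtype.ext
    exact congrArg (fun t : MulAction.stabilizer G x => (t : G)) hab
  rw [hk] at h6
  have h7 : k ≤ (Nat.card (MulAction.stabilizer G x)).factorization p :=
    (hp.pow_dvd_iff_le_factorization hm0).1 h6
  rw [hk, h4, h5] at h3
  have h8 : (MulAction.orbit P x).ncard =
      p ^ ((Nat.card (MulAction.stabilizer G x)).factorization p + f - k) := by
    have : p ^ ((Nat.card (MulAction.stabilizer G x)).factorization p + f) =
        p ^ k * p ^ ((Nat.card (MulAction.stabilizer G x)).factorization p + f - k) := by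
      rw [← pow_add]
      congr 1
      omega
    rw [this] at h3
    exact Nat.eq_of_mul_eq_mul_left (pow_pos hp.pos k) h3
  have h9 : Nat.card Ω ≤ (MulAction.orbit P x).ncard := by
    rw [h8, Nat.card_eq_fintype_card, hcard]
    exact Nat.pow_le_pow_right hp.pos (by omega)
  have h10 : MulAction.orbit P x = Set.univ := by
    rw [Set.eq_univ_iff_ncard]
    refine le_antisymm ?_ h9
    rw [← Set.ncard_univ]
    exact Set.ncard_le_ncard (Set.subset_univ _)
  exact (MulAction.isPretransitive_iff_orbit_eq_univ x).2 h10

end Cfsg.Agent.Lib.H4
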