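import Mathlib
import Cfsg.Prelude.Def_PLocal
import Cfsg.Agent.Lib.H1.PCore
import Cfsg.Agent.Lib.H5.SylowIn
import Cfsg.Agent.Lib.H15.Conj
import Cfsg.Agent.Lib.H15.SylowNormal
import Cfsg.Agent.Lib.H19.SylowAux
import Cfsg.Agent.S0663

/-!
An abstract form of Glauberman's ZJ-Theorem (helper4).

`SubClass G` is a class of abelian subgroups of `G` (all abelian subgroups, or all elementary
abelian `p`-subgroups).  For a subgroup `Q` the members of the class inside `Q` of largest order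
generate `J Q`, and `ZJ Q` is generated by the elements `x` of the centre of `J Q` with `⟨x⟩` in
the class.
-/

set_option autoImplicit false

namespace Cfsg.Agent.Lib.H4.ZJ

open Cfsg.Agent.Lib.H5 Cfsg.Agent.Lib.H15
open scoped commutatorElement

variable {G : Type*} [Group G]

/-- A class of abelian subgroups closed under automorphisms, commuting joins and subgroups. -/
structure SubClass (G : Type*) [Group G] where
  pred : Subgroup G → Prop
  bot : pred ⊥
  map : ∀ (φ : G ≃* G) (A : Subgroup G), pred A → pred (A.map φ.toMonoidHom)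
  comm : ∀ A : Subgroup G, pred A → ∀ x ∈ A, ∀ y ∈ A, x * y = y * x
  sup : ∀ X Y : Subgroup G, pred X → pred Y → (∀ x ∈ X, ∀ y ∈ Y, x * y = y * x) → pred (X ⊔ Y)
  mono : ∀ A B : Subgroup G, pred A → B ≤ A → pred B

variable (𝒞 : SubClass G)

/-- The members of the class inside `Q` of largest order. -/
def maxSet (Q : Subgroup G) : Set (Subgroup G) :=
  {A | A ≤ Q ∧ 𝒞.pred A ∧ ∀ B : Subgroup G, B ≤ Q → 𝒞.pred B → Nat.card B ≤ Nat.card A}

/-- The Thompson subgroup of `Q` for the class. -/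
def J (Q : Subgroup G) : Subgroup G := sSup (maxSet 𝒞 Q)

/-- The part of the centre of `J Q` generated by its cyclic subgroups in the class. -/
def ZJ (Q : Subgroup G) : Subgroup G :=
  Subgroup.closure {x | x ∈ J 𝒞 Q ∧ x ∈ Subgroup.centralizer (J 𝒞 Q : Set G) ∧
    𝒞.pred (Subgroup.zpowers x)}

variable {𝒞}

theorem maxSet_nonempty [Finite G] (Q : Subgroup G) : (maxSet 𝒞 Q).Nonempty := by
  obtain ⟨A, hA, hmax⟩ := Set.exists_max_image {A : Subgroup G | A ≤ Q ∧ 𝒞.pred A}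
    (fun A => Nat.card A) (Set.toFinite _) ⟨⊥, bot_le, 𝒞.bot⟩
  exact ⟨A, hA.1, hA.2, fun B hB hB' => hmax B ⟨hB, hB'⟩⟩

theorem J_le (Q : Subgroup G) : J 𝒞 Q ≤ Q := sSup_le (fun _ hA => hA.1)

theorem le_J {Q A : Subgroup G} (hA : A ∈ maxSet 𝒞 Q) : A ≤ J 𝒞 Q := le_sSup hA

theorem ZJ_le_J (Q : Subgroup G) : ZJ 𝒞 Q ≤ J 𝒞 Q :=
  (Subgroup.closure_le _).2 (fun _ hx => hx.1)

theorem ZJ_le (Q : Subgroup G) : ZJ 𝒞 Q ≤ Q := (ZJ_le_J Q).trans (J_le Q)

theorem ZJ_le_centralizer (Q : Subgroup G) :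
    ZJ 𝒞 Q ≤ Subgroup.centralizer (J 𝒞 Q : Set G) :=
  (Subgroup.closure_le _).2 (fun _ hx => hx.2.1)

theorem map_map_symm (φ : G ≃* G) (H : Subgroup G) :
    (H.map φ.toMonoidHom).map φ.symm.toMonoidHom = H := by
  rw [Subgroup.map_map]
  convert Subgroup.map_id H
  ext x
  simp

theorem map_symm_map (φ : G ≃* G) (H : Subgroup G) :
    (H.map φ.symm.toMonoidHom).map φ.toMonoidHom = H := by
  rw [Subgroup.map_map]
  convert Subgroup.map_id H
  ext x
  simp

theorem map_mem_maxSet (φ : G ≃* G) {A Q : Subgroup G} (hA : A ∈ maxSet 𝒞 Q) :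
    A.map φ.toMonoidHom ∈ maxSet 𝒞 (Q.map φ.toMonoidHom) := by
  refine ⟨Subgroup.map_mono hA.1, 𝒞.map φ A hA.2.1, ?_⟩
  intro B hB hBp
  have h1 : B.map φ.symm.toMonoidHom ≤ Q := by
    have := Subgroup.map_mono (f := φ.symm.toMonoidHom) hB
    rwa [map_map_symm] at this
  have h2 := hA.2.2 _ h1 (𝒞.map φ.symm B hBp)
  rw [Subgroup.card_map_of_injective φ.symm.injective] at h2
  rw [Subgroup.card_map_of_injective φ.injective]
  exact h2

theorem maxSet_map (φ : G ≃* G) (Q : Subgroup G) :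
    maxSet 𝒞 (Q.map φ.toMonoidHom) = (fun A : Subgroup G => A.map φ.toMonoidHom) '' maxSet 𝒞 Q := by
  ext A
  constructor
  · intro hA
    refine ⟨A.map φ.symm.toMonoidHom, ?_, map_symm_map φ A⟩
    have := map_mem_maxSet φ.symm hA
    rwa [map_map_symm] at this
  · rintro ⟨A', hA', rfl⟩
    exact map_mem_maxSet φ hA'

theorem J_map (φ : G ≃* G) (Q : Subgroup G) :
    (J 𝒞 Q).map φ.toMonoidHom = J 𝒞 (Q.map φ.toMonoidHom) := by
  unfold J
  rw [maxSet_map, sSup_image, (Subgroup.gc_map_comap φ.toMonoidHom).l_sSup]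

theorem ZJ_map_le (φ : G ≃* G) (Q : Subgroup G) :
    (ZJ 𝒞 Q).map φ.toMonoidHom ≤ ZJ 𝒞 (Q.map φ.toMonoidHom) := by
  rw [Subgroup.map_le_iff_le_comap]
  unfold ZJ
  rw [Subgroup.closure_le]
  rintro x ⟨hx1, hx2, hx3⟩
  apply Subgroup.subset_closure
  refine ⟨?_, ?_, ?_⟩
  · rw [← J_map]
    exact ⟨x, hx1, rfl⟩
  · rw [← J_map, Subgroup.mem_centralizer_iff]
    rintro _ ⟨y, hy, rfl⟩
    have := (Subgroup.mem_centralizer_iff.mp hx2) y hy
    simp only [MulEquiv.coe_toMonoidHom]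
    rw [← map_mul, ← map_mul, this]
  · have := 𝒞.map φ _ hx3
    rwa [MonoidHom.map_zpowers] at this

theorem ZJ_map (φ : G ≃* G) (Q : Subgroup G) :
    (ZJ 𝒞 Q).map φ.toMonoidHom = ZJ 𝒞 (Q.map φ.toMonoidHom) := by
  apply le_antisymm (ZJ_map_le φ Q)
  have h := ZJ_map_le (𝒞 := 𝒞) φ.symm (Q.map φ.toMonoidHom)
  rw [map_map_symm] at h
  have h2 := Subgroup.map_mono (f := φ.toMonoidHom) h
  rwa [map_symm_map] at h2

theorem normalizer_le_normalizer_ZJ (Q : Subgroup G) :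
    Subgroup.normalizer (Q : Set G) ≤ Subgroup.normalizer (ZJ 𝒞 Q : Set G) := by
  intro g hg
  rw [mem_normalizer_iff_cj_eq] at hg ⊢
  show (ZJ 𝒞 Q).map (MulAut.conj g).toMonoidHom = _
  rw [ZJ_map]
  change ZJ 𝒞 (cj g Q) = _
  rw [hg]

theorem normalizer_le_normalizer_J (Q : Subgroup G) :
    Subgroup.normalizer (Q : Set G) ≤ Subgroup.normalizer (J 𝒞 Q : Set G) := by
  intro g hg
  rw [mem_normalizer_iff_cj_eq] at hg ⊢
  show (J 𝒞 Q).map (MulAut.conj g).toMonoidHom = _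
  rw [J_map]
  change J 𝒞 (cj g Q) = _
  rw [hg]

theorem pred_closure_of_comm [Finite G] (s : Set G)
    (hs : ∀ x ∈ s, ∀ y ∈ s, x * y = y * x) (hp : ∀ x ∈ s, 𝒞.pred (Subgroup.zpowers x)) :
    𝒞.pred (Subgroup.closure s) := by
  classical
  obtain ⟨t, rfl⟩ := (Set.toFinite s).exists_finset_coe
  induction t using Finset.induction_on with
  | empty => simpa using 𝒞.bot
  | insert a t hat ih =>
    have h1 : ∀ x ∈ (t : Set G), ∀ y ∈ (t : Set G), x * y = y * x := fun x hx y hy =>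
      hs x (by simp [Finset.mem_coe.mp hx]) y (by simp [Finset.mem_coe.mp hy])
    have h2 : ∀ x ∈ (t : Set G), 𝒞.pred (Subgroup.zpowers x) := fun x hx =>
      hp x (by simp [Finset.mem_coe.mp hx])
    have ih' := ih h1 h2
    have ha : 𝒞.pred (Subgroup.zpowers a) := hp a (by simp)
    have hcl : Subgroup.closure ((insert a t : Finset G) : Set G) =
        Subgroup.zpowers a ⊔ Subgroup.closure (t : Set G) := by
      rw [Finset.coe_insert, Set.insert_eq, Subgroup.closure_union, Subgroup.zpowers_eq_closure]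
    rw [hcl]
    apply 𝒞.sup _ _ ha ih'
    intro x hx y hy
    have hyc : y ∈ Subgroup.centralizer ({a} : Set G) := by
      have : Subgroup.closure (t : Set G) ≤ Subgroup.centralizer ({a} : Set G) := by
        rw [Subgroup.closure_le]
        intro z hz
        rw [SetLike.mem_coe, Subgroup.mem_centralizer_iff]
        intro w hw
        rw [Set.mem_singleton_iff] at hw
        subst hw
        exact hs w (by simp) z (by simp [Finset.mem_coe.mp hz])
      exact this hy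
    have hay : a * y = y * a := (Subgroup.mem_centralizer_iff.mp hyc) a rfl
    obtain ⟨k, rfl⟩ := Subgroup.mem_zpowers_iff.mp hx
    exact ((Commute.zpow_left (show Commute a y from hay) k)).eq

theorem ZJ_pred [Finite G] (Q : Subgroup G) : 𝒞.pred (ZJ 𝒞 Q) := by
  apply pred_closure_of_comm
  · rintro x ⟨hx1, _, _⟩ y ⟨_, hy2, _⟩
    exact ((Subgroup.mem_centralizer_iff.mp hy2) x hx1)
  · rintro x ⟨_, _, hx3⟩
    exact hx3

theorem ZJ_le_of_mem_maxSet [Finite G] {Q A : Subgroup G} (hA : A ∈ maxSet 𝒞 Q) :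
    ZJ 𝒞 Q ≤ A := by
  have hpred : 𝒞.pred (ZJ 𝒞 Q ⊔ A) := by
    apply 𝒞.sup _ _ (ZJ_pred Q) hA.2.1
    intro x hx y hy
    exact ((Subgroup.mem_centralizer_iff.mp (ZJ_le_centralizer Q hx)) y (le_J hA hy)).symm
  have hle : ZJ 𝒞 Q ⊔ A ≤ Q := sup_le (ZJ_le Q) hA.1
  have hcard := hA.2.2 _ hle hpred
  have heq : A = ZJ 𝒞 Q ⊔ A := Subgroup.eq_of_le_of_card_ge le_sup_right hcard
  rw [heq]
  exact le_sup_left

theorem mem_maxSet_of_le {P D A : Subgroup G} (hA : A ∈ maxSet 𝒞 P) (hAD : A ≤ D) (hDP : D ≤ P) :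
    A ∈ maxSet 𝒞 D :=
  ⟨hAD, hA.2.1, fun B hB hBp => hA.2.2 B (hB.trans hDP) hBp⟩

theorem maxSet_subset_of_le {P D A : Subgroup G} (hA : A ∈ maxSet 𝒞 P) (hAD : A ≤ D)
    (hDP : D ≤ P) : maxSet 𝒞 D ⊆ maxSet 𝒞 P := by
  intro A' hA'
  refine ⟨hA'.1.trans hDP, hA'.2.1, ?_⟩
  intro B hB hBp
  exact (hA.2.2 B hB hBp).trans (hA'.2.2 A hAD hA.2.1)

theorem J_le_J_of {P D A : Subgroup G} (hA : A ∈ maxSet 𝒞 P) (hAD : A ≤ D) (hDP : D ≤ P) :
    J 𝒞 D ≤ J 𝒞 P := sSup_le_sSup (maxSet_subset_of_le hA hAD hDP)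

theorem ZJ_le_ZJ_of [Finite G] {P D A : Subgroup G} (hA : A ∈ maxSet 𝒞 P) (hAD : A ≤ D)
    (hDP : D ≤ P) : ZJ 𝒞 P ≤ ZJ 𝒞 D := by
  have hAD' := mem_maxSet_of_le hA hAD hDP
  conv_lhs => unfold ZJ
  rw [Subgroup.closure_le]
  rintro x ⟨hx1, hx2, hx3⟩
  apply Subgroup.subset_closure
  refine ⟨?_, ?_, hx3⟩
  · have hxZ : x ∈ ZJ 𝒞 P := Subgroup.subset_closure ⟨hx1, hx2, hx3⟩
    exact le_J hAD' (ZJ_le_of_mem_maxSet hA hxZ)
  · exact Subgroup.centralizer_le (J_le_J_of hA hAD hDP) hx2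

theorem le_ZJ_of_forall_le [Finite G] {Q B : Subgroup G} (h : ∀ A ∈ maxSet 𝒞 Q, B ≤ A) :
    B ≤ ZJ 𝒞 Q := by
  obtain ⟨A₀, hA₀⟩ := maxSet_nonempty (𝒞 := 𝒞) Q
  intro b hb
  apply Subgroup.subset_closure
  refine ⟨le_J hA₀ (h A₀ hA₀ hb), ?_, ?_⟩
  · have hJ : J 𝒞 Q ≤ Subgroup.centralizer ({b} : Set G) := by
      apply sSup_le
      intro A hA x hx
      rw [Subgroup.mem_centralizer_iff]
      intro w hw
      rw [Set.mem_singleton_iff] at hw
      subst hw
      exact 𝒞.comm A hA.2.1 w (h A hA hb) x hx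
    rw [Subgroup.mem_centralizer_iff]
    intro y hy
    exact ((Subgroup.mem_centralizer_iff.mp (hJ hy)) b rfl).symm
  · apply 𝒞.mono A₀ _ hA₀.2.1
    rw [Subgroup.zpowers_le]
    exact h A₀ hA₀ hb


/-! ### Sylow-theoretic preparations -/

theorem cj_eq_of_normal (K : Subgroup G) [hK : K.Normal] (g : G) : cj g K = K := by
  apply mem_normalizer_iff_cj_eq.mp
  rw [Subgroup.normalizer_eq_top_iff.mpr hK]
  exact Subgroup.mem_top g

/-- Frattini argument for `P ⊓ K`. -/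
theorem frattini_inf [Finite G] {p : ℕ} [Fact p.Prime] (P : Sylow p G) (K : Subgroup G)
    [K.Normal] :
    K ⊔ Subgroup.normalizer ((((P : Subgroup G) ⊓ K : Subgroup G)) : Set G) = ⊤ := by
  rw [eq_top_iff]
  intro g _
  have hD : IsSylowIn p ((P : Subgroup G) ⊓ K) K := isSylowIn_inf_normal P K
  have hDg := hD.conj g
  change IsSylowIn p (cj g ((P : Subgroup G) ⊓ K)) (cj g K) at hDg
  rw [cj_eq_of_normal K g] at hDg
  obtain ⟨z, hzK, hz⟩ := hD.exists_conj hDg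
  change cj g ((P : Subgroup G) ⊓ K) = cj z ((P : Subgroup G) ⊓ K) at hz
  have h1 : z⁻¹ * g ∈ Subgroup.normalizer ((((P : Subgroup G) ⊓ K : Subgroup G)) : Set G) := by
    rw [mem_normalizer_iff_cj_eq, ← cj_cj, hz, cj_inv_cj]
  have : g = z * (z⁻¹ * g) := by group
  rw [this]
  exact Subgroup.mul_mem_sup hzK h1

/-- If `K / C` is a `p`-group then `K = C (P ∩ K)`. -/
theorem le_sup_inf_of_isPGroup_map [Finite G] {p : ℕ} [hp : Fact p.Prime] (P : Sylow p G)
    (C K : Subgroup G) [C.Normal] [K.Normal] (hCK : C ≤ K)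
    (hKC : IsPGroup p (K.map (QuotientGroup.mk' C))) :
    K ≤ C ⊔ ((P : Subgroup G) ⊓ K) := by
  have h1 : ¬ p ∣ ((P : Subgroup G) ⊓ K).relIndex K :=
    Cfsg.Agent.Lib.H19.not_dvd_relIndex_inf_normal P K
  have h2 : ∃ k, C.relIndex K = p ^ k := by
    obtain ⟨k, hk⟩ := IsPGroup.iff_card.mp hKC
    refine ⟨k, ?_⟩
    rw [← hk, ← Subgroup.relIndex_bot_left, ← Subgroup.relIndex_comap, MonoidHom.comap_bot,
      QuotientGroup.ker_mk']
  obtain ⟨k, hk⟩ := h2
  have h3 : (C ⊔ ((P : Subgroup G) ⊓ K)).relIndex K ∣ p ^ k := by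
    rw [← hk]
    exact Subgroup.relIndex_dvd_of_le_left K le_sup_left
  have h4 : (C ⊔ ((P : Subgroup G) ⊓ K)).relIndex K ∣ ((P : Subgroup G) ⊓ K).relIndex K :=
    Subgroup.relIndex_dvd_of_le_left K le_sup_right
  obtain ⟨j, _, hj⟩ := (Nat.dvd_prime_pow hp.out).mp h3
  rw [← Subgroup.relIndex_eq_one]
  rcases Nat.eq_zero_or_pos j with rfl | hj0
  · simpa using hj
  · exfalso
    apply h1
    refine dvd_trans ?_ h4
    rw [hj]
    exact dvd_pow_self p hj0.ne'

/-! ### Theorem A -/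

section thmA

variable [Finite G] {p : ℕ} [Fact p.Prime]

theorem normalClosure_le_of_le {Z₁ : Subgroup G} {T : Subgroup G} [T.Normal] (h : Z₁ ≤ T) :
    Subgroup.normalClosure (Z₁ : Set G) ≤ T :=
  Subgroup.normalClosure_le_normal h

/-- Core of Glauberman's Theorem A, by induction on the order of `B`. -/
theorem thmA_aux (𝒞 : SubClass G) (P : Sylow p G)
    (hR : ∀ B : Subgroup G, B.Normal → IsPGroup p B → ⁅⁅B, B⁆, B⁆ = ⊥ →
      (∃ U ∈ maxSet 𝒞 (P : Subgroup G), ⁅B, B⁆ ≤ U ∧ ¬ B ≤ U) →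
      ∃ A ∈ maxSet 𝒞 (P : Subgroup G), ¬ B ≤ A ∧ B ≤ Subgroup.normalizer (A : Set G))
    (hst : ∀ (V : Subgroup G) [V.Normal], IsPGroup p V → Cfsg.IsPStableOn p V) :
    ∀ (n : ℕ) (B : Subgroup G), Nat.card B ≤ n → B.Normal → IsPGroup p B →
      (ZJ 𝒞 (P : Subgroup G) ⊓ B).Normal := by
  intro n
  induction n with
  | zero =>
    intro B hB _ _
    exact absurd hB (by have : 0 < Nat.card B := Nat.card_pos; omega)
  | succ n ih =>
    intro B hBcard hBn hBp
    haveI := hBn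
    obtain ⟨Z, hZ⟩ : ∃ Z, Z = ZJ 𝒞 (P : Subgroup G) := ⟨_, rfl⟩
    rw [← hZ]
    have hBP : B ≤ (P : Subgroup G) := hBp.le_sylow_of_normal P
    have hZP : Z ≤ (P : Subgroup G) := hZ ▸ ZJ_le _
    have hPZ : (P : Subgroup G) ≤ Subgroup.normalizer (Z : Set G) :=
      hZ ▸ Subgroup.le_normalizer.trans (normalizer_le_normalizer_ZJ _)
    by_cases hB1 : B = ⊥
    · rw [hB1, inf_bot_eq]; infer_instance
    -- reduce to `B` generated by the conjugates of `Z ⊓ B`
    obtain ⟨B₁, hB₁⟩ : ∃ B₁, B₁ = Subgroup.normalClosure ((Z ⊓ B : Subgroup G) : Set G) := ⟨_, rfl⟩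
    have hB₁n : B₁.Normal := hB₁ ▸ Subgroup.normalClosure_normal
    have hB₁B : B₁ ≤ B := hB₁ ▸ Subgroup.normalClosure_le_normal (show ((Z ⊓ B : Subgroup G) : Set G) ⊆ B from inf_le_right)
    have hZB₁ : Z ⊓ B₁ = Z ⊓ B := by
      apply le_antisymm (inf_le_inf_left _ hB₁B)
      apply le_inf inf_le_left
      rw [hB₁]
      exact Subgroup.le_normalClosure
    by_cases hBB : B₁ = B
    swap
    · have hlt : B₁ < B := lt_of_le_of_ne hB₁B hBB
      have hc : Nat.card B₁ < Nat.card B := by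
        apply Set.ncard_lt_ncard (SetLike.coe_ssubset_coe.mpr hlt) (Set.toFinite _)
      have := ih B₁ (by omega) hB₁n (hBp.to_le hB₁B)
      rw [← hZ, hZB₁] at this
      exact this
    -- now `B` is the normal closure of `Z ⊓ B`
    have hgen : ∀ T : Subgroup G, T.Normal → Z ⊓ B ≤ T → B ≤ T := by
      intro T hT h
      haveI := hT
      rw [← hBB, hB₁]
      exact Subgroup.normalClosure_le_normal h
    obtain ⟨B', hB'⟩ : ∃ B', B' = ⁅B, B⁆ := ⟨_, rfl⟩
    have hB'n : B'.Normal := hB' ▸ Subgroup.commutator_normal B B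
    have hB'lt : B' < B :=
      hB' ▸ Cfsg.Agent.S0663.commutator_lt_of_isPGroup hBp hBp Subgroup.le_normalizer hB1
    have hB'p : IsPGroup p B' := hBp.to_le hB'lt.le
    have hcard' : Nat.card B' < Nat.card B := by
      apply Set.ncard_lt_ncard (SetLike.coe_ssubset_coe.mpr hB'lt) (Set.toFinite _)
    have hYn : (Z ⊓ B').Normal := by
      have := ih B' (by omega) hB'n hB'p
      rwa [← hZ] at this
    -- `[Z ⊓ B, B] ≤ Z ⊓ B'`
    have h1 : ⁅Z ⊓ B, B⁆ ≤ Z ⊓ B' := by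
      apply le_inf
      · have : ⁅Z, B⁆ ≤ Z := Subgroup.le_normalizer_iff_commutator_le_left.1 (hBP.trans hPZ)
        exact (Subgroup.commutator_mono inf_le_left le_rfl).trans this
      · rw [hB']
        exact Subgroup.commutator_mono inf_le_right le_rfl
    -- hence `[B, B] ≤ Z ⊓ B'`
    have h2 : B' ≤ Z ⊓ B' := by
      haveI := hYn
      obtain ⟨T, hT⟩ : ∃ T, T = (Subgroup.centralizer
        ((B.map (QuotientGroup.mk' (Z ⊓ B')) : Subgroup (G ⧸ (Z ⊓ B'))) : Set (G ⧸ (Z ⊓ B')))).comap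
          (QuotientGroup.mk' (Z ⊓ B')) := ⟨_, rfl⟩
      have hTn : T.Normal := by
        rw [hT]
        haveI : (B.map (QuotientGroup.mk' (Z ⊓ B'))).Normal :=
          Subgroup.Normal.map hBn _ (QuotientGroup.mk'_surjective _)
        exact Subgroup.Normal.comap inferInstance _
      have hmem : ∀ x : G, x ∈ T ↔ ∀ b : G, b ∈ B → ⁅x, b⁆ ∈ Z ⊓ B' := by
        intro x
        rw [hT, Subgroup.mem_comap, Subgroup.mem_centralizer_iff]
        constructor
        · intro h b hb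
          have := h _ ⟨b, hb, rfl⟩
          rw [← QuotientGroup.eq_one_iff, commutatorElement_def]
          simp only [QuotientGroup.mk'_apply] at this
          simp only [QuotientGroup.mk_mul, QuotientGroup.mk_inv]
          rw [← this]
          group
        · rintro h _ ⟨b, hb, rfl⟩
          have := h b hb
          rw [← QuotientGroup.eq_one_iff, commutatorElement_def] at this
          simp only [QuotientGroup.mk_mul, QuotientGroup.mk_inv] at this
          simp only [QuotientGroup.mk'_apply]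
          have h3 : (x : G ⧸ (Z ⊓ B')) * (b : G ⧸ (Z ⊓ B')) =
              ((x : G ⧸ (Z ⊓ B')) * b * (x : G ⧸ (Z ⊓ B'))⁻¹ * (b : G ⧸ (Z ⊓ B'))⁻¹) * (b * x) := by
            group
          rw [h3, this, one_mul]
      have hZT : Z ⊓ B ≤ T := by
        intro z hz
        rw [hmem]
        intro b hb
        exact h1 (Subgroup.commutator_mem_commutator hz hb)
      have hBT := hgen T hTn hZT
      have h22 : ⁅B, B⁆ ≤ Z ⊓ B' := by
        rw [Subgroup.commutator_le]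
        intro x hx b hb
        exact (hmem x).mp (hBT hx) b hb
      exact hB'.le.trans h22
    have hB'Z : B' ≤ Z := h2.trans inf_le_left
    have hZcomm : ∀ x ∈ Z, ∀ y ∈ Z, x * y = y * x := hZ ▸ 𝒞.comm _ (ZJ_pred _)
    -- `B'` is central in `B`
    have h3 : ⁅⁅B, B⁆, B⁆ = ⊥ := by
      rw [← hB', Subgroup.commutator_comm, Subgroup.commutator_eq_bot_iff_le_centralizer]
      haveI := hB'n
      apply hgen _ inferInstance
      intro z hz
      rw [Subgroup.mem_centralizer_iff]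
      intro y hy
      exact hZcomm y (hB'Z hy) z hz.1
    by_cases hall : ∀ A ∈ maxSet 𝒞 (P : Subgroup G), B ≤ A
    · have : B ≤ Z := hZ ▸ le_ZJ_of_forall_le hall
      rw [inf_eq_right.mpr this]
      exact hBn
    push Not at hall
    obtain ⟨U, hU, hBU⟩ := hall
    have hB'U : ⁅B, B⁆ ≤ U := by
      rw [← hB']
      exact hB'Z.trans (hZ ▸ ZJ_le_of_mem_maxSet hU)
    obtain ⟨A, hA, hBA, hBNA⟩ := hR B hBn hBp h3 ⟨U, hU, hB'U, hBU⟩
    exfalso
    apply hBA
    -- `A` acts quadratically on `B`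
    obtain ⟨C, hC⟩ : ∃ C, C = Subgroup.centralizer (B : Set G) := ⟨_, rfl⟩
    haveI hCn : C.Normal := hC ▸ inferInstance
    obtain ⟨K, hK⟩ : ∃ K, K = (Cfsg.pCore p (G ⧸ C)).comap (QuotientGroup.mk' C) := ⟨_, rfl⟩
    haveI hKn : K.Normal := by
      rw [hK]
      haveI := Cfsg.Agent.Lib.H1.pCore_normal p (G ⧸ C)
      exact Subgroup.Normal.comap inferInstance _
    have hAK : A ≤ K := by
      intro a ha
      have hq : ⁅⁅B, Subgroup.zpowers a⁆, Subgroup.zpowers a⁆ = ⊥ := by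
        rw [eq_bot_iff]
        have hza : Subgroup.zpowers a ≤ A := by rw [Subgroup.zpowers_le]; exact ha
        have h4 : ⁅B, A⁆ ≤ A := by
          rw [Subgroup.commutator_comm]
          exact Subgroup.le_normalizer_iff_commutator_le_left.1 hBNA
        have h5 : ⁅A, A⁆ = ⊥ := by
          rw [Subgroup.commutator_eq_bot_iff_le_centralizer]
          intro x hx
          rw [Subgroup.mem_centralizer_iff]
          intro y hy
          exact 𝒞.comm A hA.2.1 y hy x hx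
        calc ⁅⁅B, Subgroup.zpowers a⁆, Subgroup.zpowers a⁆ ≤ ⁅⁅B, A⁆, A⁆ :=
              Subgroup.commutator_mono (Subgroup.commutator_mono le_rfl hza) hza
          _ ≤ ⁅A, A⁆ := Subgroup.commutator_mono h4 le_rfl
          _ = ⊥ := h5
      have := hst B hBp a hq
      rw [hK, Subgroup.mem_comap]
      subst hC
      exact this
    obtain ⟨D, hD⟩ : ∃ D, D = (P : Subgroup G) ⊓ K := ⟨_, rfl⟩
    have hAD : A ≤ D := hD ▸ le_inf hA.1 hAK
    have hDP : D ≤ (P : Subgroup G) := hD ▸ inf_le_left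
    have hZZ : Z ≤ ZJ 𝒞 D := hZ ▸ ZJ_le_ZJ_of hA hAD hDP
    -- `ZJ D ⊓ B` is normal in `G`
    have hCK : C ≤ K := by
      intro c hc
      rw [hK, Subgroup.mem_comap]
      have : QuotientGroup.mk' C c = 1 := by
        rw [QuotientGroup.mk'_apply, QuotientGroup.eq_one_iff]; exact hc
      rw [this]
      exact Subgroup.one_mem _
    have hKC : IsPGroup p (K.map (QuotientGroup.mk' C)) := by
      rw [hK, Subgroup.map_comap_eq_self_of_surjective (QuotientGroup.mk'_surjective _)]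
      exact Cfsg.Agent.Lib.H1.pCore_isPGroup p _
    have hKle : K ≤ C ⊔ D := hD ▸ le_sup_inf_of_isPGroup_map P C K hCK hKC
    have hfr : K ⊔ Subgroup.normalizer (D : Set G) = ⊤ := hD ▸ frattini_inf P K
    have hnorm : (ZJ 𝒞 D ⊓ B).Normal := by
      rw [← Subgroup.normalizer_eq_top_iff, eq_top_iff, ← hfr]
      have hND : Subgroup.normalizer (D : Set G) ≤
          Subgroup.normalizer ((ZJ 𝒞 D ⊓ B : Subgroup G) : Set G) := by
        intro g hg
        have hg1 := normalizer_le_normalizer_ZJ (𝒞 := 𝒞) D hg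
        rw [mem_normalizer_iff_cj_eq] at hg1 ⊢
        apply cj_eq_of_cj_le
        rintro _ ⟨y, hy, rfl⟩
        refine Subgroup.mem_inf.mpr ⟨?_, ?_⟩
        · rw [← hg1]; exact ⟨y, hy.1, rfl⟩
        · exact hBn.conj_mem y hy.2 g
      have hCle : C ≤ Subgroup.normalizer ((ZJ 𝒞 D ⊓ B : Subgroup G) : Set G) := by
        intro c hc
        rw [mem_normalizer_iff_cj_eq]
        apply cj_eq_of_cj_le
        rintro _ ⟨y, hy, rfl⟩
        have hcy : c * y = y * c := by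
          rw [hC] at hc
          exact ((Subgroup.mem_centralizer_iff.mp hc) y hy.2).symm
        have : (MulAut.conj c).toMonoidHom y = y := by
          simp only [MulEquiv.coe_toMonoidHom, MulAut.conj_apply]
          rw [hcy, mul_inv_cancel_right]
        rw [this]
        exact hy
      apply sup_le _ hND
      apply hKle.trans
      apply sup_le hCle
      exact (Subgroup.le_normalizer.trans hND)
    have hBle : B ≤ ZJ 𝒞 D ⊓ B := hgen _ hnorm (inf_le_inf_right _ hZZ)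
    exact (hBle.trans inf_le_left).trans (ZJ_le_of_mem_maxSet (mem_maxSet_of_le hA hAD hDP))

/-- **Glauberman's Theorem A** in abstract form. -/
theorem thmA (𝒞 : SubClass G) (P : Sylow p G)
    (hR : ∀ B : Subgroup G, B.Normal → IsPGroup p B → ⁅⁅B, B⁆, B⁆ = ⊥ →
      (∃ U ∈ maxSet 𝒞 (P : Subgroup G), ⁅B, B⁆ ≤ U ∧ ¬ B ≤ U) →
      ∃ A ∈ maxSet 𝒞 (P : Subgroup G), ¬ B ≤ A ∧ B ≤ Subgroup.normalizer (A : Set G))
    (hst : ∀ (V : Subgroup G) [V.Normal], IsPGroup p V → Cfsg.IsPStableOn p V)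
    (B : Subgroup G) (hBn : B.Normal) (hBp : IsPGroup p B) :
    (ZJ 𝒞 (P : Subgroup G) ⊓ B).Normal :=
  thmA_aux 𝒞 P hR hst (Nat.card B) B le_rfl hBn hBp

/-- With `C_G(O_p(G)) ≤ O_p(G)` and `p`-stability, `ZJ P` is normal in `G`. -/
theorem ZJ_normal (𝒞 : SubClass G) (P : Sylow p G)
    (hR : ∀ B : Subgroup G, B.Normal → IsPGroup p B → ⁅⁅B, B⁆, B⁆ = ⊥ →
      (∃ U ∈ maxSet 𝒞 (P : Subgroup G), ⁅B, B⁆ ≤ U ∧ ¬ B ≤ U) →
      ∃ A ∈ maxSet 𝒞 (P : Subgroup G), ¬ B ≤ A ∧ B ≤ Subgroup.normalizer (A : Set G))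
    (hc : Subgroup.centralizer (Cfsg.pCore p G : Set G) ≤ Cfsg.pCore p G)
    (hst : ∀ (V : Subgroup G) [V.Normal], IsPGroup p V → Cfsg.IsPStableOn p V) :
    (ZJ 𝒞 (P : Subgroup G)).Normal := by
  obtain ⟨O, hO⟩ : ∃ O, O = Cfsg.pCore p G := ⟨_, rfl⟩
  have hOn : O.Normal := hO ▸ Cfsg.Agent.Lib.H1.pCore_normal p G
  have hOp : IsPGroup p O := hO ▸ Cfsg.Agent.Lib.H1.pCore_isPGroup p G
  have hOP : O ≤ (P : Subgroup G) := hO ▸ Cfsg.Agent.Lib.H1.pCore_le_sylow P
  have hPZ : (P : Subgroup G) ≤ Subgroup.normalizer (ZJ 𝒞 (P : Subgroup G) : Set G) :=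
    Subgroup.le_normalizer.trans (normalizer_le_normalizer_ZJ _)
  have hZO : ZJ 𝒞 (P : Subgroup G) ≤ O := by
    intro z hz
    haveI := hOn
    have hq : ⁅⁅O, Subgroup.zpowers z⁆, Subgroup.zpowers z⁆ = ⊥ := by
      rw [eq_bot_iff]
      have hzZ : Subgroup.zpowers z ≤ ZJ 𝒞 (P : Subgroup G) := by
        rw [Subgroup.zpowers_le]; exact hz
      have h4 : ⁅O, ZJ 𝒞 (P : Subgroup G)⁆ ≤ ZJ 𝒞 (P : Subgroup G) := by
        rw [Subgroup.commutator_comm]
        exact Subgroup.le_normalizer_iff_commutator_le_left.1 (hOP.trans hPZ)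
      have h5 : ⁅ZJ 𝒞 (P : Subgroup G), ZJ 𝒞 (P : Subgroup G)⁆ = ⊥ := by
        rw [Subgroup.commutator_eq_bot_iff_le_centralizer]
        intro x hx
        rw [Subgroup.mem_centralizer_iff]
        intro y hy
        exact 𝒞.comm _ (ZJ_pred _) y hy x hx
      calc ⁅⁅O, Subgroup.zpowers z⁆, Subgroup.zpowers z⁆
          ≤ ⁅⁅O, ZJ 𝒞 (P : Subgroup G)⁆, ZJ 𝒞 (P : Subgroup G)⁆ :=
            Subgroup.commutator_mono (Subgroup.commutator_mono le_rfl hzZ) hzZ
        _ ≤ ⁅ZJ 𝒞 (P : Subgroup G), ZJ 𝒞 (P : Subgroup G)⁆ := Subgroup.commutator_mono h4 le_rfl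
        _ = ⊥ := h5
    have h1 := hst O hOp z hq
    obtain ⟨L, hL⟩ : ∃ L, L = (Cfsg.pCore p (G ⧸ Subgroup.centralizer (O : Set G))).comap
        (QuotientGroup.mk' (Subgroup.centralizer (O : Set G))) := ⟨_, rfl⟩
    have hLn : L.Normal := by
      rw [hL]
      haveI := Cfsg.Agent.Lib.H1.pCore_normal p (G ⧸ Subgroup.centralizer (O : Set G))
      exact Subgroup.Normal.comap inferInstance _
    have hLp : IsPGroup p ↥L := by
      rw [hL]
      apply (Cfsg.Agent.Lib.H1.pCore_isPGroup p _).comap_of_ker_isPGroup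
      rw [QuotientGroup.ker_mk']
      apply hOp.to_le
      rw [hO]
      exact hc
    have hzL : z ∈ L := by rw [hL]; exact h1
    rw [hO]
    exact Cfsg.Agent.Lib.H1.le_pCore hLn hLp hzL
  have := thmA 𝒞 P hR hst O hOn hOp
  rwa [inf_eq_left.mpr hZO] at this

/-- The image of a Sylow subgroup under an automorphism is a conjugate. -/
theorem exists_cj_eq_map (P : Sylow p G) (φ : G ≃* G) :
    ∃ g : G, (P : Subgroup G).map φ.toMonoidHom = cj g (P : Subgroup G) := by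
  obtain ⟨Q, hQ⟩ : ∃ Q : Sylow p G, (Q : Subgroup G) = (P : Subgroup G).map φ.toMonoidHom :=
    ⟨P.mapSurjective (f := φ.toMonoidHom) φ.surjective, Sylow.coe_mapSurjective _ _⟩
  obtain ⟨g, hg⟩ := MulAction.exists_smul_eq G P Q
  refine ⟨g, ?_⟩
  rw [← hQ, ← hg]
  ext y
  rw [mem_cj_iff]
  exact sylow_mem_smul_iff g P y

/-- **The ZJ-Theorem** in abstract form. -/
theorem ZJ_characteristic (𝒞 : SubClass G) (P : Sylow p G)
    (hR : ∀ B : Subgroup G, B.Normal → IsPGroup p B → ⁅⁅B, B⁆, B⁆ = ⊥ →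
      (∃ U ∈ maxSet 𝒞 (P : Subgroup G), ⁅B, B⁆ ≤ U ∧ ¬ B ≤ U) →
      ∃ A ∈ maxSet 𝒞 (P : Subgroup G), ¬ B ≤ A ∧ B ≤ Subgroup.normalizer (A : Set G))
    (hc : Subgroup.centralizer (Cfsg.pCore p G : Set G) ≤ Cfsg.pCore p G)
    (hst : ∀ (V : Subgroup G) [V.Normal], IsPGroup p V → Cfsg.IsPStableOn p V) :
    (ZJ 𝒞 (P : Subgroup G)).Characteristic := by
  haveI hn := ZJ_normal 𝒞 P hR hc hst
  rw [Subgroup.characteristic_iff_map_le]
  intro φ
  rw [ZJ_map]
  obtain ⟨g, hg⟩ := exists_cj_eq_map P φ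
  rw [hg]
  change ZJ 𝒞 ((P : Subgroup G).map (MulAut.conj g).toMonoidHom) ≤ _
  rw [← ZJ_map]
  exact (cj_eq_of_normal _ g).le

end thmA

end Cfsg.Agent.Lib.H4.ZJ
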