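import Mathlib
import Cfsg.Prelude.Def_PLocal
import Cfsg.Agent.Lib.H4.ZJ

/-!
The two instances of the abstract ZJ-Theorem: all abelian subgroups, and elementary abelian
`p`-subgroups (helper4).
-/

set_option autoImplicit false

namespace Cfsg.Agent.Lib.H4.ZJ

variable {G : Type*} [Group G]

theorem comm_sup {X Y : Subgroup G} (hX : ∀ x ∈ X, ∀ y ∈ X, x * y = y * x)
    (hY : ∀ x ∈ Y, ∀ y ∈ Y, x * y = y * x) (hXY : ∀ x ∈ X, ∀ y ∈ Y, x * y = y * x) :
    ∀ x ∈ X ⊔ Y, ∀ y ∈ X ⊔ Y, x * y = y * x := by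
  have key : X ⊔ Y ≤ Subgroup.centralizer ((X ⊔ Y : Subgroup G) : Set G) := by
    apply sup_le
    · intro x hx
      rw [Subgroup.mem_centralizer_iff]
      have : X ⊔ Y ≤ Subgroup.centralizer ({x} : Set G) := by
        apply sup_le
        · intro w hw
          rw [Subgroup.mem_centralizer_iff]
          intro z hz
          rw [Set.mem_singleton_iff] at hz
          subst hz
          exact hX z hx w hw
        · intro w hw
          rw [Subgroup.mem_centralizer_iff]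
          intro z hz
          rw [Set.mem_singleton_iff] at hz
          subst hz
          exact hXY z hx w hw
      intro w hw
      exact ((Subgroup.mem_centralizer_iff.mp (this hw)) x rfl).symm
    · intro x hx
      rw [Subgroup.mem_centralizer_iff]
      have : X ⊔ Y ≤ Subgroup.centralizer ({x} : Set G) := by
        apply sup_le
        · intro w hw
          rw [Subgroup.mem_centralizer_iff]
          intro z hz
          rw [Set.mem_singleton_iff] at hz
          subst hz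
          exact (hXY w hw z hx).symm
        · intro w hw
          rw [Subgroup.mem_centralizer_iff]
          intro z hz
          rw [Set.mem_singleton_iff] at hz
          subst hz
          exact hY z hx w hw
      intro w hw
      exact ((Subgroup.mem_centralizer_iff.mp (this hw)) x rfl).symm
  intro x hx y hy
  exact ((Subgroup.mem_centralizer_iff.mp (key hy)) x hx)

theorem pow_eq_one_sup {p : ℕ} {X Y : Subgroup G} (hX : ∀ x ∈ X, x ^ p = 1)
    (hY : ∀ x ∈ Y, x ^ p = 1) (hXY : ∀ x ∈ X, ∀ y ∈ Y, x * y = y * x) :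
    ∀ x ∈ X ⊔ Y, x ^ p = 1 := by
  intro x hx
  have hnorm : Y ≤ Subgroup.normalizer (X : Set G) := by
    intro y hy
    rw [Subgroup.mem_normalizer_iff]
    intro h
    have e : ∀ h ∈ X, y * h * y⁻¹ = h := fun h hh => by
      rw [← hXY h hh y hy, mul_inv_cancel_right]
    constructor
    · intro hh; rw [e h hh]; exact hh
    · intro hh
      have h1 : y⁻¹ * (y * h * y⁻¹) * y ∈ X := by
        have e2 : y⁻¹ * (y * h * y⁻¹) * y = y * h * y⁻¹ := by
          have := hXY _ hh y hy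
          calc y⁻¹ * (y * h * y⁻¹) * y = y⁻¹ * ((y * h * y⁻¹) * y) := by group
            _ = y⁻¹ * (y * (y * h * y⁻¹)) := by rw [this]
            _ = y * h * y⁻¹ := by group
        rw [e2]; exact hh
      have e3 : y⁻¹ * (y * h * y⁻¹) * y = h := by group
      rwa [e3] at h1
  obtain ⟨a, ha, b, hb, rfl⟩ : ∃ a ∈ X, ∃ b ∈ Y, a * b = x := by
    rw [← SetLike.mem_coe, Subgroup.coe_mul_of_right_le_normalizer_left X Y hnorm] at hx
    obtain ⟨a, ha, b, hb, rfl⟩ := hx
    exact ⟨a, ha, b, hb, rfl⟩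
  rw [(show Commute a b from hXY a ha b hb).mul_pow, hX a ha, hY b hb, one_mul]

/-- The class of all abelian subgroups. -/
def abClass (G : Type*) [Group G] : SubClass G where
  pred A := ∀ x ∈ A, ∀ y ∈ A, x * y = y * x
  bot := by
    intro x hx y hy
    rw [Subgroup.mem_bot] at hx hy
    rw [hx, hy]
  map := by
    rintro φ A hA _ ⟨x, hx, rfl⟩ _ ⟨y, hy, rfl⟩
    simp only [MulEquiv.coe_toMonoidHom]
    rw [← map_mul, ← map_mul, hA x hx y hy]
  comm := fun _ h => h
  sup := fun _ _ hX hY hXY => comm_sup hX hY hXY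
  mono := fun _ _ hA hBA x hx y hy => hA x (hBA hx) y (hBA hy)

/-- The class of elementary abelian `p`-subgroups. -/
def eaClass (p : ℕ) (G : Type*) [Group G] : SubClass G where
  pred A := (∀ x ∈ A, ∀ y ∈ A, x * y = y * x) ∧ ∀ a ∈ A, a ^ p = 1
  bot := by
    constructor
    · intro x hx y hy
      rw [Subgroup.mem_bot] at hx hy
      rw [hx, hy]
    · intro a ha
      rw [Subgroup.mem_bot] at ha
      rw [ha, one_pow]
  map := by
    rintro φ A ⟨hA, hA2⟩
    constructor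
    · rintro _ ⟨x, hx, rfl⟩ _ ⟨y, hy, rfl⟩
      simp only [MulEquiv.coe_toMonoidHom]
      rw [← map_mul, ← map_mul, hA x hx y hy]
    · rintro _ ⟨x, hx, rfl⟩
      simp only [MulEquiv.coe_toMonoidHom]
      rw [← map_pow, hA2 x hx, map_one]
  comm := fun _ h => h.1
  sup := fun _ _ hX hY hXY => ⟨comm_sup hX.1 hY.1 hXY, pow_eq_one_sup hX.2 hY.2 hXY⟩
  mono := fun _ _ hA hBA => ⟨fun x hx y hy => hA.1 x (hBA hx) y (hBA hy), fun a ha => hA.2 a (hBA ha)⟩


/-! ### Comparison with the definitions of the statements -/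

theorem isMulCommutative_iff {X : Type*} [Group X] (H : Subgroup X) :
    IsMulCommutative H ↔ ∀ x ∈ H, ∀ y ∈ H, x * y = y * x := by
  constructor
  · intro h x hx y hy
    exact congrArg Subtype.val (h.is_comm.comm ⟨x, hx⟩ ⟨y, hy⟩)
  · intro h
    exact ⟨⟨fun a b => Subtype.ext (h a a.2 b b.2)⟩⟩

theorem comm_map_iff {X Y : Type*} [Group X] [Group Y] (f : X →* Y) (hf : Function.Injective f)
    (H : Subgroup X) :
    (∀ x ∈ H.map f, ∀ y ∈ H.map f, x * y = y * x) ↔ ∀ x ∈ H, ∀ y ∈ H, x * y = y * x := by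
  constructor
  · intro h x hx y hy
    apply hf
    rw [map_mul, map_mul]
    exact h _ ⟨x, hx, rfl⟩ _ ⟨y, hy, rfl⟩
  · rintro h _ ⟨x, hx, rfl⟩ _ ⟨y, hy, rfl⟩
    rw [← map_mul, ← map_mul, h x hx y hy]

theorem pow_map_iff {X Y : Type*} [Group X] [Group Y] (f : X →* Y) (hf : Function.Injective f)
    (H : Subgroup X) (p : ℕ) :
    (∀ x ∈ H.map f, x ^ p = 1) ↔ ∀ x ∈ H, x ^ p = 1 := by
  constructor
  · intro h x hx
    apply hf
    rw [map_pow, map_one]
    exact h _ ⟨x, hx, rfl⟩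
  · rintro h _ ⟨x, hx, rfl⟩
    rw [← map_pow, h x hx, map_one]

theorem maxSet_abClass (Q : Subgroup G) :
    maxSet (abClass G) Q =
      (fun A : Subgroup ↥Q => A.map Q.subtype) '' Cfsg.maxAbelianSubgroups ↥Q := by
  ext A
  constructor
  · rintro ⟨hAQ, hAp, hAmax⟩
    have hmap : (A.subgroupOf Q).map Q.subtype = A := Subgroup.map_subgroupOf_eq_of_le hAQ
    refine ⟨A.subgroupOf Q, ⟨?_, ?_⟩, hmap⟩
    · rw [isMulCommutative_iff, ← comm_map_iff Q.subtype Q.subtype_injective, hmap]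
      exact hAp
    · intro B₀ hB₀
      have h1 : (abClass G).pred (B₀.map Q.subtype) := by
        show ∀ x ∈ B₀.map Q.subtype, ∀ y ∈ B₀.map Q.subtype, x * y = y * x
        rw [comm_map_iff Q.subtype Q.subtype_injective]
        exact (isMulCommutative_iff B₀).mp hB₀
      have h2 := hAmax _ (Subgroup.map_subtype_le B₀) h1
      rw [Subgroup.card_map_of_injective Q.subtype_injective] at h2
      have hc1 : Nat.card ((A.subgroupOf Q).map Q.subtype) = Nat.card (A.subgroupOf Q) :=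
        Subgroup.card_map_of_injective Q.subtype_injective
      rw [← hc1, hmap]
      exact h2
  · rintro ⟨A₀, ⟨hA₀c, hA₀max⟩, rfl⟩
    refine ⟨Subgroup.map_subtype_le A₀, ?_, ?_⟩
    · show ∀ x ∈ A₀.map Q.subtype, ∀ y ∈ A₀.map Q.subtype, x * y = y * x
      rw [comm_map_iff Q.subtype Q.subtype_injective]
      exact (isMulCommutative_iff A₀).mp hA₀c
    · intro B hBQ hBp
      have hmap : (B.subgroupOf Q).map Q.subtype = B := Subgroup.map_subgroupOf_eq_of_le hBQ
      have h1 : IsMulCommutative (B.subgroupOf Q) := by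
        rw [isMulCommutative_iff, ← comm_map_iff Q.subtype Q.subtype_injective, hmap]
        exact hBp
      have h2 := hA₀max _ h1
      have hc1 : Nat.card ((B.subgroupOf Q).map Q.subtype) = Nat.card (B.subgroupOf Q) :=
        Subgroup.card_map_of_injective Q.subtype_injective
      rw [← hc1, hmap] at h2
      rw [Subgroup.card_map_of_injective Q.subtype_injective]
      exact h2

theorem maxSet_eaClass (p : ℕ) (Q : Subgroup G) :
    maxSet (eaClass p G) Q =
      (fun A : Subgroup ↥Q => A.map Q.subtype) '' Cfsg.maxElementaryAbelianSubgroups p ↥Q := by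
  have key : ∀ A₀ : Subgroup ↥Q, Cfsg.IsElementaryAbelian p A₀ ↔
      (eaClass p G).pred (A₀.map Q.subtype) := by
    intro A₀
    show (IsMulCommutative A₀ ∧ ∀ a ∈ A₀, a ^ p = 1) ↔
      ((∀ x ∈ A₀.map Q.subtype, ∀ y ∈ A₀.map Q.subtype, x * y = y * x) ∧
        ∀ a ∈ A₀.map Q.subtype, a ^ p = 1)
    rw [comm_map_iff Q.subtype Q.subtype_injective, pow_map_iff Q.subtype Q.subtype_injective,
      isMulCommutative_iff]
  ext A
  constructor
  · rintro ⟨hAQ, hAp, hAmax⟩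
    have hmap : (A.subgroupOf Q).map Q.subtype = A := Subgroup.map_subgroupOf_eq_of_le hAQ
    refine ⟨A.subgroupOf Q, ⟨?_, ?_⟩, hmap⟩
    · rw [key, hmap]
      exact hAp
    · intro B₀ hB₀
      have h1 : (eaClass p G).pred (B₀.map Q.subtype) := (key B₀).mp hB₀
      have h2 := hAmax _ (Subgroup.map_subtype_le B₀) h1
      rw [Subgroup.card_map_of_injective Q.subtype_injective] at h2
      have hc1 : Nat.card ((A.subgroupOf Q).map Q.subtype) = Nat.card (A.subgroupOf Q) :=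
        Subgroup.card_map_of_injective Q.subtype_injective
      rw [← hc1, hmap]
      exact h2
  · rintro ⟨A₀, ⟨hA₀c, hA₀max⟩, rfl⟩
    refine ⟨Subgroup.map_subtype_le A₀, (key A₀).mp hA₀c, ?_⟩
    intro B hBQ hBp
    have hmap : (B.subgroupOf Q).map Q.subtype = B := Subgroup.map_subgroupOf_eq_of_le hBQ
    have h1 : Cfsg.IsElementaryAbelian p (B.subgroupOf Q) := by
      rw [key, hmap]
      exact hBp
    have h2 := hA₀max _ h1
    have hc1 : Nat.card ((B.subgroupOf Q).map Q.subtype) = Nat.card (B.subgroupOf Q) :=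
      Subgroup.card_map_of_injective Q.subtype_injective
    rw [← hc1, hmap] at h2
    rw [Subgroup.card_map_of_injective Q.subtype_injective]
    exact h2

theorem J_abClass (Q : Subgroup G) : J (abClass G) Q = Cfsg.thompsonSubgroupAOf Q := by
  unfold J Cfsg.thompsonSubgroupAOf Cfsg.thompsonSubgroupA
  rw [maxSet_abClass, sSup_image, (Subgroup.gc_map_comap Q.subtype).l_sSup]

theorem J_eaClass (p : ℕ) (Q : Subgroup G) :
    J (eaClass p G) Q = Cfsg.thompsonSubgroupOf p Q := by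
  unfold J Cfsg.thompsonSubgroupOf Cfsg.thompsonSubgroup
  rw [maxSet_eaClass, sSup_image, (Subgroup.gc_map_comap Q.subtype).l_sSup]

theorem comm_zpowers (x : G) :
    ∀ a ∈ Subgroup.zpowers x, ∀ b ∈ Subgroup.zpowers x, a * b = b * a := by
  intro a ha b hb
  obtain ⟨m, rfl⟩ := Subgroup.mem_zpowers_iff.mp ha
  obtain ⟨n, rfl⟩ := Subgroup.mem_zpowers_iff.mp hb
  exact (Commute.zpow_zpow_self x m n).eq

theorem ZJ_abClass (Q : Subgroup G) : ZJ (abClass G) Q = Cfsg.centerThompsonAOf Q := by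
  unfold ZJ Cfsg.centerThompsonAOf
  rw [J_abClass]
  have : {x | x ∈ Cfsg.thompsonSubgroupAOf Q ∧
      x ∈ Subgroup.centralizer (Cfsg.thompsonSubgroupAOf Q : Set G) ∧
      (abClass G).pred (Subgroup.zpowers x)} =
      ((Cfsg.thompsonSubgroupAOf Q ⊓
        Subgroup.centralizer (Cfsg.thompsonSubgroupAOf Q : Set G) : Subgroup G) : Set G) := by
    ext x
    simp only [Set.mem_ofPred_eq, SetLike.mem_coe, Subgroup.mem_inf]
    constructor
    · rintro ⟨h1, h2, _⟩; exact ⟨h1, h2⟩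
    · rintro ⟨h1, h2⟩; exact ⟨h1, h2, comm_zpowers x⟩
  rw [this, Subgroup.closure_eq]

theorem ZJ_eaClass (p : ℕ) (Q : Subgroup G) :
    ZJ (eaClass p G) Q = (Cfsg.omegaCenterThompson p ↥Q).map Q.subtype := by
  unfold ZJ Cfsg.omegaCenterThompson Cfsg.omegaOne
  rw [J_eaClass, MonoidHom.map_closure]
  congr 1
  unfold Cfsg.thompsonSubgroupOf
  ext x
  simp only [Set.mem_ofPred_eq, Set.mem_image, Subgroup.mem_inf]
  constructor
  · rintro ⟨⟨x₀, hx₀, rfl⟩, h2, h3⟩
    refine ⟨x₀, ⟨⟨hx₀, ?_⟩, ?_⟩, rfl⟩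
    · rw [Subgroup.mem_centralizer_iff]
      intro y₀ hy₀
      apply Subtype.ext
      exact (Subgroup.mem_centralizer_iff.mp h2) _ ⟨y₀, hy₀, rfl⟩
    · apply Subtype.ext
      have := h3.2 _ (Subgroup.mem_zpowers (Q.subtype x₀))
      simpa using this
  · rintro ⟨x₀, ⟨⟨hx₀, hx₀c⟩, hx₀p⟩, rfl⟩
    refine ⟨⟨x₀, hx₀, rfl⟩, ?_, comm_zpowers _, ?_⟩
    · rw [Subgroup.mem_centralizer_iff]
      rintro _ ⟨y₀, hy₀, rfl⟩
      have := (Subgroup.mem_centralizer_iff.mp hx₀c) y₀ hy₀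
      exact congrArg Subtype.val this
    · intro a ha
      obtain ⟨m, rfl⟩ := Subgroup.mem_zpowers_iff.mp ha
      have hxp : (Q.subtype x₀) ^ p = 1 := by rw [← map_pow, hx₀p, map_one]
      rw [← zpow_natCast, ← zpow_mul, mul_comm, zpow_mul, zpow_natCast, hxp, one_zpow]

theorem maxSet_abClass_top (S : Type*) [Group S] :
    maxSet (abClass S) ⊤ = Cfsg.maxAbelianSubgroups S := by
  ext A
  constructor
  · rintro ⟨_, h1, h2⟩
    exact ⟨(isMulCommutative_iff A).mpr h1, fun B hB => h2 B le_top ((isMulCommutative_iff B).mp hB)⟩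
  · rintro ⟨h1, h2⟩
    exact ⟨le_top, (isMulCommutative_iff A).mp h1,
      fun B _ hB => h2 B ((isMulCommutative_iff B).mpr hB)⟩

theorem maxSet_eaClass_top (p : ℕ) (S : Type*) [Group S] :
    maxSet (eaClass p S) ⊤ = Cfsg.maxElementaryAbelianSubgroups p S := by
  ext A
  constructor
  · rintro ⟨_, h1, h2⟩
    exact ⟨⟨(isMulCommutative_iff A).mpr h1.1, h1.2⟩,
      fun B hB => h2 B le_top ⟨(isMulCommutative_iff B).mp hB.1, hB.2⟩⟩
  · rintro ⟨h1, h2⟩
    exact ⟨le_top, ⟨(isMulCommutative_iff A).mp h1.1, h1.2⟩,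
      fun B _ hB => h2 B ⟨(isMulCommutative_iff B).mpr hB.1, hB.2⟩⟩

/-- Largest abelian subgroups of `⊤`, seen in the group, are those of the group. -/
theorem image_top_maxAbelian (S : Type*) [Group S] :
    (fun A : Subgroup ↥(⊤ : Subgroup S) => A.map (⊤ : Subgroup S).subtype) ''
      Cfsg.maxAbelianSubgroups ↥(⊤ : Subgroup S) = Cfsg.maxAbelianSubgroups S := by
  rw [← maxSet_abClass, maxSet_abClass_top]

theorem image_top_maxElementaryAbelian (p : ℕ) (S : Type*) [Group S] :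
    (fun A : Subgroup ↥(⊤ : Subgroup S) => A.map (⊤ : Subgroup S).subtype) ''
      Cfsg.maxElementaryAbelianSubgroups p ↥(⊤ : Subgroup S) =
        Cfsg.maxElementaryAbelianSubgroups p S := by
  rw [← maxSet_eaClass, maxSet_eaClass_top]

/-- Transport of a replacement property from the Sylow subgroup as a group to `G`. -/
theorem hR_of_type_replacement [Finite G] {p : ℕ} [Fact p.Prime] (𝒞 : SubClass G) (P : Sylow p G)
    (𝒜 : Set (Subgroup ↥(P : Subgroup G)))
    (hmax : maxSet 𝒞 (P : Subgroup G) =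
      (fun A : Subgroup ↥(P : Subgroup G) => A.map (P : Subgroup G).subtype) '' 𝒜)
    (hrep : ∀ (B₀ : Subgroup ↥(P : Subgroup G)) [B₀.Normal], ⁅⁅B₀, B₀⁆, B₀⁆ = ⊥ →
      (∃ U ∈ 𝒜, ⁅B₀, B₀⁆ ≤ U ∧ ¬ B₀ ≤ U) →
      ∃ A ∈ 𝒜, ⁅B₀, B₀⁆ ≤ A ∧ ¬ B₀ ≤ A ∧
        B₀ ≤ Subgroup.normalizer (A : Set ↥(P : Subgroup G))) :
    ∀ B : Subgroup G, B.Normal → IsPGroup p B → ⁅⁅B, B⁆, B⁆ = ⊥ →
      (∃ U ∈ maxSet 𝒞 (P : Subgroup G), ⁅B, B⁆ ≤ U ∧ ¬ B ≤ U) →
      ∃ A ∈ maxSet 𝒞 (P : Subgroup G), ¬ B ≤ A ∧ B ≤ Subgroup.normalizer (A : Set G) := by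
  intro B hBn hBp h3 ⟨U, hU, hBU1, hBU2⟩
  haveI := hBn
  have hBP : B ≤ (P : Subgroup G) := hBp.le_sylow_of_normal P
  obtain ⟨B₀, hB₀⟩ : ∃ B₀, B₀ = B.subgroupOf (P : Subgroup G) := ⟨_, rfl⟩
  have hB₀map : B₀.map (P : Subgroup G).subtype = B :=
    hB₀ ▸ Subgroup.map_subgroupOf_eq_of_le hBP
  haveI hB₀n : B₀.Normal := hB₀ ▸ Subgroup.Normal.subgroupOf hBn _
  have hinj := (P : Subgroup G).subtype_injective
  have h3' : ⁅⁅B₀, B₀⁆, B₀⁆ = ⊥ := by
    apply (Subgroup.map_eq_bot_iff_of_injective _ hinj).mp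
    rw [Subgroup.map_commutator, Subgroup.map_commutator, hB₀map]
    exact h3
  rw [hmax] at hU
  obtain ⟨U₀, hU₀, rfl⟩ := hU
  have hex : ∃ U ∈ 𝒜, ⁅B₀, B₀⁆ ≤ U ∧ ¬ B₀ ≤ U := by
    refine ⟨U₀, hU₀, ?_, ?_⟩
    · rw [← Subgroup.map_le_map_iff_of_injective hinj, Subgroup.map_commutator, hB₀map]
      exact hBU1
    · rw [← Subgroup.map_le_map_iff_of_injective hinj, hB₀map]
      exact hBU2
  obtain ⟨A₀, hA₀, _, hA2, hA3⟩ := hrep B₀ h3' hex
  refine ⟨A₀.map (P : Subgroup G).subtype, ?_, ?_, ?_⟩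
  · rw [hmax]
    exact ⟨A₀, hA₀, rfl⟩
  · rw [← hB₀map, Subgroup.map_le_map_iff_of_injective hinj]
    exact hA2
  · intro b hb
    apply Cfsg.Agent.Lib.H15.mem_normalizer_of_cj_le
    rintro _ ⟨_, ⟨h₀, hh₀, rfl⟩, rfl⟩
    have hb₀ : (⟨b, hBP hb⟩ : ↥(P : Subgroup G)) ∈ B₀ := by
      rw [hB₀, Subgroup.mem_subgroupOf]
      exact hb
    have := (Subgroup.mem_normalizer_iff.mp (hA3 hb₀) h₀).mp hh₀
    exact ⟨_, this, rfl⟩

end Cfsg.Agent.Lib.H4.ZJ
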