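import Mathlib
import Cfsg.Agent.Lib.H4.ZJInst

/-!
Functoriality of the abstract `J` and `ZJ` under homomorphisms injective on the subgroup
(helper4).
-/

set_option autoImplicit false

namespace Cfsg.Agent.Lib.H4.ZJ

variable {G H : Type*} [Group G] [Group H]

theorem card_map_of_injOn {f : G →* H} {A : Subgroup G} (hf : Set.InjOn f (A : Set G)) :
    Nat.card (A.map f) = Nat.card A := by
  have h1 : Nat.card (A.map f) = ((A.map f : Subgroup H) : Set H).ncard :=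
    (Nat.card_coe_set_eq _)
  have h2 : Nat.card A = (A : Set G).ncard := (Nat.card_coe_set_eq _)
  rw [h1, h2, Subgroup.coe_map, hf.ncard_image]

theorem map_comap_inf_of_le (f : G →* H) (Q : Subgroup G) (B' : Subgroup H) (h : B' ≤ Q.map f) :
    (B'.comap f ⊓ Q).map f = B' := by
  apply le_antisymm
  · rintro _ ⟨x, hx, rfl⟩
    exact hx.1
  · intro y hy
    obtain ⟨q, hq, rfl⟩ := h hy
    exact ⟨q, ⟨hy, hq⟩, rfl⟩

section

variable (𝒞 : SubClass G) (𝒞' : SubClass H) (f : G →* H) (Q : Subgroup G)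
  (hf : Set.InjOn f (Q : Set G))
  (hcompat : ∀ A : Subgroup G, A ≤ Q → (𝒞.pred A ↔ 𝒞'.pred (A.map f)))

include hf hcompat

theorem maxSet_map_of_injOn :
    maxSet 𝒞' (Q.map f) = (fun A : Subgroup G => A.map f) '' maxSet 𝒞 Q := by
  have hinj : ∀ A : Subgroup G, A ≤ Q → Nat.card (A.map f) = Nat.card A := fun A hA =>
    card_map_of_injOn (hf.mono hA)
  ext A'
  constructor
  · rintro ⟨hA'Q, hA'p, hA'max⟩
    have hmap := map_comap_inf_of_le f Q A' hA'Q
    refine ⟨A'.comap f ⊓ Q, ⟨inf_le_right, ?_, ?_⟩, hmap⟩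
    · rw [hcompat _ inf_le_right, hmap]; exact hA'p
    · intro B hBQ hBp
      have h1 := hA'max (B.map f) (Subgroup.map_mono hBQ) ((hcompat B hBQ).mp hBp)
      rw [hinj B hBQ] at h1
      rw [← hinj _ inf_le_right, hmap]
      exact h1
  · rintro ⟨A, ⟨hAQ, hAp, hAmax⟩, rfl⟩
    refine ⟨Subgroup.map_mono hAQ, (hcompat A hAQ).mp hAp, ?_⟩
    intro B' hB'Q hB'p
    have hmap := map_comap_inf_of_le f Q B' hB'Q
    have h1 := hAmax (B'.comap f ⊓ Q) inf_le_right
      (by rw [hcompat _ inf_le_right, hmap]; exact hB'p)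
    rw [← hinj _ inf_le_right, hmap] at h1
    rw [hinj A hAQ]
    exact h1

theorem J_map_of_injOn : J 𝒞' (Q.map f) = (J 𝒞 Q).map f := by
  unfold J
  rw [maxSet_map_of_injOn 𝒞 𝒞' f Q hf hcompat, sSup_image, (Subgroup.gc_map_comap f).l_sSup]

theorem ZJ_map_of_injOn : ZJ 𝒞' (Q.map f) = (ZJ 𝒞 Q).map f := by
  have hJ := J_map_of_injOn 𝒞 𝒞' f Q hf hcompat
  unfold ZJ
  rw [MonoidHom.map_closure, hJ]
  congr 1
  ext y
  simp only [Set.mem_ofPred_eq, Set.mem_image]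
  constructor
  · rintro ⟨⟨x, hx, rfl⟩, h2, h3⟩
    have hxQ : x ∈ Q := J_le Q hx
    refine ⟨x, ⟨hx, ?_, ?_⟩, rfl⟩
    · rw [Subgroup.mem_centralizer_iff]
      intro j hj
      apply hf (Q.mul_mem (J_le Q hj) hxQ) (Q.mul_mem hxQ (J_le Q hj))
      rw [map_mul, map_mul]
      exact (Subgroup.mem_centralizer_iff.mp h2) _ ⟨j, hj, rfl⟩
    · rw [hcompat _ (by rw [Subgroup.zpowers_le]; exact hxQ), MonoidHom.map_zpowers]
      exact h3
  · rintro ⟨x, ⟨hx, h2, h3⟩, rfl⟩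
    have hxQ : x ∈ Q := J_le Q hx
    refine ⟨⟨x, hx, rfl⟩, ?_, ?_⟩
    · rw [Subgroup.mem_centralizer_iff]
      rintro _ ⟨j, hj, rfl⟩
      rw [← map_mul, ← map_mul, (Subgroup.mem_centralizer_iff.mp h2) j hj]
    · rw [← MonoidHom.map_zpowers, ← hcompat _ (by rw [Subgroup.zpowers_le]; exact hxQ)]
      exact h3

end

theorem abClass_compat (f : G →* H) (Q : Subgroup G) (hf : Set.InjOn f (Q : Set G)) :
    ∀ A : Subgroup G, A ≤ Q → ((abClass G).pred A ↔ (abClass H).pred (A.map f)) := by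
  intro A hAQ
  constructor
  · rintro h _ ⟨x, hx, rfl⟩ _ ⟨y, hy, rfl⟩
    rw [← map_mul, ← map_mul, h x hx y hy]
  · intro h x hx y hy
    apply hf (Q.mul_mem (hAQ hx) (hAQ hy)) (Q.mul_mem (hAQ hy) (hAQ hx))
    rw [map_mul, map_mul]
    exact h _ ⟨x, hx, rfl⟩ _ ⟨y, hy, rfl⟩

theorem eaClass_compat (p : ℕ) (f : G →* H) (Q : Subgroup G) (hf : Set.InjOn f (Q : Set G)) :
    ∀ A : Subgroup G, A ≤ Q → ((eaClass p G).pred A ↔ (eaClass p H).pred (A.map f)) := by
  intro A hAQ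
  constructor
  · rintro ⟨h1, h2⟩
    refine ⟨((abClass_compat f Q hf A hAQ).mp h1), ?_⟩
    rintro _ ⟨x, hx, rfl⟩
    rw [← map_pow, h2 x hx, map_one]
  · rintro ⟨h1, h2⟩
    refine ⟨((abClass_compat f Q hf A hAQ).mpr h1), ?_⟩
    intro x hx
    apply hf (Q.pow_mem (hAQ hx) p) Q.one_mem
    rw [map_pow, map_one]
    exact h2 _ ⟨x, hx, rfl⟩

/-- `Z(J(P))` (abelian version) commutes with homomorphisms injective on `P`. -/
theorem centerThompsonAOf_map (f : G →* H) (Q : Subgroup G) (hf : Set.InjOn f (Q : Set G)) :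
    Cfsg.centerThompsonAOf (Q.map f) = (Cfsg.centerThompsonAOf Q).map f := by
  rw [← ZJ_abClass, ← ZJ_abClass]
  exact ZJ_map_of_injOn (abClass G) (abClass H) f Q hf (abClass_compat f Q hf)

/-- `Ω₁(Z(J(P)))` (elementary abelian version), seen in the ambient group, commutes with
homomorphisms injective on `P`. -/
theorem omegaCenterThompson_map (p : ℕ) (f : G →* H) (Q : Subgroup G)
    (hf : Set.InjOn f (Q : Set G)) :
    (Cfsg.omegaCenterThompson p ↥(Q.map f)).map (Q.map f).subtype =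
      ((Cfsg.omegaCenterThompson p ↥Q).map Q.subtype).map f := by
  rw [← ZJ_eaClass, ← ZJ_eaClass]
  exact ZJ_map_of_injOn (eaClass p G) (eaClass p H) f Q hf (eaClass_compat p f Q hf)

end Cfsg.Agent.Lib.H4.ZJ
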