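import Mathlib
import Cfsg.Prelude.Def_Local

/-!
# `p`-solvability passes to subgroups (and along injective homomorphisms)
-/

set_option autoImplicit false

namespace Cfsg.Agent.Lib.H4.PSolvSub

variable {G : Type*} [Group G]

/-- For `A` normal and `M ≤ B`, `|M : A ∩ M|` divides `|B : A ∩ B|`. -/
theorem relIndex_dvd_relIndex_of_le_right (A M B : Subgroup G) [A.Normal] (h : M ≤ B) :
    A.relIndex M ∣ A.relIndex B := by
  have h1 : (A.subgroupOf B).relIndex (M.subgroupOf B) = A.relIndex M :=
    Subgroup.relIndex_subgroupOf h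
  have h2 : (A.subgroupOf B).relIndex (M.subgroupOf B) ∣ (A.subgroupOf B).index :=
    Subgroup.relIndex_dvd_index_of_normal _ _
  rw [h1] at h2
  exact h2

/-- `p`-solvability pulls back along injective homomorphisms. -/
theorem isPSolvable_of_injective {p : ℕ} [Fact p.Prime] {H : Type*} [Group H] (f : H →* G)
    (hf : Function.Injective f) (hG : Cfsg.IsPSolvable p G) : Cfsg.IsPSolvable p H := by
  obtain ⟨n, K, h0, hlast, hmono, hnorm, hstep⟩ := hG
  refine ⟨n, fun i => (K i).comap f, ?_, ?_, ?_, ?_, ?_⟩
  · show (K 0).comap f = ⊥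
    rw [h0]
    exact (MonoidHom.ker_eq_bot_iff f).2 hf
  · show (K (Fin.last n)).comap f = ⊤
    rw [hlast]; rfl
  · intro i j hij
    exact Subgroup.comap_mono (hmono hij)
  · intro i
    have := hnorm i
    exact Subgroup.Normal.comap (hnorm i) f
  · intro i
    have := hnorm i.castSucc
    have hdvd : ((K i.castSucc).comap f).relIndex ((K i.succ).comap f) ∣
        (K i.castSucc).relIndex (K i.succ) := by
      rw [Subgroup.relIndex_comap]
      apply relIndex_dvd_relIndex_of_le_right
      rw [Subgroup.map_comap_eq]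
      exact inf_le_right
    rcases hstep i with ⟨m, hm⟩ | hc
    · left
      rw [hm] at hdvd
      obtain ⟨k, _, hk⟩ := (Nat.dvd_prime_pow (Fact.out : p.Prime)).1 hdvd
      exact ⟨k, hk⟩
    · right
      exact Nat.Coprime.coprime_dvd_left hdvd hc

theorem isPSolvable_subgroup {p : ℕ} [Fact p.Prime] (hG : Cfsg.IsPSolvable p G) (H : Subgroup G) :
    Cfsg.IsPSolvable p ↥H :=
  isPSolvable_of_injective H.subtype H.subtype_injective hG

end Cfsg.Agent.Lib.H4.PSolvSub
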