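import Mathlib
import Cfsg.Prelude.Def_Blocks
import Cfsg.Agent.Lib.H23.BlockDefectZero
import Cfsg.Agent.Lib.H23.BlockPrincipal
import Cfsg.Agent.Lib.H23.BurnsidePQ
import Cfsg.Agent.Lib.L0.PRegCongP
import Cfsg.Agent.S0910

/-!
# The Brauer-Tuan argument for simple groups of order `p^a q^b r` (helper4)

* `vanish_of_not_dvd`: an irreducible character with `r ∤ |G| / χ(1)` vanishes at every element
  of order divisible by `r`.
* `no_mixed_order`: a non-abelian simple group of order `p^a q^b r` has no element whose order is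
  divisible by `p` and by `r`.  Proof: weak block orthogonality in the principal `p`-block for the
  pair `(1, y)`; the characters of degree divisible by `r` vanish at `y`, a non-principal character
  of the principal `p`-block cannot have `p`-power degree (S0910), so all the remaining terms are
  multiples of `q`, and `1 + q * (algebraic integer) = 0` is absurd.
* `centralizer_sylow_eq`: hence `C_G(S) = S` for a Sylow `r`-subgroup `S`.
-/

set_option autoImplicit false

namespace Cfsg.Agent.Lib.H4.BT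

open Cfsg
open scoped ComplexConjugate

section fin

variable {G : Type*} [Group G] [Fintype G]

theorem vanish_of_not_dvd {r : ℕ} [Fact r.Prime] (χ : IrrCharacter G)
    (h : ¬ r ∣ Nat.card G / charDegree (χ : G → ℂ)) (g : G) (hg : r ∣ orderOf g) :
    (χ : G → ℂ) g = 0 := by
  obtain ⟨M, hM⟩ := Cfsg.Agent.Lib.L0.PRegP.exists_isPModular (Fact.out : r.Prime)
  have hB := (Cfsg.Agent.Lib.H23.not_dvd_iff_blockOf_eq_singleton hM χ).1 h
  have h1 := Cfsg.Agent.Lib.H23.blockCoeff_eq_zero_of_dvd_orderOf hM χ g hg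
  rw [hB, Cfsg.Agent.Lib.H23.blockCoeff_singleton] at h1
  have hG0 : Nat.card G ≠ 0 := Nat.card_pos.ne'
  have hG : (Nat.card G : ℂ)⁻¹ ≠ 0 := inv_ne_zero (Nat.cast_ne_zero.2 hG0)
  have h2 := (mul_eq_zero.1 h1).resolve_left hG
  have h3 := (mul_eq_zero.1 h2).resolve_left (Cfsg.Agent.Lib.H24.irr_one_ne_zero χ)
  have := congrArg conj h3
  simpa using this

end fin

section main

variable {G : Type*} [Group G] [Finite G]

/-- The closure property used to sum up the terms. -/
private theorem sum_mul_integral {ι : Type*} (s : Finset ι) (F : ι → ℂ) (q : ℂ)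
    (h : ∀ i ∈ s, ∃ z : ℂ, IsIntegral ℤ z ∧ F i = q * z) :
    ∃ z : ℂ, IsIntegral ℤ z ∧ ∑ i ∈ s, F i = q * z := by
  classical
  induction s using Finset.induction_on with
  | empty => exact ⟨0, isIntegral_zero, by simp⟩
  | insert i s hi ih =>
    obtain ⟨z1, hz1, h1⟩ := h i (Finset.mem_insert_self i s)
    obtain ⟨z2, hz2, h2⟩ := ih (fun j hj => h j (Finset.mem_insert_of_mem hj))
    refine ⟨z1 + z2, hz1.add hz2, ?_⟩
    rw [Finset.sum_insert hi, h1, h2]
    ring

theorem no_mixed_order [IsSimpleGroup G] (hna : ∃ a b : G, a * b ≠ b * a)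
    (p q r a b : ℕ) (hp : p.Prime) (hq : q.Prime) (hr : r.Prime) (hpq : p ≠ q) (hpr : p ≠ r)
    (hqr : q ≠ r) (hcard : Nat.card G = p ^ a * q ^ b * r) (y : G) (hpy : p ∣ orderOf y)
    (hry : r ∣ orderOf y) : False := by
  classical
  haveI := Fintype.ofFinite G
  haveI := Fintype.ofFinite (IrrCharacter G)
  haveI : Fact p.Prime := ⟨hp⟩
  haveI : Fact r.Prime := ⟨hr⟩
  obtain ⟨M, hM⟩ := Cfsg.Agent.Lib.L0.PRegP.exists_isPModular hp
  haveI hPr := Cfsg.Agent.Lib.H23.isPrime_of_isPModular hM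
  set T : IrrCharacter G := Cfsg.Agent.Lib.H24.trivialIrr G with hT
  have hx1 : ¬ p ∣ orderOf (1 : G) := by
    rw [orderOf_one]
    exact fun h => hp.one_lt.ne' (Nat.dvd_one.mp h)
  have hwo := Cfsg.Agent.Lib.H23.weak_block_orthogonality hM T 1 y hx1 hpy
  set F : IrrCharacter G → ℂ := fun χ => if χ ∈ blockOf M (T : G → ℂ) then
      (χ : G → ℂ) 1 * conj ((χ : G → ℂ) y) else 0 with hF
  have hFT : F T = 1 := by
    have hmem : T ∈ blockOf M (T : G → ℂ) := Cfsg.Agent.Lib.H23.mem_blockOf_self T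
    simp only [hF, if_pos hmem]
    simp [hT]
  have hrpq : ¬ r ∣ p ^ a * q ^ b := by
    intro h
    rcases (Nat.Prime.dvd_mul hr).1 h with h | h
    · exact hpr ((Nat.prime_dvd_prime_iff_eq hr hp).1 (hr.dvd_of_dvd_pow h)).symm
    · exact hqr ((Nat.prime_dvd_prime_iff_eq hr hq).1 (hr.dvd_of_dvd_pow h)).symm
  have hterm : ∀ χ ∈ (Finset.univ : Finset (IrrCharacter G)).erase T,
      ∃ z : ℂ, IsIntegral ℤ z ∧ F χ = (q : ℂ) * z := by
    intro χ hχ
    have hχT : χ ≠ T := (Finset.mem_erase.1 hχ).1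
    by_cases hmem : χ ∈ blockOf M (T : G → ℂ)
    swap
    · exact ⟨0, isIntegral_zero, by simp [hF, if_neg hmem]⟩
    simp only [hF, if_pos hmem]
    have hdvd := Cfsg.Agent.Lib.H23.charDegree_dvd_card (χ : G → ℂ) χ.2
    have hdpos := Cfsg.Agent.Lib.H23.charDegree_pos (χ : G → ℂ) χ.2
    have hχ1 := Cfsg.Agent.Lib.H23.apply_one_eq_charDegree (χ : G → ℂ) χ.2
    set d := charDegree (χ : G → ℂ) with hd
    have hint : IsIntegral ℤ ((χ : G → ℂ) y) :=
      Cfsg.Agent.Lib.L0.isCharacter_isIntegral (Cfsg.Agent.Lib.L0.isCharacter_of_irr χ.2) y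
    have hint' : IsIntegral ℤ (conj ((χ : G → ℂ) y)) := by
      have := hint.map (Complex.conjAe.toAlgHom.restrictScalars ℤ)
      simpa using this
    by_cases hrd : r ∣ d
    · -- defect zero for `r`: the character vanishes at `y`
      have hnot : ¬ r ∣ Nat.card G / d := by
        intro h2
        obtain ⟨d', hd'⟩ := hrd
        obtain ⟨e, he⟩ := h2
        have hmul : Nat.card G = d * (Nat.card G / d) := (Nat.mul_div_cancel' hdvd).symm
        rw [he, hd', hcard] at hmul
        apply hrpq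
        have : p ^ a * q ^ b * r = (r * (d' * e)) * r := by rw [hmul]; ring
        have h3 := Nat.eq_of_mul_eq_mul_right hr.pos this
        exact ⟨d' * e, h3⟩
      have hv := vanish_of_not_dvd (r := r) χ hnot y hry
      exact ⟨0, isIntegral_zero, by rw [hv]; simp⟩
    · -- `d ∣ p^a q^b`
      have hcop : Nat.Coprime d r := (Nat.Coprime.symm ((Nat.Prime.coprime_iff_not_dvd hr).2 hrd))
      have hd2 : d ∣ p ^ a * q ^ b := by
        rw [hcard] at hdvd
        exact hcop.dvd_of_dvd_mul_right hdvd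
      by_cases hqd : q ∣ d
      · obtain ⟨d'', hd''⟩ := hqd
        refine ⟨(d'' : ℂ) * conj ((χ : G → ℂ) y), ?_, ?_⟩
        · exact (isIntegral_algebraMap (R := ℤ) (A := ℂ) (x := (d'' : ℤ))).mul hint' |> fun h => by
            simpa using h
        · rw [hχ1, hd'']
          push_cast
          ring
      · exfalso
        have hcop2 : Nat.Coprime d (q ^ b) :=
          Nat.Coprime.pow_right b (Nat.Coprime.symm ((Nat.Prime.coprime_iff_not_dvd hq).2 hqd))
        have hd3 : d ∣ p ^ a := hcop2.dvd_of_dvd_mul_right hd2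
        obtain ⟨k, _, hk⟩ := (Nat.dvd_prime_pow hp).1 hd3
        have hdeg : (χ : G → ℂ) 1 = (p : ℂ) ^ k := by
          rw [hχ1, hk]; push_cast; rfl
        have hpb : χ ∈ principalBlock M G := hmem
        have htriv := Cfsg.Agent.S0910.result p M hM hna χ hpb k hdeg
        apply hχT
        apply Subtype.ext
        rw [htriv]
        rfl
  obtain ⟨Z, hZ, hsum⟩ := sum_mul_integral _ F (q : ℂ) hterm
  have htot : F T + ∑ χ ∈ (Finset.univ : Finset (IrrCharacter G)).erase T, F χ = 0 := by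
    rw [Finset.add_sum_erase _ _ (Finset.mem_univ T)]
    exact hwo
  rw [hFT, hsum] at htot
  have hq0 : (q : ℂ) ≠ 0 := Nat.cast_ne_zero.2 hq.ne_zero
  have hZeq : Z = (0 - 1 : ℂ) / (q : ℂ) := by
    rw [eq_div_iff hq0]
    linear_combination htot
  rw [hZeq] at hZ
  exact Cfsg.Agent.Lib.H23.not_isIntegral_neg_one_div_prime hq hZ

end main

end Cfsg.Agent.Lib.H4.BT
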