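import Mathlib
import Cfsg.Agent.Lib.H10.S4415Defs

/-!
# S4415, BAD block, piece (B1) (helper4)

In the frame `LinCtx / QData / Bad` of `Lib/H10/S4415Defs`: every `R<b>`-normal abelian
`2`-subgroup `A` of `R` acts on `W` by scalars `±1`; hence all its elements are involutions, and
`A ≤ {1, z}` as soon as some `z` of `R<b>` acts as `-1` on `W`.

Also exported: `Nsq_eq` (`(1 + b + b²) w` is a multiple of `u = e₁ + e₂ + e₃` for `w ∈ W`),
`u_ne_zero`, `u_mem`, and `comm_fix_line` (an element of `R<b>` commuting with `b` maps `u` to a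
multiple of `u`).
-/

set_option autoImplicit false

namespace Cfsg.Agent.Lib.H4.S4415B1

open Cfsg Cfsg.Agent.Lib.H10.S4415

variable {S E : Type*} [Group S] [AddCommGroup E] [Module (ZMod 3) E]
variable {ρ : Representation (ZMod 3) S E} {R : Subgroup S} {b : S} {W : Submodule (ZMod 3) E}
variable {x₁ x₂ x₃ : S} {e₁ e₂ e₃ : E}

theorem three_eq_zero (w : E) : w + w + w = 0 := by
  have h : ((1 : ZMod 3) + 1 + 1) • w = 0 := by
    have h3 : ((1 : ZMod 3) + 1 + 1) = 0 := by decide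
    rw [h3, zero_smul]
  simpa [add_smul] using h

theorem rho_mul_apply (ρ : Representation (ZMod 3) S E) (g h : S) (v : E) :
    ρ (g * h) v = ρ g (ρ h v) := by
  rw [map_mul]; rfl

theorem rho_one_apply (ρ : Representation (ZMod 3) S E) (v : E) : ρ 1 v = v := by
  rw [map_one]; rfl

theorem R_le_RB (R : Subgroup S) (b : S) : R ≤ RB R b := le_sup_left

theorem b_mem_RB (R : Subgroup S) (b : S) : b ∈ RB R b :=
  Subgroup.mem_sup_right (Subgroup.mem_zpowers b)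

/-- `u = e₁ + e₂ + e₃` lies in `W`. -/
theorem u_mem (hQ : QData ρ R b W x₁ x₂ x₃ e₁ e₂ e₃) : e₁ + e₂ + e₃ ∈ W :=
  W.add_mem (W.add_mem hQ.e₁W hQ.e₂W) hQ.e₃W

/-- `u = e₁ + e₂ + e₃ ≠ 0`. -/
theorem u_ne_zero (hQ : QData ρ R b W x₁ x₂ x₃ e₁ e₂ e₃) : e₁ + e₂ + e₃ ≠ 0 := by
  intro hu
  have h1 : ρ x₁ (e₁ + e₂ + e₃) = 0 := by rw [hu, map_zero]
  rw [map_add, map_add, hQ.x₁e₁, hQ.x₁e₂, hQ.x₁e₃] at h1
  have h2 : e₁ + e₁ = 0 := by
    have : (e₁ + e₂ + e₃) + (e₁ + -e₂ + -e₃) = 0 := by rw [hu, h1, add_zero]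
    have h' : (e₁ + e₂ + e₃) + (e₁ + -e₂ + -e₃) = e₁ + e₁ := by abel
    rw [h'] at this; exact this
  have h3 := three_eq_zero e₁
  rw [h2, zero_add] at h3
  exact hQ.e₁ne h3

/-- `(1 + b + b²) w` is a multiple of `u` for every `w ∈ W`. -/
theorem Nsq_eq (hQ : QData ρ R b W x₁ x₂ x₃ e₁ e₂ e₃) (w : E) (hw : w ∈ W) :
    ∃ c : ZMod 3, ρ b (ρ b w) + ρ b w + w = c • (e₁ + e₂ + e₃) := by
  obtain ⟨w₀, _, c₁, c₂, c₃, hwd, _, _, _, hbw₀⟩ := hQ.decomp w hw
  refine ⟨c₁ + c₂ + c₃, ?_⟩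
  have h0 := three_eq_zero w₀
  rw [hwd]
  simp only [map_add, map_smul, hQ.be₁, hQ.be₂, hQ.be₃, hbw₀]
  have : w₀ + c₁ • e₃ + c₂ • e₁ + c₃ • e₂ + (w₀ + c₁ • e₂ + c₂ • e₃ + c₃ • e₁) +
      (w₀ + c₁ • e₁ + c₂ • e₂ + c₃ • e₃) =
      (w₀ + w₀ + w₀) + (c₁ + c₂ + c₃) • (e₁ + e₂ + e₃) := by
    simp only [add_smul, smul_add]; abel
  rw [this, h0, zero_add]

/-- `u = (1 + b + b²) e₁`. -/
theorem u_eq (hQ : QData ρ R b W x₁ x₂ x₃ e₁ e₂ e₃) :
    ρ b (ρ b e₁) + ρ b e₁ + e₁ = e₁ + e₂ + e₃ := by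
  rw [hQ.be₁, hQ.be₂]; abel

/-- An element of `R<b>` commuting with `b` maps `u` to a multiple of `u`. -/
theorem comm_fix_line (hL : LinCtx ρ R b W) (hQ : QData ρ R b W x₁ x₂ x₃ e₁ e₂ e₃)
    (g : S) (hg : g ∈ RB R b) (hcomm : b * g = g * b) :
    ∃ c : ZMod 3, ρ g (e₁ + e₂ + e₃) = c • (e₁ + e₂ + e₃) := by
  have hsw : ∀ v : E, ρ g (ρ b v) = ρ b (ρ g v) := by
    intro v; rw [← rho_mul_apply, ← rho_mul_apply, hcomm]
  obtain ⟨c, hc⟩ := Nsq_eq hQ (ρ g e₁) (hL.W_inv g hg e₁ hQ.e₁W)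
  refine ⟨c, ?_⟩
  rw [← u_eq hQ, map_add, map_add, hsw, hsw, hc, u_eq hQ]

/-- The subgroup `Ω₁(A)` of an abelian subgroup. -/
def omega1 (A : Subgroup S) (hAab : ∀ a ∈ A, ∀ a' ∈ A, a * a' = a' * a) : Subgroup S where
  carrier := {a | a ∈ A ∧ a * a = 1}
  mul_mem' := by
    rintro a c ⟨ha, ha2⟩ ⟨hc, hc2⟩
    refine ⟨A.mul_mem ha hc, ?_⟩
    have hcomm := hAab a ha c hc
    calc a * c * (a * c) = a * (c * a) * c := by group
      _ = a * (a * c) * c := by rw [hcomm]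
      _ = (a * a) * (c * c) := by group
      _ = 1 := by rw [ha2, hc2, one_mul]
  one_mem' := ⟨A.one_mem, one_mul 1⟩
  inv_mem' := by
    rintro a ⟨ha, ha2⟩
    refine ⟨A.inv_mem ha, ?_⟩
    have h : a⁻¹ = a := inv_eq_of_mul_eq_one_left ha2
    rw [h]; exact ha2

/-- Involutions of an `R<b>`-normal abelian subgroup of `R` act as `±1` (BAD case). -/
theorem omega1_pm (hbad : Bad ρ R b W) (A : Subgroup S) (hAR : A ≤ R)
    (hAn : NormBy (RB R b) A) (hAab : ∀ a ∈ A, ∀ a' ∈ A, a * a' = a' * a)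
    (a : S) (ha : a ∈ A) (ha2 : a * a = 1) :
    (∀ w ∈ W, ρ a w = w) ∨ (∀ w ∈ W, ρ a w = -w) := by
  refine hbad (omega1 A hAab) ?_ ?_ ?_ a ⟨ha, ha2⟩
  · intro x hx; exact hAR hx.1
  · intro g hg x hx
    refine ⟨hAn g hg x hx.1, ?_⟩
    calc g * x * g⁻¹ * (g * x * g⁻¹) = g * (x * x) * g⁻¹ := by group
      _ = 1 := by rw [hx.2]; group
  · refine ⟨⟨⟨fun x y => ?_⟩⟩, ?_⟩
    · apply Subtype.ext; exact hAab x.1 x.2.1 y.1 y.2.1
    · intro x hx; rw [pow_two]; exact hx.2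

/-- **(B1)**: in the BAD case every `R<b>`-normal abelian `2`-subgroup of `R` acts on `W` by
scalars `±1`. -/
theorem b1 (hL : LinCtx ρ R b W) (hQ : QData ρ R b W x₁ x₂ x₃ e₁ e₂ e₃)
    (hbad : Bad ρ R b W) (A : Subgroup S) (hAR : A ≤ R) (hAn : NormBy (RB R b) A)
    (hAab : ∀ a ∈ A, ∀ a' ∈ A, a * a' = a' * a) (hA2 : IsPGroup 2 A) :
    ∀ a ∈ A, (∀ w ∈ W, ρ a w = w) ∨ (∀ w ∈ W, ρ a w = -w) := by
  intro a ha
  by_contra hcon
  have hRB : R ≤ RB R b := R_le_RB R b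
  have hbRB : b ∈ RB R b := b_mem_RB R b
  have hpm := omega1_pm hbad A hAR hAn hAab
  -- an involution of `A` acts as `-1`
  have hinv : ∀ c ∈ A, c * c = 1 → c ≠ 1 → ∀ w ∈ W, ρ c w = -w := by
    intro c hc hc2 hc1
    rcases hpm c hc hc2 with h | h
    · exact absurd (hL.faithful c (hRB (hAR hc)) h) hc1
    · exact h
  -- two elements acting as `-1` with the first an involution are equal
  have heq : ∀ c ∈ A, ∀ d ∈ A, d * d = 1 → (∀ w ∈ W, ρ c w = -w) → (∀ w ∈ W, ρ d w = -w) →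
      c = d := by
    intro c hc d hd hd2 hcw hdw
    have h1 : c * d = 1 := by
      refine hL.faithful (c * d) (hRB (hAR (A.mul_mem hc hd))) ?_
      intro w hw
      rw [rho_mul_apply, hdw w hw, map_neg, hcw w hw, neg_neg]
    have h2 : d⁻¹ = d := inv_eq_of_mul_eq_one_left hd2
    rw [← h2]; exact eq_inv_of_mul_eq_one_left h1
  -- minimal exponent
  obtain ⟨k₀, hk₀, hmin⟩ : ∃ k₀ : ℕ, a ^ (2 ^ k₀) = 1 ∧ ∀ m < k₀, a ^ (2 ^ m) ≠ 1 := by
    classical
    have hex : ∃ k : ℕ, a ^ (2 ^ k) = 1 := by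
      obtain ⟨k, hk⟩ := hA2 ⟨a, ha⟩
      exact ⟨k, by simpa using congrArg Subtype.val hk⟩
    exact ⟨Nat.find hex, Nat.find_spec hex, fun m hm => Nat.find_min hex hm⟩
  rcases k₀ with _ | _ | k₁
  · -- a = 1
    apply hcon; left
    intro w _
    have : a = 1 := by simpa using hk₀
    rw [this, rho_one_apply]
  · -- a * a = 1
    apply hcon
    refine hpm a ha ?_
    have : a ^ 2 = 1 := by simpa using hk₀
    rw [← pow_two]; exact this
  · -- order at least 4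
    set i : S := a ^ (2 ^ k₁) with hi
    have hiA : i ∈ A := A.pow_mem ha _
    have hii : i * i = a ^ (2 ^ (k₁ + 1)) := by
      rw [hi, ← pow_add]; congr 1; ring
    set j : S := i * i with hj
    have hjA : j ∈ A := A.mul_mem hiA hiA
    have hj1 : j ≠ 1 := by
      rw [hii]; exact hmin (k₁ + 1) (by omega)
    have hjj : j * j = 1 := by
      rw [hii, ← pow_add]
      have : 2 ^ (k₁ + 1) + 2 ^ (k₁ + 1) = 2 ^ (k₁ + 1 + 1) := by ring
      rw [this]; exact hk₀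
    have hjw : ∀ w ∈ W, ρ j w = -w := hinv j hjA hjj hj1
    have hi4 : i ^ 4 = 1 := by
      have : i ^ 4 = j * j := by
        rw [hj]; simp only [pow_succ, pow_zero, one_mul, mul_assoc]
      rw [this, hjj]
    -- `b` centralises `j`
    have hbj : b * j * b⁻¹ = j := by
      have hcA : b * j * b⁻¹ ∈ A := hAn b hbRB j hjA
      have hc2 : b * j * b⁻¹ * (b * j * b⁻¹) = 1 := by
        calc b * j * b⁻¹ * (b * j * b⁻¹) = b * (j * j) * b⁻¹ := by group
          _ = 1 := by rw [hjj]; group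
      have hc1 : b * j * b⁻¹ ≠ 1 := by
        intro h
        apply hj1
        have : j = b⁻¹ * (b * j * b⁻¹) * b := by group
        rw [this, h]; group
      exact heq _ hcA j hjA hjj (hinv _ hcA hc2 hc1) hjw
    -- `b` centralises `i`
    have hbi : b * i * b⁻¹ = i := by
      have hcA : b * i * b⁻¹ ∈ A := hAn b hbRB i hiA
      have hcc : b * i * b⁻¹ * (b * i * b⁻¹) = j := by
        calc b * i * b⁻¹ * (b * i * b⁻¹) = b * (i * i) * b⁻¹ := by group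
          _ = j := hbj
      have hdA : b * i * b⁻¹ * i⁻¹ ∈ A := A.mul_mem hcA (A.inv_mem hiA)
      have hd2 : b * i * b⁻¹ * i⁻¹ * (b * i * b⁻¹ * i⁻¹) = 1 := by
        have hc := hAab i⁻¹ (A.inv_mem hiA) (b * i * b⁻¹) hcA
        calc b * i * b⁻¹ * i⁻¹ * (b * i * b⁻¹ * i⁻¹)
            = b * i * b⁻¹ * (i⁻¹ * (b * i * b⁻¹)) * i⁻¹ := by group
          _ = b * i * b⁻¹ * ((b * i * b⁻¹) * i⁻¹) * i⁻¹ := by rw [hc]
          _ = (b * i * b⁻¹ * (b * i * b⁻¹)) * (i * i)⁻¹ := by group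
          _ = 1 := by rw [hcc, ← hj, mul_inv_cancel]
      by_cases hd1 : b * i * b⁻¹ * i⁻¹ = 1
      · exact mul_inv_eq_one.mp hd1
      · exfalso
        have hdj : b * i * b⁻¹ * i⁻¹ = j :=
          heq _ hdA j hjA hjj (hinv _ hdA hd2 hd1) hjw
        have hci : b * i * b⁻¹ = i ^ 3 := by
          have : b * i * b⁻¹ = (b * i * b⁻¹ * i⁻¹) * i := by group
          rw [this, hdj, hj, pow_succ, pow_two]
        have hb3 : b ^ 3 = 1 := by rw [← hL.b_ord]; exact pow_orderOf_eq_one b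
        have h3 : b * (b * (b * i * b⁻¹) * b⁻¹) * b⁻¹ = i := by
          have : b * (b * (b * i * b⁻¹) * b⁻¹) * b⁻¹ = b ^ 3 * i * (b ^ 3)⁻¹ := by
            simp only [pow_succ, pow_zero, one_mul, mul_inv_rev, mul_assoc]
          rw [this, hb3, one_mul, inv_one, mul_one]
        rw [hci, ← conj_pow, hci, ← pow_mul, ← conj_pow, hci, ← pow_mul] at h3
        have h27 : i ^ (3 * (3 * 3)) = i ^ 3 := by
          have : 3 * (3 * 3) = 4 * 6 + 3 := by norm_num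
          rw [this, pow_add, pow_mul, hi4, one_pow, one_mul]
        rw [h27] at h3
        apply hj1
        have : i ^ 3 = j * i := by rw [hj, pow_succ, pow_two]
        rw [this] at h3
        exact mul_eq_right.mp h3
    -- the contradiction on the line `F_3 u`
    have hiRB : i ∈ RB R b := hRB (hAR hiA)
    have hcomm : b * i = i * b := by
      have : b * i = (b * i * b⁻¹) * b := by group
      rw [this, hbi]
    obtain ⟨c, hc⟩ := comm_fix_line hL hQ i hiRB hcomm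
    have hu := u_mem hQ
    have h1 : ρ i (ρ i (e₁ + e₂ + e₃)) = -(e₁ + e₂ + e₃) := by
      rw [← rho_mul_apply]; exact hjw _ hu
    rw [hc, map_smul, hc, smul_smul] at h1
    have h2 : (c * c + 1) • (e₁ + e₂ + e₃) = 0 := by
      rw [add_smul, one_smul, h1, neg_add_cancel]
    rcases smul_eq_zero.mp h2 with h | h
    · have key : ∀ c : ZMod 3, c * c + 1 ≠ 0 := by decide
      exact key c h
    · exact u_ne_zero hQ h

/-- every element of such an `A` is an involution (or `1`). -/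
theorem b1_sq (hL : LinCtx ρ R b W) (hQ : QData ρ R b W x₁ x₂ x₃ e₁ e₂ e₃)
    (hbad : Bad ρ R b W) (A : Subgroup S) (hAR : A ≤ R) (hAn : NormBy (RB R b) A)
    (hAab : ∀ a ∈ A, ∀ a' ∈ A, a * a' = a' * a) (hA2 : IsPGroup 2 A) :
    ∀ a ∈ A, a * a = 1 := by
  intro a ha
  refine hL.faithful (a * a) (R_le_RB R b (hAR (A.mul_mem ha ha))) ?_
  intro w hw
  rcases b1 hL hQ hbad A hAR hAn hAab hA2 a ha with h | h
  · rw [rho_mul_apply, h w hw, h w hw]
  · rw [rho_mul_apply, h w hw, map_neg, h w hw, neg_neg]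

/-- `A ≤ {1, z}` for any `z ∈ R<b>` acting as `-1` on `W`. -/
theorem b1_le (hL : LinCtx ρ R b W) (hQ : QData ρ R b W x₁ x₂ x₃ e₁ e₂ e₃)
    (hbad : Bad ρ R b W) (A : Subgroup S) (hAR : A ≤ R) (hAn : NormBy (RB R b) A)
    (hAab : ∀ a ∈ A, ∀ a' ∈ A, a * a' = a' * a) (hA2 : IsPGroup 2 A)
    (z : S) (hz : z ∈ RB R b) (hzw : ∀ w ∈ W, ρ z w = -w) :
    ∀ a ∈ A, a = 1 ∨ a = z := by
  intro a ha
  have haRB : a ∈ RB R b := R_le_RB R b (hAR ha)
  rcases b1 hL hQ hbad A hAR hAn hAab hA2 a ha with h | h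
  · left; exact hL.faithful a haRB h
  · right
    have h1 : a * z⁻¹ = 1 := by
      refine hL.faithful (a * z⁻¹) ((RB R b).mul_mem haRB ((RB R b).inv_mem hz)) ?_
      intro w hw
      have hzi : ρ z⁻¹ w = -w := by
        have : ρ z⁻¹ (ρ z w) = w := by rw [← rho_mul_apply, inv_mul_cancel, rho_one_apply]
        rw [hzw w hw, map_neg] at this
        exact neg_eq_iff_eq_neg.mp this
      rw [rho_mul_apply, hzi, map_neg, h w hw, neg_neg]
    exact mul_inv_eq_one.mp h1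

end Cfsg.Agent.Lib.H4.S4415B1
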