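import Mathlib
import Cfsg.Agent.Lib.H10.S4415BadDefs
import Cfsg.Agent.Lib.H4.S4415B1

/-!
# S4415, BAD block: `B1Stmt` in the exact shape of the sub-cut (helper4)

`b1_stmt : B1Stmt`: the odd part of an `R<b>`-normal abelian subgroup of `R` is killed by
`OddTriv`, so the subgroup is a `2`-group and `S4415B1.b1` applies.
-/

set_option autoImplicit false

namespace Cfsg.Agent.Lib.H4.S4415B1

open Cfsg Cfsg.Agent.Lib.H10.S4415

variable {S : Type*} [Group S]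

/-- the odd part of an abelian subgroup -/
def oddPart (A : Subgroup S) (hAab : ∀ a ∈ A, ∀ a' ∈ A, a * a' = a' * a) : Subgroup S where
  carrier := {a | a ∈ A ∧ ∃ m : ℕ, Odd m ∧ a ^ m = 1}
  mul_mem' := by
    rintro a c ⟨ha, m, hm, ham⟩ ⟨hc, n, hn, hcn⟩
    refine ⟨A.mul_mem ha hc, m * n, hm.mul hn, ?_⟩
    have hcomm : Commute a c := hAab a ha c hc
    rw [hcomm.mul_pow, pow_mul, ham, one_pow, one_mul, mul_comm m n, pow_mul, hcn, one_pow]
  one_mem' := ⟨A.one_mem, 1, odd_one, pow_one 1⟩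
  inv_mem' := by
    rintro a ⟨ha, m, hm, ham⟩
    exact ⟨A.inv_mem ha, m, hm, by rw [inv_pow, ham, inv_one]⟩

theorem oddPart_odd [Finite S] (A : Subgroup S) (hAab : ∀ a ∈ A, ∀ a' ∈ A, a * a' = a' * a) :
    Odd (Nat.card (oddPart A hAab)) := by
  rw [← Nat.not_even_iff_odd]
  intro heven
  have : Fact (Nat.Prime 2) := ⟨Nat.prime_two⟩
  obtain ⟨x, hx⟩ := exists_prime_orderOf_dvd_card' (G := ↥(oddPart A hAab)) 2 heven.two_dvd
  obtain ⟨_, m, hm, hxm⟩ := x.2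
  have h1 : orderOf (x : S) = 2 := by rw [Subgroup.orderOf_coe]; exact hx
  have h2 : orderOf (x : S) ∣ m := orderOf_dvd_of_pow_eq_one hxm
  rw [h1] at h2
  exact (Nat.not_even_iff_odd.mpr hm) (even_iff_two_dvd.mpr h2)

/-- **(B1)** in the exact shape of the BAD sub-cut. -/
theorem b1_stmt : B1Stmt := by
  intro S _ _ E _ _ _ ρ R b W x₁ x₂ x₃ e₁ e₂ e₃ hL hQ hbad hodd A hAR hAn hAab
  refine b1 hL hQ hbad A hAR hAn hAab ?_
  -- `A` is a `2`-group
  have hM : oddPart A hAab = ⊥ := by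
    refine hodd (oddPart A hAab) (fun a ha => hAR ha.1) ?_ (oddPart_odd A hAab)
    intro g hg a ha
    obtain ⟨haA, m, hm, ham⟩ := ha
    exact ⟨hAn g hg a haA, m, hm, by rw [conj_pow, ham, mul_one, mul_inv_cancel]⟩
  intro a
  have hpos : orderOf (a : S) ≠ 0 := (orderOf_pos (a : S)).ne'
  obtain ⟨k, m, hm, hkm⟩ := Nat.exists_eq_two_pow_mul_odd hpos
  refine ⟨k, ?_⟩
  have hmem : (a : S) ^ (2 ^ k) ∈ oddPart A hAab := by
    refine ⟨A.pow_mem a.2 _, m, hm, ?_⟩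
    rw [← pow_mul, ← hkm, pow_orderOf_eq_one]
  rw [hM, Subgroup.mem_bot] at hmem
  apply Subtype.ext
  simpa using hmem

end Cfsg.Agent.Lib.H4.S4415B1
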