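import Mathlib
import Cfsg.Agent.Lib.H12.ClsI

/-!
# Definitions for the class number bounds of `SL_n(q)` (S2479; helper4)

Built on helper12's `Cls` library (tuple invariants `tupleOf` of the classes of `GL_n(q)`, the sets
`TSet F J n` of tuples of monic polynomials and their cardinalities `tnum`).
-/

set_option autoImplicit false
open Polynomial

namespace Cfsg.Agent.Lib.H4.SLK

open Cfsg.Agent.Lib.H12.Cls

universe u
variable {F : Type u} [Field F]

/-- signed constant term: for monic `g` the determinant of multiplication by `X` on `F[X]/(g)` -/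
noncomputable def sc (g : F[X]) : F := (-1) ^ g.natDegree * g.coeff 0

/-- the determinant attached to a tuple `(g_1, …, g_J)` : `∏ sc(g_j)^j` -/
noncomputable def Dt {J : ℕ} (g : Fin J → F[X]) : F := ∏ j : Fin J, sc (g j) ^ ((j : ℕ) + 1)

open Classical in
/-- the support of a tuple: the indices `j` with `g_j ≠ 1` -/
noncomputable def supp {J : ℕ} (g : Fin J → F[X]) : Finset (Fin J) :=
  Finset.univ.filter (fun j => g j ≠ 1)

theorem mem_supp {J : ℕ} (g : Fin J → F[X]) (j : Fin J) : j ∈ supp g ↔ g j ≠ 1 := by
  classical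
  unfold supp
  simp

/-- the gcd of the block sizes `j + 1`, `j` in the support -/
noncomputable def dg {J : ℕ} (g : Fin J → F[X]) : ℕ := (supp g).gcd (fun j => (j : ℕ) + 1)

/-- the bound for the number of `SL`-classes in the `GL`-class with tuple `g` -/
noncomputable def idx [Fintype F] {J : ℕ} (g : Fin J → F[X]) : ℕ :=
  Nat.gcd (Fintype.card F - 1) (dg g)

open Classical in
/-- the weight of a tuple in the bound for `k(SL_n(q))`: `idx g` if `Dt g = 1`, else `0` -/
noncomputable def wt [Fintype F] {J : ℕ} (g : Fin J → F[X]) : ℕ := if Dt g = 1 then idx g else 0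

theorem wt_of_eq [Fintype F] {J : ℕ} (g : Fin J → F[X]) (h : Dt g = 1) : wt g = idx g := by
  unfold wt
  rw [if_pos h]

theorem wt_of_ne [Fintype F] {J : ℕ} (g : Fin J → F[X]) (h : Dt g ≠ 1) : wt g = 0 := by
  unfold wt
  rw [if_neg h]

/-- rescaling the constant terms of the non-trivial entries of a tuple -/
noncomputable def scl {J : ℕ} (a : Fin J → Fˣ) (g : Fin J → F[X]) : Fin J → F[X] := by
  classical
  exact fun j => if g j = 1 then 1 else g j + C (((a j : F) - 1) * (g j).coeff 0)

theorem scl_apply {J : ℕ} (a : Fin J → Fˣ) (g : Fin J → F[X]) (j : Fin J) [Decidable (g j = 1)] :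
    scl a g j = if g j = 1 then 1 else g j + C (((a j : F) - 1) * (g j).coeff 0) := by
  unfold scl
  congr

/-- the character of the rescaling group attached to a tuple -/
noncomputable def chi {J : ℕ} (g : Fin J → F[X]) (a : Fin J → Fˣ) : Fˣ :=
  ∏ j ∈ supp g, a j ^ ((j : ℕ) + 1)

/-- determinant of multiplication by `p` on an `F[X]`-module, over `F` -/
noncomputable def nd (M : Type*) [AddCommGroup M] [Module F M] [Module F[X] M]
    [IsScalarTower F F[X] M] (p : F[X]) : F :=
  LinearMap.det ((LinearMap.lsmul F[X] M p).restrictScalars F)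

/-- the right-hand side of the Macdonald-type inequality `(q - 1) k(SL_n(q)) ≤ Rn (q - 1) n` -/
def Rn (Q n : ℕ) : ℕ :=
  tnum Q n n + ∑ m ∈ (Nat.divisors (Nat.gcd n Q)).erase 1, (m ^ 2 - 1) * tnum Q (n / m) (n / m)

noncomputable instance instFintypeTSet [Fintype F] (J n : ℕ) : Fintype (TSet F J n) :=
  @Fintype.ofFinite _ (finite_card_TSet J n).1

theorem card_TSet [Fintype F] (J n : ℕ) :
    Fintype.card (TSet F J n) = tnum (Fintype.card F - 1) J n := by
  rw [← Nat.card_eq_fintype_card]
  exact (finite_card_TSet J n).2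

end Cfsg.Agent.Lib.H4.SLK
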