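import Mathlib
import Cfsg.Agent.Lib.L0.DihedralSylow

/-!
# Dihedral Sylow 2-subgroups, part 1 (helper4): structure facts

For a subgroup `S ≃* DihedralGroup n` (`n ≥ 2`): a central involution lies in a cyclic subgroup of index two,
and for every cyclic subgroup `A` of index two the elements of `S` outside `A` are involutions inverting `A`.
Also: a cyclic group has at most one involution.
-/

set_option autoImplicit false
set_option linter.style.haveILetI false

namespace Cfsg.Agent.Lib.H4.DihBSW

open DihedralGroup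

variable {G : Type*} [Group G]

/-- in a cyclic group, two elements of order 2 coincide -/
theorem eq_of_orderOf_two_of_isCyclic {A : Type*} [Group A] [Finite A] [IsCyclic A] {x y : A}
    (hx : orderOf x = 2) (hy : orderOf y = 2) : x = y := by
  classical
  haveI := Fintype.ofFinite A
  by_contra hne
  have h := IsCyclic.card_pow_eq_one_le (α := A) (n := 2) (by norm_num)
  have hx1 : x ≠ 1 := by
    rintro rfl
    rw [orderOf_one] at hx
    omega
  have hy1 : y ≠ 1 := by
    rintro rfl
    rw [orderOf_one] at hy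
    omega
  have h3 : ({1, x, y} : Finset A) ⊆ Finset.univ.filter (fun a => a ^ 2 = 1) := by
    intro a ha
    simp only [Finset.mem_insert, Finset.mem_singleton] at ha
    simp only [Finset.mem_filter, Finset.mem_univ, true_and]
    rcases ha with rfl | rfl | rfl
    · simp
    · rw [← hx]; exact pow_orderOf_eq_one _
    · rw [← hy]; exact pow_orderOf_eq_one _
  have h4 : ({1, x, y} : Finset A).card = 3 := by
    rw [Finset.card_insert_of_notMem, Finset.card_insert_of_notMem, Finset.card_singleton]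
    · simpa using hne
    · simp only [Finset.mem_insert, Finset.mem_singleton, not_or]
      exact ⟨fun h => hx1 h.symm, fun h => hy1 h.symm⟩
  have := Finset.card_le_card h3
  omega

/-- the same for a cyclic subgroup -/
theorem eq_of_orderOf_two_of_mem [Finite G] {A : Subgroup G} (hA : IsCyclic A) {x y : G}
    (hxA : x ∈ A) (hyA : y ∈ A) (hx : orderOf x = 2) (hy : orderOf y = 2) : x = y := by
  have h := eq_of_orderOf_two_of_isCyclic (A := A) (x := ⟨x, hxA⟩) (y := ⟨y, hyA⟩)
    (by rw [Subgroup.orderOf_mk]; exact hx) (by rw [Subgroup.orderOf_mk]; exact hy)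
  exact congrArg Subtype.val h

theorem dih2_comm : ∀ a b : DihedralGroup 2, a * b = b * a := by decide

theorem dih2_sq : ∀ a : DihedralGroup 2, a * a = 1 := by decide

theorem card_of_relIndex_two [Finite G] {A S : Subgroup G} (hAS : A ≤ S) (hAi : A.relIndex S = 2) :
    Nat.card A * 2 = Nat.card S := by
  have h := Subgroup.relIndex_mul_relIndex (⊥ : Subgroup G) A S bot_le hAS
  rwa [Subgroup.relIndex_bot_left, Subgroup.relIndex_bot_left, hAi] at h

/-- the elements outside a cyclic subgroup of index two of a dihedral group are involutions inverting it -/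
theorem outside_of_dihedral [Finite G] (S : Subgroup G) (n : ℕ) (hn : 2 ≤ n) (e : S ≃* DihedralGroup n)
    (A : Subgroup G) (hAS : A ≤ S) (hAc : IsCyclic A) (hAi : A.relIndex S = 2) :
    ∀ x ∈ S, x ∉ A → x * x = 1 ∧ ∀ a ∈ A, x * a * x⁻¹ = a⁻¹ := by
  haveI : NeZero n := ⟨by omega⟩
  have hcardS : Nat.card S = 2 * n := by
    rw [Nat.card_congr e.toEquiv, DihedralGroup.nat_card]
  have hcardA : Nat.card A = n := by
    have := card_of_relIndex_two hAS hAi
    omega
  rcases Nat.lt_or_ge n 3 with hn3 | hn3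
  · -- the four-group
    obtain rfl : n = 2 := by omega
    intro x hx _
    have hsq : ∀ y (hy : y ∈ S), y * y = 1 := by
      intro y hy
      have h1 : (⟨y, hy⟩ : S) * ⟨y, hy⟩ = 1 := by
        apply e.injective
        rw [map_mul, map_one]
        exact dih2_sq _
      exact congrArg Subtype.val h1
    have hcomm : ∀ y (hy : y ∈ S) z (hz : z ∈ S), y * z = z * y := by
      intro y hy z hz
      have h1 : (⟨y, hy⟩ : S) * ⟨z, hz⟩ = ⟨z, hz⟩ * ⟨y, hy⟩ := by
        apply e.injective
        rw [map_mul, map_mul]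
        exact dih2_comm _ _
      exact congrArg Subtype.val h1
    refine ⟨hsq x hx, fun a ha => ?_⟩
    rw [hcomm x hx a (hAS ha), mul_assoc, mul_inv_cancel, mul_one]
    exact eq_inv_of_mul_eq_one_left (hsq a (hAS ha))
  · obtain ⟨R₀, hR₀S, hR₀c, hsq, hprod, hmem⟩ :=
      Cfsg.Agent.Lib.L0.exists_dihedral_rotation_subgroup S n e
    -- `A = R₀`
    obtain ⟨g₀, hg₀⟩ := hAc.exists_generator
    have hg₀ord : orderOf (g₀ : G) = n := by
      rw [← hcardA, Subgroup.orderOf_coe]
      exact orderOf_eq_card_of_forall_mem_zpowers hg₀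
    have hg₀R : (g₀ : G) ∈ R₀ := by
      by_contra hcon
      have h1 := hsq _ (hAS g₀.2) hcon
      have h2 : orderOf (g₀ : G) ∣ 2 := orderOf_dvd_of_pow_eq_one (by rw [pow_two]; exact h1)
      have := Nat.le_of_dvd (by norm_num) h2
      omega
    have hAR : A ≤ R₀ := by
      intro a ha
      obtain ⟨k, hk⟩ := Subgroup.mem_zpowers_iff.1 (hg₀ ⟨a, ha⟩)
      have : a = (g₀ : G) ^ k := by
        have := congrArg Subtype.val hk
        simpa using this.symm
      rw [this]
      exact R₀.zpow_mem hg₀R k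
    have hRA : ∀ y ∈ S, y ∈ R₀ → y ∈ A := by
      intro y hyS hyR
      by_contra hyA
      -- `A` has index two in `S`, and `R₀ ≠ S`
      obtain ⟨a, haS, haA, hall⟩ := Subgroup.relIndex_eq_two_iff_exists_notMem_and.1 hAi
      -- `sr 0` is outside `R₀`
      have hs0 : ((e.symm (sr 0) : S) : G) ∉ R₀ := by
        rw [hmem]
        rintro ⟨i, hi⟩
        rw [MulEquiv.apply_symm_apply] at hi
        cases hi
      have hs0A : ((e.symm (sr 0) : S) : G) ∉ A := fun h => hs0 (hAR h)
      -- `y * a ∈ A` and `s0 * a ∈ A`, so `y * s0⁻¹ ∈ A ⊆ R₀`, so `s0 ∈ R₀`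
      have h1 : y * a ∈ A := (hall y hyS).resolve_right hyA
      have h2 : ((e.symm (sr 0) : S) : G) * a ∈ A :=
        (hall _ (e.symm (sr 0)).2).resolve_right hs0A
      have h3 : y * ((e.symm (sr 0) : S) : G)⁻¹ ∈ A := by
        have := A.mul_mem h1 (A.inv_mem h2)
        rwa [mul_inv_rev, mul_assoc, mul_inv_cancel_left] at this
      have h4 : ((e.symm (sr 0) : S) : G)⁻¹ ∈ R₀ := by
        have := R₀.mul_mem (R₀.inv_mem hyR) (hAR h3)
        rwa [inv_mul_cancel_left] at this
      exact hs0 (by simpa using R₀.inv_mem h4)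
    intro x hx hxA
    have hxR : x ∉ R₀ := fun h => hxA (hRA x hx h)
    refine ⟨hsq x hx hxR, fun a ha => ?_⟩
    have hxe : ∃ i, e ⟨x, hx⟩ = sr i := by
      cases h : e ⟨x, hx⟩ with
      | r i => exact absurd ((hmem ⟨x, hx⟩).2 ⟨i, h⟩) hxR
      | sr i => exact ⟨i, rfl⟩
    obtain ⟨i, hi⟩ := hxe
    obtain ⟨j, hj⟩ := (hmem ⟨a, hAS ha⟩).1 (hAR ha)
    have h1 : (⟨x, hx⟩ : S) * ⟨a, hAS ha⟩ * (⟨x, hx⟩ : S)⁻¹ = (⟨a, hAS ha⟩ : S)⁻¹ := by
      apply e.injective
      rw [map_mul, map_mul, map_inv, map_inv, hi, hj, sr_mul_r, inv_sr, sr_mul_sr, inv_r]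
      congr 1
      ring
    exact congrArg Subtype.val h1

/-- a central involution of a dihedral group lies in a cyclic subgroup of index two -/
theorem exists_cyclic_of_dihedral [Finite G] (S : Subgroup G) (n : ℕ) (hn : 2 ≤ n)
    (e : S ≃* DihedralGroup n) (t : G) (htS : t ∈ S) (ht : orderOf t = 2)
    (htZ : ∀ s ∈ S, s * t = t * s) :
    ∃ A : Subgroup G, A ≤ S ∧ IsCyclic A ∧ A.relIndex S = 2 ∧ t ∈ A := by
  haveI : NeZero n := ⟨by omega⟩
  have hcardS : Nat.card S = 2 * n := by
    rw [Nat.card_congr e.toEquiv, DihedralGroup.nat_card]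
  rcases Nat.lt_or_ge n 3 with hn3 | hn3
  · obtain rfl : n = 2 := by omega
    refine ⟨Subgroup.zpowers t, ?_, inferInstance, ?_, Subgroup.mem_zpowers t⟩
    · rw [Subgroup.zpowers_le]; exact htS
    · have hle : Subgroup.zpowers t ≤ S := by rw [Subgroup.zpowers_le]; exact htS
      have h := Subgroup.relIndex_mul_relIndex (⊥ : Subgroup G) (Subgroup.zpowers t) S bot_le hle
      rw [Subgroup.relIndex_bot_left, Subgroup.relIndex_bot_left, hcardS, Nat.card_zpowers, ht] at h
      omega
  · obtain ⟨R₀, hR₀S, hR₀c, hsq, hprod, hmem⟩ :=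
      Cfsg.Agent.Lib.L0.exists_dihedral_rotation_subgroup S n e
    refine ⟨R₀, hR₀S, hR₀c, ?_, ?_⟩
    · -- index two
      rw [Subgroup.relIndex_eq_two_iff_exists_notMem_and]
      have hs0 : ((e.symm (sr 0) : S) : G) ∉ R₀ := by
        rw [hmem]
        rintro ⟨i, hi⟩
        rw [MulEquiv.apply_symm_apply] at hi
        cases hi
      refine ⟨_, (e.symm (sr 0)).2, hs0, fun b hb => ?_⟩
      by_cases hbR : b ∈ R₀
      · exact Or.inr hbR
      · left
        have := hprod b hb _ (e.symm (sr 0)).2 hbR hs0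
        have hinv : ((e.symm (sr 0) : S) : G)⁻¹ = ((e.symm (sr 0) : S) : G) := by
          have h1 := hsq _ (e.symm (sr 0)).2 hs0
          exact inv_eq_of_mul_eq_one_left h1
        rwa [hinv] at this
    · -- `t` is a rotation
      by_contra htR
      have hte : ∃ i, e ⟨t, htS⟩ = sr i := by
        cases h : e ⟨t, htS⟩ with
        | r i => exact absurd ((hmem ⟨t, htS⟩).2 ⟨i, h⟩) htR
        | sr i => exact ⟨i, rfl⟩
      obtain ⟨i, hi⟩ := hte
      have h1 := htZ _ (e.symm (r 1)).2
      have h2 : (e.symm (r 1) : S) * ⟨t, htS⟩ = ⟨t, htS⟩ * e.symm (r 1) := Subtype.ext h1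
      have h3 := congrArg e h2
      rw [map_mul, map_mul, MulEquiv.apply_symm_apply, hi, r_mul_sr, sr_mul_r] at h3
      have h4 : i - 1 = i + 1 := by
        injection h3
      have h5 : (2 : ZMod n) = 0 := by
        have : (i + 1) - (i - 1) = 0 := by rw [h4]; ring
        have h6 : (i + 1) - (i - 1) = (2 : ZMod n) := by ring
        rw [← h6]; exact this
      have h7 : ((2 : ℕ) : ZMod n) = 0 := by exact_mod_cast h5
      rw [ZMod.natCast_eq_zero_iff] at h7
      have := Nat.le_of_dvd (by norm_num) h7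
      omega

end Cfsg.Agent.Lib.H4.DihBSW
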