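import Mathlib
import Cfsg.Prelude.Def_CaseTheorems
import Cfsg.Agent.Lib.H22.PPrimeCore
import Cfsg.Agent.Lib.H4.DihBSW1

/-!
# Dihedral Sylow 2-subgroups, part 2 (helper4)

* `core_facts`: if `C = C_G(t) ⊇ S` (a Sylow 2-subgroup) has a normal subgroup of odd order and 2-power index
  then `O = O(C)` is normalized by `C`, has odd order, and `C = O S`.
* `isConj_of_thompson`: the Thompson transfer lemma gives: in a simple group with a Sylow 2-subgroup `S`
  having a cyclic subgroup `A` of index two outside of which all elements are involutions, all involutions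
  are conjugate.
-/

set_option autoImplicit false
set_option linter.style.haveILetI false

namespace Cfsg.Agent.Lib.H4.DihBSW

open Subgroup

variable {G : Type*} [Group G]

theorem orderOf_conj' (g x : G) : orderOf (g * x * g⁻¹) = orderOf x := by
  have := orderOf_injective (MulAut.conj g).toMonoidHom (MulAut.conj g).injective x
  simpa using this

theorem core_facts [Finite G] (t : G) (S : Sylow 2 G)
    (hSC : (S : Subgroup G) ≤ centralizer ({t} : Set G))
    (hN : ∃ N : Subgroup (centralizer ({t} : Set G)), N.Normal ∧ Odd (Nat.card N) ∧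
      ∃ k : ℕ, N.index = 2 ^ k)
    (O : Subgroup G)
    (hO : O = (Cfsg.oddCore (centralizer ({t} : Set G))).map (centralizer ({t} : Set G)).subtype) :
    O ≤ centralizer ({t} : Set G) ∧
      (∀ c ∈ centralizer ({t} : Set G), ∀ y ∈ O, c * y * c⁻¹ ∈ O) ∧
      (Nat.card O).Coprime 2 ∧
      (∀ c ∈ centralizer ({t} : Set G), ∃ o ∈ O, ∃ x ∈ (S : Subgroup G), c = o * x) := by
  set C := centralizer ({t} : Set G) with hC
  set O' := Cfsg.oddCore C with hO'
  haveI hO'n : O'.Normal := Cfsg.Agent.Lib.H22.pPrimeCore_normal 2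
  have hO'c : (Nat.card O').Coprime 2 := Cfsg.Agent.Lib.H22.card_pPrimeCore_coprime 2
  obtain ⟨N, hNn, hNodd, k, hNk⟩ := hN
  have hNO : N ≤ O' := by
    apply Cfsg.Agent.Lib.H22.le_pPrimeCore 2 N hNn
    exact (Nat.coprime_comm.1 (Nat.coprime_two_left.2 hNodd))
  have hidx : ∃ j, O'.index = 2 ^ j := by
    have h1 : O'.index ∣ N.index := Subgroup.index_dvd_of_le hNO
    rw [hNk] at h1
    obtain ⟨j, _, hj⟩ := (Nat.dvd_prime_pow Nat.prime_two).1 h1
    exact ⟨j, hj⟩
  let S' : Sylow 2 C := S.subtype hSC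
  have hS' : (S' : Subgroup C) = (S : Subgroup G).subgroupOf C := Sylow.coe_subtype S hSC
  have htop : O' ⊔ (S' : Subgroup C) = ⊤ := by
    rw [← Subgroup.index_eq_one]
    obtain ⟨j, hj⟩ := hidx
    have h1 : (O' ⊔ (S' : Subgroup C)).index ∣ 2 ^ j := by
      rw [← hj]; exact Subgroup.index_dvd_of_le le_sup_left
    have h2 : (O' ⊔ (S' : Subgroup C)).index ∣ (S' : Subgroup C).index :=
      Subgroup.index_dvd_of_le le_sup_right
    obtain ⟨i, _, hi⟩ := (Nat.dvd_prime_pow Nat.prime_two).1 h1
    rcases Nat.eq_zero_or_pos i with rfl | hi0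
    · rw [hi, pow_zero]
    · exfalso
      haveI : Fact (Nat.Prime 2) := ⟨Nat.prime_two⟩
      apply S'.not_dvd_index
      apply dvd_trans _ h2
      rw [hi]
      exact dvd_pow_self 2 (by omega)
  refine ⟨?_, ?_, ?_, ?_⟩
  · rw [hO]; exact Subgroup.map_subtype_le _
  · intro c hc y hy
    rw [hO] at hy ⊢
    obtain ⟨y', hy', rfl⟩ := hy
    refine ⟨⟨c, hc⟩ * y' * ⟨c, hc⟩⁻¹, hO'n.conj_mem y' hy' ⟨c, hc⟩, ?_⟩
    simp
  · rw [hO]
    rw [Nat.card_congr (Subgroup.equivMapOfInjective O' C.subtype (Subgroup.subtype_injective C)).toEquiv.symm]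
    exact hO'c
  · intro c hc
    have h1 : (⟨c, hc⟩ : C) ∈ O' ⊔ (S' : Subgroup C) := by rw [htop]; trivial
    have h2 : (⟨c, hc⟩ : C) ∈ ((O' ⊔ (S' : Subgroup C) : Subgroup C) : Set C) := h1
    rw [Subgroup.normal_mul] at h2
    obtain ⟨o, ho, x, hx, hox⟩ := Set.mem_mul.1 h2
    refine ⟨(o : G), ?_, (x : G), ?_, ?_⟩
    · rw [hO]; exact ⟨o, ho, rfl⟩
    · have : x ∈ (S : Subgroup G).subgroupOf C := by rw [← hS']; exact hx
      exact Subgroup.mem_subgroupOf.1 this
    · have := congrArg Subtype.val hox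
      simpa using this.symm

/-- all involutions are conjugate, via the Thompson transfer lemma -/
theorem isConj_of_thompson [Finite G] [IsSimpleGroup G] (S : Sylow 2 G) (A : Subgroup G)
    (hAc : IsCyclic A) (hcard : 4 ≤ Nat.card (S : Subgroup G))
    (t : G) (ht : orderOf t = 2) (htA : t ∈ A)
    (thompson : ∀ u : G, orderOf u = 2 → u ∈ (S : Subgroup G) → u ∉ A →
      (∃ M : Subgroup G, M.Normal ∧ M.index = 2 ∧ u ∉ M) ∨ ∃ g : G, g * u * g⁻¹ ∈ A) :
    ∀ x y : G, orderOf x = 2 → orderOf y = 2 → IsConj x y := by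
  haveI : Fact (Nat.Prime 2) := ⟨Nat.prime_two⟩
  -- every involution of `S` is conjugate to `t`
  have h1 : ∀ u : G, orderOf u = 2 → u ∈ (S : Subgroup G) → IsConj u t := by
    intro u hu huS
    by_cases huA : u ∈ A
    · rw [eq_of_orderOf_two_of_mem hAc huA htA hu ht]
    · rcases thompson u hu huS huA with ⟨M, hMn, hMi, _⟩ | ⟨g, hg⟩
      · exfalso
        rcases hMn.eq_bot_or_eq_top with rfl | rfl
        · rw [Subgroup.index_bot] at hMi
          have := Subgroup.card_subgroup_dvd_card (S : Subgroup G)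
          rw [hMi] at this
          have := Nat.le_of_dvd (by norm_num) this
          omega
        · rw [Subgroup.index_top] at hMi
          omega
      · have hord : orderOf (g * u * g⁻¹) = 2 := by
          rw [← hu]
          exact orderOf_conj' g u
        have := eq_of_orderOf_two_of_mem hAc hg htA hord ht
        rw [isConj_iff]
        exact ⟨g, this⟩
  -- every involution is conjugate into `S`
  have h2 : ∀ x : G, orderOf x = 2 → IsConj x t := by
    intro x hx
    have hp : IsPGroup 2 (Subgroup.zpowers x) := by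
      apply IsPGroup.of_card (n := 1)
      rw [Nat.card_zpowers, hx, pow_one]
    obtain ⟨P, hP⟩ := hp.exists_le_sylow
    obtain ⟨g, hg⟩ := MulAction.exists_smul_eq G P S
    have hxP : x ∈ (P : Subgroup G) := hP (Subgroup.mem_zpowers x)
    have hgx : g * x * g⁻¹ ∈ (S : Subgroup G) := by
      rw [← hg, Sylow.coe_subgroup_smul]
      have h := Subgroup.smul_mem_pointwise_smul x (MulAut.conj g) _ hxP
      rwa [MulAut.smul_def, MulAut.conj_apply] at h
    have hord : orderOf (g * x * g⁻¹) = 2 := by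
      rw [← hx]
      exact orderOf_conj' g x
    have h3 := h1 _ hord hgx
    have h4 : IsConj x (g * x * g⁻¹) := isConj_iff.2 ⟨g, rfl⟩
    exact h4.trans h3
  intro x y hx hy
  exact (h2 x hx).trans (h2 y hy).symm

end Cfsg.Agent.Lib.H4.DihBSW
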