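import Mathlib
import Cfsg.Agent.Lib.H4.DihBSW2

/-!
# Dihedral Sylow 2-subgroups, part 3 (helper4): the Brauer–Suzuki–Wall configuration

From the configuration `Cfg` (`C = C_G(t) = O S`, `A ≤ S` cyclic of index two containing `t`, centralizing `O`,
`s ∈ S \ A` inverting `O` and `A`, normalizers of nontrivial subgroups of `O` inside `C`) we derive all
hypotheses of the abstract Brauer–Suzuki–Wall theorem for `K = O ⊔ A`.
-/

set_option autoImplicit false
set_option linter.style.haveILetI false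

namespace Cfsg.Agent.Lib.H4.DihBSW

open Subgroup

variable {G : Type*} [Group G]

structure Cfg (G : Type*) [Group G] (t s : G) (S A O : Subgroup G) : Prop where
  ht : orderOf t = 2
  hS2 : IsPGroup 2 S
  hSC : S ≤ centralizer ({t} : Set G)
  hAS : A ≤ S
  hAc : IsCyclic A
  htA : t ∈ A
  hsS : s ∈ S
  hsA : s ∉ A
  hout : ∀ x ∈ S, x ∉ A → x * x = 1 ∧ ∀ a ∈ A, x * a * x⁻¹ = a⁻¹
  hidx : ∀ x ∈ S, x ∉ A → x * s ∈ A
  hOC : O ≤ centralizer ({t} : Set G)
  hOn : ∀ c ∈ centralizer ({t} : Set G), ∀ y ∈ O, c * y * c⁻¹ ∈ O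
  hOodd : (Nat.card O).Coprime 2
  hOS : ∀ c ∈ centralizer ({t} : Set G), ∃ o ∈ O, ∃ x ∈ S, c = o * x
  hAO : A ≤ centralizer (O : Set G)
  hsO : ∀ y ∈ O, s * y * s⁻¹ = y⁻¹
  hc : ∀ Y : Subgroup G, Y ≤ O → Y ≠ ⊥ → normalizer (Y : Set G) ≤ centralizer ({t} : Set G)

namespace Cfg

variable {t s : G} {S A O : Subgroup G}

theorem ss (h : Cfg G t s S A O) : s * s = 1 := (h.hout s h.hsS h.hsA).1

theorem s_inv (h : Cfg G t s S A O) : s⁻¹ = s := inv_eq_of_mul_eq_one_left h.ss

theorem s_ne_one (h : Cfg G t s S A O) : s ≠ 1 := by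
  rintro rfl
  exact h.hsA A.one_mem

theorem orderOf_s (h : Cfg G t s S A O) : orderOf s = 2 := by
  apply orderOf_eq_prime
  · rw [pow_two]; exact h.ss
  · exact h.s_ne_one

theorem tt (h : Cfg G t s S A O) : t * t = 1 := by
  have := pow_orderOf_eq_one t
  rwa [h.ht, pow_two] at this

theorem t_ne_one (h : Cfg G t s S A O) : t ≠ 1 := by
  rintro rfl
  have := h.ht
  rw [orderOf_one] at this
  omega

theorem O_comm (h : Cfg G t s S A O) {y z : G} (hy : y ∈ O) (hz : z ∈ O) : y * z = z * y := by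
  have h1 := h.hsO (y * z) (O.mul_mem hy hz)
  have h2 : s * (y * z) * s⁻¹ = (s * y * s⁻¹) * (s * z * s⁻¹) := by group
  rw [h2, h.hsO y hy, h.hsO z hz, ← mul_inv_rev] at h1
  exact (inv_injective h1).symm

theorem OA_comm (h : Cfg G t s S A O) {o a : G} (ho : o ∈ O) (ha : a ∈ A) : o * a = a * o :=
  Subgroup.mem_centralizer_iff.1 (h.hAO ha) o ho

theorem A_comm (h : Cfg G t s S A O) {a b : G} (ha : a ∈ A) (hb : b ∈ A) : a * b = b * a := by
  haveI := h.hAc
  letI := IsCyclic.commGroup (α := A)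
  have := mul_comm (⟨a, ha⟩ : A) ⟨b, hb⟩
  exact congrArg Subtype.val this

theorem O_inf_S [Finite G] (h : Cfg G t s S A O) {x : G} (hxO : x ∈ O) (hxS : x ∈ S) : x = 1 := by
  obtain ⟨k, hk⟩ := h.hS2 ⟨x, hxS⟩
  have hk' : x ^ (2 ^ k) = 1 := by
    have := congrArg Subtype.val hk
    simpa using this
  have h1 : orderOf x ∣ 2 ^ k := orderOf_dvd_of_pow_eq_one hk'
  have h2 : orderOf x ∣ Nat.card O := Subgroup.orderOf_dvd_natCard O hxO
  have h3 : (Nat.card O).Coprime (2 ^ k) := Nat.Coprime.pow_right k h.hOodd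
  have h4 : orderOf x ∣ 1 := by
    rw [← h3]
    exact Nat.dvd_gcd h2 h1
  exact orderOf_eq_one_iff.1 (Nat.dvd_one.1 h4)

theorem mem_K (h : Cfg G t s S A O) {x : G} :
    x ∈ O ⊔ A ↔ ∃ o ∈ O, ∃ a ∈ A, x = o * a := by
  constructor
  · intro hx
    rw [Subgroup.sup_eq_closure] at hx
    induction hx using Subgroup.closure_induction with
    | mem x hx =>
      rcases hx with hx | hx
      · exact ⟨x, hx, 1, A.one_mem, (mul_one x).symm⟩
      · exact ⟨1, O.one_mem, x, hx, (one_mul x).symm⟩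
    | one => exact ⟨1, O.one_mem, 1, A.one_mem, (mul_one 1).symm⟩
    | mul x y _ _ hx hy =>
      obtain ⟨o, ho, a, ha, rfl⟩ := hx
      obtain ⟨o', ho', a', ha', rfl⟩ := hy
      refine ⟨o * o', O.mul_mem ho ho', a * a', A.mul_mem ha ha', ?_⟩
      have hc := h.OA_comm ho' ha
      calc o * a * (o' * a') = o * (a * o') * a' := by group
        _ = o * (o' * a) * a' := by rw [hc]
        _ = o * o' * (a * a') := by group
    | inv x _ hx =>
      obtain ⟨o, ho, a, ha, rfl⟩ := hx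
      refine ⟨o⁻¹, O.inv_mem ho, a⁻¹, A.inv_mem ha, ?_⟩
      have hc := h.OA_comm ho ha
      rw [← mul_inv_rev, hc]
  · rintro ⟨o, ho, a, ha, rfl⟩
    exact Subgroup.mul_mem _ (Subgroup.mem_sup_left ho) (Subgroup.mem_sup_right ha)

theorem K_comm (h : Cfg G t s S A O) {x y : G} (hx : x ∈ O ⊔ A) (hy : y ∈ O ⊔ A) :
    x * y = y * x := by
  obtain ⟨o, ho, a, ha, rfl⟩ := h.mem_K.1 hx
  obtain ⟨o', ho', a', ha', rfl⟩ := h.mem_K.1 hy
  have c1 := h.O_comm ho ho'
  have c2 := h.A_comm ha ha'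
  have c3 := h.OA_comm ho' ha
  have c4 := h.OA_comm ho ha'
  calc o * a * (o' * a') = o * (a * o') * a' := by group
    _ = o * (o' * a) * a' := by rw [c3]
    _ = (o * o') * (a * a') := by group
    _ = (o' * o) * (a' * a) := by rw [c1, c2]
    _ = o' * (o * a') * a := by group
    _ = o' * (a' * o) * a := by rw [c4]
    _ = o' * a' * (o * a) := by group

theorem K_le_C (h : Cfg G t s S A O) : O ⊔ A ≤ centralizer ({t} : Set G) :=
  sup_le h.hOC (h.hAS.trans h.hSC)

theorem s_notin_K [Finite G] (h : Cfg G t s S A O) : s ∉ O ⊔ A := by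
  intro hs
  obtain ⟨o, ho, a, ha, hoa⟩ := h.mem_K.1 hs
  have h1 : o = s * a⁻¹ := by rw [hoa]; group
  have h2 : o ∈ S := by
    rw [h1]
    exact S.mul_mem h.hsS (S.inv_mem (h.hAS ha))
  have h3 := h.O_inf_S ho h2
  rw [h3, one_mul] at hoa
  exact h.hsA (hoa ▸ ha)

theorem s_inv_K (h : Cfg G t s S A O) {x : G} (hx : x ∈ O ⊔ A) : s * x * s⁻¹ = x⁻¹ := by
  obtain ⟨o, ho, a, ha, rfl⟩ := h.mem_K.1 hx
  have h1 : s * (o * a) * s⁻¹ = (s * o * s⁻¹) * (s * a * s⁻¹) := by group
  rw [h1, h.hsO o ho, (h.hout s h.hsS h.hsA).2 a ha, ← mul_inv_rev, h.OA_comm ho ha]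

/-- the only involution of `K` is `t` -/
theorem sq_K [Finite G] (h : Cfg G t s S A O) {x : G} (hx : x ∈ O ⊔ A) (hxx : x * x = 1) :
    x = 1 ∨ x = t := by
  obtain ⟨o, ho, a, ha, rfl⟩ := h.mem_K.1 hx
  have hc := h.OA_comm ho ha
  have h1 : (o * o) * (a * a) = 1 := by
    calc (o * o) * (a * a) = o * (o * a) * a := by group
      _ = o * (a * o) * a := by rw [hc]
      _ = (o * a) * (o * a) := by group
      _ = 1 := hxx
  have h2 : o * o = (a * a)⁻¹ := eq_inv_of_mul_eq_one_left h1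
  have h3 : o * o = 1 := by
    apply h.O_inf_S (O.mul_mem ho ho)
    rw [h2]
    exact S.inv_mem (S.mul_mem (h.hAS ha) (h.hAS ha))
  have h4 : o = 1 := by
    have h5 : orderOf o ∣ 2 := orderOf_dvd_of_pow_eq_one (by rw [pow_two]; exact h3)
    have h6 : orderOf o ∣ Nat.card O := Subgroup.orderOf_dvd_natCard O ho
    have h7 : orderOf o ∣ 1 := by
      rw [← h.hOodd]
      exact Nat.dvd_gcd h6 h5
    exact orderOf_eq_one_iff.1 (Nat.dvd_one.1 h7)
  rw [h3, one_mul] at h1
  rw [h4, one_mul]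
  by_cases ha1 : a = 1
  · exact Or.inl ha1
  · right
    have hord : orderOf a = 2 := orderOf_eq_prime (by rw [pow_two]; exact h1) ha1
    exact eq_of_orderOf_two_of_mem h.hAc ha h.htA hord h.ht

theorem K_sup (h : Cfg G t s S A O) :
    (O ⊔ A) ⊔ Subgroup.zpowers s = centralizer ({t} : Set G) := by
  apply le_antisymm
  · apply sup_le h.K_le_C
    rw [Subgroup.zpowers_le]
    exact h.hSC h.hsS
  · intro c hc
    obtain ⟨o, ho, x, hx, rfl⟩ := h.hOS c hc
    by_cases hxA : x ∈ A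
    · exact Subgroup.mem_sup_left (h.mem_K.2 ⟨o, ho, x, hxA, rfl⟩)
    · have h1 := h.hidx x hx hxA
      have h2 : o * x = (o * (x * s)) * s⁻¹ := by group
      rw [h2]
      exact Subgroup.mul_mem _ (Subgroup.mem_sup_left (h.mem_K.2 ⟨o, ho, x * s, h1, rfl⟩))
        (Subgroup.mem_sup_right (Subgroup.inv_mem _ (Subgroup.mem_zpowers s)))

theorem K_inf [Finite G] (h : Cfg G t s S A O) :
    (O ⊔ A) ⊓ centralizer ({s} : Set G) = Subgroup.zpowers t := by
  apply le_antisymm
  · rintro x ⟨hxK, hxs⟩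
    have h1 : x * s = s * x := Subgroup.mem_centralizer_singleton_iff.1 hxs
    have h2 := h.s_inv_K hxK
    have h3 : x = x⁻¹ := by
      rw [← h2, ← h1]
      group
    have h4 : x * x = 1 := by
      nth_rewrite 1 [h3]
      exact inv_mul_cancel x
    rcases h.sq_K hxK h4 with rfl | rfl
    · exact Subgroup.one_mem _
    · exact Subgroup.mem_zpowers _
  · rw [Subgroup.zpowers_le]
    refine ⟨Subgroup.mem_sup_right h.htA, ?_⟩
    show t ∈ centralizer ({s} : Set G)
    rw [Subgroup.mem_centralizer_singleton_iff]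
    exact (Subgroup.mem_centralizer_singleton_iff.1 (h.hSC h.hsS)).symm

/-- elements of odd prime order of `K` lie in `O` -/
theorem mem_O_of_orderOf [Finite G] (h : Cfg G t s S A O) {z : G} (hz : z ∈ O ⊔ A) {p : ℕ}
    (hp : p.Prime) (hp2 : p ≠ 2) (hzp : orderOf z = p) : z ∈ O := by
  obtain ⟨o, ho, a, ha, rfl⟩ := h.mem_K.1 hz
  have hc : Commute o a := h.OA_comm ho ha
  have h1 : (o * a) ^ p = 1 := by rw [← hzp]; exact pow_orderOf_eq_one _
  rw [hc.mul_pow] at h1
  have h2 : a ^ p = (o ^ p)⁻¹ := eq_inv_of_mul_eq_one_right h1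
  have h3 : a ^ p = 1 := by
    apply h.O_inf_S
    · rw [h2]; exact O.inv_mem (O.pow_mem ho p)
    · exact S.pow_mem (h.hAS ha) p
  obtain ⟨k, hk⟩ := h.hS2 ⟨a, h.hAS ha⟩
  have hk' : a ^ (2 ^ k) = 1 := by
    have := congrArg Subtype.val hk
    simpa using this
  have h4 : orderOf a ∣ p := orderOf_dvd_of_pow_eq_one h3
  have h5 : orderOf a ∣ 2 ^ k := orderOf_dvd_of_pow_eq_one hk'
  have h6 : Nat.Coprime p (2 ^ k) :=
    Nat.Coprime.pow_right k ((Nat.coprime_primes hp Nat.prime_two).2 hp2)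
  have h7 : orderOf a ∣ 1 := by
    rw [← h6]
    exact Nat.dvd_gcd h4 h5
  have h8 : a = 1 := orderOf_eq_one_iff.1 (Nat.dvd_one.1 h7)
  rw [h8, mul_one]
  exact ho

theorem mem_normalizer_zpowers_of_comm {z y : G} (hzy : z * y = y * z) :
    z ∈ normalizer ((Subgroup.zpowers y : Subgroup G) : Set G) := by
  have hc : Commute z y := hzy
  rw [Subgroup.mem_normalizer_iff]
  intro n
  constructor
  · intro hn
    obtain ⟨i, rfl⟩ := Subgroup.mem_zpowers_iff.1 hn
    have : z * y ^ i * z⁻¹ = y ^ i := by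
      rw [(hc.zpow_right i).eq, mul_inv_cancel_right]
    rw [this]
    exact Subgroup.zpow_mem_zpowers y i
  · intro hn
    obtain ⟨i, hi⟩ := Subgroup.mem_zpowers_iff.1 hn
    have : n = y ^ i := by
      have h1 : n = z⁻¹ * (z * n * z⁻¹) * z := by group
      rw [h1, ← hi]
      have h2 : z⁻¹ * y ^ i * z = y ^ i := by
        rw [mul_assoc, ← (hc.zpow_right i).eq, inv_mul_cancel_left]
      exact h2
    rw [this]
    exact Subgroup.zpow_mem_zpowers y i

/-- the TI property of `K` -/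
theorem K_TI [Finite G] (h : Cfg G t s S A O) (g : G) (hg : g ∉ centralizer ({t} : Set G)) :
    (O ⊔ A) ⊓ (O ⊔ A).map (MulAut.conj g).toMonoidHom = ⊥ := by
  rw [eq_bot_iff]
  rintro x ⟨hxK, hxKg⟩
  rw [Subgroup.mem_bot]
  by_contra hx1
  have hord1 : orderOf x ≠ 1 := fun h1 => hx1 (orderOf_eq_one_iff.1 h1)
  obtain ⟨p, hp, hpx⟩ := Nat.exists_prime_and_dvd hord1
  set y := x ^ (orderOf x / p) with hy
  have hyp : orderOf y = p := orderOf_pow_orderOf_div (orderOf_pos x).ne' hpx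
  have hyK : y ∈ O ⊔ A := Subgroup.pow_mem _ hxK _
  have hyKg : y ∈ (O ⊔ A).map (MulAut.conj g).toMonoidHom := Subgroup.pow_mem _ hxKg _
  obtain ⟨k, hkK, hky⟩ := hyKg
  have hky' : g * k * g⁻¹ = y := by simpa using hky
  have hkp : orderOf k = p := by rw [← hyp, ← hky', orderOf_conj']
  have hy1 : y ≠ 1 := by
    intro h1
    rw [h1, orderOf_one] at hyp
    exact hp.one_lt.ne hyp
  have hk1 : k ≠ 1 := by
    intro h1
    rw [h1, orderOf_one] at hkp
    exact hp.one_lt.ne hkp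
  -- a conjugate of `t` that is again `t` puts `g` in `C`
  have hfin : g * t * g⁻¹ = t → False := by
    intro h1
    apply hg
    rw [Subgroup.mem_centralizer_singleton_iff]
    calc g * t = (g * t * g⁻¹) * g := by group
      _ = t * g := by rw [h1]
  by_cases hp2 : p = 2
  · -- `y = t = g t g⁻¹`
    have hyy : y * y = 1 := by
      have := pow_orderOf_eq_one y
      rwa [hyp, hp2, pow_two] at this
    have hkk : k * k = 1 := by
      have := pow_orderOf_eq_one k
      rwa [hkp, hp2, pow_two] at this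
    have e1 : y = t := (h.sq_K hyK hyy).resolve_left hy1
    have e2 : k = t := (h.sq_K hkK hkk).resolve_left hk1
    rw [e1, e2] at hky'
    exact hfin hky'
  · have hyO : y ∈ O := h.mem_O_of_orderOf hyK hp hp2 hyp
    have hY : Subgroup.zpowers y ≤ O := by rw [Subgroup.zpowers_le]; exact hyO
    have hY1 : Subgroup.zpowers y ≠ ⊥ := by
      rw [Ne, Subgroup.zpowers_eq_bot]
      exact hy1
    have hN := h.hc _ hY hY1
    -- `t' = g t g⁻¹` commutes with `y`
    set t' := g * t * g⁻¹ with ht'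
    have hcomm : t' * y = y * t' := by
      have h1 : t * k = k * t := h.K_comm (Subgroup.mem_sup_right h.htA) hkK
      rw [ht', ← hky']
      calc g * t * g⁻¹ * (g * k * g⁻¹) = g * (t * k) * g⁻¹ := by group
        _ = g * (k * t) * g⁻¹ := by rw [h1]
        _ = g * k * g⁻¹ * (g * t * g⁻¹) := by group
    have ht'C : t' ∈ centralizer ({t} : Set G) := hN (mem_normalizer_zpowers_of_comm hcomm)
    obtain ⟨o', ho', x', hx', hox⟩ := h.hOS t' ht'C
    have ht't' : t' * t' = 1 := by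
      rw [ht']
      calc g * t * g⁻¹ * (g * t * g⁻¹) = g * (t * t) * g⁻¹ := by group
        _ = 1 := by rw [h.tt]; group
    have ht'1 : t' ≠ 1 := by
      intro h1
      apply h.t_ne_one
      have : t = g⁻¹ * t' * g := by rw [ht']; group
      rw [this, h1]; group
    by_cases hx'A : x' ∈ A
    · have ht'K : t' ∈ O ⊔ A := h.mem_K.2 ⟨o', ho', x', hx'A, hox⟩
      exact hfin ((h.sq_K ht'K ht't').resolve_left ht'1)
    · -- `t'` inverts `y`
      have ha1 := h.hidx x' hx' hx'A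
      have hyinv : y⁻¹ ∈ O := O.inv_mem hyO
      have e1 : x' * y * x'⁻¹ = y⁻¹ := by
        have h1 : x' * y * x'⁻¹ = (x' * s) * (s⁻¹ * y * s) * (x' * s)⁻¹ := by group
        have h2 : s⁻¹ * y * s = y⁻¹ := by
          have := h.hsO y hyO
          rw [h.s_inv] at this ⊢
          exact this
        rw [h1, h2]
        have h3 := h.OA_comm hyinv ha1
        rw [← h3, mul_inv_cancel_right]
      have e2 : t' * y * t'⁻¹ = y⁻¹ := by
        rw [hox]
        have h1 : o' * x' * y * (o' * x')⁻¹ = o' * (x' * y * x'⁻¹) * o'⁻¹ := by group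
        rw [h1, e1, h.O_comm ho' hyinv, mul_inv_cancel_right]
      have e3 : t' * y * t'⁻¹ = y := by rw [hcomm, mul_inv_cancel_right]
      have e4 : y * y = 1 := by
        have : y = y⁻¹ := e3.symm.trans e2
        nth_rewrite 1 [this]
        exact inv_mul_cancel y
      have e5 : orderOf y ∣ 2 := orderOf_dvd_of_pow_eq_one (by rw [pow_two]; exact e4)
      rw [hyp] at e5
      exact hp2 ((Nat.prime_dvd_prime_iff_eq hp Nat.prime_two).1 e5)

end Cfg

end Cfsg.Agent.Lib.H4.DihBSW
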