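import Mathlib
import Cfsg.Prelude.Def_Perm

set_option autoImplicit false

namespace Cfsg.Agent.Lib.H4.NF

variable {F : Type*} [Cfsg.NearField F]

theorem rdistrib (a b c : F) : (a + b) * c = a * c + b * c :=
  Cfsg.NearField.right_distrib a b c

theorem mul_zero' (a : F) : a * 0 = 0 := Cfsg.NearField.mul_zero a

theorem zero_mul' (a : F) : (0 : F) * a = 0 := by
  have h := rdistrib (0 : F) 0 a
  rw [add_zero] at h
  have h2 : (0 : F) * a + 0 = 0 * a + 0 * a := by rw [add_zero]; exact h
  exact (add_left_cancel h2).symm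

theorem neg_mul' (x a : F) : (-x) * a = -(x * a) := by
  have h := rdistrib (-x) x a
  rw [neg_add_cancel, zero_mul'] at h
  exact eq_neg_of_add_eq_zero_left h.symm

theorem sub_mul' (x y a : F) : (x - y) * a = x * a - y * a := by
  rw [sub_eq_add_neg, rdistrib, neg_mul', ← sub_eq_add_neg]

theorem nsmul_mul' (n : ℕ) (x a : F) : (n • x) * a = n • (x * a) := by
  induction n with
  | zero => simp [zero_mul']
  | succ k ih => rw [succ_nsmul, succ_nsmul, rdistrib, ih]

theorem one_ne_zero' : (1 : F) ≠ 0 := fun h => Cfsg.NearField.zero_ne_one h.symm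

theorem exists_inv' {a : F} (ha : a ≠ 0) : ∃ b : F, a * b = 1 ∧ b * a = 1 :=
  Cfsg.NearField.exists_inv a ha

theorem inv_ne_zero' {a b : F} (h : a * b = 1) : b ≠ 0 := by
  rintro rfl
  rw [mul_zero'] at h
  exact Cfsg.NearField.zero_ne_one h

theorem mul_ne_zero' {a c : F} (ha : a ≠ 0) (hc : c ≠ 0) : c * a ≠ 0 := by
  intro h
  obtain ⟨b, hab, -⟩ := exists_inv' ha
  apply hc
  calc c = c * (a * b) := by rw [hab, mul_one]
    _ = (c * a) * b := by rw [mul_assoc]
    _ = 0 := by rw [h, zero_mul']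

end Cfsg.Agent.Lib.H4.NF
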