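import Mathlib
import Cfsg.Prelude.Def_LieExceptional
import Cfsg.Agent.Lib.H2.Simple60
import Cfsg.Agent.S0731

/-!
# Dihedral Sylow 2-subgroups, part 4 (helper4): from the Brauer–Suzuki–Wall conclusion to `PSL₂`

A simple group `G` with a subgroup `Q` of order `q > 3` such that `C_G(x) = Q` for `1 ≠ x ∈ Q`,
`N_G(Q) = Q D` with `|D| = (q - 1)/2`, `Q ∩ D = 1` and `|G| = q (q + 1) (q - 1) / 2` acts on the cosets of
`N_G(Q)` as a Zassenhaus group in which `Q` is an abelian regular normal subgroup of the point stabilizer; hence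
`G ≅ PSL₂(F)` with `|F|` odd by the Zassenhaus-Feit-Ito theorem (S0731).
-/

set_option autoImplicit false
set_option linter.style.haveILetI false

namespace Cfsg.Agent.Lib.H4.DihBSW

open Subgroup MulAction

variable {G : Type*} [Group G]

structure CC (Q D : Subgroup G) : Prop where
  hcard : 2 * Nat.card G = Nat.card Q * (Nat.card Q + 1) * (Nat.card Q - 1)
  hCC : ∀ x ∈ Q, x ≠ 1 → centralizer ({x} : Set G) = Q
  hD : 2 * Nat.card D + 1 = Nat.card Q
  hQD : Q ⊓ D = ⊥
  hN : normalizer (Q : Set G) = Q ⊔ D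
  hq : 3 < Nat.card Q

namespace CC

variable {Q D : Subgroup G}

theorem D_le (h : CC Q D) : D ≤ normalizer (Q : Set G) := by
  rw [h.hN]; exact le_sup_right

theorem Q_le (_h : CC Q D) : Q ≤ normalizer (Q : Set G) := Subgroup.le_normalizer

theorem Q_comm (h : CC Q D) {x y : G} (hx : x ∈ Q) (hy : y ∈ Q) : x * y = y * x := by
  by_cases hx1 : x = 1
  · rw [hx1, one_mul, mul_one]
  · have : y ∈ centralizer ({x} : Set G) := by rw [h.hCC x hx hx1]; exact hy
    exact (Subgroup.mem_centralizer_singleton_iff.1 this).symm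

theorem card_N [Finite G] (h : CC Q D) :
    Nat.card (normalizer (Q : Set G)) = Nat.card Q * Nat.card D := by
  let f : Q × D → normalizer (Q : Set G) := fun p =>
    ⟨(p.1 : G) * (p.2 : G), Subgroup.mul_mem _ (h.Q_le p.1.2) (h.D_le p.2.2)⟩
  have hinj : Function.Injective f := by
    rintro ⟨z, d⟩ ⟨z', d'⟩ hzd
    have h1 : (z : G) * (d : G) = (z' : G) * (d' : G) := congrArg Subtype.val hzd
    have h2 : (z' : G)⁻¹ * (z : G) = (d' : G) * (d : G)⁻¹ := by
      calc (z' : G)⁻¹ * (z : G) = (z' : G)⁻¹ * ((z : G) * (d : G)) * (d : G)⁻¹ := by group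
        _ = (z' : G)⁻¹ * ((z' : G) * (d' : G)) * (d : G)⁻¹ := by rw [h1]
        _ = (d' : G) * (d : G)⁻¹ := by group
    have h3 : (z' : G)⁻¹ * (z : G) ∈ Q ⊓ D := by
      refine ⟨Q.mul_mem (Q.inv_mem z'.2) z.2, ?_⟩
      rw [h2]
      exact D.mul_mem d'.2 (D.inv_mem d.2)
    rw [h.hQD, Subgroup.mem_bot] at h3
    have h4 : (z : G) = (z' : G) := by
      calc (z : G) = (z' : G) * ((z' : G)⁻¹ * (z : G)) := by group
        _ = (z' : G) := by rw [h3, mul_one]
    have h5 : (d : G) = (d' : G) := by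
      rw [h4] at h1
      exact mul_left_cancel h1
    exact Prod.ext (Subtype.ext h4) (Subtype.ext h5)
  have hsurj : Function.Surjective f := by
    rintro ⟨n, hn⟩
    have h1 : n ∈ ((Q ⊔ D : Subgroup G) : Set G) := by rw [← h.hN]; exact hn
    rw [Subgroup.coe_mul_of_right_le_normalizer_left Q D h.D_le] at h1
    obtain ⟨z, hz, d, hd, hzd⟩ := Set.mem_mul.1 h1
    exact ⟨(⟨z, hz⟩, ⟨d, hd⟩), Subtype.ext hzd⟩
  rw [← Nat.card_prod]
  exact (Nat.card_congr (Equiv.ofBijective f ⟨hinj, hsurj⟩)).symm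

theorem card_D_ge (h : CC Q D) : 2 ≤ Nat.card D := by
  have := h.hD
  have := h.hq
  omega

theorem card_G [Finite G] (h : CC Q D) :
    Nat.card G = (Nat.card Q + 1) * Nat.card (normalizer (Q : Set G)) := by
  rw [h.card_N]
  have h1 := h.hcard
  have h2 := h.hD
  have h3 : Nat.card Q - 1 = 2 * Nat.card D := by omega
  rw [h3] at h1
  have h4 : 2 * Nat.card G = 2 * ((Nat.card Q + 1) * (Nat.card Q * Nat.card D)) := by
    rw [h1]; ring
  exact Nat.eq_of_mul_eq_mul_left (by norm_num) h4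

theorem card_quot [Finite G] (h : CC Q D) :
    Nat.card (G ⧸ normalizer (Q : Set G)) = Nat.card Q + 1 := by
  rw [← Subgroup.index_eq_card]
  have h1 := (normalizer (Q : Set G)).card_mul_index
  rw [h.card_G] at h1
  have hpos : 0 < Nat.card (normalizer (Q : Set G)) := Nat.card_pos
  have h2 : Nat.card (normalizer (Q : Set G)) * (normalizer (Q : Set G)).index =
      Nat.card (normalizer (Q : Set G)) * (Nat.card Q + 1) := by rw [h1]; ring
  exact Nat.eq_of_mul_eq_mul_left hpos h2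

theorem N_ne_top [Finite G] (h : CC Q D) : normalizer (Q : Set G) ≠ ⊤ := by
  intro htop
  have h1 := h.card_quot
  rw [← Subgroup.index_eq_card, htop, Subgroup.index_top] at h1
  have := h.hq
  omega

/-- an element of `N_G(Q)` whose `q`-th power is trivial lies in `Q` -/
theorem mem_Q_of_pow [Finite G] (h : CC Q D) {w : G} (hw : w ∈ normalizer (Q : Set G))
    (hwq : w ^ Nat.card Q = 1) : w ∈ Q := by
  set N := normalizer (Q : Set G) with hN
  haveI : (Q.subgroupOf N).Normal := Subgroup.normal_in_normalizer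
  have hidx : (Q.subgroupOf N).index = Nat.card D := by
    have h1 := Subgroup.relIndex_mul_relIndex (⊥ : Subgroup G) Q N bot_le h.Q_le
    rw [Subgroup.relIndex_bot_left, Subgroup.relIndex_bot_left, h.card_N] at h1
    have hpos : 0 < Nat.card Q := Nat.card_pos
    exact Nat.eq_of_mul_eq_mul_left hpos h1
  have h2 : (⟨w, hw⟩ : N) ^ Nat.card D ∈ Q.subgroupOf N := by
    rw [← hidx]
    exact Subgroup.pow_index_mem _ _
  have h3 : w ^ Nat.card D ∈ Q := by
    have := Subgroup.mem_subgroupOf.1 h2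
    simpa using this
  have h4 : w = ((w ^ Nat.card D) ^ 2)⁻¹ * w ^ Nat.card Q := by
    rw [← h.hD, ← pow_mul, pow_succ, mul_comm (Nat.card D) 2, inv_mul_cancel_left]
  rw [h4, hwq, mul_one]
  exact Q.inv_mem (Q.pow_mem h3 2)

/-- no nonidentity element of `Q` fixes a coset other than `N_G(Q)` itself -/
theorem eq_one_of_fix [Finite G] (h : CC Q D) {z g : G} (hz : z ∈ Q)
    (hg : g ∉ normalizer (Q : Set G))
    (hfix : z • (QuotientGroup.mk g : G ⧸ normalizer (Q : Set G)) = QuotientGroup.mk g) :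
    z = 1 := by
  by_contra hz1
  apply hg
  have h1 : (QuotientGroup.mk (z * g) : G ⧸ normalizer (Q : Set G)) = QuotientGroup.mk g := hfix
  rw [QuotientGroup.eq] at h1
  -- `w = g⁻¹ z g ∈ N`
  have hwN : g⁻¹ * z * g ∈ normalizer (Q : Set G) := by
    have := Subgroup.inv_mem _ h1
    have e : ((z * g)⁻¹ * g)⁻¹ = g⁻¹ * z * g := by group
    rwa [e] at this
  have hzq : z ^ Nat.card Q = 1 := by
    have e := pow_card_eq_one' (G := Q) (x := ⟨z, hz⟩)
    have e2 := congrArg Subtype.val e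
    rw [Subgroup.coe_pow, Subgroup.coe_one] at e2
    exact e2
  have hwq : (g⁻¹ * z * g) ^ Nat.card Q = 1 := by
    have e : g⁻¹ * z * g = g⁻¹ * z * (g⁻¹)⁻¹ := by rw [inv_inv]
    rw [e, conj_pow, hzq]; group
  have hwQ := h.mem_Q_of_pow hwN hwq
  have hw1 : g⁻¹ * z * g ≠ 1 := by
    intro e
    apply hz1
    calc z = g * (g⁻¹ * z * g) * g⁻¹ := by group
      _ = 1 := by rw [e]; group
  have hCw := h.hCC _ hwQ hw1
  have hCz := h.hCC z hz hz1
  rw [Subgroup.mem_normalizer_iff]
  intro n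
  have a1 : n ∈ Q ↔ n * (g⁻¹ * z * g) = (g⁻¹ * z * g) * n := by
    conv_lhs => rw [← hCw]
    exact Subgroup.mem_centralizer_singleton_iff
  have a2 : g * n * g⁻¹ ∈ Q ↔ g * n * g⁻¹ * z = z * (g * n * g⁻¹) := by
    conv_lhs => rw [← hCz]
    exact Subgroup.mem_centralizer_singleton_iff
  rw [a1, a2]
  constructor
  · intro e
    calc g * n * g⁻¹ * z = g * (n * (g⁻¹ * z * g)) * g⁻¹ := by group
      _ = g * ((g⁻¹ * z * g) * n) * g⁻¹ := by rw [e]
      _ = z * (g * n * g⁻¹) := by group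
  · intro e
    calc n * (g⁻¹ * z * g) = g⁻¹ * (g * n * g⁻¹ * z) * g := by group
      _ = g⁻¹ * (z * (g * n * g⁻¹)) * g := by rw [e]
      _ = g⁻¹ * z * g * n := by group

end CC

end Cfsg.Agent.Lib.H4.DihBSW
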