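import Mathlib
import Cfsg.Agent.Lib.H4.DihBSW4

/-!
# Dihedral Sylow 2-subgroups, part 5 (helper4): the Zassenhaus action on the cosets of `N_G(Q)`
-/

set_option autoImplicit false
set_option linter.style.haveILetI false

namespace Cfsg.Agent.Lib.H4.DihBSW

open Subgroup MulAction

variable {G : Type*} [Group G]

namespace CC

variable {Q D : Subgroup G}

theorem mk_ne_iff {N : Subgroup G} (g : G) :
    (QuotientGroup.mk g : G ⧸ N) ≠ QuotientGroup.mk 1 ↔ g ∉ N := by
  rw [Ne, QuotientGroup.eq, mul_one, Subgroup.inv_mem_iff]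

theorem smul_base {N : Subgroup G} {n : G} (hn : n ∈ N) :
    n • (QuotientGroup.mk 1 : G ⧸ N) = QuotientGroup.mk 1 := by
  have : n ∈ stabilizer G ((1 : G) : G ⧸ N) := by rw [stabilizer_quotient]; exact hn
  exact this

theorem mem_of_smul_base {N : Subgroup G} {n : G}
    (hn : n • (QuotientGroup.mk 1 : G ⧸ N) = QuotientGroup.mk 1) : n ∈ N := by
  have : n ∈ stabilizer G ((1 : G) : G ⧸ N) := hn
  rwa [stabilizer_quotient] at this

/-- `Q` is regular on the cosets other than `N_G(Q)` -/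
theorem Q_reg [Finite G] (h : CC Q D) (y z : G ⧸ normalizer (Q : Set G))
    (hy : y ≠ QuotientGroup.mk 1) (hz : z ≠ QuotientGroup.mk 1) :
    ∃! u : Q, (u : G) • y = z := by
  have hsm : ∀ u : Q, (u : G) • y ≠ (QuotientGroup.mk 1 : G ⧸ normalizer (Q : Set G)) := by
    intro u hu
    apply hy
    have h1 : y = (u : G)⁻¹ • (QuotientGroup.mk 1 : G ⧸ normalizer (Q : Set G)) := by
      rw [← hu, inv_smul_smul]
    rw [h1]
    exact smul_base (Subgroup.inv_mem _ (h.Q_le u.2))
  let φ : Q → {w : G ⧸ normalizer (Q : Set G) // w ≠ QuotientGroup.mk 1} :=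
    fun u => ⟨(u : G) • y, hsm u⟩
  have hinj : Function.Injective φ := by
    intro u u' huu
    have h1 : (u : G) • y = (u' : G) • y := congrArg Subtype.val huu
    induction y using QuotientGroup.induction_on with
    | H g =>
      have hg : g ∉ normalizer (Q : Set G) := (mk_ne_iff g).1 hy
      have h2 : ((u' : G)⁻¹ * (u : G)) • (QuotientGroup.mk g : G ⧸ normalizer (Q : Set G)) =
          QuotientGroup.mk g := by
        rw [mul_smul, h1, inv_smul_smul]
      have h3 := h.eq_one_of_fix (Q.mul_mem (Q.inv_mem u'.2) u.2) hg h2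
      apply Subtype.ext
      calc (u : G) = (u' : G) * ((u' : G)⁻¹ * (u : G)) := by group
        _ = (u' : G) := by rw [h3, mul_one]
  have hcard : Nat.card {w : G ⧸ normalizer (Q : Set G) // w ≠ QuotientGroup.mk 1} =
      Nat.card Q := by
    classical
    haveI := Fintype.ofFinite (G ⧸ normalizer (Q : Set G))
    have h1 : Nat.card {w : G ⧸ normalizer (Q : Set G) // w ≠ QuotientGroup.mk 1} =
        Nat.card (G ⧸ normalizer (Q : Set G)) - 1 := by
      rw [Nat.card_eq_fintype_card, Nat.card_eq_fintype_card]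
      exact Set.card_ne_eq (QuotientGroup.mk 1 : G ⧸ normalizer (Q : Set G))
    rw [h1, h.card_quot]
    omega
  have hbij : Function.Bijective φ := hinj.bijective_of_nat_card_le hcard.le
  obtain ⟨u, hu⟩ := hbij.2 ⟨z, hz⟩
  refine ⟨u, congrArg Subtype.val hu, fun u' hu' => ?_⟩
  apply hbij.1
  rw [hu]
  exact Subtype.ext hu'

theorem exists_move (N : Subgroup G) (a : G ⧸ N) : ∃ g : G, g • a = QuotientGroup.mk 1 := by
  induction a using QuotientGroup.induction_on with
  | H g =>
    refine ⟨g⁻¹, ?_⟩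
    show (QuotientGroup.mk (g⁻¹ * g) : G ⧸ N) = _
    rw [inv_mul_cancel]

theorem two_pretransitive [Finite G] (h : CC Q D) :
    IsMultiplyPretransitive G (G ⧸ normalizer (Q : Set G)) 2 := by
  rw [is_two_pretransitive_iff]
  intro a b c d hab hcd
  obtain ⟨g₁, hg₁⟩ := exists_move (normalizer (Q : Set G)) a
  obtain ⟨g₂, hg₂⟩ := exists_move (normalizer (Q : Set G)) c
  have hb : g₁ • b ≠ QuotientGroup.mk 1 := by
    rw [← hg₁]
    intro e
    exact hab (smul_left_cancel g₁ e).symm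
  have hd : g₂ • d ≠ QuotientGroup.mk 1 := by
    rw [← hg₂]
    intro e
    exact hcd (smul_left_cancel g₂ e).symm
  obtain ⟨u, hu, _⟩ := h.Q_reg _ _ hb hd
  refine ⟨g₂⁻¹ * (u : G) * g₁, ?_, ?_⟩
  · rw [mul_smul, mul_smul, hg₁, smul_base (h.Q_le u.2), ← hg₂, inv_smul_smul]
  · rw [mul_smul, mul_smul, hu, inv_smul_smul]

theorem three_fixed [Finite G] (h : CC Q D) (g : G) (a b c : G ⧸ normalizer (Q : Set G))
    (hab : a ≠ b) (hbc : b ≠ c) (hac : a ≠ c) (ha : g • a = a) (hb : g • b = b) (hc : g • c = c) :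
    g = 1 := by
  obtain ⟨g₁, hg₁⟩ := exists_move (normalizer (Q : Set G)) a
  -- conjugate so that `a` is the base point
  set g' := g₁ * g * g₁⁻¹ with hg'
  have hfix : ∀ p : G ⧸ normalizer (Q : Set G), g • p = p → g' • (g₁ • p) = g₁ • p := by
    intro p hp
    rw [hg', ← mul_smul]
    have e : g₁ * g * g₁⁻¹ * g₁ = g₁ * g := by group
    rw [e, mul_smul, hp]
  have hb1 : g₁ • b ≠ QuotientGroup.mk 1 := by
    rw [← hg₁]
    intro e
    exact hab (smul_left_cancel g₁ e).symm
  have hc1 : g₁ • c ≠ QuotientGroup.mk 1 := by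
    rw [← hg₁]
    intro e
    exact hac (smul_left_cancel g₁ e).symm
  have hg'N : g' ∈ normalizer (Q : Set G) := by
    apply mem_of_smul_base
    have := hfix a ha
    rwa [hg₁] at this
  obtain ⟨u, hu, _⟩ := h.Q_reg _ _ hb1 hc1
  have hu1 : (u : G) ≠ 1 := by
    intro e
    rw [e, one_smul] at hu
    exact hbc (smul_left_cancel g₁ hu)
  -- `v = g'⁻¹ u⁻¹ g' u ∈ Q` fixes `g₁ • b`
  have hvQ : g'⁻¹ * (u : G)⁻¹ * g' * (u : G) ∈ Q := by
    apply Q.mul_mem _ u.2
    have := (Subgroup.mem_normalizer_iff.1 (Subgroup.inv_mem _ hg'N) ((u : G)⁻¹)).1 (Q.inv_mem u.2)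
    rwa [inv_inv] at this
  have hvfix : (g'⁻¹ * (u : G)⁻¹ * g' * (u : G)) • (g₁ • b) = g₁ • b := by
    rw [mul_smul, hu, mul_smul, hfix c hc, mul_smul, ← hu, inv_smul_smul, inv_smul_eq_iff, hfix b hb]
  have hv1 : g'⁻¹ * (u : G)⁻¹ * g' * (u : G) = 1 := by
    revert hvfix hb1
    generalize g₁ • b = b'
    intro hb1 hvfix
    induction b' using QuotientGroup.induction_on with
    | H x => exact h.eq_one_of_fix hvQ ((mk_ne_iff x).1 hb1) hvfix
  -- so `g'` commutes with `u`, hence lies in `Q`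
  have hcomm : g' * (u : G) = (u : G) * g' := by
    calc g' * (u : G) = (u : G) * g' * (g'⁻¹ * (u : G)⁻¹ * g' * (u : G)) := by group
      _ = (u : G) * g' := by rw [hv1, mul_one]
  have hg'Q : g' ∈ Q := by
    rw [← h.hCC (u : G) u.2 hu1, Subgroup.mem_centralizer_singleton_iff]
    exact hcomm
  have hg'1 : g' = 1 := by
    have hfb := hfix b hb
    revert hfb hb1
    generalize g₁ • b = b'
    intro hb1 hfb
    induction b' using QuotientGroup.induction_on with
    | H x => exact h.eq_one_of_fix hg'Q ((mk_ne_iff x).1 hb1) hfb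
  calc g = g₁⁻¹ * g' * g₁ := by rw [hg']; group
    _ = 1 := by rw [hg'1]; group

end CC

end Cfsg.Agent.Lib.H4.DihBSW
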