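import Mathlib
import Cfsg.Agent.Lib.H4.DihBSW5

/-!
# Dihedral Sylow 2-subgroups, part 6 (helper4): `G ≅ PSL₂(F)`, `|F|` odd, from the CC-configuration
-/

set_option autoImplicit false
set_option linter.style.haveILetI false

namespace Cfsg.Agent.Lib.H4.DihBSW

open Subgroup MulAction

variable {G : Type*} [Group G]

namespace CC

variable {Q D : Subgroup G}

theorem exists_ne_base [Finite G] (h : CC Q D) :
    ∃ b : G ⧸ normalizer (Q : Set G), b ≠ QuotientGroup.mk 1 := by
  have h1 := h.card_quot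
  have h2 : 1 < Nat.card (G ⧸ normalizer (Q : Set G)) := by
    rw [h1]
    have := h.hq
    omega
  haveI : Nontrivial (G ⧸ normalizer (Q : Set G)) := Finite.one_lt_card_iff_nontrivial.1 h2
  exact exists_ne _

theorem exists_two_fixed [Finite G] (h : CC Q D) :
    ∃ g : G, g ≠ 1 ∧ ∃ a b : G ⧸ normalizer (Q : Set G), a ≠ b ∧ g • a = a ∧ g • b = b := by
  obtain ⟨b, hb⟩ := h.exists_ne_base
  let ψ : normalizer (Q : Set G) → G ⧸ normalizer (Q : Set G) := fun n => (n : G) • b
  have hni : ¬ Function.Injective ψ := by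
    intro hinj
    have h1 := Nat.card_le_card_of_injective ψ hinj
    rw [h.card_N, h.card_quot] at h1
    have h2 := h.card_D_ge
    have h3 := h.hq
    have h4 : Nat.card Q * 2 ≤ Nat.card Q * Nat.card D := Nat.mul_le_mul_left _ h2
    omega
  rw [Function.Injective] at hni
  push Not at hni
  obtain ⟨n₁, n₂, heq, hne⟩ := hni
  refine ⟨(n₂ : G)⁻¹ * (n₁ : G), ?_, QuotientGroup.mk 1, b, hb.symm, ?_, ?_⟩
  · intro e
    apply hne
    apply Subtype.ext
    calc (n₁ : G) = (n₂ : G) * ((n₂ : G)⁻¹ * (n₁ : G)) := by group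
      _ = (n₂ : G) := by rw [e, mul_one]
  · exact smul_base (Subgroup.mul_mem _ (Subgroup.inv_mem _ n₂.2) n₁.2)
  · have : (n₁ : G) • b = (n₂ : G) • b := heq
    rw [mul_smul, this, inv_smul_smul]

theorem no_regular [Finite G] [IsSimpleGroup G] (h : CC Q D) (M : Subgroup G) (hM : M.Normal)
    (hMt : IsPretransitive M (G ⧸ normalizer (Q : Set G))) :
    ∃ a : G ⧸ normalizer (Q : Set G), stabilizer M a ≠ ⊥ := by
  rcases hM.eq_bot_or_eq_top with rfl | rfl
  · exfalso
    obtain ⟨b, hb⟩ := h.exists_ne_base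
    obtain ⟨m, hm⟩ := hMt.exists_smul_eq (QuotientGroup.mk 1 : G ⧸ normalizer (Q : Set G)) b
    have h1 : (m : G) = 1 := Subgroup.mem_bot.1 m.2
    have h2 : (m : G) • (QuotientGroup.mk 1 : G ⧸ normalizer (Q : Set G)) = b := hm
    rw [h1, one_smul] at h2
    exact hb h2.symm
  · refine ⟨QuotientGroup.mk 1, ?_⟩
    have hQ : Q ≠ ⊥ := by
      intro e
      have := h.hq
      rw [e, Subgroup.card_bot] at this
      omega
    obtain ⟨z, hz1⟩ := (Subgroup.ne_bot_iff_exists_ne_one.1 hQ)
    intro hbot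
    have h1 : (⟨(z : G), Subgroup.mem_top _⟩ : (⊤ : Subgroup G)) ∈
        stabilizer (⊤ : Subgroup G) (QuotientGroup.mk 1 : G ⧸ normalizer (Q : Set G)) := by
      rw [mem_stabilizer_iff]
      exact smul_base (h.Q_le z.2)
    rw [hbot, Subgroup.mem_bot] at h1
    have h2 : (z : G) = 1 := congrArg Subtype.val h1
    exact hz1 (Subtype.ext h2)

theorem isZassenhaus [Finite G] [IsSimpleGroup G] (h : CC Q D) :
    Cfsg.IsZassenhausGroup G (G ⧸ normalizer (Q : Set G)) :=
  ⟨Cfsg.Agent.Lib.H2.faithful_quotient_of_simple h.N_ne_top, h.two_pretransitive, h.three_fixed,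
    h.exists_two_fixed, h.no_regular⟩

theorem not_three_pretransitive [Finite G] (h : CC Q D) :
    ¬ IsMultiplyPretransitive G (G ⧸ normalizer (Q : Set G)) 3 := by
  intro h3
  classical
  haveI := Fintype.ofFinite (G ⧸ normalizer (Q : Set G))
  have hcq := h.card_quot
  rw [Nat.card_eq_fintype_card] at hcq
  have hq := h.hq
  obtain ⟨e₀⟩ : Nonempty (Fin 3 ↪ G ⧸ normalizer (Q : Set G)) := by
    apply Function.Embedding.nonempty_of_card_le
    rw [Fintype.card_fin, hcq]
    omega
  have hsurj : Function.Surjective (fun g : G => g • e₀) := fun e => h3.exists_smul_eq e₀ e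
  have h1 := Nat.card_le_card_of_surjective _ hsurj
  rw [Nat.card_eq_fintype_card (α := Fin 3 ↪ G ⧸ normalizer (Q : Set G)),
    Fintype.card_embedding_eq, Fintype.card_fin, hcq, h.card_G, h.card_N] at h1
  have h2 : (Nat.card Q + 1).descFactorial 3 = (Nat.card Q + 1) * (Nat.card Q * (Nat.card Q - 1)) := by
    obtain ⟨m, hm⟩ : ∃ m, Nat.card Q = m + 1 := ⟨Nat.card Q - 1, by omega⟩
    rw [hm, Nat.descFactorial_succ, Nat.descFactorial_succ, Nat.descFactorial_succ,
      Nat.descFactorial_zero]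
    have e0 : m + 1 + 1 - 2 = m := by omega
    have e1 : m + 1 + 1 - 1 = m + 1 := by omega
    have e2 : m + 1 + 1 - 0 = m + 1 + 1 := by omega
    rw [e0, e1, e2, Nat.add_sub_cancel]
    ring
  rw [h2] at h1
  have h3' := h.hD
  have h4 : Nat.card Q - 1 = 2 * Nat.card D := by omega
  rw [h4] at h1
  have hpos : 0 < (Nat.card Q + 1) * (Nat.card Q * Nat.card D) := by
    have := h.card_D_ge
    positivity
  nlinarith

/-- the identification -/
theorem psl2 [Finite G] [IsSimpleGroup G] (h : CC Q D) :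
    ∃ (F : Type) (_ : Field F) (_ : Fintype F), Odd (Fintype.card F) ∧
      Nonempty (G ≃* Matrix.ProjectiveSpecialLinearGroup (Fin 2) F) := by
  have hFn : (Q.subgroupOf (stabilizer G ((QuotientGroup.mk 1 : G ⧸ normalizer (Q : Set G))))).Normal := by
    have : stabilizer G ((QuotientGroup.mk 1 : G ⧸ normalizer (Q : Set G))) = normalizer (Q : Set G) :=
      stabilizer_quotient _
    rw [this]
    exact Subgroup.normal_in_normalizer
  have hFle : Q ≤ stabilizer G ((QuotientGroup.mk 1 : G ⧸ normalizer (Q : Set G))) := by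
    intro z hz
    rw [mem_stabilizer_iff]
    exact smul_base (h.Q_le hz)
  have hFab : IsMulCommutative Q := ⟨⟨fun a b => Subtype.ext (h.Q_comm a.2 b.2)⟩⟩
  rcases Cfsg.Agent.S0731.result h.isZassenhaus (QuotientGroup.mk 1) Q hFle hFn hFab
    (fun y z hy hz => h.Q_reg y z hy hz) with ⟨h3, _⟩ | ⟨K, iK, iKf, hchar, hiso⟩
  · exact absurd h3 h.not_three_pretransitive
  · refine ⟨K, iK, iKf, ?_, hiso⟩
    haveI := ringChar.charP K
    obtain ⟨n, hp, hcard⟩ := FiniteField.card K (ringChar K)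
    rw [hcard]
    exact (hp.odd_of_ne_two hchar).pow

end CC

end Cfsg.Agent.Lib.H4.DihBSW
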