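import Mathlib
import Cfsg.Agent.Lib.H4.DihBSW3
import Cfsg.Agent.Lib.H4.DihBSW6
import Cfsg.Agent.Lib.H2.SmallSimple
import Cfsg.Agent.S0514
import Cfsg.Agent.S0111

/-!
# Dihedral Sylow 2-subgroups, part 7 (helper4): assembly

A simple group with a dihedral Sylow 2-subgroup satisfying the hypotheses (a), (b), (c) on `O(C_G(t))` is
`PSL₂(F)`, `|F|` odd, given the abstract Brauer–Suzuki–Wall theorem for `G` as a hypothesis `bsw`.
-/

set_option autoImplicit false
set_option linter.style.haveILetI false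

namespace Cfsg.Agent.Lib.H4.DihBSW

open Subgroup

/-- the conclusion of the abstract Brauer–Suzuki–Wall theorem -/
def BSWConcl (G : Type*) [Group G] : Prop :=
  ∃ Q D : Subgroup G, 2 * Nat.card G = Nat.card ↥Q * (Nat.card ↥Q + 1) * (Nat.card ↥Q - 1) ∧
    (∀ x ∈ Q, x ≠ 1 → Subgroup.centralizer ({x} : Set G) = Q) ∧
    IsMulCommutative ↥D ∧ 2 * Nat.card ↥D + 1 = Nat.card ↥Q ∧ Q ⊓ D = ⊥ ∧
    Subgroup.normalizer (Q : Set G) = Q ⊔ D ∧
    ∀ X : Subgroup G, X ≤ D → X ≠ ⊥ →
      Subgroup.normalizer (X : Set G) = Subgroup.normalizer (D : Set G) ∧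
      ∃ u : G, orderOf u = 2 ∧ u ∉ D ∧ (∀ d ∈ D, u * d * u⁻¹ = d⁻¹) ∧
        Subgroup.normalizer (D : Set G) = D ⊔ Subgroup.zpowers u

/-- the abstract Brauer–Suzuki–Wall theorem, as a hypothesis on the group `G` -/
def BSWHolds (G : Type*) [Group G] : Prop :=
  ∀ (t : G) (_ : orderOf t = 2)
    (K : Subgroup G) (_ : IsMulCommutative ↥K) (_ : K ≤ Subgroup.centralizer ({t} : Set G)) (_ : t ∈ K)
    (s : G) (_ : orderOf s = 2) (_ : s ∈ Subgroup.centralizer ({t} : Set G)) (_ : s ∉ K)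
    (_ : K ⊔ Subgroup.zpowers s = Subgroup.centralizer ({t} : Set G))
    (_ : K ⊓ Subgroup.centralizer ({s} : Set G) = Subgroup.zpowers t)
    (_ : ∀ x ∈ K, s * x * s⁻¹ = x⁻¹)
    (_ : ∀ g : G, g ∉ Subgroup.centralizer ({t} : Set G) → K ⊓ K.map (MulAut.conj g).toMonoidHom = ⊥)
    (_ : ∀ x y : G, orderOf x = 2 → orderOf y = 2 → IsConj x y), BSWConcl G

variable {G : Type*} [Group G]

/-- a simple group of order 12 with a Sylow 2-subgroup of order at least 4 does not exist -/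
theorem false_of_card_twelve [Finite G] [IsSimpleGroup G] (S : Sylow 2 G)
    (h4 : 4 ≤ Nat.card (S : Subgroup G)) (h12 : Nat.card G = 12) : False := by
  haveI : Fact (Nat.Prime 2) := ⟨Nat.prime_two⟩
  obtain ⟨k, hk⟩ := S.2.exists_card_eq
  have hdvd : Nat.card (S : Subgroup G) ∣ 12 := by
    rw [← h12]; exact Subgroup.card_subgroup_dvd_card _
  have hk3 : k < 4 := by
    by_contra hcon
    have : 2 ^ 4 ≤ 2 ^ k := Nat.pow_le_pow_right (by norm_num) (by omega)
    have := Nat.le_of_dvd (by norm_num) hdvd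
    omega
  have hS4 : Nat.card (S : Subgroup G) = 4 := by
    rw [hk] at hdvd h4 ⊢
    interval_cases k <;> omega
  have hidx : (S : Subgroup G).index = 3 := by
    have := (S : Subgroup G).card_mul_index
    rw [hS4, h12] at this
    omega
  have hne : (S : Subgroup G) ≠ ⊤ := by
    intro e
    rw [e, Subgroup.index_top] at hidx
    omega
  have h1 := Cfsg.Agent.Lib.H2.card_dvd_card_alternating (G := G) (by rw [h12]; norm_num) hne 3 hidx
  have h2 := Cfsg.Agent.Lib.H2.card_alternatingGroup_fin 3 (by norm_num)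
  have h3 : Nat.card (alternatingGroup (Fin 3)) = 3 := by
    have : Nat.factorial 3 = 6 := by decide
    omega
  rw [h12, h3] at h1
  omega

theorem of_bsw [Finite G] [IsSimpleGroup G] (bsw : BSWHolds G) (S : Sylow 2 G) (n : ℕ)
    (hn : 2 ≤ n) (hS : Nonempty ((S : Subgroup G) ≃* DihedralGroup n)) (t : G) (ht : orderOf t = 2)
    (htS : t ∈ (S : Subgroup G))
    (htZ : ∀ s ∈ (S : Subgroup G), s * t = t * s) (O : Subgroup G)
    (hO : O = (Cfsg.oddCore (Subgroup.centralizer ({t} : Set G))).map (Subgroup.centralizer ({t} : Set G)).subtype)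
    (ha : O ≠ ⊥ → IsCyclic ((S : Subgroup G) ⊓ Subgroup.centralizer (O : Set G) : Subgroup G) ∧
      ((S : Subgroup G) ⊓ Subgroup.centralizer (O : Set G)).relIndex (S : Subgroup G) = 2)
    (hb : ∀ s ∈ (S : Subgroup G), s ∉ Subgroup.centralizer (O : Set G) → ∀ y ∈ O, s * y * s⁻¹ = y⁻¹)
    (hc : ∀ Y : Subgroup G, Y ≤ O → Y ≠ ⊥ → Subgroup.normalizer (Y : Set G) ≤ Subgroup.centralizer ({t} : Set G)) :
    ∃ (F : Type) (_ : Field F) (_ : Fintype F), Odd (Fintype.card F) ∧
      Nonempty (G ≃* Matrix.ProjectiveSpecialLinearGroup (Fin 2) F) := by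
  haveI : Fact (Nat.Prime 2) := ⟨Nat.prime_two⟩
  obtain ⟨e⟩ := hS
  haveI : NeZero n := ⟨by omega⟩
  have hcardS : Nat.card (S : Subgroup G) = 2 * n := by
    rw [Nat.card_congr e.toEquiv, DihedralGroup.nat_card]
  have hcard4 : 4 ≤ Nat.card (S : Subgroup G) := by omega
  have hSC : (S : Subgroup G) ≤ centralizer ({t} : Set G) := by
    intro x hx
    rw [Subgroup.mem_centralizer_singleton_iff]
    exact htZ x hx
  obtain ⟨hOC, hOn, hOodd, hOS⟩ :=
    core_facts t S hSC (Cfsg.Agent.S0514.result S n hn ⟨e⟩ t ht) O hO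
  -- the cyclic subgroup `A`
  obtain ⟨A, hAS, hAc, hAi, htA, hAO, hsO'⟩ : ∃ A : Subgroup G, A ≤ (S : Subgroup G) ∧ IsCyclic A ∧
      A.relIndex (S : Subgroup G) = 2 ∧ t ∈ A ∧ A ≤ centralizer (O : Set G) ∧
      ∀ s ∈ (S : Subgroup G), s ∉ A → ∀ y ∈ O, s * y * s⁻¹ = y⁻¹ := by
    by_cases hO1 : O = ⊥
    · obtain ⟨A, hAS, hAc, hAi, htA⟩ := exists_cyclic_of_dihedral (S : Subgroup G) n hn e t htS ht htZ
      refine ⟨A, hAS, hAc, hAi, htA, ?_, ?_⟩
      · intro a _
        rw [Subgroup.mem_centralizer_iff]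
        intro y hy
        rw [hO1, SetLike.mem_coe, Subgroup.mem_bot] at hy
        rw [hy, one_mul, mul_one]
      · intro s _ _ y hy
        rw [hO1, Subgroup.mem_bot] at hy
        rw [hy, mul_one, mul_inv_cancel, inv_one]
    · obtain ⟨h1, h2⟩ := ha hO1
      refine ⟨(S : Subgroup G) ⊓ centralizer (O : Set G), inf_le_left, h1, h2, ⟨htS, ?_⟩, inf_le_right, ?_⟩
      · show t ∈ centralizer (O : Set G)
        rw [Subgroup.mem_centralizer_iff]
        intro y hy
        exact Subgroup.mem_centralizer_singleton_iff.1 (hOC hy)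
      · intro s hsS hsA y hy
        exact hb s hsS (fun hsC => hsA ⟨hsS, hsC⟩) y hy
  have hout := outside_of_dihedral (S : Subgroup G) n hn e A hAS hAc hAi
  obtain ⟨s, hsS, hsA, hall⟩ := Subgroup.relIndex_eq_two_iff_exists_notMem_and.1 hAi
  have cfg : Cfg G t s (S : Subgroup G) A O :=
    { ht := ht
      hS2 := S.isPGroup'
      hSC := hSC
      hAS := hAS
      hAc := hAc
      htA := htA
      hsS := hsS
      hsA := hsA
      hout := hout
      hidx := fun x hx hxA => (hall x hx).resolve_right hxA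
      hOC := hOC
      hOn := hOn
      hOodd := hOodd
      hOS := hOS
      hAO := hAO
      hsO := hsO' s hsS hsA
      hc := hc }
  have hconj : ∀ x y : G, orderOf x = 2 → orderOf y = 2 → IsConj x y :=
    isConj_of_thompson S A hAc hcard4 t ht htA
      (fun u hu huS huA => Cfsg.Agent.S0111.result S A hAS hAi u hu huS huA)
  have hKab : IsMulCommutative ↥(O ⊔ A) := ⟨⟨fun a b => Subtype.ext (cfg.K_comm a.2 b.2)⟩⟩
  obtain ⟨Q, D, hcard, hCC, _, hDcard, hQD, hNQ, _⟩ :=
    bsw t ht (O ⊔ A) hKab cfg.K_le_C (Subgroup.mem_sup_right htA) s cfg.orderOf_s (hSC hsS)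
      cfg.s_notin_K cfg.K_sup cfg.K_inf (fun x hx => cfg.s_inv_K hx) cfg.K_TI hconj
  have hq : 3 < Nat.card Q := by
    by_contra hcon
    have hq3 : Nat.card Q = 1 ∨ Nat.card Q = 3 := by omega
    rcases hq3 with h1 | h3
    · rw [h1] at hcard
      have : 0 < Nat.card G := Nat.card_pos
      omega
    · rw [h3] at hcard
      exact false_of_card_twelve S hcard4 (by omega)
  exact CC.psl2 (Q := Q) (D := D) ⟨hcard, hCC, hDcard, hQD, hNQ, hq⟩

end Cfsg.Agent.Lib.H4.DihBSW
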