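import Mathlib

set_option autoImplicit false
set_option maxHeartbeats 400000

/-! # S5630 / M3, abstract part: the Frobenius-fixed subfield of prime degree inside a finite
commutative division subalgebra -/

namespace Cfsg.Agent.Lib.H4.Asch

open Module

/-- A finite commutative division subalgebra `Z` of an `F`-algebra `A` (with `F` a finite field) of
dimension `≥ 2` over `F` contains, for some prime `r`, the subalgebra
`K = {x ∈ Z | x ^ (|F| ^ r) = x}`, and `K` has dimension `r` over `F`. -/
theorem exists_frobenius_fixed_subalgebra {F A : Type*} [Field F] [Fintype F] [Ring A] [Algebra F A]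
    [Nontrivial A] (Z : Subalgebra F A) [Finite Z]
    (hcomm : ∀ x ∈ Z, ∀ y ∈ Z, x * y = y * x)
    (hinv : ∀ x ∈ Z, x ≠ 0 → ∃ y ∈ Z, x * y = 1)
    (hdim : 2 ≤ finrank F Z) :
    ∃ (r : ℕ) (K : Subalgebra F A), r.Prime ∧
      (∀ x, x ∈ K ↔ x ∈ Z ∧ x ^ (Fintype.card F ^ r) = x) ∧ finrank F K = r := by
  classical
  have hfield : IsField Z := by
    refine ⟨⟨0, 1, zero_ne_one⟩, ?_, ?_⟩
    · rintro ⟨x, hx⟩ ⟨y, hy⟩
      exact Subtype.ext (hcomm x hx y hy)
    · rintro ⟨x, hx⟩ hx0
      have hx0' : x ≠ 0 := fun h => hx0 (Subtype.ext h)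
      obtain ⟨y, hy, hxy⟩ := hinv x hx hx0'
      exact ⟨⟨y, hy⟩, Subtype.ext hxy⟩
  let _ : Field Z := hfield.toField
  set s := finrank F Z with hs
  set r := s.minFac with hr
  have hrp : r.Prime := Nat.minFac_prime (by omega)
  have hrs : r ∣ s := Nat.minFac_dvd s
  have hspos : 0 < s := by omega
  let φ : Z ≃ₐ[F] Z := FiniteField.frobeniusAlgEquivOfAlgebraic F Z
  have hφord : orderOf φ = s := FiniteField.orderOf_frobeniusAlgEquivOfAlgebraic F Z
  let Hs : Subgroup (Z ≃ₐ[F] Z) := Subgroup.zpowers (φ ^ r)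
  have hcardH : Nat.card Hs = s / r := by
    rw [Nat.card_zpowers, orderOf_pow, hφord, Nat.gcd_eq_right hrs]
  let K₀ : IntermediateField F Z := IntermediateField.fixedField Hs
  have h1 : finrank K₀ Z = s / r := by
    rw [IntermediateField.finrank_fixedField_eq_card, hcardH]
  have h2 : finrank F K₀ * finrank K₀ Z = s := Module.finrank_mul_finrank F K₀ Z
  have hK₀ : finrank F K₀ = r := by
    rw [h1] at h2
    obtain ⟨c, hc⟩ := hrs
    have hcpos : 0 < c := by
      rcases Nat.eq_zero_or_pos c with h | h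
      · rw [h, mul_zero] at hc; omega
      · exact h
    rw [hc, Nat.mul_div_cancel_left c hrp.pos] at h2
    have : finrank F K₀ * c = r * c := h2
    exact Nat.eq_of_mul_eq_mul_right hcpos this
  have hmem : ∀ x : Z, x ∈ K₀ ↔ x ^ (Fintype.card F ^ r) = x := by
    intro x
    have hφr : (φ ^ r) x = x ^ (Fintype.card F ^ r) := by
      rw [AlgEquiv.coe_pow]
      have := FiniteField.coe_frobeniusAlgEquivOfAlgebraic_iterate F Z r
      exact congrFun this x
    rw [IntermediateField.mem_fixedField_iff]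
    constructor
    · intro h
      rw [← hφr]
      exact h (φ ^ r) (Subgroup.mem_zpowers _)
    · intro h g hg
      obtain ⟨k, rfl⟩ := Subgroup.mem_zpowers_iff.mp hg
      have hfix : (φ ^ r) x = x := by rw [hφr, h]
      have : ∀ k : ℕ, ((φ ^ r) ^ k) x = x := by
        intro k
        induction k with
        | zero => simp
        | succ k ih => rw [pow_succ, AlgEquiv.mul_apply, hfix, ih]
      have hinvfix : ((φ ^ r)⁻¹) x = x := by
        conv_lhs => rw [← hfix]
        rw [← AlgEquiv.mul_apply, inv_mul_cancel, AlgEquiv.one_apply]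
      have hinv' : ∀ k : ℕ, (((φ ^ r)⁻¹) ^ k) x = x := by
        intro k
        induction k with
        | zero => simp
        | succ k ih => rw [pow_succ, AlgEquiv.mul_apply, hinvfix, ih]
      cases k with
      | ofNat k => simpa using this k
      | negSucc k =>
        rw [zpow_negSucc, ← inv_pow]
        exact hinv' (k + 1)
  refine ⟨r, K₀.toSubalgebra.map Z.val, hrp, ?_, ?_⟩
  · intro x
    rw [Subalgebra.mem_map]
    constructor
    · rintro ⟨y, hy, rfl⟩
      refine ⟨y.2, ?_⟩
      have := (hmem y).mp hy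
      have h3 := congrArg (Subtype.val) this
      simpa using h3
    · rintro ⟨hxZ, hx⟩
      refine ⟨⟨x, hxZ⟩, (hmem ⟨x, hxZ⟩).mpr ?_, rfl⟩
      apply Subtype.ext
      simpa using hx
  · rw [← hK₀]
    have e : K₀.toSubalgebra ≃ₗ[F] (K₀.toSubalgebra.map Z.val) :=
      (Subalgebra.equivMapOfInjective K₀.toSubalgebra Z.val Subtype.val_injective).toLinearEquiv
    exact e.symm.finrank_eq

end Cfsg.Agent.Lib.H4.Asch
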