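import Mathlib
import Cfsg.Prelude.Def_GeometricClasses

set_option autoImplicit false
set_option maxHeartbeats 400000

/-! # S5630 / M3, block part: the centre of the commutant of `{s ⊗ 1}` for an irreducible set `S`
of `d × d` matrices over a finite field is `{c ⊗ 1 | c ∈ E}`, `E` the commutant of `S`, a field. -/

namespace Cfsg.Agent.Lib.H4.Asch

open Cfsg Cfsg.Geo
open scoped Matrix Kronecker

variable {K : Type*} [Field K] {d k : ℕ}

/-- the `(a, b)` block of a matrix indexed by `Fin d × Fin k` -/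
def blk (X : Matrix (Fin d × Fin k) (Fin d × Fin k) K) (a b : Fin k) : Matrix (Fin d) (Fin d) K :=
  Matrix.of fun i j => X (i, a) (j, b)

theorem blk_apply (X : Matrix (Fin d × Fin k) (Fin d × Fin k) K) (a b : Fin k) (i j : Fin d) :
    blk X a b i j = X (i, a) (j, b) := rfl

theorem kron_one_apply (s : Matrix (Fin d) (Fin d) K) (i j : Fin d) (a b : Fin k) :
    (s ⊗ₖ (1 : Matrix (Fin k) (Fin k) K)) (i, a) (j, b) = if a = b then s i j else 0 := by
  simp [Matrix.kroneckerMap_apply, Matrix.one_apply]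

theorem mul_kron_one_apply (X : Matrix (Fin d × Fin k) (Fin d × Fin k) K)
    (s : Matrix (Fin d) (Fin d) K) (i j : Fin d) (a b : Fin k) :
    (X * (s ⊗ₖ (1 : Matrix (Fin k) (Fin k) K))) (i, a) (j, b) = (blk X a b * s) i j := by
  rw [Matrix.mul_apply, Matrix.mul_apply, Fintype.sum_prod_type]
  apply Finset.sum_congr rfl
  intro l _
  simp only [kron_one_apply, blk_apply]
  rw [Finset.sum_eq_single b]
  · simp
  · intro c _ hc
    simp [hc]
  · intro h; exact absurd (Finset.mem_univ b) h

theorem kron_one_mul_apply (X : Matrix (Fin d × Fin k) (Fin d × Fin k) K)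
    (s : Matrix (Fin d) (Fin d) K) (i j : Fin d) (a b : Fin k) :
    ((s ⊗ₖ (1 : Matrix (Fin k) (Fin k) K)) * X) (i, a) (j, b) = (s * blk X a b) i j := by
  rw [Matrix.mul_apply, Matrix.mul_apply, Fintype.sum_prod_type]
  apply Finset.sum_congr rfl
  intro l _
  simp only [kron_one_apply, blk_apply]
  rw [Finset.sum_eq_single a]
  · simp
  · intro c _ hc
    simp [Ne.symm hc]
  · intro h; exact absurd (Finset.mem_univ a) h

/-- commuting with `s ⊗ 1` blockwise -/
theorem commute_kron_one_iff (X : Matrix (Fin d × Fin k) (Fin d × Fin k) K)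
    (s : Matrix (Fin d) (Fin d) K) :
    (s ⊗ₖ (1 : Matrix (Fin k) (Fin k) K)) * X = X * (s ⊗ₖ (1 : Matrix (Fin k) (Fin k) K)) ↔
      ∀ a b, s * blk X a b = blk X a b * s := by
  constructor
  · intro h a b
    ext i j
    rw [← kron_one_mul_apply, ← mul_kron_one_apply, h]
  · intro h
    ext ⟨i, a⟩ ⟨j, b⟩
    rw [kron_one_mul_apply, mul_kron_one_apply, h a b]

theorem blk_kron_one (c : Matrix (Fin d) (Fin d) K) (a b : Fin k) :
    blk (c ⊗ₖ (1 : Matrix (Fin k) (Fin k) K)) a b = if a = b then c else 0 := by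
  ext i j
  rw [blk_apply, kron_one_apply]
  split_ifs <;> rfl

/-- the matrix `1 ⊗ E_ab` -/
def oneKron (a b : Fin k) : Matrix (Fin d × Fin k) (Fin d × Fin k) K :=
  Matrix.of fun p q => if p.1 = q.1 ∧ p.2 = a ∧ q.2 = b then 1 else 0

theorem blk_oneKron (a b a' b' : Fin k) :
    blk (oneKron (K := K) (d := d) a b) a' b' = if a' = a ∧ b' = b then 1 else 0 := by
  ext i j
  rw [blk_apply]
  by_cases h : a' = a ∧ b' = b
  · rw [if_pos h]
    simp [oneKron, h.1, h.2, Matrix.one_apply]
  · rw [if_neg h]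
    simp only [oneKron, Matrix.of_apply, Matrix.zero_apply]
    rw [if_neg]
    rintro ⟨_, h1, h2⟩
    exact h ⟨h1, h2⟩

theorem mul_oneKron_apply (Y : Matrix (Fin d × Fin k) (Fin d × Fin k) K) (a b : Fin k)
    (i j : Fin d) (a' b' : Fin k) :
    (Y * (oneKron a b : Matrix (Fin d × Fin k) (Fin d × Fin k) K)) (i, a') (j, b') = if b' = b then Y (i, a') (j, a) else 0 := by
  rw [Matrix.mul_apply, Fintype.sum_prod_type]
  simp only [oneKron, Matrix.of_apply]
  by_cases hb : b' = b
  · rw [if_pos hb, Finset.sum_eq_single j]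
    · rw [Finset.sum_eq_single a]
      · simp [hb]
      · intro c _ hc
        simp [hc]
      · intro h; exact absurd (Finset.mem_univ a) h
    · intro l _ hl
      apply Finset.sum_eq_zero
      intro c _
      simp [hl]
    · intro h; exact absurd (Finset.mem_univ j) h
  · rw [if_neg hb]
    apply Finset.sum_eq_zero
    intro l _
    apply Finset.sum_eq_zero
    intro c _
    simp [hb]

theorem oneKron_mul_apply (Y : Matrix (Fin d × Fin k) (Fin d × Fin k) K) (a b : Fin k)
    (i j : Fin d) (a' b' : Fin k) :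
    ((oneKron a b : Matrix (Fin d × Fin k) (Fin d × Fin k) K) * Y) (i, a') (j, b') = if a' = a then Y (i, b) (j, b') else 0 := by
  rw [Matrix.mul_apply, Fintype.sum_prod_type]
  simp only [oneKron, Matrix.of_apply]
  by_cases ha : a' = a
  · rw [if_pos ha, Finset.sum_eq_single i]
    · rw [Finset.sum_eq_single b]
      · simp [ha]
      · intro c _ hc
        simp [hc]
      · intro h; exact absurd (Finset.mem_univ b) h
    · intro l _ hl
      apply Finset.sum_eq_zero
      intro c _
      simp [Ne.symm hl]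
    · intro h; exact absurd (Finset.mem_univ i) h
  · rw [if_neg ha]
    apply Finset.sum_eq_zero
    intro l _
    apply Finset.sum_eq_zero
    intro c _
    simp [ha]

/-! ## Schur's lemma and the commutant of an irreducible set -/

/-- **Schur**: a non-zero matrix commuting with an irreducible set is invertible, and its inverse
commutes with the set. -/
theorem exists_inv_of_commute (S : Set (Matrix (Fin d) (Fin d) K)) (hS : ActsIrreducibly S)
    {c : Matrix (Fin d) (Fin d) K} (hc : ∀ s ∈ S, s * c = c * s) (hc0 : c ≠ 0) :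
    ∃ c' : Matrix (Fin d) (Fin d) K, (∀ s ∈ S, s * c' = c' * s) ∧ c * c' = 1 ∧ c' * c = 1 := by
  -- the kernel of `c` is invariant
  have hker : ∀ s ∈ S, (LinearMap.ker (Matrix.toLin' c)).map (Matrix.toLin' s) ≤
      LinearMap.ker (Matrix.toLin' c) := by
    intro s hs v hv
    obtain ⟨w, hw, rfl⟩ := Submodule.mem_map.mp hv
    rw [LinearMap.mem_ker] at hw ⊢
    rw [Matrix.toLin'_apply] at hw ⊢
    rw [Matrix.toLin'_apply, Matrix.mulVec_mulVec, ← hc s hs, ← Matrix.mulVec_mulVec, hw,
      Matrix.mulVec_zero]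
  rcases hS _ hker with h | h
  · -- injective, hence invertible
    have hinj : Function.Injective (Matrix.toLin' c) := LinearMap.ker_eq_bot.mp h
    have hunit : IsUnit c := by
      rw [← Matrix.mulVec_injective_iff_isUnit]
      intro v w hvw
      apply hinj
      rw [Matrix.toLin'_apply, Matrix.toLin'_apply]
      exact hvw
    obtain ⟨u, rfl⟩ := hunit
    refine ⟨((u⁻¹ : (Matrix (Fin d) (Fin d) K)ˣ) : Matrix (Fin d) (Fin d) K), ?_, ?_, ?_⟩
    · intro s hs
      have h1 := hc s hs
      calc s * (u⁻¹ : (Matrix (Fin d) (Fin d) K)ˣ).val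
          = (u⁻¹).val * ((u.val * s) * (u⁻¹).val) := by
            rw [← mul_assoc, ← mul_assoc, Units.inv_mul, one_mul]
        _ = (u⁻¹).val * ((s * u.val) * (u⁻¹).val) := by rw [h1]
        _ = (u⁻¹).val * s := by rw [mul_assoc s, Units.mul_inv, mul_one]
    · exact Units.mul_inv u
    · exact Units.inv_mul u
  · exfalso
    apply hc0
    have : Matrix.toLin' c = 0 := LinearMap.ker_eq_top.mp h
    have h2 := congrArg LinearMap.toMatrix' this
    simpa using h2

/-- the commutant of an irreducible set over a finite field is commutative -/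
theorem commute_of_commutant [Finite K] (S : Set (Matrix (Fin d) (Fin d) K))
    (hS : ActsIrreducibly S) {a b : Matrix (Fin d) (Fin d) K}
    (ha : a ∈ Subalgebra.centralizer K S) (hb : b ∈ Subalgebra.centralizer K S) :
    a * b = b * a := by
  rcases Nat.eq_zero_or_pos d with hd | hd
  · subst hd
    exact Subsingleton.elim _ _
  have : Nonempty (Fin d) := ⟨⟨0, hd⟩⟩
  let E := Subalgebra.centralizer K S
  have : Nontrivial E := ⟨⟨0, 1, fun h => zero_ne_one (congrArg Subtype.val h)⟩⟩
  have : NoZeroDivisors E := by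
    constructor
    rintro ⟨x, hx⟩ ⟨y, hy⟩ hxy
    have hxy' : x * y = 0 := congrArg Subtype.val hxy
    by_cases hx0 : x = 0
    · left; exact Subtype.ext hx0
    · right
      obtain ⟨x', _, _, hx'x⟩ := exists_inv_of_commute S hS
        (fun s hs => ((Subalgebra.mem_centralizer_iff K).mp hx s hs)) hx0
      apply Subtype.ext
      show y = 0
      calc y = (x' * x) * y := by rw [hx'x, one_mul]
        _ = x' * (x * y) := mul_assoc _ _ _
        _ = 0 := by rw [hxy', mul_zero]
  have : IsDomain E := NoZeroDivisors.to_isDomain E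
  have hfield := Finite.isDomain_to_isField E
  have := hfield.mul_comm ⟨a, ha⟩ ⟨b, hb⟩
  exact congrArg Subtype.val this

/-! ## The centre of the commutant of `{s ⊗ 1}` -/

/-- the set `{s ⊗ 1 | s ∈ S}` -/
def kronSet (k : ℕ) (S : Set (Matrix (Fin d) (Fin d) K)) :
    Set (Matrix (Fin d × Fin k) (Fin d × Fin k) K) :=
  (fun s => s ⊗ₖ (1 : Matrix (Fin k) (Fin k) K)) '' S

theorem mem_centralizer_kronSet_iff (S : Set (Matrix (Fin d) (Fin d) K))
    (X : Matrix (Fin d × Fin k) (Fin d × Fin k) K) :
    X ∈ Subalgebra.centralizer K (kronSet k S) ↔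
      ∀ a b, blk X a b ∈ Subalgebra.centralizer K S := by
  rw [Subalgebra.mem_centralizer_iff K]
  constructor
  · intro h a b
    rw [Subalgebra.mem_centralizer_iff K]
    intro s hs
    exact (commute_kron_one_iff X s).mp (h _ ⟨s, hs, rfl⟩) a b
  · rintro h _ ⟨s, hs, rfl⟩
    exact (commute_kron_one_iff X s).mpr
      (fun a b => (Subalgebra.mem_centralizer_iff K).mp (h a b) s hs)

theorem oneKron_mem (S : Set (Matrix (Fin d) (Fin d) K)) (a b : Fin k) :
    (oneKron a b : Matrix (Fin d × Fin k) (Fin d × Fin k) K) ∈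
      Subalgebra.centralizer K (kronSet k S) := by
  rw [mem_centralizer_kronSet_iff]
  intro a' b'
  rw [blk_oneKron]
  split_ifs
  · exact Subalgebra.one_mem _
  · exact Subalgebra.zero_mem _

/-- an element of the centre of the commutant is `c ⊗ 1` -/
theorem exists_eq_kron_one (hk : 0 < k) (S : Set (Matrix (Fin d) (Fin d) K))
    {Y : Matrix (Fin d × Fin k) (Fin d × Fin k) K}
    (hY : Y ∈ Subalgebra.centralizer K (kronSet k S))
    (hY' : Y ∈ Subalgebra.centralizer K
      (Subalgebra.centralizer K (kronSet k S) : Set (Matrix (Fin d × Fin k) (Fin d × Fin k) K))) :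
    ∃ c ∈ Subalgebra.centralizer K S, Y = c ⊗ₖ (1 : Matrix (Fin k) (Fin k) K) := by
  let a₀ : Fin k := ⟨0, hk⟩
  refine ⟨blk Y a₀ a₀, (mem_centralizer_kronSet_iff S Y).mp hY a₀ a₀, ?_⟩
  have hrel : ∀ (a b : Fin k) (i j : Fin d) (a' b' : Fin k),
      (if a' = a then Y (i, b) (j, b') else 0) = (if b' = b then Y (i, a') (j, a) else 0) := by
    intro a b i j a' b'
    have h := (Subalgebra.mem_centralizer_iff K).mp hY' _ (oneKron_mem S a b)
    have h2 := congrFun (congrFun h (i, a')) (j, b')
    rw [oneKron_mul_apply, mul_oneKron_apply] at h2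
    exact h2
  ext ⟨i, a'⟩ ⟨j, b'⟩
  rw [kron_one_apply, blk_apply]
  by_cases hab : a' = b'
  · rw [if_pos hab]
    subst hab
    have := hrel a' a₀ i j a' a₀
    rw [if_pos rfl, if_pos rfl] at this
    exact this.symm
  · rw [if_neg hab]
    have := hrel b' b' i j a' b'
    rw [if_neg hab, if_pos rfl] at this
    exact this.symm

/-- `c ⊗ 1` lies in the centre of the commutant -/
theorem kron_one_mem_center [Finite K] (S : Set (Matrix (Fin d) (Fin d) K))
    (hS : ActsIrreducibly S) {c : Matrix (Fin d) (Fin d) K}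
    (hc : c ∈ Subalgebra.centralizer K S) :
    c ⊗ₖ (1 : Matrix (Fin k) (Fin k) K) ∈ Subalgebra.centralizer K (kronSet k S) ∧
    c ⊗ₖ (1 : Matrix (Fin k) (Fin k) K) ∈ Subalgebra.centralizer K
      (Subalgebra.centralizer K (kronSet k S) : Set (Matrix (Fin d × Fin k) (Fin d × Fin k) K)) := by
  constructor
  · rw [mem_centralizer_kronSet_iff]
    intro a b
    rw [blk_kron_one]
    split_ifs
    · exact hc
    · exact Subalgebra.zero_mem _
  · rw [Subalgebra.mem_centralizer_iff K]
    intro X hX
    have hX' := (mem_centralizer_kronSet_iff S X).mp hX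
    ext ⟨i, a⟩ ⟨j, b⟩
    rw [mul_kron_one_apply, kron_one_mul_apply, commute_of_commutant S hS (hX' a b) hc]

end Cfsg.Agent.Lib.H4.Asch
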