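import Mathlib
import Cfsg.Agent.Lib.Lead.AschDefs
import Cfsg.Agent.Lib.Lead.AschDefs2
import Cfsg.Agent.Lib.H4.AschM3a
import Cfsg.Agent.Lib.H4.AschM3b

set_option autoImplicit false
set_option maxHeartbeats 800000

/-! # S5630 / M3: homogeneous with a constituent that is not absolutely irreducible ⇒ class 3 -/

namespace Cfsg.Agent.Lib.H4.Asch

open Cfsg Cfsg.Geo Cfsg.Agent.Lib.Lead.Asch
open scoped MatrixGroups Matrix Kronecker

section general

variable {F : Type*} [Field F] {A B : Type*} [Ring A] [Ring B] [Algebra F A] [Algebra F B]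

/-- the centre of the commutant of a set -/
def cc (F : Type*) [Field F] {A : Type*} [Ring A] [Algebra F A] (S : Set A) : Subalgebra F A :=
  Subalgebra.centralizer F S ⊓
    Subalgebra.centralizer F (Subalgebra.centralizer F S : Set A)

theorem mem_cc_iff (S : Set A) (z : A) : z ∈ cc F S ↔
    z ∈ Subalgebra.centralizer F S ∧
      z ∈ Subalgebra.centralizer F (Subalgebra.centralizer F S : Set A) := Iff.rfl

theorem cc_comm (S : Set A) {x y : A} (hx : x ∈ cc F S) (hy : y ∈ cc F S) : x * y = y * x :=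
  (Subalgebra.mem_centralizer_iff F).mp hy.2 x hx.1

/-- conjugation invariance of the centralizer -/
theorem conj_mem_centralizer_iff (u : Aˣ) (S : Set A)
    (hS : ∀ s, s ∈ S ↔ (u : A) * s * ((u⁻¹ : Aˣ) : A) ∈ S) (z : A) :
    z ∈ Subalgebra.centralizer F S ↔
      (u : A) * z * ((u⁻¹ : Aˣ) : A) ∈ Subalgebra.centralizer F S := by
  rw [Subalgebra.mem_centralizer_iff F, Subalgebra.mem_centralizer_iff F]
  constructor
  · intro h g hg
    have hg' : ((u⁻¹ : Aˣ) : A) * g * (u : A) ∈ S := by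
      rw [hS]
      have : (u : A) * (((u⁻¹ : Aˣ) : A) * g * (u : A)) * ((u⁻¹ : Aˣ) : A) = g := by
        simp [mul_assoc]
      rw [this]; exact hg
    have h1 := h _ hg'
    calc g * ((u : A) * z * ((u⁻¹ : Aˣ) : A))
        = (u : A) * ((((u⁻¹ : Aˣ) : A) * g * (u : A)) * z) * ((u⁻¹ : Aˣ) : A) := by
          simp [mul_assoc]
      _ = (u : A) * (z * (((u⁻¹ : Aˣ) : A) * g * (u : A))) * ((u⁻¹ : Aˣ) : A) := by rw [h1]
      _ = (u : A) * z * ((u⁻¹ : Aˣ) : A) * g := by simp [mul_assoc]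
  · intro h g hg
    have h1 := h _ ((hS g).mp hg)
    have h2 : (u : A) * (g * z) * ((u⁻¹ : Aˣ) : A) = (u : A) * (z * g) * ((u⁻¹ : Aˣ) : A) := by
      calc (u : A) * (g * z) * ((u⁻¹ : Aˣ) : A)
          = ((u : A) * g * ((u⁻¹ : Aˣ) : A)) * ((u : A) * z * ((u⁻¹ : Aˣ) : A)) := by
            simp [mul_assoc]
        _ = ((u : A) * z * ((u⁻¹ : Aˣ) : A)) * ((u : A) * g * ((u⁻¹ : Aˣ) : A)) := h1
        _ = _ := by simp [mul_assoc]
    have h3 := congrArg (fun w => ((u⁻¹ : Aˣ) : A) * w * (u : A)) h2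
    simpa [mul_assoc] using h3

theorem conj_mem_cc_iff (u : Aˣ) (S : Set A)
    (hS : ∀ s, s ∈ S ↔ (u : A) * s * ((u⁻¹ : Aˣ) : A) ∈ S) (z : A) :
    z ∈ cc F S ↔ (u : A) * z * ((u⁻¹ : Aˣ) : A) ∈ cc F S := by
  rw [mem_cc_iff, mem_cc_iff]
  rw [← conj_mem_centralizer_iff u S hS z]
  rw [← conj_mem_centralizer_iff (F := F) u (Subalgebra.centralizer F S : Set A)
    (fun s => conj_mem_centralizer_iff u S hS s) z]

/-- transport of the centralizer along a multiplicative bijection -/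
theorem mem_centralizer_image_iff (ψ : B ≃* A) (T : Set B) (z : A) :
    z ∈ Subalgebra.centralizer F (ψ '' T) ↔ ψ.symm z ∈ Subalgebra.centralizer F T := by
  rw [Subalgebra.mem_centralizer_iff F, Subalgebra.mem_centralizer_iff F]
  constructor
  · intro h t ht
    have h1 := h (ψ t) ⟨t, ht, rfl⟩
    have h2 := congrArg ψ.symm h1
    simpa using h2
  · rintro h _ ⟨t, ht, rfl⟩
    have h1 := h t ht
    have h2 := congrArg ψ h1
    simpa using h2

theorem mem_cc_image_iff (ψ : B ≃* A) (T : Set B) (z : A) :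
    z ∈ cc F (ψ '' T) ↔ ψ.symm z ∈ cc F T := by
  rw [mem_cc_iff, mem_cc_iff, mem_centralizer_image_iff]
  apply and_congr Iff.rfl
  rw [Subalgebra.mem_centralizer_iff F, Subalgebra.mem_centralizer_iff F]
  constructor
  · intro h Y hY
    have hY' : ψ Y ∈ Subalgebra.centralizer F (ψ '' T) := by
      rw [mem_centralizer_image_iff, MulEquiv.symm_apply_apply]; exact hY
    have h1 := h _ hY'
    have h2 := congrArg ψ.symm h1
    simpa using h2
  · intro h X hX
    have hX' := (mem_centralizer_image_iff (F := F) ψ T X).mp hX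
    have h1 := h _ hX'
    have h2 := congrArg ψ h1
    simpa using h2

end general

section main

variable {F : Type*} [Field F] [Fintype F] {n : ℕ}

/-- the multiplicative bijection `Y ↦ P⁻¹ (reindex Y) P` -/
noncomputable def psi {d k : ℕ} (e : Fin n ≃ Fin d × Fin k) (P : GL (Fin n) F) :
    Matrix (Fin d × Fin k) (Fin d × Fin k) F ≃* Matrix (Fin n) (Fin n) F where
  toFun Y := ((P⁻¹ : GL (Fin n) F) : Matrix (Fin n) (Fin n) F) *
    (Matrix.reindexAlgEquiv F F e.symm Y) * (P : Matrix (Fin n) (Fin n) F)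
  invFun X := (Matrix.reindexAlgEquiv F F e.symm).symm
    ((P : Matrix (Fin n) (Fin n) F) * X * ((P⁻¹ : GL (Fin n) F) : Matrix (Fin n) (Fin n) F))
  left_inv Y := by
    simp only
    have : (P : Matrix (Fin n) (Fin n) F) * (((P⁻¹ : GL (Fin n) F) : Matrix (Fin n) (Fin n) F) *
        (Matrix.reindexAlgEquiv F F e.symm Y) * (P : Matrix (Fin n) (Fin n) F)) *
        ((P⁻¹ : GL (Fin n) F) : Matrix (Fin n) (Fin n) F) = Matrix.reindexAlgEquiv F F e.symm Y := by
      simp [mul_assoc]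
    rw [this, AlgEquiv.symm_apply_apply]
  right_inv X := by
    show ((P⁻¹ : GL (Fin n) F) : Matrix (Fin n) (Fin n) F) *
      (Matrix.reindexAlgEquiv F F e.symm ((Matrix.reindexAlgEquiv F F e.symm).symm
        ((P : Matrix (Fin n) (Fin n) F) * X * ((P⁻¹ : GL (Fin n) F) : Matrix (Fin n) (Fin n) F)))) *
      (P : Matrix (Fin n) (Fin n) F) = X
    rw [AlgEquiv.apply_symm_apply]
    simp [mul_assoc]
  map_mul' Y₁ Y₂ := by
    show ((P⁻¹ : GL (Fin n) F) : Matrix (Fin n) (Fin n) F) *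
        (Matrix.reindexAlgEquiv F F e.symm (Y₁ * Y₂)) * (P : Matrix (Fin n) (Fin n) F) =
      (((P⁻¹ : GL (Fin n) F) : Matrix (Fin n) (Fin n) F) *
        (Matrix.reindexAlgEquiv F F e.symm Y₁) * (P : Matrix (Fin n) (Fin n) F)) *
      (((P⁻¹ : GL (Fin n) F) : Matrix (Fin n) (Fin n) F) *
        (Matrix.reindexAlgEquiv F F e.symm Y₂) * (P : Matrix (Fin n) (Fin n) F))
    have hPP : (P : Matrix (Fin n) (Fin n) F) * ((P⁻¹ : GL (Fin n) F) : Matrix (Fin n) (Fin n) F) = 1 := by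
      simp
    rw [map_mul (Matrix.reindexAlgEquiv F F e.symm) Y₁ Y₂]
    generalize Matrix.reindexAlgEquiv F F e.symm Y₁ = Z₁
    generalize Matrix.reindexAlgEquiv F F e.symm Y₂ = Z₂
    calc ((P⁻¹ : GL (Fin n) F) : Matrix (Fin n) (Fin n) F) * (Z₁ * Z₂) * (P : Matrix (Fin n) (Fin n) F)
        = ((P⁻¹ : GL (Fin n) F) : Matrix (Fin n) (Fin n) F) * Z₁ * 1 * Z₂ * (P : Matrix (Fin n) (Fin n) F) := by
          simp only [mul_one, mul_assoc]
      _ = _ := by rw [← hPP]; simp only [mul_assoc]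

theorem psi_apply {d k : ℕ} (e : Fin n ≃ Fin d × Fin k) (P : GL (Fin n) F)
    (Y : Matrix (Fin d × Fin k) (Fin d × Fin k) F) :
    psi e P Y = ((P⁻¹ : GL (Fin n) F) : Matrix (Fin n) (Fin n) F) *
      (Matrix.reindexAlgEquiv F F e.symm Y) * (P : Matrix (Fin n) (Fin n) F) := rfl

theorem psi_algebraMap {d k : ℕ} (e : Fin n ≃ Fin d × Fin k) (P : GL (Fin n) F) (a : F) :
    psi e P (algebraMap F _ a) = algebraMap F _ a := by
  rw [psi_apply, AlgEquiv.commutes, ← Algebra.commutes, mul_assoc]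
  simp

theorem psi_zero {d k : ℕ} (e : Fin n ≃ Fin d × Fin k) (P : GL (Fin n) F) :
    psi e P 0 = 0 := by
  rw [psi_apply, map_zero, mul_zero, zero_mul]

/-- **M3** (C3). Homogeneous with a constituent that is not absolutely irreducible. -/
theorem tame_of_homog_not_absIrr (hn : 0 < n) (H N : Subgroup (GL (Fin n) F))
    (hnorm : NormalizedBy H N) (D : HomogData N)
    (hna : ¬ ActsAbsolutelyIrreducibly (repSet D.ρ)) : TameC3 H := by
  classical
  have : Nonempty (Fin n) := ⟨⟨0, hn⟩⟩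
  -- dimensions
  have hdk : n = D.d * D.k := by
    have := Fintype.card_congr D.e
    simpa using this
  have hk : 0 < D.k := by
    rcases Nat.eq_zero_or_pos D.k with h | h
    · rw [h, mul_zero] at hdk; omega
    · exact h
  set S := repSet D.ρ with hS
  set T := kronSet D.k S with hT
  set ψ := psi (F := F) D.e D.P with hψ
  -- `ψ` maps `T` onto the matrices of `N`
  have hψx : ∀ x : N, ψ (((D.ρ x : GL (Fin D.d) F) : Matrix (Fin D.d) (Fin D.d) F) ⊗ₖ
      (1 : Matrix (Fin D.k) (Fin D.k) F)) = ((x : GL (Fin n) F) : Matrix (Fin n) (Fin n) F) := by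
    intro x
    rw [hψ, psi_apply, Matrix.coe_reindexAlgEquiv, ← D.eq x]
    simp [mul_assoc]
  have himg : ψ '' T = matrixSet N := by
    ext X
    constructor
    · rintro ⟨Y, ⟨s, ⟨x, rfl⟩, rfl⟩, rfl⟩
      rw [hψx x]
      exact ⟨(x : GL (Fin n) F), x.2, rfl⟩
    · rintro ⟨g, hg, rfl⟩
      exact ⟨_, ⟨_, ⟨⟨g, hg⟩, rfl⟩, rfl⟩, hψx ⟨g, hg⟩⟩
  set Z := cc F (matrixSet N) with hZ
  have hZmem : ∀ z, z ∈ Z ↔ ψ.symm z ∈ cc F T := by
    intro z
    rw [hZ, ← himg]
    exact mem_cc_image_iff ψ T z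
  -- elements of `Z` come from the commutant `E` of `S`
  have hform : ∀ z ∈ Z, ∃ c ∈ Subalgebra.centralizer F S,
      z = ψ (c ⊗ₖ (1 : Matrix (Fin D.k) (Fin D.k) F)) := by
    intro z hz
    have h1 := (hZmem z).mp hz
    obtain ⟨c, hc, hc'⟩ := exists_eq_kron_one hk S h1.1 h1.2
    refine ⟨c, hc, ?_⟩
    rw [← hc', MulEquiv.apply_symm_apply]
  have hback : ∀ c ∈ Subalgebra.centralizer F S,
      ψ (c ⊗ₖ (1 : Matrix (Fin D.k) (Fin D.k) F)) ∈ Z := by
    intro c hc
    rw [hZmem, MulEquiv.symm_apply_apply]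
    exact kron_one_mem_center S D.irr hc
  -- commutativity
  have hcomm : ∀ x ∈ Z, ∀ y ∈ Z, x * y = y * x := fun x hx y hy => cc_comm _ hx hy
  -- inverses
  have hinv : ∀ x ∈ Z, x ≠ 0 → ∃ y ∈ Z, x * y = 1 := by
    intro x hx hx0
    obtain ⟨c, hc, rfl⟩ := hform x hx
    have hc0 : c ≠ 0 := by
      rintro rfl
      apply hx0
      rw [Matrix.zero_kronecker, hψ, psi_zero]
    obtain ⟨c', hc', hcc', _⟩ := exists_inv_of_commute S D.irr
      ((Subalgebra.mem_centralizer_iff F).mp hc) hc0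
    refine ⟨ψ (c' ⊗ₖ (1 : Matrix (Fin D.k) (Fin D.k) F)), hback c' hc', ?_⟩
    rw [← map_mul, ← Matrix.mul_kronecker_mul, hcc', mul_one, Matrix.one_kronecker_one, map_one]
  -- a non-scalar element
  have hdim : 2 ≤ Module.finrank F Z := by
    have hex : ∃ M₀ : Matrix (Fin D.d) (Fin D.d) F, (∀ s ∈ S, M₀ * s = s * M₀) ∧
        ¬ ∃ c : F, M₀ = c • (1 : Matrix (Fin D.d) (Fin D.d) F) := by
      by_contra hcon
      push Not at hcon
      exact hna ⟨D.irr, hcon⟩
    obtain ⟨M₀, hM₀, hM₀'⟩ := hex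
    have hM₀E : M₀ ∈ Subalgebra.centralizer F S := by
      rw [Subalgebra.mem_centralizer_iff F]
      intro s hs
      exact (hM₀ s hs).symm
    have hz₀ := hback M₀ hM₀E
    by_contra hlt
    push Not at hlt
    have hpos : 0 < Module.finrank F Z := Module.finrank_pos
    have h1 : Module.finrank F Z = 1 := by omega
    have hbot : Z = ⊥ := Subalgebra.finrank_eq_one_iff.mp h1
    rw [hbot, Algebra.mem_bot] at hz₀
    obtain ⟨a, ha⟩ := hz₀
    apply hM₀'
    refine ⟨a, ?_⟩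
    have h2 : ψ (algebraMap F _ a) = ψ (M₀ ⊗ₖ (1 : Matrix (Fin D.k) (Fin D.k) F)) := by
      rw [hψ, psi_algebraMap, ← hψ, ha]
    have h3 := ψ.injective h2
    ext i j
    have h4 := congrFun (congrFun h3 (i, ⟨0, hk⟩)) (j, ⟨0, hk⟩)
    rw [kron_one_apply, if_pos rfl] at h4
    rw [← h4, Matrix.algebraMap_matrix_apply, Matrix.smul_apply, Matrix.one_apply]
    by_cases hij : i = j
    · subst hij; simp
    · have : (i, (⟨0, hk⟩ : Fin D.k)) ≠ (j, ⟨0, hk⟩) := fun h => hij (Prod.ext_iff.mp h).1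
      simp [hij, this]
  obtain ⟨r, K, hrp, hK, hKr⟩ := exists_frobenius_fixed_subalgebra Z hcomm hinv hdim
  set m := Fintype.card F ^ r with hm
  have hfield : IsFieldSubalgebra r K := by
    refine ⟨?_, ?_, hKr⟩
    · intro x hx y hy
      exact hcomm x ((hK x).mp hx).1 y ((hK y).mp hy).1
    · intro x hx hx0
      obtain ⟨hxZ, hxm⟩ := (hK x).mp hx
      obtain ⟨y, hyZ, hxy⟩ := hinv x hxZ hx0
      refine ⟨y, (hK y).mpr ⟨hyZ, ?_⟩, hxy⟩
      have hyx : y * x = 1 := by rw [← hcomm x hxZ y hyZ, hxy]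
      have hc : Commute x y := hcomm x hxZ y hyZ
      have h1 : x * y ^ m = 1 := by
        have := hc.mul_pow m
        rw [hxy, one_pow, hxm] at this
        exact this.symm
      calc y ^ m = (y * x) * y ^ m := by rw [hyx, one_mul]
        _ = y * (x * y ^ m) := mul_assoc _ _ _
        _ = y := by rw [h1, mul_one]
  refine ⟨r, K, hrp, hfield, ?_⟩
  · intro h hh
    show ∀ k' : Matrix (Fin n) (Fin n) F, k' ∈ K ↔
      (h : Matrix (Fin n) (Fin n) F) * k' * ((h⁻¹ : GL (Fin n) F) : Matrix (Fin n) (Fin n) F) ∈ K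
    intro k'
    have hSinv : ∀ s, s ∈ matrixSet N ↔
        (h : Matrix (Fin n) (Fin n) F) * s * ((h⁻¹ : GL (Fin n) F) : Matrix (Fin n) (Fin n) F) ∈
          matrixSet N := by
      intro s
      constructor
      · rintro ⟨x, hx, rfl⟩
        exact ⟨h * x * h⁻¹, hnorm h hh x hx, by simp⟩
      · rintro ⟨y, hy, hys⟩
        refine ⟨h⁻¹ * y * h, ?_, ?_⟩
        · have := hnorm h⁻¹ (H.inv_mem hh) y hy
          rwa [inv_inv] at this
        · have hys' : (y : Matrix (Fin n) (Fin n) F) =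
              (h : Matrix (Fin n) (Fin n) F) * s * ((h⁻¹ : GL (Fin n) F) : Matrix (Fin n) (Fin n) F) := hys
          show ((h⁻¹ * y * h : GL (Fin n) F) : Matrix (Fin n) (Fin n) F) = s
          rw [Units.val_mul, Units.val_mul, hys']
          simp [mul_assoc]
    have hZconj := conj_mem_cc_iff (F := F) h (matrixSet N) hSinv k'
    rw [hK, hK, ← hZ] at *
    rw [← hZconj]
    apply and_congr Iff.rfl
    rw [Units.conj_pow]
    constructor
    · intro h1; rw [h1]
    · intro h1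
      have h2 := congrArg (fun w => ((h⁻¹ : GL (Fin n) F) : Matrix (Fin n) (Fin n) F) * w *
        (h : Matrix (Fin n) (Fin n) F)) h1
      simpa [mul_assoc] using h2

end main

end Cfsg.Agent.Lib.H4.Asch
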