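import Mathlib
import Cfsg.Agent.Lib.Lead.AschDefs2
import Cfsg.Agent.Lib.H4.AschM3

set_option autoImplicit false
set_option maxHeartbeats 800000

/-! # S5630 / M83-A: the constituent of `A` is absolutely irreducible when `A ⊔ B` is and `B`
centralises `A` -/

namespace Cfsg.Agent.Lib.H4.Asch

open Cfsg Cfsg.Geo Cfsg.Agent.Lib.Lead.Asch
open scoped MatrixGroups Matrix Kronecker

variable {F : Type*} [Field F] {n : ℕ}

/-- `ψ (ρ x ⊗ 1) = x` for homogeneous data -/
theorem psi_rep [Fintype F] {N : Subgroup (GL (Fin n) F)} (D : HomogData N) (x : N) :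
    psi (F := F) D.e D.P (((D.ρ x : GL (Fin D.d) F) : Matrix (Fin D.d) (Fin D.d) F) ⊗ₖ
      (1 : Matrix (Fin D.k) (Fin D.k) F)) = ((x : GL (Fin n) F) : Matrix (Fin n) (Fin n) F) := by
  rw [psi_apply, Matrix.coe_reindexAlgEquiv, ← D.eq x]
  simp [mul_assoc]

/-- `A`, `B` commute elementwise, `A ⊔ B` is absolutely irreducible, `D : HomogData A`:
the constituent `D.ρ` is absolutely irreducible. -/
theorem absIrr_rep_of_commuting [Fintype F] (hn : 0 < n) (A B : Subgroup (GL (Fin n) F))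
    (hcomm : ∀ a ∈ A, ∀ b ∈ B, a * b = b * a)
    (habs : ActsAbsolutelyIrreducibly (matrixSet (A ⊔ B))) (D : HomogData A) :
    ActsAbsolutelyIrreducibly (repSet D.ρ) := by
  classical
  refine ⟨D.irr, ?_⟩
  intro c hc
  have hdk : n = D.d * D.k := by
    have := Fintype.card_congr D.e
    simpa using this
  have hk : 0 < D.k := by
    rcases Nat.eq_zero_or_pos D.k with h | h
    · rw [h, mul_zero] at hdk; omega
    · exact h
  set S := repSet D.ρ with hS
  set ψ := psi (F := F) D.e D.P with hψ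
  have hcE : c ∈ Subalgebra.centralizer F S := by
    rw [Subalgebra.mem_centralizer_iff F]
    intro s hs
    exact (hc s hs).symm
  set z := ψ (c ⊗ₖ (1 : Matrix (Fin D.k) (Fin D.k) F)) with hz
  -- `z` commutes with `A`
  have hzA : ∀ x ∈ A, z * ((x : GL (Fin n) F) : Matrix (Fin n) (Fin n) F) =
      ((x : GL (Fin n) F) : Matrix (Fin n) (Fin n) F) * z := by
    intro x hx
    have h1 := psi_rep D ⟨x, hx⟩
    rw [← hψ] at h1
    have h2 : ((x : GL (Fin n) F) : Matrix (Fin n) (Fin n) F) =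
        ψ (((D.ρ ⟨x, hx⟩ : GL (Fin D.d) F) : Matrix (Fin D.d) (Fin D.d) F) ⊗ₖ
          (1 : Matrix (Fin D.k) (Fin D.k) F)) := h1.symm
    rw [h2, hz, ← map_mul, ← map_mul, ← Matrix.mul_kronecker_mul, ← Matrix.mul_kronecker_mul,
      hc _ ⟨⟨x, hx⟩, rfl⟩]
  -- `z` commutes with `B`
  have hzB : ∀ b ∈ B, z * ((b : GL (Fin n) F) : Matrix (Fin n) (Fin n) F) =
      ((b : GL (Fin n) F) : Matrix (Fin n) (Fin n) F) * z := by
    intro b hb
    set Y := ψ.symm ((b : GL (Fin n) F) : Matrix (Fin n) (Fin n) F) with hY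
    have hYb : ψ Y = ((b : GL (Fin n) F) : Matrix (Fin n) (Fin n) F) := by
      rw [hY, MulEquiv.apply_symm_apply]
    have hYmem : Y ∈ Subalgebra.centralizer F (kronSet D.k S) := by
      rw [Subalgebra.mem_centralizer_iff F]
      rintro _ ⟨s, ⟨x, rfl⟩, rfl⟩
      apply ψ.injective
      rw [map_mul, map_mul, hYb]
      have h1 := psi_rep D x
      rw [← hψ] at h1
      show ψ (((D.ρ x : GL (Fin D.d) F) : Matrix (Fin D.d) (Fin D.d) F) ⊗ₖ
          (1 : Matrix (Fin D.k) (Fin D.k) F)) * _ = _ * ψ (((D.ρ x : GL (Fin D.d) F) :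
            Matrix (Fin D.d) (Fin D.d) F) ⊗ₖ (1 : Matrix (Fin D.k) (Fin D.k) F))
      rw [h1]
      have h3 := hcomm (x : GL (Fin n) F) x.2 b hb
      have h4 := congrArg (fun g : GL (Fin n) F => (g : Matrix (Fin n) (Fin n) F)) h3
      simpa using h4
    have hcen := (kron_one_mem_center (k := D.k) S D.irr hcE).2
    have h5 := (Subalgebra.mem_centralizer_iff F).mp hcen Y hYmem
    rw [← hYb, hz, ← map_mul, ← map_mul, h5]
  -- `z` commutes with `A ⊔ B`
  let Cz : Subgroup (GL (Fin n) F) :=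
    { carrier := {g | z * (g : Matrix (Fin n) (Fin n) F) = (g : Matrix (Fin n) (Fin n) F) * z}
      mul_mem' := by
        intro g h hg hh
        show z * ((g * h : GL (Fin n) F) : Matrix (Fin n) (Fin n) F) = _ * z
        have hg' : z * (g : Matrix (Fin n) (Fin n) F) = (g : Matrix (Fin n) (Fin n) F) * z := hg
        have hh' : z * (h : Matrix (Fin n) (Fin n) F) = (h : Matrix (Fin n) (Fin n) F) * z := hh
        rw [Units.val_mul, ← mul_assoc, hg', mul_assoc, hh', mul_assoc]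
      one_mem' := by simp
      inv_mem' := by
        intro g hg
        have hg' : z * (g : Matrix (Fin n) (Fin n) F) = (g : Matrix (Fin n) (Fin n) F) * z := hg
        show z * ((g⁻¹ : GL (Fin n) F) : Matrix (Fin n) (Fin n) F) = _ * z
        have h1 : ((g⁻¹ : GL (Fin n) F) : Matrix (Fin n) (Fin n) F) *
            (g : Matrix (Fin n) (Fin n) F) = 1 := by simp
        have h2 : (g : Matrix (Fin n) (Fin n) F) *
            ((g⁻¹ : GL (Fin n) F) : Matrix (Fin n) (Fin n) F) = 1 := by simp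
        calc z * ((g⁻¹ : GL (Fin n) F) : Matrix (Fin n) (Fin n) F)
            = ((g⁻¹ : GL (Fin n) F) : Matrix (Fin n) (Fin n) F) *
                ((g : Matrix (Fin n) (Fin n) F) * z) *
                ((g⁻¹ : GL (Fin n) F) : Matrix (Fin n) (Fin n) F) := by
              rw [← mul_assoc, h1, one_mul]
          _ = ((g⁻¹ : GL (Fin n) F) : Matrix (Fin n) (Fin n) F) *
                (z * (g : Matrix (Fin n) (Fin n) F)) *
                ((g⁻¹ : GL (Fin n) F) : Matrix (Fin n) (Fin n) F) := by rw [hg']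
          _ = _ := by rw [mul_assoc, mul_assoc, h2, mul_one] }
  have hAB : A ⊔ B ≤ Cz := sup_le (fun x hx => hzA x hx) (fun b hb => hzB b hb)
  obtain ⟨a, ha⟩ := habs.2 z (by
    rintro _ ⟨g, hg, rfl⟩
    exact hAB hg)
  refine ⟨a, ?_⟩
  have h2 : ψ (algebraMap F _ a) = ψ (c ⊗ₖ (1 : Matrix (Fin D.k) (Fin D.k) F)) := by
    rw [hψ, psi_algebraMap, ← hψ, ← hz, ha, Algebra.algebraMap_eq_smul_one]
  have h3 := ψ.injective h2
  ext i j
  have h4 := congrFun (congrFun h3 (i, ⟨0, hk⟩)) (j, ⟨0, hk⟩)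
  rw [kron_one_apply, if_pos rfl] at h4
  rw [← h4, Matrix.algebraMap_matrix_apply, Matrix.smul_apply, Matrix.one_apply]
  by_cases hij : i = j
  · subst hij; simp
  · have : (i, (⟨0, hk⟩ : Fin D.k)) ≠ (j, ⟨0, hk⟩) := fun h => hij (Prod.ext_iff.mp h).1
    simp [hij, this]

end Cfsg.Agent.Lib.H4.Asch
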