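import Mathlib
import Cfsg.Agent.Lib.Lead.AschUDefs
import Cfsg.Agent.Lib.H4.AschM3
import Cfsg.Agent.Lib.H4.Herm

set_option autoImplicit false
set_option maxHeartbeats 800000

/-! # S5663 / UM3: homogeneous with a constituent that is not absolutely irreducible ⇒ class 3 (unitary) -/

namespace Cfsg.Agent.Lib.H4.Asch

theorem card_le_of_forall_pow_eq {K : Type*} [Field K] (S : Finset K) {m : ℕ} (hm : 1 < m)
    (h : ∀ x ∈ S, x ^ m = x) : S.card ≤ m := by
  classical
  have hne : (Polynomial.X ^ m - Polynomial.X : Polynomial K) ≠ 0 :=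
    FiniteField.X_pow_card_sub_X_ne_zero K hm
  have hdeg := FiniteField.X_pow_card_sub_X_natDegree_eq K hm
  rw [← hdeg]
  apply Polynomial.card_le_degree_of_subset_roots
  intro x hx
  rw [Polynomial.mem_roots hne]
  have hx' : x ∈ S := by simpa using hx
  simp [h x hx']

theorem exists_pow_ne {F : Type*} [Field F] [Fintype F] {q : ℕ} (hF : Fintype.card F = q ^ 2) :
    ∃ c : F, c ^ q ≠ c := by
  classical
  by_contra h
  push Not at h
  have h1 : 1 < Fintype.card F := Fintype.one_lt_card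
  have hq : 2 ≤ q := by
    by_contra hq
    push Not at hq
    interval_cases q <;> simp at hF <;> omega
  have := card_le_of_forall_pow_eq (Finset.univ : Finset F) (by omega : 1 < q) (fun x _ => h x)
  rw [Finset.card_univ, hF] at this
  nlinarith

theorem no_involution_of_finrank_two {F K : Type*} [Field F] [Fintype F] [Field K] [Algebra F K]
    [Finite K] {q : ℕ} (hF : Fintype.card F = q ^ 2) (hK : Module.finrank F K = 2)
    (τ : K ≃+* K) (hτ2 : ∀ x, τ (τ x) = x)
    (hτF : ∀ c : F, τ (algebraMap F K c) = algebraMap F K (c ^ q)) : False := by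
  classical
  have : Fintype K := Fintype.ofFinite K
  obtain ⟨c, hc⟩ := exists_pow_ne hF
  have h1 : 1 < Fintype.card F := Fintype.one_lt_card
  have hq : 2 ≤ q := by
    by_contra hq
    push Not at hq
    interval_cases q <;> simp at hF <;> omega
  have hτ1 : τ ≠ 1 := by
    intro h
    have := hτF c
    rw [h, RingAut.one_apply] at this
    exact hc ((algebraMap F K).injective this.symm)
  have hord : orderOf τ = 2 := by
    refine orderOf_eq_prime ?_ hτ1
    ext x
    simp [pow_two, hτ2]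
  have : Finite (K ≃+* K) :=
    Finite.of_injective (fun e : K ≃+* K => (e : K → K)) DFunLike.coe_injective
  let G := Subgroup.zpowers τ
  have hG : Nat.card G = 2 := by rw [Nat.card_zpowers, hord]
  have : Fintype G := Fintype.ofFinite G
  have h2 : Module.finrank (FixedPoints.subfield G K) K = 2 := by
    rw [FixedPoints.finrank_eq_card, ← Nat.card_eq_fintype_card, hG]
  have hcardK : Fintype.card K = (q ^ 2) ^ 2 := by
    rw [Module.card_eq_pow_finrank (K := F) (V := K), hK, hF]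
  have hcardK' : Fintype.card K = (Fintype.card (FixedPoints.subfield G K)) ^ 2 := by
    rw [Module.card_eq_pow_finrank (K := FixedPoints.subfield G K) (V := K), h2]
  have hcard0 : Fintype.card (FixedPoints.subfield G K) = q ^ 2 := by
    have := hcardK.symm.trans hcardK'
    exact (Nat.pow_left_injective (by norm_num : 2 ≠ 0) this).symm
  let R : Finset K := Finset.univ.filter (fun x => x ^ (q ^ 2) = x)
  have hRle : R.card ≤ q ^ 2 :=
    card_le_of_forall_pow_eq R (by nlinarith) (fun x hx => (Finset.mem_filter.mp hx).2)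
  let I : Finset K := Finset.univ.image (fun x : FixedPoints.subfield G K => (x : K))
  have hIcard : I.card = q ^ 2 := by
    rw [Finset.card_image_of_injective _ Subtype.val_injective, Finset.card_univ, hcard0]
  have hIR : I ⊆ R := by
    intro x hx
    obtain ⟨y, -, rfl⟩ := Finset.mem_image.mp hx
    refine Finset.mem_filter.mpr ⟨Finset.mem_univ _, ?_⟩
    have := FiniteField.pow_card y
    rw [hcard0] at this
    exact_mod_cast congrArg Subtype.val this
  have hIeq : I = R := Finset.eq_of_subset_of_card_le hIR (by rw [hIcard]; exact hRle)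
  have hcR : algebraMap F K c ∈ R := by
    refine Finset.mem_filter.mpr ⟨Finset.mem_univ _, ?_⟩
    rw [← map_pow, ← hF, FiniteField.pow_card]
  rw [← hIeq] at hcR
  obtain ⟨y, -, hy⟩ := Finset.mem_image.mp hcR
  have hfix : τ (y : K) = y := by
    have := y.2 ⟨τ, Subgroup.mem_zpowers τ⟩
    exact this
  rw [hy, hτF] at hfix
  exact hc ((algebraMap F K).injective hfix)



open Cfsg Cfsg.Geo Cfsg.Agent.Lib.Lead.Asch
open scoped MatrixGroups Matrix Kronecker

section adjoint

variable {F : Type*} [Field F] {n : ℕ}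

/-- the adjoint `σ(k)ᵀ` of a matrix for the standard hermitian form -/
def adj (φ : F →+* F) (k : Matrix (Fin n) (Fin n) F) : Matrix (Fin n) (Fin n) F :=
  (k.map φ)ᵀ

theorem adj_apply (φ : F →+* F) (k : Matrix (Fin n) (Fin n) F) (i j : Fin n) :
    adj φ k i j = φ (k j i) := rfl

theorem adj_mul (φ : F →+* F) (a b : Matrix (Fin n) (Fin n) F) :
    adj φ (a * b) = adj φ b * adj φ a := by
  unfold adj
  rw [Matrix.map_mul, Matrix.transpose_mul]

theorem adj_add (φ : F →+* F) (a b : Matrix (Fin n) (Fin n) F) :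
    adj φ (a + b) = adj φ a + adj φ b := by
  ext i j
  simp [adj_apply]

theorem adj_one (φ : F →+* F) : adj φ (1 : Matrix (Fin n) (Fin n) F) = 1 := by
  ext i j
  rw [adj_apply, Matrix.one_apply, Matrix.one_apply]
  by_cases h : i = j
  · subst h; simp
  · rw [if_neg h, if_neg (Ne.symm h), map_zero]

theorem adj_algebraMap (φ : F →+* F) (c : F) :
    adj φ (algebraMap F (Matrix (Fin n) (Fin n) F) c) = algebraMap F _ (φ c) := by
  ext i j
  rw [adj_apply, Matrix.algebraMap_matrix_apply, Matrix.algebraMap_matrix_apply]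
  by_cases h : i = j
  · subst h; simp
  · rw [if_neg h, if_neg (Ne.symm h), map_zero]

theorem adj_adj (φ : F →+* F) (hφ2 : ∀ x, φ (φ x) = x) (a : Matrix (Fin n) (Fin n) F) :
    adj φ (adj φ a) = a := by
  ext i j
  rw [adj_apply, adj_apply, hφ2]

theorem adj_pow (φ : F →+* F) (a : Matrix (Fin n) (Fin n) F) (m : ℕ) :
    adj φ (a ^ m) = (adj φ a) ^ m := by
  induction m with
  | zero => rw [pow_zero, pow_zero, adj_one]
  | succ m ih => rw [pow_succ, adj_mul, ih, pow_succ']

theorem hermForm_adj {q : ℕ} (φ : F →+* F) (hφ : ∀ x, φ x = x ^ q) (hφ2 : ∀ x, φ (φ x) = x)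
    (k : Matrix (Fin n) (Fin n) F) (u v : Fin n → F) :
    hermForm n F q (k *ᵥ u) v = hermForm n F q u (adj φ k *ᵥ v) := by
  unfold hermForm
  simp only [Matrix.mulVec, dotProduct, ← hφ, map_sum, map_mul, adj_apply, hφ2]
  simp only [Finset.sum_mul, Finset.mul_sum]
  rw [Finset.sum_comm]
  refine Finset.sum_congr rfl fun j _ => Finset.sum_congr rfl fun i _ => ?_
  ring

theorem adj_mul_self_of_mem_GU {q : ℕ} (φ : F →+* F) (hφ : ∀ x, φ x = x ^ q)
    (hφ2 : ∀ x, φ (φ x) = x) (g : GL (Fin n) F) (hg : g ∈ GU n F q) :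
    adj φ (g : Matrix (Fin n) (Fin n) F) * (g : Matrix (Fin n) (Fin n) F) = 1 := by
  classical
  have hinj : Function.Injective φ := φ.injective
  have h1 : ∀ u v : Fin n → F, hermForm n F q u
      ((adj φ (g : Matrix (Fin n) (Fin n) F) * (g : Matrix (Fin n) (Fin n) F)) *ᵥ v) =
      hermForm n F q u v := by
    intro u v
    rw [← Matrix.mulVec_mulVec, ← hermForm_adj φ hφ hφ2]
    exact hg u v
  have h2 : ∀ v : Fin n → F,
      (adj φ (g : Matrix (Fin n) (Fin n) F) * (g : Matrix (Fin n) (Fin n) F)) *ᵥ v = v := by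
    intro v
    ext i
    have := h1 (Pi.single i 1) v
    unfold hermForm at this
    simp only [Pi.single_apply, ite_mul, one_mul, zero_mul, Finset.sum_ite_eq', Finset.mem_univ,
      if_true, ← hφ] at this
    exact hinj this
  apply Matrix.toLin'.injective
  apply LinearMap.ext
  intro v
  rw [Matrix.toLin'_apply, h2, Matrix.toLin'_one, LinearMap.id_apply]

theorem adj_eq_inv_of_mem_GU {q : ℕ} (φ : F →+* F) (hφ : ∀ x, φ x = x ^ q)
    (hφ2 : ∀ x, φ (φ x) = x) (g : GL (Fin n) F) (hg : g ∈ GU n F q) :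
    adj φ (g : Matrix (Fin n) (Fin n) F) = ((g⁻¹ : GL (Fin n) F) : Matrix (Fin n) (Fin n) F) := by
  have h := adj_mul_self_of_mem_GU φ hφ hφ2 g hg
  calc adj φ (g : Matrix (Fin n) (Fin n) F)
      = adj φ (g : Matrix (Fin n) (Fin n) F) * ((g : Matrix (Fin n) (Fin n) F) *
          ((g⁻¹ : GL (Fin n) F) : Matrix (Fin n) (Fin n) F)) := by
        rw [← Units.val_mul, mul_inv_cancel, Units.val_one, mul_one]
    _ = ((g⁻¹ : GL (Fin n) F) : Matrix (Fin n) (Fin n) F) := by rw [← mul_assoc, h, one_mul]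

/-- the commutant of an adjoint-stable set is adjoint-stable -/
theorem adj_mem_centralizer (φ : F →+* F) (hφ2 : ∀ x, φ (φ x) = x)
    (S : Set (Matrix (Fin n) (Fin n) F)) (hS : ∀ s ∈ S, adj φ s ∈ S)
    (z : Matrix (Fin n) (Fin n) F) (hz : z ∈ Subalgebra.centralizer F S) :
    adj φ z ∈ Subalgebra.centralizer F S := by
  rw [Subalgebra.mem_centralizer_iff F] at hz ⊢
  intro s hs
  have h1 := hz (adj φ s) (hS s hs)
  have h2 := congrArg (adj φ) h1
  rw [adj_mul, adj_mul, adj_adj φ hφ2] at h2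
  exact h2.symm

theorem adj_mem_cc (φ : F →+* F) (hφ2 : ∀ x, φ (φ x) = x)
    (S : Set (Matrix (Fin n) (Fin n) F)) (hS : ∀ s ∈ S, adj φ s ∈ S)
    (z : Matrix (Fin n) (Fin n) F) (hz : z ∈ cc F S) : adj φ z ∈ cc F S := by
  rw [mem_cc_iff] at hz ⊢
  refine ⟨adj_mem_centralizer φ hφ2 S hS z hz.1, ?_⟩
  exact adj_mem_centralizer φ hφ2 _ (fun s hs => adj_mem_centralizer φ hφ2 S hS s hs) z hz.2

end adjoint


section main

variable {F : Type*} [Field F] [Fintype F] {n : ℕ}

/-- the centre of the commutant of a homogeneous `N` whose constituent is not absolutely irreducible is a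
commutative division algebra of dimension at least 2 -/
theorem cc_field_props (hn : 0 < n) (N : Subgroup (GL (Fin n) F)) (D : HomogData N)
    (hna : ¬ ActsAbsolutelyIrreducibly (repSet D.ρ)) :
    (∀ x ∈ cc F (matrixSet N), ∀ y ∈ cc F (matrixSet N), x * y = y * x) ∧
    (∀ x ∈ cc F (matrixSet N), x ≠ 0 → ∃ y ∈ cc F (matrixSet N), x * y = 1) ∧
    2 ≤ Module.finrank F (cc F (matrixSet N)) := by
  classical
  have : Nonempty (Fin n) := ⟨⟨0, hn⟩⟩
  have hdk : n = D.d * D.k := by
    have := Fintype.card_congr D.e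
    simpa using this
  have hk : 0 < D.k := by
    rcases Nat.eq_zero_or_pos D.k with h | h
    · rw [h, mul_zero] at hdk; omega
    · exact h
  set S := repSet D.ρ with hS
  set T := kronSet D.k S with hT
  set ψ := psi (F := F) D.e D.P with hψ
  have hψx : ∀ x : N, ψ (((D.ρ x : GL (Fin D.d) F) : Matrix (Fin D.d) (Fin D.d) F) ⊗ₖ
      (1 : Matrix (Fin D.k) (Fin D.k) F)) = ((x : GL (Fin n) F) : Matrix (Fin n) (Fin n) F) := by
    intro x
    rw [hψ, psi_apply, Matrix.coe_reindexAlgEquiv, ← D.eq x]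
    simp [mul_assoc]
  have himg : ψ '' T = matrixSet N := by
    ext X
    constructor
    · rintro ⟨Y, ⟨s, ⟨x, rfl⟩, rfl⟩, rfl⟩
      rw [hψx x]
      exact ⟨(x : GL (Fin n) F), x.2, rfl⟩
    · rintro ⟨g, hg, rfl⟩
      exact ⟨_, ⟨_, ⟨⟨g, hg⟩, rfl⟩, rfl⟩, hψx ⟨g, hg⟩⟩
  set Z := cc F (matrixSet N) with hZ
  have hZmem : ∀ z, z ∈ Z ↔ ψ.symm z ∈ cc F T := by
    intro z
    rw [hZ, ← himg]
    exact mem_cc_image_iff ψ T z
  have hform : ∀ z ∈ Z, ∃ c ∈ Subalgebra.centralizer F S,
      z = ψ (c ⊗ₖ (1 : Matrix (Fin D.k) (Fin D.k) F)) := by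
    intro z hz
    have h1 := (hZmem z).mp hz
    obtain ⟨c, hc, hc'⟩ := exists_eq_kron_one hk S h1.1 h1.2
    refine ⟨c, hc, ?_⟩
    rw [← hc', MulEquiv.apply_symm_apply]
  have hback : ∀ c ∈ Subalgebra.centralizer F S,
      ψ (c ⊗ₖ (1 : Matrix (Fin D.k) (Fin D.k) F)) ∈ Z := by
    intro c hc
    rw [hZmem, MulEquiv.symm_apply_apply]
    exact kron_one_mem_center S D.irr hc
  have hcomm : ∀ x ∈ Z, ∀ y ∈ Z, x * y = y * x := fun x hx y hy => cc_comm _ hx hy
  have hinv : ∀ x ∈ Z, x ≠ 0 → ∃ y ∈ Z, x * y = 1 := by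
    intro x hx hx0
    obtain ⟨c, hc, rfl⟩ := hform x hx
    have hc0 : c ≠ 0 := by
      rintro rfl
      apply hx0
      rw [Matrix.zero_kronecker, hψ, psi_zero]
    obtain ⟨c', hc', hcc', _⟩ := exists_inv_of_commute S D.irr
      ((Subalgebra.mem_centralizer_iff F).mp hc) hc0
    refine ⟨ψ (c' ⊗ₖ (1 : Matrix (Fin D.k) (Fin D.k) F)), hback c' hc', ?_⟩
    rw [← map_mul, ← Matrix.mul_kronecker_mul, hcc', mul_one, Matrix.one_kronecker_one, map_one]
  refine ⟨hcomm, hinv, ?_⟩
  have hex : ∃ M₀ : Matrix (Fin D.d) (Fin D.d) F, (∀ s ∈ S, M₀ * s = s * M₀) ∧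
      ¬ ∃ c : F, M₀ = c • (1 : Matrix (Fin D.d) (Fin D.d) F) := by
    by_contra hcon
    push Not at hcon
    exact hna ⟨D.irr, hcon⟩
  obtain ⟨M₀, hM₀, hM₀'⟩ := hex
  have hM₀E : M₀ ∈ Subalgebra.centralizer F S := by
    rw [Subalgebra.mem_centralizer_iff F]
    intro s hs
    exact (hM₀ s hs).symm
  have hz₀ := hback M₀ hM₀E
  by_contra hlt
  push Not at hlt
  have hpos : 0 < Module.finrank F Z := Module.finrank_pos
  have h1 : Module.finrank F Z = 1 := by omega
  have hbot : Z = ⊥ := Subalgebra.finrank_eq_one_iff.mp h1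
  rw [hbot, Algebra.mem_bot] at hz₀
  obtain ⟨a, ha⟩ := hz₀
  apply hM₀'
  refine ⟨a, ?_⟩
  have h2 : ψ (algebraMap F _ a) = ψ (M₀ ⊗ₖ (1 : Matrix (Fin D.k) (Fin D.k) F)) := by
    rw [hψ, psi_algebraMap, ← hψ, ha]
  have h3 := ψ.injective h2
  ext i j
  have h4 := congrFun (congrFun h3 (i, ⟨0, hk⟩)) (j, ⟨0, hk⟩)
  rw [kron_one_apply, if_pos rfl] at h4
  rw [← h4, Matrix.algebraMap_matrix_apply, Matrix.smul_apply, Matrix.one_apply]
  by_cases hij : i = j
  · subst hij; simp
  · have : (i, (⟨0, hk⟩ : Fin D.k)) ≠ (j, ⟨0, hk⟩) := fun h => hij (Prod.ext_iff.mp h).1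
    simp [hij, this]

/-- the centre of the commutant of `N` is invariant under conjugation by elements normalising `N` -/
theorem cc_conj_iff (H N : Subgroup (GL (Fin n) F)) (hnorm : NormalizedBy H N)
    (h : GL (Fin n) F) (hh : h ∈ H) (k' : Matrix (Fin n) (Fin n) F) :
    k' ∈ cc F (matrixSet N) ↔
      (h : Matrix (Fin n) (Fin n) F) * k' * ((h⁻¹ : GL (Fin n) F) : Matrix (Fin n) (Fin n) F) ∈
        cc F (matrixSet N) := by
  have hSinv : ∀ s, s ∈ matrixSet N ↔
      (h : Matrix (Fin n) (Fin n) F) * s * ((h⁻¹ : GL (Fin n) F) : Matrix (Fin n) (Fin n) F) ∈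
        matrixSet N := by
    intro s
    constructor
    · rintro ⟨x, hx, rfl⟩
      exact ⟨h * x * h⁻¹, hnorm h hh x hx, by simp⟩
    · rintro ⟨y, hy, hys⟩
      refine ⟨h⁻¹ * y * h, ?_, ?_⟩
      · have := hnorm h⁻¹ (H.inv_mem hh) y hy
        rwa [inv_inv] at this
      · have hys' : (y : Matrix (Fin n) (Fin n) F) =
            (h : Matrix (Fin n) (Fin n) F) * s * ((h⁻¹ : GL (Fin n) F) : Matrix (Fin n) (Fin n) F) := hys
        show ((h⁻¹ * y * h : GL (Fin n) F) : Matrix (Fin n) (Fin n) F) = s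
        rw [Units.val_mul, Units.val_mul, hys']
        simp [mul_assoc]
  exact conj_mem_cc_iff (F := F) h (matrixSet N) hSinv k'

/-- **UM3** (C3, unitary case). -/
theorem utame_of_homog_not_absIrr {q : ℕ} (hF : Fintype.card F = q ^ 2) (hn : 0 < n)
    (H N : Subgroup (GL (Fin n) F)) (hH : H ≤ GU n F q) (hNH : N ≤ H)
    (hnorm : NormalizedBy H N) (D : HomogData N)
    (hna : ¬ ActsAbsolutelyIrreducibly (repSet D.ρ)) : UC3 q H := by
  classical
  have : Nonempty (Fin n) := ⟨⟨0, hn⟩⟩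
  obtain ⟨φ, hφ, hφ2⟩ := Cfsg.Agent.Lib.H4.exists_frob hF
  obtain ⟨hcomm, hinv, hdim⟩ := cc_field_props hn N D hna
  set Z := cc F (matrixSet N) with hZ
  -- adjoint stability of `Z`
  have hSadj : ∀ s ∈ matrixSet N, adj φ s ∈ matrixSet N := by
    rintro _ ⟨x, hx, rfl⟩
    refine ⟨x⁻¹, N.inv_mem hx, ?_⟩
    exact (adj_eq_inv_of_mem_GU φ hφ hφ2 x (hH (hNH hx))).symm
  have hZadj : ∀ z ∈ Z, adj φ z ∈ Z := fun z hz => adj_mem_cc φ hφ2 _ hSadj z hz
  obtain ⟨r, K, hrp, hK, hKr⟩ := exists_frobenius_fixed_subalgebra Z hcomm hinv hdim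
  set m := Fintype.card F ^ r with hm
  have hfield : IsFieldSubalgebra r K := by
    refine ⟨?_, ?_, hKr⟩
    · intro x hx y hy
      exact hcomm x ((hK x).mp hx).1 y ((hK y).mp hy).1
    · intro x hx hx0
      obtain ⟨hxZ, hxm⟩ := (hK x).mp hx
      obtain ⟨y, hyZ, hxy⟩ := hinv x hxZ hx0
      refine ⟨y, (hK y).mpr ⟨hyZ, ?_⟩, hxy⟩
      have hyx : y * x = 1 := by rw [← hcomm x hxZ y hyZ, hxy]
      have hc : Commute x y := hcomm x hxZ y hyZ
      have h1 : x * y ^ m = 1 := by
        have := hc.mul_pow m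
        rw [hxy, one_pow, hxm] at this
        exact this.symm
      calc y ^ m = (y * x) * y ^ m := by rw [hyx, one_mul]
        _ = y * (x * y ^ m) := mul_assoc _ _ _
        _ = y := by rw [h1, mul_one]
  have hKadj : ∀ k ∈ K, adj φ k ∈ K := by
    intro k hk
    obtain ⟨hkZ, hkm⟩ := (hK k).mp hk
    refine (hK _).mpr ⟨hZadj k hkZ, ?_⟩
    rw [← adj_pow, hkm]
  refine ⟨r, K, hrp, ?_, hfield, ?_, ?_⟩
  · -- `r` is odd
    rcases hrp.eq_two_or_odd' with h2 | hodd
    · exfalso
      have hKf : IsField K := by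
        refine ⟨⟨0, 1, zero_ne_one⟩, ?_, ?_⟩
        · rintro ⟨x, hx⟩ ⟨y, hy⟩
          exact Subtype.ext (hfield.comm x hx y hy)
        · rintro ⟨x, hx⟩ hx0
          have hx0' : x ≠ 0 := fun h => hx0 (Subtype.ext h)
          obtain ⟨y, hy, hxy⟩ := hfield.inv x hx hx0'
          exact ⟨⟨y, hy⟩, Subtype.ext hxy⟩
      letI : Field K := hKf.toField
      let τ : K ≃+* K :=
        { toFun := fun x => ⟨adj φ x.1, hKadj x.1 x.2⟩
          invFun := fun x => ⟨adj φ x.1, hKadj x.1 x.2⟩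
          left_inv := fun x => Subtype.ext (adj_adj φ hφ2 x.1)
          right_inv := fun x => Subtype.ext (adj_adj φ hφ2 x.1)
          map_mul' := fun x y => by
            apply Subtype.ext
            show adj φ (x.1 * y.1) = adj φ x.1 * adj φ y.1
            rw [adj_mul]
            exact hfield.comm _ (hKadj y.1 y.2) _ (hKadj x.1 x.2)
          map_add' := fun x y => Subtype.ext (adj_add φ x.1 y.1) }
      refine no_involution_of_finrank_two (F := F) (K := K) hF (by rw [← h2]; exact hKr) τ ?_ ?_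
      · intro x
        exact Subtype.ext (adj_adj φ hφ2 x.1)
      · intro c
        apply Subtype.ext
        show adj φ (algebraMap F (Matrix (Fin n) (Fin n) F) c) = algebraMap F _ (c ^ q)
        rw [adj_algebraMap, hφ]
    · exact hodd
  · intro k hk
    exact ⟨adj φ k, hKadj k hk, fun u v => hermForm_adj φ hφ hφ2 k u v⟩
  · intro h hh
    show ∀ k' : Matrix (Fin n) (Fin n) F, k' ∈ K ↔
      (h : Matrix (Fin n) (Fin n) F) * k' * ((h⁻¹ : GL (Fin n) F) : Matrix (Fin n) (Fin n) F) ∈ K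
    intro k'
    have hZconj := cc_conj_iff H N hnorm h hh k'
    rw [hK, hK, ← hZconj]
    apply and_congr Iff.rfl
    rw [Units.conj_pow]
    constructor
    · intro h1; rw [h1]
    · intro h1
      have h2 := congrArg (fun w => ((h⁻¹ : GL (Fin n) F) : Matrix (Fin n) (Fin n) F) * w *
        (h : Matrix (Fin n) (Fin n) F)) h1
      simpa [mul_assoc] using h2

end main

end Cfsg.Agent.Lib.H4.Asch
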