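import Mathlib
import Cfsg.Agent.Lib.H11.AschSDefs
import Cfsg.Agent.Lib.H4.AschM3
import Cfsg.Agent.Lib.H4.AschUM3

set_option autoImplicit false
set_option maxHeartbeats 800000

/-! # S5662 / SM3: homogeneous with a constituent that is not absolutely irreducible ⇒ class 3 or 8 (symplectic) -/

namespace Cfsg.Agent.Lib.H4.AschS

open Cfsg Cfsg.Geo Cfsg.Agent.Lib.Lead.Asch Cfsg.Agent.Lib.H4.Asch Cfsg.Agent.Lib.H11.AschS
open scoped MatrixGroups Matrix Kronecker


theorem finrank_eq_two_of_involution {F Z : Type*} [Field F] [Field Z] [Algebra F Z]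
    [FiniteDimensional F Z]
    (τ : Z ≃ₐ[F] Z) (hτ2 : ∀ x, τ (τ x) = x) (hτ1 : τ ≠ 1)
    (hfix : ∀ x, τ x = x → x ∈ (⊥ : Subalgebra F Z)) : Module.finrank F Z = 2 := by
  classical
  have hord : orderOf τ = 2 := by
    refine orderOf_eq_prime ?_ hτ1
    ext x
    simp [pow_two, hτ2]
  let G := Subgroup.zpowers τ
  have : Fintype G := Fintype.ofFinite G
  have hfixed : IntermediateField.fixedField G = ⊥ := by
    rw [eq_bot_iff]
    intro x hx
    have h1 : τ x = x := hx ⟨τ, Subgroup.mem_zpowers τ⟩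
    obtain ⟨c, hc⟩ := Algebra.mem_bot.mp (hfix x h1)
    exact IntermediateField.mem_bot.mpr ⟨c, hc⟩
  have h1 := IntermediateField.finrank_fixedField_eq_card G
  rw [hfixed, IntermediateField.finrank_bot'] at h1
  rw [h1, Nat.card_zpowers, hord]

section form
variable {F : Type*} [Field F] {n : ℕ} {f : (Fin n → F) → (Fin n → F) → F}

theorem form_eq_dot (hf : IsBilinearForm f) (u v : Fin n → F) :
    f u v = u ⬝ᵥ (gramMatrix f *ᵥ v) := by
  let B : LinearMap.BilinForm F (Fin n → F) :=
    LinearMap.mk₂ F f hf.add_left hf.smul_left hf.add_right hf.smul_right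
  have hG : gramMatrix f = LinearMap.BilinForm.toMatrix' B := by
    ext a b
    rw [LinearMap.BilinForm.toMatrix'_apply]
    rfl
  calc f u v = B u v := rfl
    _ = Matrix.toBilin' (LinearMap.BilinForm.toMatrix' B) u v := by rw [Matrix.toBilin'_toMatrix']
    _ = u ⬝ᵥ (LinearMap.BilinForm.toMatrix' B *ᵥ v) := Matrix.toBilin'_apply' _ _ _
    _ = _ := by rw [hG]

theorem form_zero_right (hf : IsBilinearForm f) (u : Fin n → F) : f u 0 = 0 := by
  have := hf.smul_right 0 u 0
  rwa [zero_smul, zero_mul] at this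

theorem form_sub_right (hf : IsBilinearForm f) (u x y : Fin n → F) : f u (x - y) = f u x - f u y := by
  have h1 := hf.add_right u (x - y) y
  rw [sub_add_cancel] at h1
  rw [h1, add_sub_cancel_right]

theorem isUnit_det_gram (hf : IsBilinearForm f) (hnd : IsNondegenerateForm f) :
    IsUnit (gramMatrix f).det := by
  rw [isUnit_iff_ne_zero]
  intro h0
  obtain ⟨v, hv, hGv⟩ := Matrix.exists_mulVec_eq_zero_iff.mpr h0
  obtain ⟨x, hx⟩ := (hnd v hv).1
  apply hx
  rw [form_eq_dot hf, hGv, dotProduct_zero]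

/-- uniqueness of adjoints -/
theorem eq_of_form_eq (hf : IsBilinearForm f) (hnd : IsNondegenerateForm f)
    (A B : Matrix (Fin n) (Fin n) F) (h : ∀ u v, f u (A *ᵥ v) = f u (B *ᵥ v)) : A = B := by
  apply Matrix.toLin'.injective
  apply LinearMap.ext
  intro v
  rw [Matrix.toLin'_apply, Matrix.toLin'_apply]
  by_contra hne
  have hw : A *ᵥ v - B *ᵥ v ≠ 0 := sub_ne_zero.mpr hne
  obtain ⟨x, hx⟩ := (hnd _ hw).1
  apply hx
  rw [form_sub_right hf, h, sub_self]

/-- the adjoint `G⁻¹ kᵀ G` of a matrix for a non-degenerate bilinear form with Gram matrix `G` -/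
noncomputable def sadj (f : (Fin n → F) → (Fin n → F) → F) (k : Matrix (Fin n) (Fin n) F) :
    Matrix (Fin n) (Fin n) F :=
  (gramMatrix f)⁻¹ * kᵀ * gramMatrix f

theorem form_sadj (hf : IsBilinearForm f) (hnd : IsNondegenerateForm f)
    (k : Matrix (Fin n) (Fin n) F) (u v : Fin n → F) :
    f (k *ᵥ u) v = f u (sadj f k *ᵥ v) := by
  have hdet := isUnit_det_gram hf hnd
  rw [form_eq_dot hf, form_eq_dot hf, sadj, Matrix.mulVec_mulVec, ← mul_assoc, ← mul_assoc,
    Matrix.mul_nonsing_inv _ hdet, one_mul, ← Matrix.mulVec_mulVec]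
  generalize gramMatrix f *ᵥ v = w
  rw [dotProduct_comm, Matrix.dotProduct_mulVec, ← Matrix.mulVec_transpose, dotProduct_comm]

theorem sadj_mul (hf : IsBilinearForm f) (hnd : IsNondegenerateForm f)
    (a b : Matrix (Fin n) (Fin n) F) : sadj f (a * b) = sadj f b * sadj f a := by
  apply eq_of_form_eq hf hnd
  intro u v
  rw [← form_sadj hf hnd, ← Matrix.mulVec_mulVec, ← Matrix.mulVec_mulVec, form_sadj hf hnd a,
    form_sadj hf hnd b]

theorem sadj_add (a b : Matrix (Fin n) (Fin n) F) : sadj f (a + b) = sadj f a + sadj f b := by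
  simp only [sadj, Matrix.transpose_add, mul_add, add_mul]

theorem sadj_smul (c : F) (a : Matrix (Fin n) (Fin n) F) : sadj f (c • a) = c • sadj f a := by
  simp only [sadj, Matrix.transpose_smul, Matrix.mul_smul, Matrix.smul_mul]

theorem sadj_one (hf : IsBilinearForm f) (hnd : IsNondegenerateForm f) :
    sadj f (1 : Matrix (Fin n) (Fin n) F) = 1 := by
  rw [sadj, Matrix.transpose_one, mul_one, Matrix.nonsing_inv_mul _ (isUnit_det_gram hf hnd)]

theorem sadj_algebraMap (hf : IsBilinearForm f) (hnd : IsNondegenerateForm f) (c : F) :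
    sadj f (algebraMap F (Matrix (Fin n) (Fin n) F) c) = algebraMap F _ c := by
  rw [Algebra.algebraMap_eq_smul_one, sadj_smul, sadj_one hf hnd]

theorem sadj_pow (hf : IsBilinearForm f) (hnd : IsNondegenerateForm f)
    (a : Matrix (Fin n) (Fin n) F) (m : ℕ) : sadj f (a ^ m) = (sadj f a) ^ m := by
  induction m with
  | zero => rw [pow_zero, pow_zero, sadj_one hf hnd]
  | succ m ih => rw [pow_succ, sadj_mul hf hnd, ih, pow_succ']

theorem sadj_sadj (hf : IsSymplecticForm f) (a : Matrix (Fin n) (Fin n) F) :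
    sadj f (sadj f a) = a := by
  apply eq_of_form_eq hf.bilinear hf.nondegenerate
  intro u v
  rw [← form_sadj hf.bilinear hf.nondegenerate, hf.skew, ← form_sadj hf.bilinear hf.nondegenerate,
    hf.skew, neg_neg]

theorem sadj_mul_self_of_isometry (hf : IsBilinearForm f) (hnd : IsNondegenerateForm f)
    (g : Matrix (Fin n) (Fin n) F) (hg : ∀ u v, f (g *ᵥ u) (g *ᵥ v) = f u v) :
    sadj f g * g = 1 := by
  apply eq_of_form_eq hf hnd
  intro u v
  rw [← Matrix.mulVec_mulVec, ← form_sadj hf hnd, hg, Matrix.one_mulVec]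

theorem sadj_eq_inv_of_isometry (hf : IsBilinearForm f) (hnd : IsNondegenerateForm f)
    (g : GL (Fin n) F)
    (hg : ∀ u v, f ((g : Matrix (Fin n) (Fin n) F) *ᵥ u) ((g : Matrix (Fin n) (Fin n) F) *ᵥ v) = f u v) :
    sadj f (g : Matrix (Fin n) (Fin n) F) = ((g⁻¹ : GL (Fin n) F) : Matrix (Fin n) (Fin n) F) := by
  have h := sadj_mul_self_of_isometry hf hnd _ hg
  calc sadj f (g : Matrix (Fin n) (Fin n) F)
      = sadj f (g : Matrix (Fin n) (Fin n) F) * ((g : Matrix (Fin n) (Fin n) F) *
          ((g⁻¹ : GL (Fin n) F) : Matrix (Fin n) (Fin n) F)) := by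
        rw [← Units.val_mul, mul_inv_cancel, Units.val_one, mul_one]
    _ = ((g⁻¹ : GL (Fin n) F) : Matrix (Fin n) (Fin n) F) := by rw [← mul_assoc, h, one_mul]

/-- the commutant of an adjoint-stable set is adjoint-stable -/
theorem sadj_mem_centralizer (hf : IsSymplecticForm f)
    (S : Set (Matrix (Fin n) (Fin n) F)) (hS : ∀ s ∈ S, sadj f s ∈ S)
    (z : Matrix (Fin n) (Fin n) F) (hz : z ∈ Subalgebra.centralizer F S) :
    sadj f z ∈ Subalgebra.centralizer F S := by
  rw [Subalgebra.mem_centralizer_iff F] at hz ⊢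
  intro s hs
  have h1 := hz (sadj f s) (hS s hs)
  have h2 := congrArg (sadj f) h1
  rw [sadj_mul hf.bilinear hf.nondegenerate, sadj_mul hf.bilinear hf.nondegenerate,
    sadj_sadj hf] at h2
  exact h2.symm

theorem sadj_mem_cc (hf : IsSymplecticForm f)
    (S : Set (Matrix (Fin n) (Fin n) F)) (hS : ∀ s ∈ S, sadj f s ∈ S)
    (z : Matrix (Fin n) (Fin n) F) (hz : z ∈ cc F S) : sadj f z ∈ cc F S := by
  rw [mem_cc_iff] at hz ⊢
  refine ⟨sadj_mem_centralizer hf S hS z hz.1, ?_⟩
  exact sadj_mem_centralizer hf _ (fun s hs => sadj_mem_centralizer hf S hS s hs) z hz.2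

end form


section main

variable {F : Type*} [Field F] [Fintype F] {n : ℕ} {f : (Fin n → F) → (Fin n → F) → F}

theorem conj_eq_conj_iff (h : GL (Fin n) F) (a b : Matrix (Fin n) (Fin n) F) :
    (h : Matrix (Fin n) (Fin n) F) * a * ((h⁻¹ : GL (Fin n) F) : Matrix (Fin n) (Fin n) F) =
      (h : Matrix (Fin n) (Fin n) F) * b * ((h⁻¹ : GL (Fin n) F) : Matrix (Fin n) (Fin n) F) ↔ a = b := by
  constructor
  · intro h1
    have h2 := congrArg (fun w => ((h⁻¹ : GL (Fin n) F) : Matrix (Fin n) (Fin n) F) * w *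
      (h : Matrix (Fin n) (Fin n) F)) h1
    simpa [mul_assoc] using h2
  · intro h1; rw [h1]

/-- squares in a finite field subalgebra of characteristic 2 -/
theorem exists_sq_of_char_two (h2 : (2 : F) = 0) (K : Subalgebra F (Matrix (Fin n) (Fin n) F))
    (hcomm : ∀ x ∈ K, ∀ y ∈ K, x * y = y * x) (hinv : ∀ x ∈ K, x ≠ 0 → ∃ y ∈ K, x * y = 1)
    (k : Matrix (Fin n) (Fin n) F) (hk : k ∈ K) : ∃ m ∈ K, m * m = k := by
  classical
  have hadd : ∀ M : Matrix (Fin n) (Fin n) F, M + M = 0 := by
    intro M; rw [← two_smul F M, h2, zero_smul]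
  have hinj : Function.Injective (fun x : K => (⟨x.1 * x.1, K.mul_mem x.2 x.2⟩ : K)) := by
    rintro ⟨x, hx⟩ ⟨y, hy⟩ hxy
    have hxy' : x * x = y * y := congrArg Subtype.val hxy
    apply Subtype.ext
    show x = y
    by_contra hne
    have hd : x - y ≠ 0 := sub_ne_zero.mpr hne
    obtain ⟨w, hw, hdw⟩ := hinv (x - y) (K.sub_mem hx hy) hd
    have hsq : (x - y) * (x - y) = 0 := by
      have h1 : (x - y) * (x - y) = x * x - x * y - y * x + y * y := by noncomm_ring
      rw [h1, hcomm y hy x hx, ← hxy']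
      have h3 : x * x - x * y - x * y + x * x = (x * x + x * x) - (x * y + x * y) := by abel
      rw [h3, hadd, hadd, sub_zero]
    apply hd
    calc x - y = (x - y) * 1 := (mul_one _).symm
      _ = (x - y) * ((x - y) * w) := by rw [hdw]
      _ = 0 := by rw [← mul_assoc, hsq, zero_mul]
  have hsurj := Finite.injective_iff_surjective.mp hinj
  obtain ⟨⟨m, hm⟩, hmk⟩ := hsurj ⟨k, hk⟩
  exact ⟨m, hm, congrArg Subtype.val hmk⟩

/-- **SM3** (C3, symplectic case). -/
theorem stame_of_homog_not_absIrr (hf : IsSymplecticForm f) (hn : 0 < n)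
    (H N : Subgroup (GL (Fin n) F)) (hH : FixesForm (matrixSet H) f)
    (hirr : ActsIrreducibly (matrixSet H)) (hNH : N ≤ H)
    (hnorm : NormalizedBy H N) (D : HomogData N)
    (hna : ¬ ActsAbsolutelyIrreducibly (repSet D.ρ)) : SC3a f H ∨ SC3b f H ∨ SC8 f H := by
  classical
  have : Nonempty (Fin n) := ⟨⟨0, hn⟩⟩
  have hb := hf.bilinear
  have hnd := hf.nondegenerate
  obtain ⟨hcomm, hinv, hdim⟩ := cc_field_props hn N D hna
  set Z := cc F (matrixSet N) with hZ
  have hHadj : ∀ h ∈ H, sadj f (h : Matrix (Fin n) (Fin n) F) =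
      ((h⁻¹ : GL (Fin n) F) : Matrix (Fin n) (Fin n) F) := by
    intro h hh
    exact sadj_eq_inv_of_isometry hb hnd h (hH _ ⟨h, hh, rfl⟩)
  have hSadj : ∀ s ∈ matrixSet N, sadj f s ∈ matrixSet N := by
    rintro _ ⟨x, hx, rfl⟩
    exact ⟨x⁻¹, N.inv_mem hx, (hHadj x (hNH hx)).symm⟩
  have hZadj : ∀ z ∈ Z, sadj f z ∈ Z := fun z hz => sadj_mem_cc hf _ hSadj z hz
  have hconj : ∀ h ∈ H, ∀ z : Matrix (Fin n) (Fin n) F,
      sadj f ((h : Matrix (Fin n) (Fin n) F) * z * ((h⁻¹ : GL (Fin n) F) : Matrix (Fin n) (Fin n) F)) =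
        (h : Matrix (Fin n) (Fin n) F) * sadj f z * ((h⁻¹ : GL (Fin n) F) : Matrix (Fin n) (Fin n) F) := by
    intro h hh z
    rw [sadj_mul hb hnd, sadj_mul hb hnd, hHadj h hh, hHadj h⁻¹ (H.inv_mem hh), inv_inv, mul_assoc]
  -- the self-adjoint part of `Z`
  let Zp : Subalgebra F (Matrix (Fin n) (Fin n) F) :=
    { carrier := {z | z ∈ Z ∧ sadj f z = z}
      mul_mem' := fun {a b} ha hb' => ⟨Z.mul_mem ha.1 hb'.1, by
        show sadj f (a * b) = a * b
        rw [sadj_mul hb hnd, ha.2, hb'.2]; exact hcomm _ hb'.1 _ ha.1⟩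
      add_mem' := fun {a b} ha hb' => ⟨Z.add_mem ha.1 hb'.1, by
        show sadj f (a + b) = a + b
        rw [sadj_add, ha.2, hb'.2]⟩
      algebraMap_mem' := fun c => ⟨Z.algebraMap_mem c, sadj_algebraMap hb hnd c⟩ }
  have hZp : ∀ z, z ∈ Zp ↔ z ∈ Z ∧ sadj f z = z := fun z => Iff.rfl
  by_cases hcase : Zp = ⊥
  · -- the fixed field of the adjoint is `F`: degree 2
    have hscal : ∀ z ∈ Z, sadj f z = z → ∃ c : F, z = algebraMap F _ c := by
      intro z hz hzz
      have hmem : z ∈ Zp := ⟨hz, hzz⟩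
      rw [hcase, Algebra.mem_bot] at hmem
      obtain ⟨c, hc⟩ := hmem
      exact ⟨c, hc.symm⟩
    have hnonself : ∃ k ∈ Z, sadj f k ≠ k := by
      by_contra hcon
      push Not at hcon
      have hbot : Z = ⊥ := by
        rw [eq_bot_iff]
        intro z hz
        obtain ⟨c, hc⟩ := hscal z hz (hcon z hz)
        exact Algebra.mem_bot.mpr ⟨c, hc.symm⟩
      have h1 : Module.finrank F Z = 1 := Subalgebra.finrank_eq_one_iff.mpr hbot
      omega
    obtain ⟨k₀, hk₀Z, hk₀⟩ := hnonself
    have hfin2 : Module.finrank F Z = 2 := by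
      have hZf : IsField Z := by
        refine ⟨⟨0, 1, zero_ne_one⟩, ?_, ?_⟩
        · rintro ⟨x, hx⟩ ⟨y, hy⟩
          exact Subtype.ext (hcomm x hx y hy)
        · rintro ⟨x, hx⟩ hx0
          have hx0' : x ≠ 0 := fun h => hx0 (Subtype.ext h)
          obtain ⟨y, hy, hxy⟩ := hinv x hx hx0'
          exact ⟨⟨y, hy⟩, Subtype.ext hxy⟩
      letI : Field Z := hZf.toField
      let τ : Z ≃ₐ[F] Z :=
        { toFun := fun x => ⟨sadj f x.1, hZadj x.1 x.2⟩
          invFun := fun x => ⟨sadj f x.1, hZadj x.1 x.2⟩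
          left_inv := fun x => Subtype.ext (sadj_sadj hf x.1)
          right_inv := fun x => Subtype.ext (sadj_sadj hf x.1)
          map_mul' := fun x y => by
            apply Subtype.ext
            show sadj f (x.1 * y.1) = sadj f x.1 * sadj f y.1
            rw [sadj_mul hb hnd]
            exact hcomm _ (hZadj y.1 y.2) _ (hZadj x.1 x.2)
          map_add' := fun x y => Subtype.ext (sadj_add x.1 y.1)
          commutes' := fun c => Subtype.ext (sadj_algebraMap hb hnd c) }
      refine finrank_eq_two_of_involution τ (fun x => Subtype.ext (sadj_sadj hf x.1)) ?_ ?_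
      · intro h1
        apply hk₀
        have h2 : τ ⟨k₀, hk₀Z⟩ = ⟨k₀, hk₀Z⟩ := by rw [h1]; rfl
        exact congrArg Subtype.val h2
      · intro x hx
        have h2 : sadj f x.1 = x.1 := congrArg Subtype.val hx
        obtain ⟨c, hc⟩ := hscal x.1 x.2 h2
        exact Algebra.mem_bot.mpr ⟨c, Subtype.ext hc.symm⟩
    have hfieldZ : IsFieldSubalgebra 2 Z := ⟨hcomm, hinv, hfin2⟩
    have hnormZ : H ≤ subalgebraNormalizer Z := fun h hh k' => cc_conj_iff H N hnorm h hh k'
    by_cases hodd : Odd (Fintype.card F)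
    · -- class 3b
      refine Or.inr (Or.inl ⟨Z, hodd, hfieldZ, ?_, ?_, hnormZ⟩)
      · intro k hk
        exact ⟨sadj f k, hZadj k hk, fun u v => form_sadj hb hnd k u v⟩
      · intro hself
        apply hk₀
        apply eq_of_form_eq hb hnd
        intro u v
        rw [← form_sadj hb hnd, hself k₀ hk₀Z]
    · -- class 8
      have h2 : (2 : F) = 0 := by
        have hch : ringChar F = 2 := by
          rw [FiniteField.even_card_iff_char_two]
          rcases Nat.mod_two_eq_zero_or_one (Fintype.card F) with h | h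
          · exact h
          · exact absurd (Nat.odd_iff.mpr h) hodd
        have := ringChar.Nat.cast_ringChar (R := F)
        rw [hch] at this
        exact_mod_cast this
      have hF2 : ∀ x : F, -x = x := by
        intro x
        rw [neg_eq_iff_add_eq_zero, ← two_mul, h2, zero_mul]
      have hM2 : ∀ M : Matrix (Fin n) (Fin n) F, -M = M := by
        intro M
        rw [neg_eq_iff_add_eq_zero, ← two_smul F M, h2, zero_smul]
      -- an element with `k + k* = 1`
      obtain ⟨c, hc⟩ := hscal (k₀ + sadj f k₀) (Z.add_mem hk₀Z (hZadj k₀ hk₀Z)) (by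
        rw [sadj_add, sadj_sadj hf, add_comm])
      have hc0 : c ≠ 0 := by
        rintro rfl
        rw [map_zero] at hc
        apply hk₀
        have := eq_neg_of_add_eq_zero_right hc
        rw [this, hM2]
      set k := c⁻¹ • k₀ with hk
      have hkZ : k ∈ Z := Z.smul_mem hk₀Z _
      have hk1 : k + sadj f k = 1 := by
        rw [hk, sadj_smul, ← smul_add, hc, Algebra.algebraMap_eq_smul_one, smul_smul,
          inv_mul_cancel₀ hc0, one_smul]
      set Q : (Fin n → F) → F := fun v => f (k *ᵥ v) v with hQ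
      have hpolar : QuadraticMap.polar Q = f := by
        funext u v
        have h3 : f u (k *ᵥ v) = f (sadj f k *ᵥ u) v := by
          rw [form_sadj hb hnd (sadj f k), sadj_sadj hf]
        have h4 : f u v = f (k *ᵥ u) v + f (sadj f k *ᵥ u) v := by
          rw [← hb.add_left, ← Matrix.add_mulVec, hk1, Matrix.one_mulVec]
        show f (k *ᵥ (u + v)) (u + v) - f (k *ᵥ u) u - f (k *ᵥ v) v = f u v
        rw [Matrix.mulVec_add, hb.add_left, hb.add_right, hb.add_right, h4, ← h3,
          hf.skew (k *ᵥ v) u, hF2]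
        ring
      refine Or.inr (Or.inr ⟨Q, hodd, ⟨?_, ?_, ?_⟩, ?_, ?_⟩)
      · intro a v
        show f (k *ᵥ (a • v)) (a • v) = a ^ 2 * f (k *ᵥ v) v
        rw [Matrix.mulVec_smul, hb.smul_left, hb.smul_right]
        ring
      · rw [hpolar]; exact hb
      · rw [hpolar]; exact hnd
      · intro u v
        rw [hpolar]
      · intro h hh
        refine ⟨1, fun v => ?_⟩
        rw [Units.val_one, one_mul]
        show f (k *ᵥ ((h : Matrix (Fin n) (Fin n) F) *ᵥ v)) ((h : Matrix (Fin n) (Fin n) F) *ᵥ v) =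
          f (k *ᵥ v) v
        set k' := ((h⁻¹ : GL (Fin n) F) : Matrix (Fin n) (Fin n) F) * k *
          (h : Matrix (Fin n) (Fin n) F) with hk'
        have hhk : k * (h : Matrix (Fin n) (Fin n) F) = (h : Matrix (Fin n) (Fin n) F) * k' := by
          rw [hk', ← mul_assoc, ← mul_assoc, ← Units.val_mul, mul_inv_cancel, Units.val_one, one_mul]
        have hk'Z : k' ∈ Z := by
          have := (cc_conj_iff H N hnorm h⁻¹ (H.inv_mem hh) k).mp hkZ
          rwa [inv_inv] at this
        have hk'1 : k' + sadj f k' = 1 := by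
          have h5 := hconj h⁻¹ (H.inv_mem hh) k
          rw [inv_inv] at h5
          rw [hk', h5, ← add_mul, ← mul_add, hk1, mul_one, ← Units.val_mul, inv_mul_cancel,
            Units.val_one]
        have hd : sadj f (k' - k) = k' - k := by
          have e1 : sadj f k' = 1 - k' := eq_sub_of_add_eq' hk'1
          have e2 : sadj f k = 1 - k := eq_sub_of_add_eq' hk1
          have e3 : sadj f (k' - k) = sadj f k' - sadj f k := by
            rw [sub_eq_add_neg, sadj_add, ← neg_one_smul F k, sadj_smul, neg_one_smul, ← sub_eq_add_neg]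
          rw [e3, e1, e2]
          have : (1 : Matrix (Fin n) (Fin n) F) - k' - (1 - k) = -(k' - k) := by abel
          rw [this, hM2]
        obtain ⟨a, ha⟩ := hscal (k' - k) (Z.sub_mem hk'Z hkZ) hd
        have hk'k : k' = k + algebraMap F _ a := by rw [← ha]; abel
        rw [Matrix.mulVec_mulVec, hhk, ← Matrix.mulVec_mulVec, hH _ ⟨h, hh, rfl⟩, hk'k,
          Matrix.add_mulVec, hb.add_left, Algebra.algebraMap_eq_smul_one,
          Matrix.smul_mulVec a (1 : Matrix (Fin n) (Fin n) F) v, Matrix.one_mulVec, hb.smul_left, hf.alternating, mul_zero, add_zero]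
  · -- the fixed field of the adjoint is bigger than `F`: a self-adjoint subfield of prime degree
    have hcomm' : ∀ x ∈ Zp, ∀ y ∈ Zp, x * y = y * x := fun x hx y hy => hcomm x hx.1 y hy.1
    have hinv' : ∀ x ∈ Zp, x ≠ 0 → ∃ y ∈ Zp, x * y = 1 := by
      intro x hx hx0
      obtain ⟨y, hy, hxy⟩ := hinv x hx.1 hx0
      refine ⟨y, ⟨hy, ?_⟩, hxy⟩
      have h1 : sadj f y * x = 1 := by
        have := congrArg (sadj f) hxy
        rw [sadj_mul hb hnd, hx.2, sadj_one hb hnd] at this
        exact this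
      calc sadj f y = sadj f y * (x * y) := by rw [hxy, mul_one]
        _ = y := by rw [← mul_assoc, h1, one_mul]
    have hdim' : 2 ≤ Module.finrank F Zp := by
      have hpos : 0 < Module.finrank F Zp := Module.finrank_pos
      have hne1 : Module.finrank F Zp ≠ 1 := fun h => hcase (Subalgebra.finrank_eq_one_iff.mp h)
      omega
    obtain ⟨r, K, hrp, hK, hKr⟩ := exists_frobenius_fixed_subalgebra Zp hcomm' hinv' hdim'
    set m := Fintype.card F ^ r with hm
    have hfield : IsFieldSubalgebra r K := by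
      refine ⟨?_, ?_, hKr⟩
      · intro x hx y hy
        exact hcomm' x ((hK x).mp hx).1 y ((hK y).mp hy).1
      · intro x hx hx0
        obtain ⟨hxZ, hxm⟩ := (hK x).mp hx
        obtain ⟨y, hyZ, hxy⟩ := hinv' x hxZ hx0
        refine ⟨y, (hK y).mpr ⟨hyZ, ?_⟩, hxy⟩
        have hyx : y * x = 1 := by rw [← hcomm' x hxZ y hyZ, hxy]
        have hc : Commute x y := hcomm' x hxZ y hyZ
        have h1 : x * y ^ m = 1 := by
          have := hc.mul_pow m
          rw [hxy, one_pow, hxm] at this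
          exact this.symm
        calc y ^ m = (y * x) * y ^ m := by rw [hyx, one_mul]
          _ = y * (x * y ^ m) := mul_assoc _ _ _
          _ = y := by rw [h1, mul_one]
    have hKself : ∀ k ∈ K, sadj f k = k := fun k hk => ((hK k).mp hk).1.2
    refine Or.inl ⟨r, K, hrp, hfield, ?_, ?_, ?_⟩
    · intro k hk u v
      rw [form_sadj hb hnd, hKself k hk]
    · intro k hk v
      by_cases h2 : (2 : F) = 0
      · obtain ⟨m', hm'K, hmm⟩ := exists_sq_of_char_two h2 K hfield.comm hfield.inv k hk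
        rw [← hmm, ← Matrix.mulVec_mulVec, form_sadj hb hnd, hKself m' hm'K]
        exact hf.alternating _
      · have h1 : f (k *ᵥ v) v = - f (k *ᵥ v) v := by
          conv_lhs => rw [form_sadj hb hnd, hKself k hk, hf.skew]
        have h3 : (2 : F) * f (k *ᵥ v) v = 0 := by
          rw [two_mul]
          exact add_eq_zero_iff_eq_neg.mpr h1
        exact (mul_eq_zero.mp h3).resolve_left h2
    · intro h hh
      show ∀ k' : Matrix (Fin n) (Fin n) F, k' ∈ K ↔
        (h : Matrix (Fin n) (Fin n) F) * k' * ((h⁻¹ : GL (Fin n) F) : Matrix (Fin n) (Fin n) F) ∈ K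
      intro k'
      have hZconj := cc_conj_iff H N hnorm h hh k'
      rw [hK, hK, hZp, hZp, ← hZconj, hconj h hh, conj_eq_conj_iff, Units.conj_pow, conj_eq_conj_iff]

end main

end Cfsg.Agent.Lib.H4.AschS
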