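import Mathlib
import Cfsg.Agent.Lib.H8.BQ0

/-!
S4719 Part II piece (G5) `le_normalizer_inf_centralizer` in the exact signature of
`tools/blueprints/S4719_Q_sigs.lean` (sub-architect helper8).
-/
set_option autoImplicit false

universe u

namespace Cfsg.Agent.Lib.H4.BQ

open Subgroup Cfsg.Agent.Lib.H8.BQ

/-- Conjugation by an element normalizing `X` preserves the centralizer of `X`. -/
theorem conj_mem_centralizer_of_mem_normalizer {Γ : Type u} [Group Γ] (X : Subgroup Γ) {k h : Γ}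
    (hk : k ∈ normalizer (X : Set Γ)) (hh : h ∈ centralizer (X : Set Γ)) :
    k * h * k⁻¹ ∈ centralizer (X : Set Γ) := by
  rw [mem_centralizer_iff] at hh ⊢
  intro x hx
  have hx' : k⁻¹ * x * k ∈ X := by
    have := (mem_normalizer_iff''.mp hk x).mp hx
    exact this
  have h1 := hh (k⁻¹ * x * k) hx'
  calc x * (k * h * k⁻¹) = k * ((k⁻¹ * x * k) * h) * k⁻¹ := by group
    _ = k * (h * (k⁻¹ * x * k)) * k⁻¹ := by rw [h1]
    _ = k * h * k⁻¹ * x := by group

theorem le_normalizer_inf_centralizer {Γ : Type u} [Group Γ] (G X K : Subgroup Γ)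
    (hKG : K ≤ normalizer (G : Set Γ)) (hKX : K ≤ normalizer (X : Set Γ)) :
    K ≤ normalizer ((G ⊓ centralizer (X : Set Γ) : Subgroup Γ) : Set Γ) := by
  intro k hk
  rw [mem_normalizer_iff]
  intro h
  constructor
  · rintro ⟨hG, hC⟩
    exact ⟨(mem_normalizer_iff.mp (hKG hk) h).mp hG,
      conj_mem_centralizer_of_mem_normalizer X (hKX hk) hC⟩
  · rintro ⟨hG, hC⟩
    refine ⟨(mem_normalizer_iff.mp (hKG hk) h).mpr hG, ?_⟩
    have hk' : k⁻¹ ∈ normalizer (X : Set Γ) := inv_mem (hKX hk)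
    have := conj_mem_centralizer_of_mem_normalizer X hk' hC
    have e : k⁻¹ * (k * h * k⁻¹) * k⁻¹⁻¹ = h := by group
    rwa [e] at this

end Cfsg.Agent.Lib.H4.BQ
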