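import Mathlib
import Cfsg.Agent.S0635
import Cfsg.Agent.Lib.H19.PLength

/-!
# A normal `p`-complement for `p`-soluble groups with abelian Sylow `p`-subgroups generated by
`p`-elements (helper4; core of piece F6 / PCOMPL of S1951)

`X` finite, `p`-soluble, a Sylow `p`-subgroup commutative, `X` generated by elements of `p`-power
order.  Then `O_{p'}(X)` is a normal subgroup of order prime to `p` which contains every element of
order prime to `p` (and `X / O_{p'}(X)` is a `p`-group).  Proof: `p`-length at most one (landed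
S0635), so `X / O_{p',p}(X)` is a `p'`-group, in which the generators die.
-/

set_option autoImplicit false
open Cfsg

namespace Cfsg.Agent.Lib.H4.PC

universe u

open Cfsg.Agent.Lib.H19

/-- an element whose order is prime to the index of a normal subgroup lies in it -/
theorem mem_of_coprime_index {X : Type u} [Group X] [Finite X] (N : Subgroup X) [N.Normal] {g : X}
    (h : (orderOf g).Coprime N.index) : g ∈ N := by
  rw [← QuotientGroup.eq_one_iff, ← orderOf_eq_one_iff]
  have h1 : orderOf (g : X ⧸ N) ∣ orderOf g := orderOf_map_dvd (QuotientGroup.mk' N) g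
  have h2 : orderOf (g : X ⧸ N) ∣ N.index := by
    rw [Subgroup.index_eq_card]
    exact orderOf_dvd_natCard _
  exact Nat.eq_one_of_dvd_coprimes h h1 h2

theorem exists_pprime_normal_of_gen {X : Type u} [Group X] [Finite X] (p : ℕ) [Fact p.Prime]
    (hsol : IsPSolvable p X) (S : Sylow p X)
    (hS : ∀ a ∈ (S : Subgroup X), ∀ b ∈ (S : Subgroup X), a * b = b * a)
    (T : Set X) (hT : ∀ t ∈ T, ∃ k : ℕ, orderOf t = p ^ k) (hgen : Subgroup.closure T = ⊤) :
    ∃ K : Subgroup X, K.Normal ∧ (Nat.card K).Coprime p ∧ (∃ m : ℕ, K.index = p ^ m) ∧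
      ∀ g : X, (orderOf g).Coprime p → g ∈ K := by
  have hp : p.Prime := Fact.out
  have : Group.IsNilpotent ↥(S : Subgroup X) := S.2.isNilpotent
  have hcomm : IsMulCommutative ↥(S : Subgroup X) :=
    ⟨⟨fun a b => Subtype.ext (hS a a.2 b b.2)⟩⟩
  have hcl : Group.nilpotencyClass ↥(S : Subgroup X) ≤ 1 :=
    Group.IsNilpotent.nilpotencyClass_le_one_iff.2 hcomm
  have hpl : PLengthLE p 1 X := Cfsg.Agent.S0635.main 1 X hsol ⟨S, hcl⟩
  have hU3 : (upperPSeries p X 3).1 = ⊤ := hpl
  -- `X / O_{p',p}(X)` is a `p'`-group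
  have h23 : ((upperPSeries p X 2).1.index).Coprime p := by
    have := upper_relIndex_even (G := X) p (j := 2) (by decide)
    rwa [hU3, Subgroup.relIndex_top_right] at this
  -- so the generators lie in `O_{p',p}(X)`
  have hU2 : (upperPSeries p X 2).1 = ⊤ := by
    rw [← top_le_iff, ← hgen, Subgroup.closure_le]
    intro t ht
    obtain ⟨k, hk⟩ := hT t ht
    apply mem_of_coprime_index
    rw [hk]
    exact Nat.Coprime.pow_left k h23.symm
  -- `K = O_{p'}(X)`
  have h01 : (Nat.card (upperPSeries p X 1).1).Coprime p := by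
    have := upper_relIndex_even (G := X) p (j := 0) (by decide)
    rwa [upper_zero, Subgroup.relIndex_bot_left] at this
  obtain ⟨m, hm⟩ := upper_relIndex_odd (G := X) p (j := 1) (by decide)
  rw [hU2, Subgroup.relIndex_top_right] at hm
  refine ⟨(upperPSeries p X 1).1, inferInstance, h01, ⟨m, hm⟩, ?_⟩
  intro g hg
  apply mem_of_coprime_index
  rw [hm]
  exact Nat.Coprime.pow_right m hg

/-- commutativity of one Sylow `p`-subgroup passes to every `p`-subgroup -/
theorem comm_of_isPGroup {G : Type u} [Group G] [Finite G] {p : ℕ} [Fact p.Prime] (P : Sylow p G)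
    (hP : ∀ a ∈ (P : Subgroup G), ∀ b ∈ (P : Subgroup G), a * b = b * a)
    {Q : Subgroup G} (hQ : IsPGroup p Q) : ∀ a ∈ Q, ∀ b ∈ Q, a * b = b * a := by
  obtain ⟨P', hP'⟩ := hQ.exists_le_sylow
  intro a ha b hb
  let e : ↥(P : Subgroup G) ≃* ↥(P' : Subgroup G) := Sylow.equiv P P'
  have h1 := hP _ (e.symm ⟨a, hP' ha⟩).2 _ (e.symm ⟨b, hP' hb⟩).2
  have h2 : e.symm ⟨a, hP' ha⟩ * e.symm ⟨b, hP' hb⟩ = e.symm ⟨b, hP' hb⟩ * e.symm ⟨a, hP' ha⟩ :=
    Subtype.ext h1
  have h3 := congrArg e h2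
  rw [map_mul, map_mul, e.apply_symm_apply, e.apply_symm_apply] at h3
  exact congrArg Subtype.val h3

/-- **F6, group part.** `G` finite with a commutative Sylow `p`-subgroup, `a`, `y` of order `p`
generating a `p`-soluble subgroup.  If `a⁻¹ y ^ i` and `a⁻¹ y ^ j` both have order prime to `p`,
then `i ≡ j (mod p)`. -/
theorem modEq_of_regular {G : Type u} [Group G] [Finite G] {p : ℕ} [Fact p.Prime] (P : Sylow p G)
    (hP : ∀ a ∈ (P : Subgroup G), ∀ b ∈ (P : Subgroup G), a * b = b * a)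
    {a y : G} (ha : orderOf a = p) (hy : orderOf y = p)
    (hsol : IsPSolvable p ↥(Subgroup.closure ({a, y} : Set G)))
    {i j : ℕ} (hi : (orderOf (a⁻¹ * y ^ i)).Coprime p) (hj : (orderOf (a⁻¹ * y ^ j)).Coprime p) :
    i ≡ j [MOD p] := by
  have hp : p.Prime := Fact.out
  set X : Subgroup G := Subgroup.closure ({a, y} : Set G) with hX
  have haX : a ∈ X := Subgroup.subset_closure (by simp)
  have hyX : y ∈ X := Subgroup.subset_closure (by simp)
  -- a Sylow `p`-subgroup of `X` is commutative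
  obtain ⟨S⟩ : Nonempty (Sylow p X) := inferInstance
  have hS : ∀ u ∈ (S : Subgroup X), ∀ v ∈ (S : Subgroup X), u * v = v * u := by
    intro u hu v hv
    have hQ : IsPGroup p ((S : Subgroup X).map X.subtype) := S.2.map _
    have := comm_of_isPGroup P hP hQ (u : G) (Subgroup.mem_map_of_mem _ hu) (v : G)
      (Subgroup.mem_map_of_mem _ hv)
    exact Subtype.ext this
  -- generators of `X` as a group
  let T : Set X := {t | (t : G) = a ∨ (t : G) = y}
  have hT : ∀ t ∈ T, ∃ k : ℕ, orderOf t = p ^ k := by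
    rintro t (h | h)
    · exact ⟨1, by rw [← Subgroup.orderOf_coe, h, ha, pow_one]⟩
    · exact ⟨1, by rw [← Subgroup.orderOf_coe, h, hy, pow_one]⟩
  have hgen : Subgroup.closure T = ⊤ := by
    rw [eq_top_iff]
    rintro ⟨x, hx⟩ -
    have key : ∀ z (hz : z ∈ X), (⟨z, hz⟩ : X) ∈ Subgroup.closure T := by
      intro z hz
      induction hz using Subgroup.closure_induction with
      | mem w hw =>
        apply Subgroup.subset_closure
        rcases hw with h | h
        · exact Or.inl h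
        · exact Or.inr h
      | one => exact Subgroup.one_mem _
      | mul u v hu hv ihu ihv => exact Subgroup.mul_mem _ ihu ihv
      | inv u hu ihu => exact Subgroup.inv_mem _ ihu
    exact key x hx
  obtain ⟨K, hKn, hKc, -, hK⟩ := exists_pprime_normal_of_gen p hsol S hS T hT hgen
  -- the two regular elements lie in `K`
  have hiX : a⁻¹ * y ^ i ∈ X := X.mul_mem (X.inv_mem haX) (X.pow_mem hyX i)
  have hjX : a⁻¹ * y ^ j ∈ X := X.mul_mem (X.inv_mem haX) (X.pow_mem hyX j)
  have hiK : (⟨_, hiX⟩ : X) ∈ K := hK _ (by rwa [← Subgroup.orderOf_coe])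
  have hjK : (⟨_, hjX⟩ : X) ∈ K := hK _ (by rwa [← Subgroup.orderOf_coe])
  -- so `y ^ j * (y ^ i)⁻¹`-type quotient lies in `K`; work with integer powers
  have hq : ((⟨_, hiX⟩ : X)⁻¹ * ⟨_, hjX⟩ : X) ∈ K := K.mul_mem (K.inv_mem hiK) hjK
  have hval : (((⟨_, hiX⟩ : X)⁻¹ * ⟨_, hjX⟩ : X) : G) = y ^ ((j : ℤ) - i) := by
    simp only [Subgroup.coe_mul, Subgroup.coe_inv, mul_inv_rev, inv_inv]
    rw [zpow_sub, zpow_natCast, zpow_natCast]
    group
  -- its order divides `p` and is prime to `p`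
  have hord : orderOf ((⟨_, hiX⟩ : X)⁻¹ * ⟨_, hjX⟩ : X) = 1 := by
    have h1 : orderOf ((⟨_, hiX⟩ : X)⁻¹ * ⟨_, hjX⟩ : X) ∣ p := by
      rw [← Subgroup.orderOf_coe, hval, ← hy]
      exact orderOf_dvd_of_pow_eq_one (by rw [← zpow_natCast, ← zpow_mul, mul_comm, zpow_mul,
        zpow_natCast, pow_orderOf_eq_one, one_zpow])
    have h2 : orderOf ((⟨_, hiX⟩ : X)⁻¹ * ⟨_, hjX⟩ : X) ∣ Nat.card K :=
      (Subgroup.orderOf_mk _ hq).symm ▸ orderOf_dvd_natCard (⟨_, hq⟩ : K)
    exact Nat.eq_one_of_dvd_coprimes hKc.symm h1 h2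
  rw [orderOf_eq_one_iff] at hord
  have hone : y ^ ((j : ℤ) - i) = 1 := by rw [← hval, hord]; rfl
  have hdvd : (p : ℤ) ∣ (j : ℤ) - i := by
    rw [← hy]; exact orderOf_dvd_iff_zpow_eq_one.2 hone
  exact (Int.natCast_modEq_iff.1 (Int.modEq_iff_dvd.2 hdvd))

/-- **F6, group part, in the shape of the hypothesis of helper3's `regcount`.**  With the row's
hypothesis (c) (`hc`) and a commutative Sylow `p`-subgroup: for `a`, `y` of order `p` at most one
exponent `1 ≤ i < p` makes `a⁻¹ y ^ i` a `p`-regular element. -/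
theorem regular_unique {G : Type u} [Group G] [Finite G] {p : ℕ} [Fact p.Prime] (P : Sylow p G)
    (hP : ∀ a ∈ (P : Subgroup G), ∀ b ∈ (P : Subgroup G), a * b = b * a)
    (hc : ∀ x y : G, orderOf x = p → orderOf y = p →
      IsPSolvable p ↥(Subgroup.closure ({x, y} : Set G)))
    {a : G} (ha : orderOf a = p) :
    ∀ y : G, orderOf y = p → ∀ i j : ℕ, 1 ≤ i → i < p → 1 ≤ j → j < p →
      ¬ p ∣ orderOf (a⁻¹ * y ^ i) → ¬ p ∣ orderOf (a⁻¹ * y ^ j) → i = j := by
  intro y hy i j _ hip _ hjp hi hj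
  have hp : p.Prime := Fact.out
  have h := modEq_of_regular P hP ha hy (hc a y ha hy)
    ((Nat.Prime.coprime_iff_not_dvd hp).2 hi).symm ((Nat.Prime.coprime_iff_not_dvd hp).2 hj).symm
  exact Nat.ModEq.eq_of_lt_of_lt h hip hjp

end Cfsg.Agent.Lib.H4.PC
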