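import Mathlib
import Cfsg.Agent.S0058
import Cfsg.Agent.Lib.H1.Hall
import Cfsg.Agent.Lib.H7.S3814Defs2

/-!
S3814, piece NSYL (twin): in a minimal counterexample every nontrivial normal `a`-subgroup is a
full Sylow `a`-subgroup.  Stated as `F2Stmt → Rank2IndexStmt → NormalSylowStmt`.
-/

set_option autoImplicit false

namespace Cfsg.Agent.Lib.H4.S3814NSyl

universe u

open scoped Pointwise
open Cfsg.Agent.H7.S3814Defs

/-- the order of a conjugate -/
theorem orderOf_conj_eq {G : Type u} [Group G] (k x : G) : orderOf (k * x * k⁻¹) = orderOf x := by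
  have h : SemiconjBy k x (k * x * k⁻¹) := by
    unfold SemiconjBy
    group
  exact (h.orderOf_eq k).symm

/-- Coprime generation for `C_t × C_t` in element form: two independent commuting elements of
prime order `t` normalising `N ≠ ⊥` of order prime to `t`; then some element of order `t` of
`⟨e₁, e₂⟩` commutes with a nontrivial element of `N`. -/
theorem rank2_fixed {G : Type u} [Group G] [Finite G] {t : ℕ} (ht : t.Prime)
    (N : Subgroup G) (hN : N ≠ ⊥) (hcop : (Nat.card N).Coprime t) (e₁ e₂ : G)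
    (h1 : orderOf e₁ = t) (h2 : orderOf e₂ = t) (hc : e₁ * e₂ = e₂ * e₁)
    (hni : e₂ ∉ Subgroup.zpowers e₁)
    (hn1 : e₁ ∈ Subgroup.normalizer (N : Set G)) (hn2 : e₂ ∈ Subgroup.normalizer (N : Set G)) :
    ∃ x ∈ Subgroup.closure ({e₂, e₁} : Set G), orderOf x = t ∧
      ∃ n ∈ N, n ≠ 1 ∧ n * x = x * n := by
  classical
  have hz : e₂ ^ t = 1 := by rw [← h2]; exact pow_orderOf_eq_one e₂
  have hm : e₁ ^ t = 1 := by rw [← h1]; exact pow_orderOf_eq_one e₁
  have hczm : Commute e₂ e₁ := hc.symm
  set A : Subgroup G := Subgroup.closure {e₂, e₁} with hA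
  have hzA : e₂ ∈ A := Subgroup.subset_closure (by simp)
  have hmA : e₁ ∈ A := Subgroup.subset_closure (by simp)
  have hAmem : ∀ a ∈ A, ∃ i k : ℕ, a = e₂ ^ i * e₁ ^ k := by
    intro a ha
    induction ha using Subgroup.closure_induction with
    | mem x hx =>
      rcases hx with rfl | hx
      · exact ⟨1, 0, by simp⟩
      · rw [Set.mem_singleton_iff] at hx
        subst hx
        exact ⟨0, 1, by simp⟩
    | one => exact ⟨0, 0, by simp⟩
    | mul x y _ _ hx hy =>
      obtain ⟨i, k, rfl⟩ := hx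
      obtain ⟨i', k', rfl⟩ := hy
      refine ⟨i + i', k + k', ?_⟩
      have h1 : Commute (e₁ ^ k) (e₂ ^ i') := (hczm.symm.pow_pow k i')
      calc e₂ ^ i * e₁ ^ k * (e₂ ^ i' * e₁ ^ k') = e₂ ^ i * (e₁ ^ k * e₂ ^ i') * e₁ ^ k' := by
            simp only [mul_assoc]
        _ = e₂ ^ i * (e₂ ^ i' * e₁ ^ k) * e₁ ^ k' := by rw [h1.eq]
        _ = e₂ ^ (i + i') * e₁ ^ (k + k') := by rw [pow_add, pow_add]; simp only [mul_assoc]
    | inv x _ hx =>
      obtain ⟨i, k, rfl⟩ := hx
      refine ⟨(t - 1) * i, (t - 1) * k, ?_⟩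
      have hzi : (e₂ ^ i)⁻¹ = e₂ ^ ((t - 1) * i) := by
        rw [inv_eq_iff_mul_eq_one, ← pow_add,
          show i + (t - 1) * i = (t - 1 + 1) * i by ring, Nat.sub_add_cancel ht.one_le,
          pow_mul, hz, one_pow]
      have hmk : (e₁ ^ k)⁻¹ = e₁ ^ ((t - 1) * k) := by
        rw [inv_eq_iff_mul_eq_one, ← pow_add,
          show k + (t - 1) * k = (t - 1 + 1) * k by ring, Nat.sub_add_cancel ht.one_le,
          pow_mul, hm, one_pow]
      have h1 : Commute (e₂ ^ i) (e₁ ^ k) := hczm.pow_pow i k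
      rw [mul_inv_rev, ← hzi, ← hmk]
      exact (h1.inv_inv).eq.symm
  have hApow : ∀ a ∈ A, a ^ t = 1 := by
    intro a ha
    obtain ⟨i, k, rfl⟩ := hAmem a ha
    rw [(hczm.pow_pow i k).mul_pow, ← pow_mul, ← pow_mul, mul_comm i, mul_comm k, pow_mul,
      pow_mul, hz, hm, one_pow, one_pow, one_mul]
  have hAcomm : IsMulCommutative A := by
    refine ⟨⟨fun a b => ?_⟩⟩
    apply Subtype.ext
    obtain ⟨i, k, ha⟩ := hAmem a a.2
    obtain ⟨i', k', hb⟩ := hAmem b b.2
    show (a : G) * (b : G) = (b : G) * (a : G)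
    rw [ha, hb]
    have h1 : Commute (e₂ ^ i * e₁ ^ k) (e₂ ^ i' * e₁ ^ k') := by
      apply Commute.mul_left
      · apply Commute.mul_right
        · exact (Commute.refl e₂).pow_pow i i'
        · exact hczm.pow_pow i k'
      · apply Commute.mul_right
        · exact hczm.symm.pow_pow k i'
        · exact (Commute.refl e₁).pow_pow k k'
    exact h1.eq
  have hApg : IsPGroup t A := by
    intro a
    refine ⟨1, ?_⟩
    apply Subtype.ext
    rw [pow_one]
    exact hApow a a.2
  have : Fact t.Prime := ⟨ht⟩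
  obtain ⟨n, hn⟩ := IsPGroup.iff_card.mp hApg
  have hcopAN : (Nat.card A).Coprime (Nat.card N) := by
    rw [hn]
    exact (Nat.Coprime.pow_left n hcop.symm)
  have hAN : A ≤ Subgroup.normalizer (N : Set G) := by
    rw [hA, Subgroup.closure_le]
    intro x hx
    rcases hx with rfl | hx
    · exact hn2
    · rw [Set.mem_singleton_iff] at hx
      subst hx
      exact hn1
  have hncyc : ¬ IsCyclic A := by
    intro hcyc
    obtain ⟨g, hg⟩ := hcyc.exists_generator
    have hcardA : Nat.card A = orderOf g := (orderOf_eq_card_of_forall_mem_zpowers hg).symm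
    have hgc : g ^ t = 1 := Subtype.ext (hApow g g.2)
    have hle : Nat.card A ≤ t := by
      rw [hcardA]
      exact Nat.le_of_dvd ht.pos (orderOf_dvd_of_pow_eq_one hgc)
    have hzp : Subgroup.zpowers e₁ ≤ A := by
      rw [Subgroup.zpowers_le]; exact hmA
    have hcardm : Nat.card (Subgroup.zpowers e₁) = t := by
      rw [Nat.card_zpowers, h1]
    have heq : Subgroup.zpowers e₁ = A := by
      apply Subgroup.eq_of_le_of_card_ge hzp
      rw [hcardm]; exact hle
    apply hni
    rw [heq]; exact hzA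
  have key := Cfsg.Agent.S0058.result A N hncyc hAN hcopAN
  by_contra hcon
  apply hN
  rw [← key, eq_bot_iff]
  apply iSup₂_le
  intro a ha
  obtain ⟨haA, ha1⟩ := ha
  intro v hv
  rw [Subgroup.mem_inf, Subgroup.mem_centralizer_iff] at hv
  obtain ⟨hvN, hvc⟩ := hv
  rw [Subgroup.mem_bot]
  by_contra hv1
  apply hcon
  refine ⟨a, haA, ?_, v, hvN, hv1, ?_⟩
  · have hd := orderOf_dvd_of_pow_eq_one (hApow a haA)
    rcases (Nat.dvd_prime ht).1 hd with h | h
    · exact absurd (orderOf_eq_one_iff.1 h) ha1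
    · exact h
  · exact (hvc a (Set.mem_singleton a)).symm

/-- an element of prime order `a` in a nontrivial power of a nontrivial element of an `a`-group -/
theorem exists_pow_order_prime {G : Type u} [Group G] [Finite G] {a : ℕ} (ha : a.Prime)
    (N : Subgroup G) (hNa : IsPGroup a N) (n : G) (hn : n ∈ N) (hn1 : n ≠ 1) :
    ∃ j : ℕ, orderOf (n ^ j) = a := by
  obtain ⟨k, hk⟩ := hNa ⟨n, hn⟩
  have hk' : n ^ (a ^ k) = 1 := by
    have := congrArg Subtype.val hk
    simpa using this
  obtain ⟨j, hj, hjo⟩ := (Nat.dvd_prime_pow ha).1 (orderOf_dvd_of_pow_eq_one hk')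
  have hj0 : j ≠ 0 := by
    rintro rfl
    rw [pow_zero] at hjo
    exact hn1 (orderOf_eq_one_iff.1 hjo)
  refine ⟨a ^ (j - 1), ?_⟩
  rw [orderOf_pow_of_dvd (pow_ne_zero _ ha.ne_zero) (by rw [hjo]; exact pow_dvd_pow a (by omega)),
    hjo]
  have : a ^ j = a ^ (j - 1) * a := by
    rw [← pow_succ]; congr 1; omega
  rw [this, Nat.mul_div_cancel_left a (pow_pos ha.pos _)]

theorem nsyl (hF2 : F2Stmt.{u}) (hR : Rank2IndexStmt.{u}) : NormalSylowStmt.{u} := by
  intro G _ σ hG hmin a N ha hNn hN1 hNa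
  have hfin := hG.fin
  have hsol := hG.sol
  have : Fact a.Prime := ⟨ha⟩
  -- |G| = a^e * m'
  obtain ⟨e, m', hm', hcard⟩ := Nat.exists_eq_pow_mul_and_not_dvd (Nat.card_pos (α := G)).ne' a
    ha.ne_one
  have hcard' : Nat.card G = m' * a ^ e := by rw [hcard, mul_comm]
  have hcopam : a.Coprime m' := (Nat.Prime.coprime_iff_not_dvd ha).2 hm'
  have hcop : m'.Coprime (a ^ e) := (Nat.Coprime.pow_left e hcopam).symm
  obtain ⟨H, hH⟩ := Cfsg.Agent.Lib.H1.hall_exists hcard' hcop
  -- index of H
  have hHidx : H.index = a ^ e := by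
    have h1 := Subgroup.card_mul_index H
    rw [hH, hcard'] at h1
    have hm0 : 0 < m' := by
      rcases Nat.eq_zero_or_pos m' with h | h
      · exfalso; apply hm'; rw [h]; exact dvd_zero a
      · exact h
    exact Nat.eq_of_mul_eq_mul_left hm0 h1
  -- (J) for N ⊔ H
  have hpairs : Pairs ↥(N ⊔ H) σ := by
    -- element of order a * t for t ≠ a
    have hat : ∀ t ∈ σ, t ≠ a → ∃ g ∈ N ⊔ H, orderOf g = a * t := by
      intro t htσ hta
      have htp := hG.prime t htσ
      have hr2 : Rank2 (⊤ : Subgroup G) t := hF2 G σ hG t htσ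
      have hidx : ¬ t ∣ H.index := by
        rw [hHidx]
        intro hd
        have := htp.dvd_of_dvd_pow hd
        exact hta ((Nat.prime_dvd_prime_iff_eq htp ha).1 this)
      obtain ⟨e₁, he₁, e₂, he₂, ho1, ho2, hc, hni⟩ := hR G H t htp hr2 hidx
      obtain ⟨l, hl⟩ := IsPGroup.iff_card.mp hNa
      have hcopN : (Nat.card N).Coprime t := by
        rw [hl]
        exact Nat.Coprime.pow_left l ((Nat.coprime_primes ha htp).2 (Ne.symm hta))
      have hnorm : ∀ x : G, x ∈ Subgroup.normalizer (N : Set G) := by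
        intro x
        rw [Subgroup.mem_normalizer_iff]
        intro n
        constructor
        · intro h; exact hNn.conj_mem n h x
        · intro h
          have := hNn.conj_mem _ h x⁻¹
          simpa [mul_assoc] using this
      obtain ⟨x, hxA, hxo, n, hnN, hn1, hnx⟩ := rank2_fixed htp N hN1 hcopN e₁ e₂ ho1 ho2 hc hni
        (hnorm e₁) (hnorm e₂)
      have hxH : x ∈ H := by
        have hle : Subgroup.closure ({e₂, e₁} : Set G) ≤ H := by
          rw [Subgroup.closure_le]
          intro y hy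
          rcases hy with rfl | hy
          · exact he₂
          · rw [Set.mem_singleton_iff] at hy
            subst hy
            exact he₁
        exact hle hxA
      obtain ⟨j, hj⟩ := exists_pow_order_prime ha N hNa n hnN hn1
      have hcomm : Commute (n ^ j) x := by
        have : Commute n x := hnx
        exact this.pow_left j
      refine ⟨n ^ j * x, ?_, ?_⟩
      · exact Subgroup.mul_mem _ (Subgroup.mem_sup_left (Subgroup.pow_mem _ hnN j))
          (Subgroup.mem_sup_right hxH)
      · rw [hcomm.orderOf_mul_eq_mul_orderOf_of_coprime, hj, hxo]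
        rw [hj, hxo]
        exact (Nat.coprime_primes ha htp).2 (Ne.symm hta)
    intro p hp q hq hpq
    have lift : ∀ g ∈ N ⊔ H, ∀ k : ℕ, orderOf g = k → ∃ g' : ↥(N ⊔ H), orderOf g' = k := by
      intro g hg k hk
      exact ⟨⟨g, hg⟩, by rw [Subgroup.orderOf_mk, hk]⟩
    by_cases hpa : p = a
    · subst hpa
      obtain ⟨g, hg, hgo⟩ := hat q hq (Ne.symm hpq)
      exact lift g hg _ hgo
    · by_cases hqa : q = a
      · subst hqa
        obtain ⟨g, hg, hgo⟩ := hat p hp hpq
        exact lift g hg _ (by rw [hgo, mul_comm])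
      · -- both different from a
        have hpp := hG.prime p hp
        have hqp := hG.prime q hq
        obtain ⟨g, hgo⟩ := hG.pairs p hp q hq hpq
        have hK : (Nat.card (Subgroup.zpowers g)).Coprime (a ^ e) := by
          rw [Nat.card_zpowers, hgo]
          apply Nat.Coprime.mul_left
          · exact Nat.Coprime.pow_right e ((Nat.coprime_primes hpp ha).2 hpa)
          · exact Nat.Coprime.pow_right e ((Nat.coprime_primes hqp ha).2 hqa)
        obtain ⟨H', hH', hle⟩ := Cfsg.Agent.Lib.H1.hall_contain hcard' hcop (Subgroup.zpowers g) hK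
        obtain ⟨x, hx⟩ := Cfsg.Agent.Lib.H1.hall_conj hcard' hcop H' H hH' hH
        have hgH' : g ∈ H' := hle (Subgroup.mem_zpowers g)
        have hmem : x * g * x⁻¹ ∈ H := by
          have h1 : MulAut.conj x • g ∈ MulAut.conj x • H' :=
            Subgroup.smul_mem_pointwise_smul g (MulAut.conj x) H' hgH'
          rw [hx, MulAut.smul_def, MulAut.conj_apply] at h1
          exact h1
        exact lift _ (Subgroup.mem_sup_right hmem) _ (by rw [orderOf_conj_eq, hgo])
  have htop : N ⊔ H = ⊤ := hmin _ hpairs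
  -- index of N divides |H|
  intro hdvd
  have h1 : N.index = N.relIndex H := by
    rw [← Subgroup.relIndex_top_right, ← htop, Subgroup.relIndex_sup_left]
  have h2 : N.relIndex H ∣ Nat.card H := Subgroup.relIndex_dvd_card N H
  rw [h1] at hdvd
  have := dvd_trans hdvd h2
  rw [hH] at this
  exact hm' this

example : F2Stmt.{0} → Rank2IndexStmt.{0} → NormalSylowStmt.{0} := nsyl

end Cfsg.Agent.Lib.H4.S3814NSyl
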