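import Mathlib
import Cfsg.Prelude.Def_Classical

/-!
# S3589 farm-out, task T4 (helper4): `z₁² + z₁ z₂ = z₁ (z₁ + z₂)`, so the form
`quadFormMinus (k-1) F 1 0` is isometric to `quadFormPlus k F`; element orders transport.
-/

set_option autoImplicit false

namespace Cfsg.Agent.Lib.H4.S8O

open Matrix

section transport

variable {F : Type*} [Field F] {ι κ : Type} [Fintype ι] [DecidableEq ι] [Fintype κ]
  [DecidableEq κ]

/-- conjugation by a linear equivalence of coordinate spaces, matrix level -/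
noncomputable def conjMat (Φ : (ι → F) ≃ₗ[F] (κ → F)) : GL ι F →* Matrix κ κ F where
  toFun g := LinearMap.toMatrix' ((Φ : (ι → F) →ₗ[F] (κ → F)) ∘ₗ
    Matrix.toLin' (g : Matrix ι ι F) ∘ₗ (Φ.symm : (κ → F) →ₗ[F] (ι → F)))
  map_one' := by
    have : (Φ : (ι → F) →ₗ[F] (κ → F)) ∘ₗ
        Matrix.toLin' ((1 : GL ι F) : Matrix ι ι F) ∘ₗ (Φ.symm : (κ → F) →ₗ[F] (ι → F)) =
        LinearMap.id := by
      apply LinearMap.ext
      intro v
      simp
    rw [this, LinearMap.toMatrix'_id]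
  map_mul' a b := by
    rw [← LinearMap.toMatrix'_comp]
    congr 1
    apply LinearMap.ext
    intro v
    simp [Matrix.toLin'_mul]

theorem conjMat_mulVec (Φ : (ι → F) ≃ₗ[F] (κ → F)) (g : GL ι F) (v : ι → F) :
    (conjMat Φ g) *ᵥ (Φ v) = Φ ((g : Matrix ι ι F) *ᵥ v) := by
  show (LinearMap.toMatrix' ((Φ : (ι → F) →ₗ[F] (κ → F)) ∘ₗ
    Matrix.toLin' (g : Matrix ι ι F) ∘ₗ (Φ.symm : (κ → F) →ₗ[F] (ι → F)))) *ᵥ (Φ v) = _
  rw [LinearMap.toMatrix'_mulVec]
  simp [Matrix.toLin'_apply]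

/-- conjugation by a linear equivalence of coordinate spaces, as a hom of general linear groups -/
noncomputable def conjGL (Φ : (ι → F) ≃ₗ[F] (κ → F)) : GL ι F →* GL κ F :=
  (conjMat Φ).toHomUnits

theorem conjGL_mulVec (Φ : (ι → F) ≃ₗ[F] (κ → F)) (g : GL ι F) (v : ι → F) :
    ((conjGL Φ g : GL κ F) : Matrix κ κ F) *ᵥ (Φ v) = Φ ((g : Matrix ι ι F) *ᵥ v) :=
  conjMat_mulVec Φ g v

theorem conjGL_injective (Φ : (ι → F) ≃ₗ[F] (κ → F)) : Function.Injective (conjGL Φ) := by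
  intro g h hgh
  apply Units.ext
  apply Matrix.toLin'.injective
  apply LinearMap.ext
  intro v
  rw [Matrix.toLin'_apply, Matrix.toLin'_apply]
  apply Φ.injective
  rw [← conjGL_mulVec, ← conjGL_mulVec, hgh]

theorem conjGL_mem (Φ : (ι → F) ≃ₗ[F] (κ → F)) (Q₁ : (ι → F) → F) (Q₂ : (κ → F) → F)
    (hΦ : ∀ v, Q₂ (Φ v) = Q₁ v) (g : GL ι F) (hg : g ∈ Cfsg.isometryGroup F Q₁) :
    conjGL Φ g ∈ Cfsg.isometryGroup F Q₂ := by
  intro x y
  show Q₂ (((conjGL Φ g : GL κ F) : Matrix κ κ F) *ᵥ x) = Q₂ x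
  obtain ⟨v, rfl⟩ := Φ.surjective x
  rw [conjGL_mulVec, hΦ, hΦ]
  exact hg v 0

/-- transport of element orders along an isometry of coordinate spaces -/
theorem exists_of_isometry (Φ : (ι → F) ≃ₗ[F] (κ → F)) (Q₁ : (ι → F) → F) (Q₂ : (κ → F) → F)
    (hΦ : ∀ v, Q₂ (Φ v) = Q₁ v) (n : ℕ)
    (h : ∃ u ∈ Cfsg.isometryGroup F Q₁, orderOf u = n) :
    ∃ u ∈ Cfsg.isometryGroup F Q₂, orderOf u = n := by
  obtain ⟨u, hu, hn⟩ := h
  exact ⟨conjGL Φ u, conjGL_mem Φ Q₁ Q₂ hΦ u hu, by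
    rw [orderOf_injective (conjGL Φ) (conjGL_injective Φ), hn]⟩

end transport

section main

variable {F : Type*} [Field F]

/-- the change of coordinates `(x, y, z₁, z₂) ↦ (x, z₁ ; y, z₁ + z₂)` -/
noncomputable def plusMinusEquiv (j : ℕ) :
    (((Fin j ⊕ Fin j) ⊕ Fin 2) → F) ≃ₗ[F] ((Fin (j + 1) ⊕ Fin (j + 1)) → F) where
  toFun v := Sum.elim (Fin.snoc (fun i => v (Sum.inl (Sum.inl i))) (v (Sum.inr 0)))
    (Fin.snoc (fun i => v (Sum.inl (Sum.inr i))) (v (Sum.inr 0) + v (Sum.inr 1)))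
  map_add' v w := by
    funext i
    rcases i with i | i
    · refine Fin.lastCases ?_ (fun i => ?_) i
      · simp
      · simp
    · refine Fin.lastCases ?_ (fun i => ?_) i
      · simp; ring
      · simp
  map_smul' c v := by
    funext i
    rcases i with i | i
    · refine Fin.lastCases ?_ (fun i => ?_) i
      · simp
      · simp
    · refine Fin.lastCases ?_ (fun i => ?_) i
      · simp; ring
      · simp
  invFun w := Sum.elim (Sum.elim (fun i => w (Sum.inl i.castSucc)) (fun i => w (Sum.inr i.castSucc)))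
    ![w (Sum.inl (Fin.last j)), w (Sum.inr (Fin.last j)) - w (Sum.inl (Fin.last j))]
  left_inv v := by
    funext i
    rcases i with (i | i) | i
    · simp
    · simp
    · fin_cases i
      · simp
      · simp
  right_inv w := by
    funext i
    rcases i with i | i
    · refine Fin.lastCases ?_ (fun i => ?_) i
      · simp
      · simp
    · refine Fin.lastCases ?_ (fun i => ?_) i
      · simp
      · simp

theorem plus_plusMinusEquiv (j : ℕ) (v : ((Fin j ⊕ Fin j) ⊕ Fin 2) → F) :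
    Cfsg.quadFormPlus (j + 1) F (plusMinusEquiv j v) = Cfsg.quadFormMinus j F 1 0 v := by
  unfold Cfsg.quadFormPlus Cfsg.quadFormMinus
  rw [Fin.sum_univ_castSucc]
  simp only [plusMinusEquiv, LinearEquiv.coe_mk, LinearMap.coe_mk, AddHom.coe_mk, Sum.elim_inl,
    Sum.elim_inr, Fin.snoc_castSucc, Fin.snoc_last]
  ring

end main

variable {F : Type*} [Field F] [Fintype F]

/-- **T4** `z₁² + z₁ z₂ = z₁ (z₁ + z₂)`: the form `quadFormMinus (k-1) F 1 0` is isometric to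
`quadFormPlus k F`. -/
theorem plus_of_minus_one_zero (k : ℕ) (hk : 1 ≤ k) (n : ℕ)
    (h : ∃ u ∈ Cfsg.isometryGroup F (Cfsg.quadFormMinus (k - 1) F 1 0), orderOf u = n) :
    ∃ u ∈ Cfsg.isometryGroup F (Cfsg.quadFormPlus k F), orderOf u = n := by
  obtain ⟨j, rfl⟩ : ∃ j, k = j + 1 := ⟨k - 1, by omega⟩
  exact exists_of_isometry (plusMinusEquiv j) (Cfsg.quadFormMinus j F 1 0)
    (Cfsg.quadFormPlus (j + 1) F) (plus_plusMinusEquiv j) n h

end Cfsg.Agent.Lib.H4.S8O
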