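import Mathlib
import Cfsg.Prelude.Def_Classical
import Cfsg.Agent.Lib.H2.Singer
import Cfsg.Agent.Lib.H11.IsoReindex

/-!
# S3589 farm-out, task T2 (helper4): an element of order `q^c - 1` in the standard plus-type
orthogonal group of dimension `2c`: the block matrix `diag(B, (B⁻¹)ᵀ)` of a Singer cycle `B`.
-/

set_option autoImplicit false

namespace Cfsg.Agent.Lib.H4.S8O

open Matrix

section hyp

variable {F : Type*} [Field F]

/-- the hom `B ↦ diag(B, (B⁻¹)ᵀ)` -/
noncomputable def hypHom (c : ℕ) : GL (Fin c) F →* GL (Fin c ⊕ Fin c) F where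
  toFun B :=
    ⟨Matrix.fromBlocks (B : Matrix (Fin c) (Fin c) F) 0 0
        ((B⁻¹ : GL (Fin c) F) : Matrix (Fin c) (Fin c) F)ᵀ,
      Matrix.fromBlocks ((B⁻¹ : GL (Fin c) F) : Matrix (Fin c) (Fin c) F) 0 0
        (B : Matrix (Fin c) (Fin c) F)ᵀ,
      by
        rw [Matrix.fromBlocks_multiply]
        simp only [Matrix.mul_zero, Matrix.zero_mul, add_zero, zero_add]
        rw [← Matrix.transpose_mul, ← Units.val_mul, mul_inv_cancel]
        simp [Matrix.fromBlocks_one],
      by
        rw [Matrix.fromBlocks_multiply]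
        simp only [Matrix.mul_zero, Matrix.zero_mul, add_zero, zero_add]
        rw [← Matrix.transpose_mul, ← Units.val_mul, inv_mul_cancel]
        simp [Matrix.fromBlocks_one]⟩
  map_one' := by
    apply Units.ext
    simp [Matrix.fromBlocks_one]
  map_mul' A B := by
    apply Units.ext
    simp only [Units.val_mul, _root_.mul_inv_rev, Matrix.fromBlocks_multiply, Matrix.mul_zero,
      Matrix.zero_mul, add_zero, zero_add, Matrix.transpose_mul]

theorem hypHom_val (c : ℕ) (B : GL (Fin c) F) :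
    ((hypHom c B : GL (Fin c ⊕ Fin c) F) : Matrix (Fin c ⊕ Fin c) (Fin c ⊕ Fin c) F) =
      Matrix.fromBlocks (B : Matrix (Fin c) (Fin c) F) 0 0
        ((B⁻¹ : GL (Fin c) F) : Matrix (Fin c) (Fin c) F)ᵀ := rfl

theorem hypHom_injective (c : ℕ) : Function.Injective (hypHom (F := F) c) := by
  intro A B h
  have h1 := congrArg (fun g : GL (Fin c ⊕ Fin c) F =>
    (g : Matrix (Fin c ⊕ Fin c) (Fin c ⊕ Fin c) F)) h
  simp only [hypHom_val] at h1
  apply Units.ext
  exact (Matrix.fromBlocks_inj.1 h1).1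

theorem hypHom_mem (c : ℕ) (B : GL (Fin c) F) :
    hypHom c B ∈ Cfsg.isometryGroup F (Cfsg.quadFormPlus c F) := by
  rw [Cfsg.Agent.Lib.H11.IsoReindex.mem_iso_iff']
  intro x
  have hval : ((hypHom c B : GL (Fin c ⊕ Fin c) F).1) =
      Matrix.fromBlocks (B : Matrix (Fin c) (Fin c) F) 0 0
        ((B⁻¹ : GL (Fin c) F) : Matrix (Fin c) (Fin c) F)ᵀ := rfl
  rw [hval, Matrix.fromBlocks_mulVec]
  simp only [Matrix.zero_mulVec, add_zero, zero_add]
  unfold Cfsg.quadFormPlus
  simp only [Sum.elim_inl, Sum.elim_inr]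
  have e1 : ∀ u w : Fin c → F, ∑ i : Fin c, u i * w i = u ⬝ᵥ w := fun u w => rfl
  rw [e1, e1 (fun i => x (Sum.inl i)) (fun i => x (Sum.inr i)), Matrix.mulVec_transpose,
    dotProduct_comm, Matrix.dotProduct_mulVec, Matrix.vecMul_vecMul, ← Units.val_mul,
    inv_mul_cancel]
  simp only [Units.val_one, Matrix.vecMul_one]
  rw [dotProduct_comm]
  rfl

end hyp

variable {F : Type*} [Field F] [Fintype F]

/-- **T2** element of order `q^c-1` in the standard plus-type orthogonal group of dimension `2c`. -/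
theorem exists_plus_singer (c : ℕ) (hc : 1 ≤ c) :
    ∃ h ∈ Cfsg.isometryGroup F (Cfsg.quadFormPlus c F),
      orderOf h = Fintype.card F ^ c - 1 := by
  classical
  have : NeZero c := ⟨by omega⟩
  obtain ⟨C, hC, hcard⟩ := Cfsg.Agent.Lib.H2.Singer.exists_singer F c
  obtain ⟨g, hg⟩ := hC.exists_generator
  have hord : orderOf g = Fintype.card F ^ c - 1 := by
    rw [orderOf_eq_card_of_forall_mem_zpowers hg, hcard]
  refine ⟨hypHom c (g : GL (Fin c) F), hypHom_mem c _, ?_⟩
  rw [orderOf_injective (hypHom c) (hypHom_injective c), Subgroup.orderOf_coe, hord]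

end Cfsg.Agent.Lib.H4.S8O
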