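import Cfsg.Agent.Lib.H11.S8V0
import Cfsg.Agent.Lib.H11.IsoReindex
import Cfsg.Agent.Lib.H13.RankParity
import Cfsg.Agent.S0288

/-!
# S3590 farm-out, tasks U5a / U5b (helper4): unipotent elements of order 4 and Jordan type
`J₄ ⊕ J₂` in `Ω` of the 6-dimensional standard forms in characteristic 2, with
`1 + u + u² + u³ ≠ 0`.
-/

set_option autoImplicit false

namespace Cfsg.Agent.Lib.H4.S8V

open Matrix Module Cfsg.Agent.Lib.H11.S8V
open scoped MatrixGroups

section general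

variable {F : Type*} [Field F] {ι : Type} [Fintype ι] [DecidableEq ι]

/-- the element of `GL` attached to an endomorphism with `f ^ 4 = 1` -/
noncomputable def glOfPow (f : Module.End F (ι → F)) (h : f ^ 4 = 1) : GL ι F :=
  Units.mapEquiv (LinearMap.toMatrixAlgEquiv' (R := F) (n := ι)).toMulEquiv
    (Units.ofPowEqOne f 4 h (by norm_num))

theorem glOfPow_val (f : Module.End F (ι → F)) (h : f ^ 4 = 1) :
    ((glOfPow f h : GL ι F) : Matrix ι ι F) = LinearMap.toMatrix' f := rfl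

theorem orderOf_glOfPow (f : Module.End F (ι → F)) (h : f ^ 4 = 1) (h2 : f ^ 2 ≠ 1) :
    orderOf (glOfPow f h) = 4 := by
  unfold glOfPow
  rw [MulEquiv.orderOf_eq]
  have : Fact (Nat.Prime 2) := ⟨Nat.prime_two⟩
  have := orderOf_eq_prime_pow (p := 2) (n := 1) (x := Units.ofPowEqOne f 4 h (by norm_num))
    (by
      intro h3
      apply h2
      have := congrArg (fun V : (Module.End F (ι → F))ˣ => (V : Module.End F (ι → F))) h3
      simpa using this)
    (by
      apply Units.ext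
      rw [Units.val_pow_eq_pow_val]
      exact h)
  simpa using this

theorem rank_toMatrix' (g : Module.End F (ι → F)) :
    (LinearMap.toMatrix' g).rank = finrank F (LinearMap.range g) := by
  unfold Matrix.rank
  rw [← Matrix.toLin'_apply', Matrix.toLin'_toMatrix']

theorem gsum_toMatrix' (f : Module.End F (ι → F)) :
    gsum (LinearMap.toMatrix' f) 4 = LinearMap.toMatrix' (1 + f + f ^ 2 + f ^ 3) := by
  rw [gsum_def]
  simp only [Finset.sum_range_succ, Finset.sum_range_zero, zero_add, pow_zero, pow_one]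
  rw [map_add, map_add, map_add, LinearMap.toMatrix'_one]
  have e2 : LinearMap.toMatrix' (f ^ 2) = LinearMap.toMatrix' f ^ 2 :=
    map_pow (LinearMap.toMatrixAlgEquiv' (R := F) (n := ι)) f 2
  have e3 : LinearMap.toMatrix' (f ^ 3) = LinearMap.toMatrix' f ^ 3 :=
    map_pow (LinearMap.toMatrixAlgEquiv' (R := F) (n := ι)) f 3
  rw [e2, e3]

variable [Fintype F] [CharP F 2]

/-- the general recipe -/
theorem exists_of_end4 (Q : QuadraticForm F (ι → F))
    (hQ : (QuadraticMap.polarBilin Q).Nondegenerate) (hcard : Fintype.card ι ≠ 4)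
    (f : Module.End F (ι → F)) (hf : ∀ v, Q (f v) = Q v) (h4 : f ^ 4 = 1) (h2 : f ^ 2 ≠ 1)
    (hrank : Even (finrank F (LinearMap.range (f - 1))))
    (hsum : 1 + f + f ^ 2 + f ^ 3 ≠ 0) :
    ∃ u : ↥(Cfsg.isometryGroup F ⇑Q), u ∈ Cfsg.Omega F ⇑Q ∧ orderOf u = 4 ∧
      gsum ((u : GL ι F) : Matrix ι ι F) 4 ≠ 0 := by
  have hmem : glOfPow f h4 ∈ Cfsg.isometryGroup F ⇑Q := by
    rw [Cfsg.Agent.Lib.H11.IsoReindex.mem_iso_iff']
    intro x
    rw [glOfPow_val, LinearMap.toMatrix'_mulVec, hf]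
  refine ⟨⟨glOfPow f h4, hmem⟩, ?_, ?_, ?_⟩
  · rw [Cfsg.Agent.Lib.H13.RankParity.mem_Omega_iff_even_rank Q hQ (Or.inr hcard)]
    show Even ((((glOfPow f h4 : GL ι F) : Matrix ι ι F)) - 1).rank
    rw [glOfPow_val, ← LinearMap.toMatrix'_one, ← map_sub, rank_toMatrix']
    exact hrank
  · rw [← orderOf_glOfPow f h4 h2]
    exact (Subgroup.orderOf_coe (⟨glOfPow f h4, hmem⟩ : ↥(Cfsg.isometryGroup F ⇑Q))).symm
  · show gsum (((glOfPow f h4 : GL ι F) : Matrix ι ι F)) 4 ≠ 0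
    rw [glOfPow_val, gsum_toMatrix']
    intro h0
    apply hsum
    have h1 : LinearMap.toMatrix' (1 + f + f ^ 2 + f ^ 3) = LinearMap.toMatrix' (0 : Module.End F (ι → F)) := by
      rw [h0, map_zero]
    exact LinearMap.toMatrix'.injective h1

end general

section aniso

variable {F : Type*} [Field F] [Fintype F] [CharP F 2]

theorem a_ne_zero_of_aniso (a b : F)
    (hab : ∀ z₁ z₂ : F, z₁ ^ 2 + a * z₁ * z₂ + b * z₂ ^ 2 = 0 → z₁ = 0 ∧ z₂ = 0) : a ≠ 0 := by
  rintro rfl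
  obtain ⟨r, hr⟩ := FiniteField.isSquare_of_char_two (ringChar.eq F 2) b
  have h2 : (2 : F) = 0 := CharTwo.two_eq_zero
  have := (hab r 1 (by rw [hr]; linear_combination (r * r) * h2)).2
  exact one_ne_zero this

end aniso

section minus

variable {F : Type*} [Field F]

/-- the index type of the 6-dimensional minus form -/
abbrev I6 : Type := (Fin 2 ⊕ Fin 2) ⊕ Fin 2

theorem ext6 {u w : I6 → F} (h1 : u (Sum.inl (Sum.inl 0)) = w (Sum.inl (Sum.inl 0)))
    (h2 : u (Sum.inl (Sum.inl 1)) = w (Sum.inl (Sum.inl 1)))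
    (h3 : u (Sum.inl (Sum.inr 0)) = w (Sum.inl (Sum.inr 0)))
    (h4 : u (Sum.inl (Sum.inr 1)) = w (Sum.inl (Sum.inr 1)))
    (h5 : u (Sum.inr 0) = w (Sum.inr 0)) (h6 : u (Sum.inr 1) = w (Sum.inr 1)) : u = w := by
  funext s
  rcases s with (i | i) | j
  · fin_cases i
    exacts [h1, h2]
  · fin_cases i
    exacts [h3, h4]
  · fin_cases j
    exacts [h5, h6]

/-- the unipotent map of U5a: T3b on `(x₀, y₀, z)` and the swap `x₁ ↔ y₁` -/
def fM (a b : F) : Module.End F (I6 → F) where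
  toFun v := fun s => match s with
    | Sum.inl (Sum.inl i) => if i = 0 then v (Sum.inl (Sum.inl 0)) + b * v (Sum.inl (Sum.inr 0))
        + a * v (Sum.inr 0) + a ^ 2 * v (Sum.inr 1) else v (Sum.inl (Sum.inr 1))
    | Sum.inl (Sum.inr i) => if i = 0 then v (Sum.inl (Sum.inr 0)) else v (Sum.inl (Sum.inl 1))
    | Sum.inr j => if j = 0 then v (Sum.inr 0) + a * v (Sum.inr 1)
        else v (Sum.inr 1) + v (Sum.inl (Sum.inr 0))
  map_add' v w := by
    apply ext6 <;> simp <;> ring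
  map_smul' c v := by
    apply ext6 <;> simp <;> ring

theorem fM_x0 (a b : F) (v : I6 → F) :
    fM a b v (Sum.inl (Sum.inl 0)) = v (Sum.inl (Sum.inl 0)) + b * v (Sum.inl (Sum.inr 0))
        + a * v (Sum.inr 0) + a ^ 2 * v (Sum.inr 1) := rfl
theorem fM_x1 (a b : F) (v : I6 → F) :
    fM a b v (Sum.inl (Sum.inl 1)) = v (Sum.inl (Sum.inr 1)) := rfl
theorem fM_y0 (a b : F) (v : I6 → F) :
    fM a b v (Sum.inl (Sum.inr 0)) = v (Sum.inl (Sum.inr 0)) := rfl
theorem fM_y1 (a b : F) (v : I6 → F) :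
    fM a b v (Sum.inl (Sum.inr 1)) = v (Sum.inl (Sum.inl 1)) := rfl
theorem fM_z1 (a b : F) (v : I6 → F) :
    fM a b v (Sum.inr 0) = v (Sum.inr 0) + a * v (Sum.inr 1) := rfl
theorem fM_z2 (a b : F) (v : I6 → F) :
    fM a b v (Sum.inr 1) = v (Sum.inr 1) + v (Sum.inl (Sum.inr 0)) := rfl

/-- the 4-dimensional range of `fM - 1` -/
def gM : (Fin 4 → F) →ₗ[F] (I6 → F) where
  toFun c := fun s => match s with
    | Sum.inl (Sum.inl i) => if i = 0 then c 0 else c 1
    | Sum.inl (Sum.inr i) => if i = 0 then 0 else c 1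
    | Sum.inr j => if j = 0 then c 2 else c 3
  map_add' v w := by
    apply ext6 <;> simp
  map_smul' c v := by
    apply ext6 <;> simp

theorem gM_x0 (c : Fin 4 → F) : gM c (Sum.inl (Sum.inl 0)) = c 0 := rfl
theorem gM_x1 (c : Fin 4 → F) : gM c (Sum.inl (Sum.inl 1)) = c 1 := rfl
theorem gM_y0 (c : Fin 4 → F) : gM c (Sum.inl (Sum.inr 0)) = 0 := rfl
theorem gM_y1 (c : Fin 4 → F) : gM c (Sum.inl (Sum.inr 1)) = c 1 := rfl
theorem gM_z1 (c : Fin 4 → F) : gM c (Sum.inr 0) = c 2 := rfl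
theorem gM_z2 (c : Fin 4 → F) : gM c (Sum.inr 1) = c 3 := rfl

theorem gM_injective : Function.Injective (gM (F := F)) := by
  intro c c' h
  funext i
  fin_cases i
  · exact congrFun h (Sum.inl (Sum.inl 0))
  · exact congrFun h (Sum.inl (Sum.inl 1))
  · exact congrFun h (Sum.inr 0)
  · exact congrFun h (Sum.inr 1)

variable [CharP F 2]

theorem fM_sq_x0 (a b : F) (v : I6 → F) :
    fM a b (fM a b v) (Sum.inl (Sum.inl 0)) = v (Sum.inl (Sum.inl 0)) + a ^ 2 * v (Sum.inr 1)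
      + a ^ 2 * v (Sum.inl (Sum.inr 0)) := by
  have h2 : (2 : F) = 0 := CharTwo.two_eq_zero
  simp only [fM_x0, fM_y0, fM_z1, fM_z2]
  linear_combination (b * v (Sum.inl (Sum.inr 0)) + a * v (Sum.inr 0) + a ^ 2 * v (Sum.inr 1)) * h2
theorem fM_sq_x1 (a b : F) (v : I6 → F) :
    fM a b (fM a b v) (Sum.inl (Sum.inl 1)) = v (Sum.inl (Sum.inl 1)) := by
  simp only [fM_x1, fM_y1]
theorem fM_sq_y0 (a b : F) (v : I6 → F) :
    fM a b (fM a b v) (Sum.inl (Sum.inr 0)) = v (Sum.inl (Sum.inr 0)) := by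
  simp only [fM_y0]
theorem fM_sq_y1 (a b : F) (v : I6 → F) :
    fM a b (fM a b v) (Sum.inl (Sum.inr 1)) = v (Sum.inl (Sum.inr 1)) := by
  simp only [fM_x1, fM_y1]
theorem fM_sq_z1 (a b : F) (v : I6 → F) :
    fM a b (fM a b v) (Sum.inr 0) = v (Sum.inr 0) + a * v (Sum.inl (Sum.inr 0)) := by
  have h2 : (2 : F) = 0 := CharTwo.two_eq_zero
  simp only [fM_z1, fM_z2]
  linear_combination (a * v (Sum.inr 1)) * h2
theorem fM_sq_z2 (a b : F) (v : I6 → F) :
    fM a b (fM a b v) (Sum.inr 1) = v (Sum.inr 1) := by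
  have h2 : (2 : F) = 0 := CharTwo.two_eq_zero
  simp only [fM_y0, fM_z2]
  linear_combination (v (Sum.inl (Sum.inr 0))) * h2

theorem fM_pow_two (a b : F) (v : I6 → F) : (fM a b ^ 2) v = fM a b (fM a b v) := by
  rw [pow_two, Module.End.mul_apply]

theorem fM_pow_three (a b : F) (v : I6 → F) :
    (fM a b ^ 3) v = fM a b (fM a b (fM a b v)) := by
  rw [pow_succ, Module.End.mul_apply, fM_pow_two]

theorem fM_pow_four (a b : F) : fM a b ^ 4 = 1 := by
  have h2 : (2 : F) = 0 := CharTwo.two_eq_zero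
  apply LinearMap.ext
  intro v
  have e4 : (fM a b ^ 4) v = fM a b (fM a b (fM a b (fM a b v))) := by
    rw [pow_succ, Module.End.mul_apply, fM_pow_three]
  rw [e4, Module.End.one_apply]
  apply ext6
  · rw [fM_sq_x0, fM_sq_x0, fM_sq_z2, fM_sq_y0]
    linear_combination (a ^ 2 * v (Sum.inr 1) + a ^ 2 * v (Sum.inl (Sum.inr 0))) * h2
  · rw [fM_sq_x1, fM_sq_x1]
  · rw [fM_sq_y0, fM_sq_y0]
  · rw [fM_sq_y1, fM_sq_y1]
  · rw [fM_sq_z1, fM_sq_z1, fM_sq_y0]
    linear_combination (a * v (Sum.inl (Sum.inr 0))) * h2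
  · rw [fM_sq_z2, fM_sq_z2]

theorem fM_pow_two_ne (a b : F) (ha : a ≠ 0) : fM a b ^ 2 ≠ 1 := by
  intro h
  have h3 := congrFun (LinearMap.congr_fun h
    (fun s => if s = Sum.inl (Sum.inr 0) then 1 else 0)) (Sum.inr 0)
  rw [fM_pow_two, fM_sq_z1, Module.End.one_apply] at h3
  simp at h3
  exact ha h3

theorem fM_sum_x0 (a b : F) (v : I6 → F) :
    ((1 + fM a b + fM a b ^ 2 + fM a b ^ 3 : Module.End F (I6 → F)) v) (Sum.inl (Sum.inl 0)) =
      a ^ 2 * v (Sum.inl (Sum.inr 0)) := by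
  have h2 : (2 : F) = 0 := CharTwo.two_eq_zero
  rw [LinearMap.add_apply, LinearMap.add_apply, LinearMap.add_apply, Module.End.one_apply,
    fM_pow_two, fM_pow_three, Pi.add_apply, Pi.add_apply, Pi.add_apply, fM_sq_x0, fM_sq_x0,
    fM_x0, fM_z2, fM_y0]
  linear_combination (2 * v (Sum.inl (Sum.inl 0)) + b * v (Sum.inl (Sum.inr 0)) + a * v (Sum.inr 0)
    + a ^ 2 * v (Sum.inr 1) + a ^ 2 * v (Sum.inr 1) + a ^ 2 * v (Sum.inl (Sum.inr 0))) * h2

theorem fM_sum_ne (a b : F) (ha : a ≠ 0) : 1 + fM a b + fM a b ^ 2 + fM a b ^ 3 ≠ 0 := by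
  intro h
  have h3 := fM_sum_x0 a b (fun s => if s = Sum.inl (Sum.inr 0) then 1 else 0)
  rw [h] at h3
  simp at h3
  exact ha ((pow_eq_zero_iff (by norm_num : (2 : ℕ) ≠ 0)).1 h3.symm)

theorem fM_quad (a b : F) (v : I6 → F) :
    Cfsg.quadFormMinus 2 F a b (fM a b v) = Cfsg.quadFormMinus 2 F a b v := by
  have h2 : (2 : F) = 0 := CharTwo.two_eq_zero
  unfold Cfsg.quadFormMinus
  rw [Fin.sum_univ_two, Fin.sum_univ_two, fM_x0, fM_x1, fM_y0, fM_y1, fM_z1, fM_z2]
  linear_combination (b * v (Sum.inl (Sum.inr 0)) ^ 2 + a * v (Sum.inr 0) * v (Sum.inl (Sum.inr 0))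
    + a ^ 2 * v (Sum.inr 1) * v (Sum.inl (Sum.inr 0)) + a * v (Sum.inr 0) * v (Sum.inr 1)
    + a ^ 2 * v (Sum.inr 1) ^ 2 + b * v (Sum.inr 1) * v (Sum.inl (Sum.inr 0))) * h2

theorem range_fM (a b : F) (ha : a ≠ 0) :
    LinearMap.range (fM a b - 1) = LinearMap.range (gM (F := F)) := by
  have h2 : (2 : F) = 0 := CharTwo.two_eq_zero
  apply le_antisymm
  · rintro w ⟨v, rfl⟩
    refine ⟨![b * v (Sum.inl (Sum.inr 0)) + a * v (Sum.inr 0) + a ^ 2 * v (Sum.inr 1),
      v (Sum.inl (Sum.inl 1)) + v (Sum.inl (Sum.inr 1)), a * v (Sum.inr 1),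
      v (Sum.inl (Sum.inr 0))], ?_⟩
    apply ext6
    · rw [gM_x0, LinearMap.sub_apply, Module.End.one_apply, Pi.sub_apply, fM_x0]
      simp
      ring
    · rw [gM_x1, LinearMap.sub_apply, Module.End.one_apply, Pi.sub_apply, fM_x1]
      simp
      linear_combination (v (Sum.inl (Sum.inl 1))) * h2
    · rw [gM_y0, LinearMap.sub_apply, Module.End.one_apply, Pi.sub_apply, fM_y0]
      ring
    · rw [gM_y1, LinearMap.sub_apply, Module.End.one_apply, Pi.sub_apply, fM_y1]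
      simp
      linear_combination (v (Sum.inl (Sum.inr 1))) * h2
    · rw [gM_z1, LinearMap.sub_apply, Module.End.one_apply, Pi.sub_apply, fM_z1]
      simp
    · rw [gM_z2, LinearMap.sub_apply, Module.End.one_apply, Pi.sub_apply, fM_z2]
      simp
  · rintro w ⟨c, rfl⟩
    refine ⟨fun s => match s with
      | Sum.inl (Sum.inl i) => if i = 0 then 0 else c 1
      | Sum.inl (Sum.inr i) => if i = 0 then c 3 else 0
      | Sum.inr j => if j = 0 then (c 0 + b * c 3 + a * c 2) / a else c 2 / a, ?_⟩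
    apply ext6
    · rw [gM_x0, LinearMap.sub_apply, Module.End.one_apply, Pi.sub_apply, fM_x0]
      simp
      field_simp
      linear_combination (b * c 3 + a * c 2) * h2
    · rw [gM_x1, LinearMap.sub_apply, Module.End.one_apply, Pi.sub_apply, fM_x1]
      simp
      linear_combination (-c 1) * h2
    · rw [gM_y0, LinearMap.sub_apply, Module.End.one_apply, Pi.sub_apply, fM_y0]
      simp
    · rw [gM_y1, LinearMap.sub_apply, Module.End.one_apply, Pi.sub_apply, fM_y1]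
      simp
    · rw [gM_z1, LinearMap.sub_apply, Module.End.one_apply, Pi.sub_apply, fM_z1]
      simp
      field_simp
    · rw [gM_z2, LinearMap.sub_apply, Module.End.one_apply, Pi.sub_apply, fM_z2]
      simp

theorem finrank_range_fM (a b : F) (ha : a ≠ 0) :
    finrank F (LinearMap.range (fM a b - 1)) = 4 := by
  rw [range_fM a b ha, LinearMap.finrank_range_of_inj gM_injective]
  simp

end minus

section minusMain

variable {F : Type*} [Field F] [Fintype F] [CharP F 2]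

/-- **U5a** -/
theorem exists_u6_minus (a b : F)
    (hab : ∀ z₁ z₂ : F, z₁ ^ 2 + a * z₁ * z₂ + b * z₂ ^ 2 = 0 → z₁ = 0 ∧ z₂ = 0) :
    ∃ u : ↥(Cfsg.isometryGroup F (Cfsg.quadFormMinus 2 F a b)),
      u ∈ Cfsg.Omega F (Cfsg.quadFormMinus 2 F a b) ∧ orderOf u = 4 ∧
      gsum ((u : Matrix.GeneralLinearGroup ((Fin 2 ⊕ Fin 2) ⊕ Fin 2) F) :
        Matrix ((Fin 2 ⊕ Fin 2) ⊕ Fin 2) ((Fin 2 ⊕ Fin 2) ⊕ Fin 2) F) 4 ≠ 0 := by
  have ha := a_ne_zero_of_aniso a b hab
  have key := exists_of_end4 (Cfsg.Agent.Lib.H13.minusQF F 2 a b)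
    (Cfsg.Agent.S0288.nondeg a b hab 2) (by simp) (fM a b)
    (fun v => by rw [Cfsg.Agent.S0288.coe_minusQF]; exact fM_quad a b v)
    (fM_pow_four a b) (fM_pow_two_ne a b ha)
    (by rw [finrank_range_fM a b ha]; decide) (fM_sum_ne a b ha)
  rw [Cfsg.Agent.S0288.coe_minusQF] at key
  exact key

end minusMain

section plus

variable {F : Type*} [Field F]

/-- the index type of the 6-dimensional plus form -/
abbrev J6 : Type := Fin 3 ⊕ Fin 3

theorem extJ6 {u w : J6 → F} (h1 : u (Sum.inl 0) = w (Sum.inl 0))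
    (h2 : u (Sum.inl 1) = w (Sum.inl 1)) (h3 : u (Sum.inl 2) = w (Sum.inl 2))
    (h4 : u (Sum.inr 0) = w (Sum.inr 0)) (h5 : u (Sum.inr 1) = w (Sum.inr 1))
    (h6 : u (Sum.inr 2) = w (Sum.inr 2)) : u = w := by
  funext s
  rcases s with i | i
  · fin_cases i
    exacts [h1, h2, h3]
  · fin_cases i
    exacts [h4, h5, h6]

/-- the unipotent map of U5b -/
def fP : Module.End F (J6 → F) where
  toFun v := fun s => match s with
    | Sum.inl i => if i = 0 then v (Sum.inl 0) + v (Sum.inr 1)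
        else if i = 1 then v (Sum.inr 1) else v (Sum.inr 2)
    | Sum.inr i => if i = 0 then v (Sum.inr 0)
        else if i = 1 then v (Sum.inl 1) + v (Sum.inr 0) else v (Sum.inl 2)
  map_add' v w := by
    apply extJ6 <;> simp <;> ring
  map_smul' c v := by
    apply extJ6 <;> simp <;> ring

theorem fP_x0 (v : J6 → F) : fP v (Sum.inl 0) = v (Sum.inl 0) + v (Sum.inr 1) := rfl
theorem fP_x1 (v : J6 → F) : fP v (Sum.inl 1) = v (Sum.inr 1) := rfl
theorem fP_x2 (v : J6 → F) : fP v (Sum.inl 2) = v (Sum.inr 2) := rfl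
theorem fP_y0 (v : J6 → F) : fP v (Sum.inr 0) = v (Sum.inr 0) := rfl
theorem fP_y1 (v : J6 → F) : fP v (Sum.inr 1) = v (Sum.inl 1) + v (Sum.inr 0) := rfl
theorem fP_y2 (v : J6 → F) : fP v (Sum.inr 2) = v (Sum.inl 2) := rfl

/-- the 4-dimensional range of `fP - 1` -/
def gP : (Fin 4 → F) →ₗ[F] (J6 → F) where
  toFun c := fun s => match s with
    | Sum.inl i => if i = 0 then c 0 else if i = 1 then c 1 else c 2
    | Sum.inr i => if i = 0 then 0 else if i = 1 then c 1 + c 3 else c 2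
  map_add' v w := by
    apply extJ6 <;> simp
    ring
  map_smul' c v := by
    apply extJ6 <;> simp
    ring

theorem gP_x0 (c : Fin 4 → F) : gP c (Sum.inl 0) = c 0 := rfl
theorem gP_x1 (c : Fin 4 → F) : gP c (Sum.inl 1) = c 1 := rfl
theorem gP_x2 (c : Fin 4 → F) : gP c (Sum.inl 2) = c 2 := rfl
theorem gP_y0 (c : Fin 4 → F) : gP c (Sum.inr 0) = 0 := rfl
theorem gP_y1 (c : Fin 4 → F) : gP c (Sum.inr 1) = c 1 + c 3 := rfl
theorem gP_y2 (c : Fin 4 → F) : gP c (Sum.inr 2) = c 2 := rfl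

theorem gP_injective : Function.Injective (gP (F := F)) := by
  intro c c' h
  have h0 := congrFun h (Sum.inl 0)
  have h1 := congrFun h (Sum.inl 1)
  have h2 := congrFun h (Sum.inl 2)
  have h3 := congrFun h (Sum.inr 1)
  rw [gP_x0, gP_x0] at h0
  rw [gP_x1, gP_x1] at h1
  rw [gP_x2, gP_x2] at h2
  rw [gP_y1, gP_y1, h1] at h3
  funext i
  fin_cases i
  · exact h0
  · exact h1
  · exact h2
  · exact add_left_cancel h3

variable [CharP F 2]

theorem fP_sq_x0 (v : J6 → F) :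
    fP (fP v) (Sum.inl 0) = v (Sum.inl 0) + v (Sum.inr 1) + v (Sum.inl 1) + v (Sum.inr 0) := by
  simp only [fP_x0, fP_y1]
  ring
theorem fP_sq_x1 (v : J6 → F) : fP (fP v) (Sum.inl 1) = v (Sum.inl 1) + v (Sum.inr 0) := by
  simp only [fP_x1, fP_y1]
theorem fP_sq_x2 (v : J6 → F) : fP (fP v) (Sum.inl 2) = v (Sum.inl 2) := by
  simp only [fP_x2, fP_y2]
theorem fP_sq_y0 (v : J6 → F) : fP (fP v) (Sum.inr 0) = v (Sum.inr 0) := by
  simp only [fP_y0]
theorem fP_sq_y1 (v : J6 → F) : fP (fP v) (Sum.inr 1) = v (Sum.inr 1) + v (Sum.inr 0) := by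
  simp only [fP_x1, fP_y1, fP_y0]
theorem fP_sq_y2 (v : J6 → F) : fP (fP v) (Sum.inr 2) = v (Sum.inr 2) := by
  simp only [fP_x2, fP_y2]

theorem fP_pow_two (v : J6 → F) : ((fP : Module.End F (J6 → F)) ^ 2) v = fP (fP v) := by
  rw [pow_two, Module.End.mul_apply]

theorem fP_pow_three (v : J6 → F) :
    ((fP : Module.End F (J6 → F)) ^ 3) v = fP (fP (fP v)) := by
  rw [pow_succ, Module.End.mul_apply, fP_pow_two]

theorem fP_pow_four : (fP : Module.End F (J6 → F)) ^ 4 = 1 := by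
  have h2 : (2 : F) = 0 := CharTwo.two_eq_zero
  apply LinearMap.ext
  intro v
  have e4 : ((fP : Module.End F (J6 → F)) ^ 4) v = fP (fP (fP (fP v))) := by
    rw [pow_succ, Module.End.mul_apply, fP_pow_three]
  rw [e4, Module.End.one_apply]
  apply extJ6
  · rw [fP_sq_x0, fP_sq_x0, fP_sq_y1, fP_sq_x1, fP_sq_y0]
    linear_combination (v (Sum.inr 1) + v (Sum.inl 1) + 2 * v (Sum.inr 0)) * h2
  · rw [fP_sq_x1, fP_sq_x1, fP_sq_y0]
    linear_combination (v (Sum.inr 0)) * h2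
  · rw [fP_sq_x2, fP_sq_x2]
  · rw [fP_sq_y0, fP_sq_y0]
  · rw [fP_sq_y1, fP_sq_y1, fP_sq_y0]
    linear_combination (v (Sum.inr 0)) * h2
  · rw [fP_sq_y2, fP_sq_y2]

theorem fP_pow_two_ne : (fP : Module.End F (J6 → F)) ^ 2 ≠ 1 := by
  intro h
  have h3 := congrFun (LinearMap.congr_fun h
    (fun s => if s = Sum.inr 0 then 1 else 0)) (Sum.inl 1)
  rw [fP_pow_two, fP_sq_x1, Module.End.one_apply] at h3
  simp at h3

theorem fP_sum_x0 (v : J6 → F) :
    ((1 + fP + fP ^ 2 + fP ^ 3 : Module.End F (J6 → F)) v) (Sum.inl 0) = v (Sum.inr 0) := by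
  have h2 : (2 : F) = 0 := CharTwo.two_eq_zero
  rw [LinearMap.add_apply, LinearMap.add_apply, LinearMap.add_apply, Module.End.one_apply,
    fP_pow_two, fP_pow_three, Pi.add_apply, Pi.add_apply, Pi.add_apply, fP_sq_x0, fP_sq_x0,
    fP_x0, fP_y1, fP_x1, fP_y0]
  linear_combination (2 * v (Sum.inl 0) + 2 * v (Sum.inr 1) + v (Sum.inl 1) + v (Sum.inr 0)) * h2

theorem fP_sum_ne : (1 + fP + fP ^ 2 + fP ^ 3 : Module.End F (J6 → F)) ≠ 0 := by
  intro h
  have h3 := fP_sum_x0 (F := F) (fun s => if s = Sum.inr 0 then 1 else 0)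
  rw [h] at h3
  simp at h3

theorem fP_quad (v : J6 → F) :
    Cfsg.quadFormPlus 3 F (fP v) = Cfsg.quadFormPlus 3 F v := by
  have h2 : (2 : F) = 0 := CharTwo.two_eq_zero
  unfold Cfsg.quadFormPlus
  rw [Fin.sum_univ_three, Fin.sum_univ_three, fP_x0, fP_x1, fP_x2, fP_y0, fP_y1, fP_y2]
  linear_combination (v (Sum.inr 0) * v (Sum.inr 1)) * h2

theorem range_fP :
    LinearMap.range ((fP : Module.End F (J6 → F)) - 1) = LinearMap.range (gP (F := F)) := by
  have h2 : (2 : F) = 0 := CharTwo.two_eq_zero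
  apply le_antisymm
  · rintro w ⟨v, rfl⟩
    refine ⟨![v (Sum.inr 1), v (Sum.inl 1) + v (Sum.inr 1), v (Sum.inl 2) + v (Sum.inr 2),
      v (Sum.inr 0)], ?_⟩
    apply extJ6
    · rw [gP_x0, LinearMap.sub_apply, Module.End.one_apply, Pi.sub_apply, fP_x0]
      simp
    · rw [gP_x1, LinearMap.sub_apply, Module.End.one_apply, Pi.sub_apply, fP_x1]
      simp
      linear_combination (v (Sum.inl 1)) * h2
    · rw [gP_x2, LinearMap.sub_apply, Module.End.one_apply, Pi.sub_apply, fP_x2]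
      simp
      linear_combination (v (Sum.inl 2)) * h2
    · rw [gP_y0, LinearMap.sub_apply, Module.End.one_apply, Pi.sub_apply, fP_y0]
      ring
    · rw [gP_y1, LinearMap.sub_apply, Module.End.one_apply, Pi.sub_apply, fP_y1]
      simp
      linear_combination (v (Sum.inr 1)) * h2
    · rw [gP_y2, LinearMap.sub_apply, Module.End.one_apply, Pi.sub_apply, fP_y2]
      simp
      linear_combination (v (Sum.inr 2)) * h2
  · rintro w ⟨c, rfl⟩
    refine ⟨fun s => match s with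
      | Sum.inl i => if i = 0 then 0 else if i = 1 then c 0 + c 1 else 0
      | Sum.inr i => if i = 0 then c 3 else if i = 1 then c 0 else c 2, ?_⟩
    apply extJ6
    · rw [gP_x0, LinearMap.sub_apply, Module.End.one_apply, Pi.sub_apply, fP_x0]
      simp
    · rw [gP_x1, LinearMap.sub_apply, Module.End.one_apply, Pi.sub_apply, fP_x1]
      simp
      linear_combination (-c 1) * h2
    · rw [gP_x2, LinearMap.sub_apply, Module.End.one_apply, Pi.sub_apply, fP_x2]
      simp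
    · rw [gP_y0, LinearMap.sub_apply, Module.End.one_apply, Pi.sub_apply, fP_y0]
      simp
    · rw [gP_y1, LinearMap.sub_apply, Module.End.one_apply, Pi.sub_apply, fP_y1]
      simp
      ring
    · rw [gP_y2, LinearMap.sub_apply, Module.End.one_apply, Pi.sub_apply, fP_y2]
      simp
      linear_combination (-c 2) * h2

theorem finrank_range_fP :
    finrank F (LinearMap.range ((fP : Module.End F (J6 → F)) - 1)) = 4 := by
  rw [range_fP, LinearMap.finrank_range_of_inj gP_injective]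
  simp

end plus

section plusMain

variable {F : Type*} [Field F] [Fintype F] [CharP F 2]

/-- **U5b** -/
theorem exists_u6_plus :
    ∃ u : ↥(Cfsg.isometryGroup F (Cfsg.quadFormPlus 3 F)),
      u ∈ Cfsg.Omega F (Cfsg.quadFormPlus 3 F) ∧ orderOf u = 4 ∧
      gsum ((u : Matrix.GeneralLinearGroup (Fin 3 ⊕ Fin 3) F) :
        Matrix (Fin 3 ⊕ Fin 3) (Fin 3 ⊕ Fin 3) F) 4 ≠ 0 := by
  have key := exists_of_end4 (Cfsg.Agent.Lib.H13.plusQF F 3)
    (Cfsg.Agent.S0287.nondeg 3) (by simp) (fP : Module.End F (J6 → F))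
    (fun v => by rw [Cfsg.Agent.S0287.coe_plusQF]; exact fP_quad v)
    fP_pow_four fP_pow_two_ne
    (by rw [finrank_range_fP]; decide) fP_sum_ne
  rw [Cfsg.Agent.S0287.coe_plusQF] at key
  exact key

end plusMain

end Cfsg.Agent.Lib.H4.S8V
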