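import Mathlib
import Cfsg.Agent.Lib.H12.CYDefs

/-!
# S1950, piece FUS: exponent arithmetic for an element of order `p` and the fusion set `fusE p z`

The statements are those of the architect's signature file (helper12), in the same order and with the same
binders.  `fusE p z` (defined in `Lib/H12/CYDefs`) is the set of residues `t ≠ 0` with `z ^ t.val` conjugate to
`z`; for `orderOf z = p` it is a subgroup of the units of `ZMod p`, and `z ^ a.val` is conjugate to `z ^ c.val`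
exactly when `a * c⁻¹` lies in it.
-/

set_option autoImplicit false
set_option linter.unusedSectionVars false
set_option linter.unusedVariables false

namespace Cfsg.Agent.Lib.H4.CY

open Cfsg.Agent.Lib.H12.CY

variable {G : Type*} [Group G] [Finite G] {p : ℕ} [Fact p.Prime]

theorem pow_val_mul {z : G} (hz : orderOf z = p) (a b : ZMod p) : (z ^ a.val) ^ b.val = z ^ (a * b).val := by
  have h := pow_mod_orderOf z (a.val * b.val)
  rw [hz] at h
  rw [← pow_mul, ZMod.val_mul, h]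

theorem pow_natCast_val {z : G} (hz : orderOf z = p) (n : ℕ) : z ^ ((n : ZMod p)).val = z ^ n := by
  have h := pow_mod_orderOf z n
  rw [hz] at h
  rw [ZMod.val_natCast, h]

theorem orderOf_pow_val {z : G} (hz : orderOf z = p) {a : ZMod p} (ha : a ≠ 0) : orderOf (z ^ a.val) = p := by
  have hp : p.Prime := Fact.out
  have hcop : (orderOf z).Coprime a.val := by
    rw [hz]
    refine (Nat.Prime.coprime_iff_not_dvd hp).2 (fun hdvd => ?_)
    have hpos : 0 < a.val := Nat.pos_of_ne_zero (fun h0 => ha ((ZMod.val_eq_zero a).1 h0))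
    exact absurd (Nat.le_of_dvd hpos hdvd) (not_le.2 (ZMod.val_lt a))
  rw [Nat.Coprime.orderOf_pow hcop, hz]

theorem fusE_zero_not_mem (z : G) : (0 : ZMod p) ∉ fusE p z := by
  intro h
  exact (mem_fusE.1 h).1 rfl

theorem fusE_one_mem {z : G} (hz : orderOf z = p) : (1 : ZMod p) ∈ fusE p z := by
  have hp : p.Prime := Fact.out
  refine mem_fusE.2 ⟨one_ne_zero, ?_⟩
  rw [ZMod.val_one_eq_one_mod, Nat.mod_eq_of_lt hp.one_lt, pow_one]

/-- Conjugation relations between powers of `z` may be raised to any residue. -/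
theorem conj_pow_val_mul {z : G} (hz : orderOf z = p) {g : G} {a b : ZMod p}
    (h : g * z ^ a.val * g⁻¹ = z ^ b.val) (t : ZMod p) :
    g * z ^ (a * t).val * g⁻¹ = z ^ (b * t).val := by
  rw [← pow_val_mul hz, ← pow_val_mul hz, ← conj_pow, h]

theorem pow_val_one {z : G} : z ^ (1 : ZMod p).val = z := by
  have hp : p.Prime := Fact.out
  rw [ZMod.val_one_eq_one_mod, Nat.mod_eq_of_lt hp.one_lt, pow_one]

theorem fusE_mul_mem {z : G} (hz : orderOf z = p) {s t : ZMod p} (hs : s ∈ fusE p z) (ht : t ∈ fusE p z) :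
    s * t ∈ fusE p z := by
  obtain ⟨hs0, hsc⟩ := mem_fusE.1 hs
  obtain ⟨ht0, htc⟩ := mem_fusE.1 ht
  refine mem_fusE.2 ⟨mul_ne_zero hs0 ht0, ?_⟩
  obtain ⟨g, hg⟩ := isConj_iff.1 hsc
  have hg' : g * z ^ s.val * g⁻¹ = z ^ (1 : ZMod p).val := by rw [hg, pow_val_one]
  have h2 := conj_pow_val_mul hz hg' t
  rw [one_mul] at h2
  exact (isConj_iff.2 ⟨g, h2⟩).trans htc

theorem fusE_inv_mem {z : G} (hz : orderOf z = p) {s : ZMod p} (hs : s ∈ fusE p z) : s⁻¹ ∈ fusE p z := by
  obtain ⟨hs0, hsc⟩ := mem_fusE.1 hs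
  refine mem_fusE.2 ⟨inv_ne_zero hs0, ?_⟩
  obtain ⟨g, hg⟩ := isConj_iff.1 hsc
  have hg' : g * z ^ s.val * g⁻¹ = z ^ (1 : ZMod p).val := by rw [hg, pow_val_one]
  have h2 := conj_pow_val_mul hz hg' s⁻¹
  rw [one_mul, mul_inv_cancel₀ hs0, pow_val_one] at h2
  exact (isConj_iff.2 ⟨g, h2⟩).symm

theorem isConj_pow_iff {z : G} (hz : orderOf z = p) {a c : ZMod p} (ha : a ≠ 0) (hc : c ≠ 0) :
    IsConj (z ^ a.val) (z ^ c.val) ↔ a * c⁻¹ ∈ fusE p z := by
  constructor
  · intro h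
    obtain ⟨g, hg⟩ := isConj_iff.1 h
    have h2 := conj_pow_val_mul hz hg c⁻¹
    rw [mul_inv_cancel₀ hc, pow_val_one] at h2
    exact mem_fusE.2 ⟨mul_ne_zero ha (inv_ne_zero hc), isConj_iff.2 ⟨g, h2⟩⟩
  · intro h
    obtain ⟨-, hcj⟩ := mem_fusE.1 h
    obtain ⟨g, hg⟩ := isConj_iff.1 hcj
    have hg' : g * z ^ (a * c⁻¹).val * g⁻¹ = z ^ (1 : ZMod p).val := by rw [hg, pow_val_one]
    have h2 := conj_pow_val_mul hz hg' c
    rw [one_mul, inv_mul_cancel_right₀ hc] at h2
    exact isConj_iff.2 ⟨g, h2⟩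

end Cfsg.Agent.Lib.H4.CY
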