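import Mathlib

set_option autoImplicit false
set_option linter.unusedSectionVars false

/-!
# Isotypic projections of a complex representation along a finite abelian subgroup

`t : S → G` is a homomorphism from a finite additive commutative group; for every character
`ψ : AddChar S ℂ` the averaged operator `proj ρ t ψ = |S|⁻¹ ∑ X, ψ (-X) ρ (t X)` is the projection
onto the `ψ`-isotypic part.  Orthogonality, completeness, the dimension formula, the behaviour under
elements normalising `t S`, and a multiplicity bound of Heisenberg type.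
-/

namespace Cfsg.Agent.Lib.H4.RepChar

open scoped BigOperators
open Module

variable {G : Type*} [Group G] {S : Type*} [AddCommGroup S] [Fintype S]
  {V : Type*} [AddCommGroup V] [Module ℂ V] [FiniteDimensional ℂ V]
  (ρ : G →* Module.End ℂ V) (t : S → G)

/-- the averaged operator `|S|⁻¹ ∑ ψ(-X) ρ(t X)` -/
noncomputable def proj (ψ : AddChar S ℂ) : Module.End ℂ V :=
  (Fintype.card S : ℂ)⁻¹ • ∑ X : S, ψ (-X) • ρ (t X)

theorem card_ne_zero : (Fintype.card S : ℂ) ≠ 0 :=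
  Nat.cast_ne_zero.2 Fintype.card_ne_zero

variable (ht : ∀ X X', t (X + X') = t X * t X')

include ht in
theorem t_zero : t 0 = 1 := by
  have h := ht 0 0
  rw [add_zero] at h
  exact (mul_eq_left.1 h.symm)

include ht in
theorem map_mul_proj (ψ : AddChar S ℂ) (X₀ : S) :
    ρ (t X₀) * proj ρ t ψ = ψ X₀ • proj ρ t ψ := by
  have key : ρ (t X₀) * ∑ X : S, ψ (-X) • ρ (t X) = ψ X₀ • ∑ X : S, ψ (-X) • ρ (t X) := by
    rw [Finset.mul_sum, Finset.smul_sum,
      ← Equiv.sum_comp (Equiv.addLeft X₀) (fun c => ψ X₀ • ψ (-c) • ρ (t c))]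
    refine Finset.sum_congr rfl fun b _ => ?_
    have hsc : ψ X₀ * ψ (-(X₀ + b)) = ψ (-b) := by
      rw [← AddChar.map_add_eq_mul]
      congr 1
      abel
    rw [Equiv.coe_addLeft, mul_smul_comm, ← map_mul, ← ht, smul_smul, hsc]
  unfold proj
  rw [mul_smul_comm, key, smul_comm]

include ht in
theorem proj_mul_proj_eq (ψ ψ' : AddChar S ℂ) :
    proj ρ t ψ * proj ρ t ψ' = if ψ = ψ' then proj ρ t ψ' else 0 := by
  classical
  have h1 : ∀ X : S, ψ (-X) • ρ (t X) * proj ρ t ψ' = (ψ⁻¹ * ψ') X • proj ρ t ψ' := by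
    intro X
    rw [smul_mul_assoc, map_mul_proj ρ t ht, smul_smul, AddChar.mul_apply, AddChar.inv_apply]
  have h2 : (∑ X : S, ψ (-X) • ρ (t X)) * proj ρ t ψ' =
      (∑ X : S, (ψ⁻¹ * ψ') X) • proj ρ t ψ' := by
    rw [Finset.sum_mul, Finset.sum_congr rfl (fun X _ => h1 X), Finset.sum_smul]
  have h3 : proj ρ t ψ * proj ρ t ψ' =
      (Fintype.card S : ℂ)⁻¹ • ((∑ X : S, ψ (-X) • ρ (t X)) * proj ρ t ψ') := by
    conv_lhs => rw [proj]
    rw [smul_mul_assoc]
  rw [h3, h2, AddChar.sum_eq_ite]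
  have hiff : (ψ⁻¹ * ψ' = 0) ↔ ψ = ψ' := by
    constructor
    · intro h
      have h' : ψ⁻¹ * ψ' = 1 := h
      rw [inv_mul_eq_one] at h'
      exact h'
    · intro h
      subst h
      show ψ⁻¹ * ψ = 1
      exact inv_mul_cancel ψ
  by_cases h : ψ = ψ'
  · rw [if_pos (hiff.2 h), if_pos h, smul_smul, inv_mul_cancel₀ card_ne_zero, one_smul]
  · rw [if_neg (fun h' => h (hiff.1 h')), if_neg h, zero_smul, smul_zero]

include ht in
theorem proj_mul_proj (ψ : AddChar S ℂ) : proj ρ t ψ * proj ρ t ψ = proj ρ t ψ := by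
  rw [proj_mul_proj_eq ρ t ht, if_pos rfl]

include ht in
theorem proj_mul_proj_of_ne {ψ ψ' : AddChar S ℂ} (h : ψ ≠ ψ') :
    proj ρ t ψ * proj ρ t ψ' = 0 := by
  rw [proj_mul_proj_eq ρ t ht, if_neg h]

include ht in
theorem sum_proj : ∑ ψ : AddChar S ℂ, proj ρ t ψ = 1 := by
  classical
  unfold proj
  rw [← Finset.smul_sum, Finset.sum_comm]
  have h1 : ∀ X : S, ∑ ψ : AddChar S ℂ, ψ (-X) • ρ (t X) =
      (if X = 0 then (Fintype.card S : ℂ) else 0) • ρ (t X) := by
    intro X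
    rw [← Finset.sum_smul, AddChar.sum_apply_eq_ite]
    simp only [neg_eq_zero]
  rw [Finset.sum_congr rfl (fun X _ => h1 X)]
  simp only [ite_smul, zero_smul, Finset.sum_ite_eq', Finset.mem_univ, if_true]
  rw [smul_smul, inv_mul_cancel₀ card_ne_zero, one_smul, t_zero t ht, map_one]

include ht in
theorem trace_proj_eq_finrank (ψ : AddChar S ℂ) :
    LinearMap.trace ℂ V (proj ρ t ψ) = (finrank ℂ (LinearMap.range (proj ρ t ψ)) : ℂ) :=
  (LinearMap.IsIdempotentElem.isProj_range _ (proj_mul_proj ρ t ht ψ)).trace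

include ht in
/-- the dimension formula -/
theorem finrank_eq_sum :
    finrank ℂ V = ∑ ψ : AddChar S ℂ, finrank ℂ (LinearMap.range (proj ρ t ψ)) := by
  have h := congrArg (LinearMap.trace ℂ V) (sum_proj ρ t ht)
  rw [map_sum, LinearMap.trace_one, Finset.sum_congr rfl
    (fun ψ _ => trace_proj_eq_finrank ρ t ht ψ)] at h
  have h' : ((∑ ψ : AddChar S ℂ, finrank ℂ (LinearMap.range (proj ρ t ψ)) : ℕ) : ℂ) =
      (finrank ℂ V : ℂ) := by
    rw [Nat.cast_sum]
    exact h
  exact (Nat.cast_injective h').symm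

theorem finrank_range_ne_zero {ψ : AddChar S ℂ} (h : proj ρ t ψ ≠ 0) :
    finrank ℂ (LinearMap.range (proj ρ t ψ)) ≠ 0 := by
  intro h0
  apply h
  have hbot : LinearMap.range (proj ρ t ψ) = ⊥ := Submodule.finrank_eq_zero.1 h0
  exact LinearMap.range_eq_bot.1 hbot

include ht in
theorem card_mul_le_finrank (O : Finset (AddChar S ℂ)) (d : ℕ)
    (hO : ∀ ψ ∈ O, d ≤ finrank ℂ (LinearMap.range (proj ρ t ψ))) :
    O.card * d ≤ finrank ℂ V := by
  rw [finrank_eq_sum ρ t ht]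
  calc O.card * d = ∑ _ψ ∈ O, d := by rw [Finset.sum_const, smul_eq_mul]
    _ ≤ ∑ ψ ∈ O, finrank ℂ (LinearMap.range (proj ρ t ψ)) := Finset.sum_le_sum hO
    _ ≤ ∑ ψ : AddChar S ℂ, finrank ℂ (LinearMap.range (proj ρ t ψ)) :=
        Finset.sum_le_sum_of_subset (Finset.subset_univ O)

include ht in
theorem card_le_finrank (O : Finset (AddChar S ℂ)) (hO : ∀ ψ ∈ O, proj ρ t ψ ≠ 0) :
    O.card ≤ finrank ℂ V := by
  have h := card_mul_le_finrank ρ t ht O 1
    (fun ψ hψ => Nat.one_le_iff_ne_zero.2 (finrank_range_ne_zero ρ t (hO ψ hψ)))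
  rwa [mul_one] at h

include ht in
/-- a representation that is non-trivial on `t S` contains a non-trivial character of `S` -/
theorem exists_ne_one (h : ∃ X₀ : S, ρ (t X₀) ≠ 1) :
    ∃ ψ : AddChar S ℂ, ψ ≠ 1 ∧ proj ρ t ψ ≠ 0 := by
  classical
  by_contra hcon0
  have hcon : ∀ ψ : AddChar S ℂ, ψ ≠ 1 → proj ρ t ψ = 0 := fun ψ hψ =>
    by_contra fun h' => hcon0 ⟨ψ, hψ, h'⟩
  obtain ⟨X₀, hX₀⟩ := h
  have h1 : proj ρ t (1 : AddChar S ℂ) = 1 := by
    have hs := sum_proj ρ t ht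
    rw [← Finset.sum_erase_add _ _ (Finset.mem_univ (1 : AddChar S ℂ))] at hs
    rw [Finset.sum_eq_zero, zero_add] at hs
    · exact hs
    · intro ψ hψ
      exact hcon ψ (Finset.ne_of_mem_erase hψ)
  apply hX₀
  have h2 := map_mul_proj ρ t ht (1 : AddChar S ℂ) X₀
  rw [h1, mul_one, AddChar.one_apply, one_smul] at h2
  exact h2

/-- conjugating the projection by an element normalising `t S` -/
theorem conj_proj (ψ : AddChar S ℂ) (g : G) (a : S ≃+ S)
    (hg : ∀ X, g * t X * g⁻¹ = t (a X)) :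
    ρ g * proj ρ t ψ * ρ g⁻¹ = proj ρ t (ψ.compAddMonoidHom (a.symm : S →+ S)) := by
  unfold proj
  rw [mul_smul_comm, smul_mul_assoc, Finset.mul_sum, Finset.sum_mul]
  congr 1
  rw [← Equiv.sum_comp a.toEquiv
    (fun Y => (ψ.compAddMonoidHom (a.symm : S →+ S)) (-Y) • ρ (t Y))]
  refine Finset.sum_congr rfl fun X _ => ?_
  rw [mul_smul_comm, smul_mul_assoc, ← map_mul, ← map_mul, hg]
  congr 1
  simp [AddChar.compAddMonoidHom_apply]

include ht in
theorem finrank_range_conj (ψ : AddChar S ℂ) (g : G) (a : S ≃+ S)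
    (hg : ∀ X, g * t X * g⁻¹ = t (a X)) :
    finrank ℂ (LinearMap.range (proj ρ t (ψ.compAddMonoidHom (a.symm : S →+ S)))) =
      finrank ℂ (LinearMap.range (proj ρ t ψ)) := by
  have h1 := trace_proj_eq_finrank ρ t ht (ψ.compAddMonoidHom (a.symm : S →+ S))
  have h2 := trace_proj_eq_finrank ρ t ht ψ
  have h3 : LinearMap.trace ℂ V (proj ρ t (ψ.compAddMonoidHom (a.symm : S →+ S))) =
      LinearMap.trace ℂ V (proj ρ t ψ) := by
    rw [← conj_proj ρ t ψ g a hg, LinearMap.trace_mul_comm, ← mul_assoc, ← map_mul,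
      inv_mul_cancel, map_one, one_mul]
  rw [h1, h2] at h3
  exact Nat.cast_injective h3

include ht in
theorem proj_conj_ne_zero {ψ : AddChar S ℂ} (g : G) (a : S ≃+ S)
    (hg : ∀ X, g * t X * g⁻¹ = t (a X)) (h : proj ρ t ψ ≠ 0) :
    proj ρ t (ψ.compAddMonoidHom (a.symm : S →+ S)) ≠ 0 := by
  intro h0
  have h1 := finrank_range_conj ρ t ht ψ g a hg
  rw [h0] at h1
  apply finrank_range_ne_zero ρ t h
  rw [← h1, LinearMap.range_zero]
  exact finrank_bot ℂ V

include ht in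
/-- all characters in the orbit of `ψ₀` under elements normalising `t S` occur with the same
multiplicity as `ψ₀` -/
theorem orbit_card_mul_le_finrank (ψ₀ : AddChar S ℂ) (O : Finset (AddChar S ℂ))
    (hO : ∀ ψ ∈ O, ∃ (g : G) (a : S ≃+ S), (∀ X, g * t X * g⁻¹ = t (a X)) ∧
      ψ = ψ₀.compAddMonoidHom (a.symm : S →+ S)) :
    O.card * finrank ℂ (LinearMap.range (proj ρ t ψ₀)) ≤ finrank ℂ V := by
  refine card_mul_le_finrank ρ t ht O _ fun ψ hψ => ?_
  obtain ⟨g, a, hg, rfl⟩ := hO ψ hψ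
  exact (finrank_range_conj ρ t ht ψ₀ g a hg).ge

theorem commute_proj (ψ : AddChar S ℂ) {g : G} (hg : ∀ X, g * t X = t X * g) :
    ρ g * proj ρ t ψ = proj ρ t ψ * ρ g := by
  unfold proj
  rw [mul_smul_comm, smul_mul_assoc, Finset.mul_sum, Finset.sum_mul]
  congr 1
  refine Finset.sum_congr rfl fun b _ => ?_
  rw [mul_smul_comm, smul_mul_assoc, ← map_mul, ← map_mul, hg]

include ht in
/-- the trace of `ρ u * proj` vanishes when `u` is conjugate to `u * t s` with `ψ s ≠ 1` -/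
theorem trace_mul_proj_eq_zero (ψ : AddChar S ℂ) {u v : G} {s : S}
    (hv : ∀ X, v * t X = t X * v) (huv : v * u * v⁻¹ = u * t s) (hs : ψ s ≠ 1) :
    LinearMap.trace ℂ V (ρ u * proj ρ t ψ) = 0 := by
  have hv' : ∀ X, v⁻¹ * t X = t X * v⁻¹ := by
    intro X
    have := hv X
    calc v⁻¹ * t X = v⁻¹ * (t X * v) * v⁻¹ := by group
      _ = v⁻¹ * (v * t X) * v⁻¹ := by rw [this]
      _ = t X * v⁻¹ := by group
  have e1 : ρ v * (ρ u * proj ρ t ψ) * ρ v⁻¹ = ψ s • (ρ u * proj ρ t ψ) := by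
    rw [mul_assoc, mul_assoc, ← commute_proj ρ t ψ hv', ← mul_assoc, ← mul_assoc, ← map_mul,
      ← map_mul, huv, map_mul, mul_assoc, map_mul_proj ρ t ht, mul_smul_comm]
  have e2 : LinearMap.trace ℂ V (ρ v * (ρ u * proj ρ t ψ) * ρ v⁻¹) =
      LinearMap.trace ℂ V (ρ u * proj ρ t ψ) := by
    rw [LinearMap.trace_mul_comm, ← mul_assoc, ← map_mul, inv_mul_cancel, map_one, one_mul]
  rw [e1, map_smul, smul_eq_mul] at e2
  have e3 : (ψ s - 1) * LinearMap.trace ℂ V (ρ u * proj ρ t ψ) = 0 := by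
    rw [sub_mul, one_mul, e2, sub_self]
  rcases mul_eq_zero.1 e3 with h | h
  · exact absurd (sub_eq_zero.1 h) hs
  · exact h

include ht in
/-- a family of elements centralising `t S`, pairwise "non-central modulo the kernel of `ψ`", has
at most `d²` members, where `d` is the rank of the `ψ`-projection -/
theorem card_le_sq (ψ : AddChar S ℂ) {ι : Type*} [Fintype ι] (u : ι → G)
    (hu : ∀ i X, u i * t X = t X * u i)
    (huv : ∀ i j, i ≠ j → ∃ (v : G) (s : S), (∀ X, v * t X = t X * v) ∧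
      v * ((u j)⁻¹ * u i) * v⁻¹ = (u j)⁻¹ * u i * t s ∧ ψ s ≠ 1)
    (hd : proj ρ t ψ ≠ 0) :
    Fintype.card ι ≤ finrank ℂ (LinearMap.range (proj ρ t ψ)) ^ 2 := by
  classical
  have hd' := finrank_range_ne_zero ρ t hd
  set e := proj ρ t ψ with he
  set U := LinearMap.range e with hU
  have hli : LinearIndependent ℂ (fun i => ρ (u i) * e) := by
    rw [Fintype.linearIndependent_iff]
    intro g hg j
    have h1 : ρ (u j)⁻¹ * ∑ i, g i • (ρ (u i) * e) = 0 := by rw [hg, mul_zero]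
    rw [Finset.mul_sum] at h1
    have h2 := congrArg (LinearMap.trace ℂ V) h1
    rw [map_sum, map_zero] at h2
    have h3 : ∀ i, LinearMap.trace ℂ V (ρ (u j)⁻¹ * g i • (ρ (u i) * e)) =
        if i = j then g j * (finrank ℂ U : ℂ) else 0 := by
      intro i
      rw [mul_smul_comm, ← mul_assoc, ← map_mul, map_smul, smul_eq_mul]
      split_ifs with hij
      · subst hij
        rw [inv_mul_cancel, map_one, one_mul, trace_proj_eq_finrank ρ t ht]
      · obtain ⟨v, s, hv, hvu, hs⟩ := huv i j hij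
        rw [trace_mul_proj_eq_zero ρ t ht ψ hv hvu hs, mul_zero]
    rw [Finset.sum_congr rfl (fun i _ => h3 i), Finset.sum_ite_eq' Finset.univ j] at h2
    simp only [Finset.mem_univ, if_true] at h2
    rcases mul_eq_zero.1 h2 with h4 | h4
    · exact h4
    · exact absurd (Nat.cast_eq_zero.1 h4) hd'
  have hUmem : ∀ i, ∀ x ∈ U, ρ (u i) x ∈ U := by
    intro i x hx
    obtain ⟨y, rfl⟩ := hx
    refine ⟨ρ (u i) y, ?_⟩
    have := commute_proj ρ t ψ (hu i)
    exact (LinearMap.congr_fun this y).symm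
  let B : ι → (U →ₗ[ℂ] U) := fun i => (ρ (u i)).restrict (hUmem i)
  let Ψ : (U →ₗ[ℂ] U) →ₗ[ℂ] Module.End ℂ V :=
    { toFun := fun X => U.subtype ∘ₗ X ∘ₗ e.rangeRestrict
      map_add' := fun X Y => by
        ext x
        simp
      map_smul' := fun c X => by
        ext x
        simp }
  have hΨ : (fun i => ρ (u i) * e) = Ψ ∘ B := by
    funext i
    apply LinearMap.ext
    intro x
    rfl
  rw [hΨ] at hli
  have hB : LinearIndependent ℂ B := LinearIndependent.of_comp Ψ hli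
  have := hB.fintype_card_le_finrank
  rwa [Module.finrank_linearMap, ← sq] at this

end Cfsg.Agent.Lib.H4.RepChar
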