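import Cfsg.Agent.Lib.H15.LSDefs
import Cfsg.Agent.Lib.H4.RepChar

set_option autoImplicit false
set_option linter.unusedSectionVars false

/-!
# LS-R (S2335 / S2334 / S2333): some non-trivial character of `S` occurs, with its whole orbit
-/

namespace Cfsg.Agent.Lib.H4.LS

open Matrix Cfsg.Agent.Lib.H15.LS Cfsg.Agent.Lib.H4

variable {G : Type*} [Group G] {S : Type*} [AddCommGroup S] [Fintype S]
  {V : Type*} [AddCommGroup V] [Module ℂ V] [FiniteDimensional ℂ V]

theorem projC_eq_proj (ρ : G →* Module.End ℂ V) (t : S → G) (ψ : AddChar S ℂ) :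
    projC ρ t ψ = RepChar.proj ρ t ψ := rfl

/-- the additive automorphism of `S` given by an element of the acting group -/
def actEquiv {L : Type*} [Group L] (act : L → S → S)
    (hact1 : ∀ X, act 1 X = X) (hactmul : ∀ g h X, act (g * h) X = act g (act h X))
    (hactadd : ∀ g X X', act g (X + X') = act g X + act g X') (g : L) : S ≃+ S where
  toFun := act g
  invFun := act g⁻¹
  left_inv := fun X => by rw [← hactmul, inv_mul_cancel, hact1]
  right_inv := fun X => by rw [← hactmul, mul_inv_cancel, hact1]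
  map_add' := hactadd g

theorem exists_char_orbit_le {L : Type*} [Group L]
    (ρ : G →* Module.End ℂ V) (t : S → G) (ht : ∀ X X', t (X + X') = t X * t X')
    (l : L →* G) (act : L → S → S)
    (hact1 : ∀ X, act 1 X = X) (hactmul : ∀ g h X, act (g * h) X = act g (act h X))
    (hactadd : ∀ g X X', act g (X + X') = act g X + act g X')
    (hconj : ∀ g X, l g * t X * (l g)⁻¹ = t (act g X))
    (X0 : S) (hX0 : ρ (t X0) ≠ 1) :
    ∃ ψ : AddChar S ℂ, ψ ≠ 1 ∧ Module.finrank ℂ (LinearMap.range (projC ρ t ψ)) ≠ 0 ∧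
      Nat.card {ψ' : AddChar S ℂ // ∃ g : L, ∀ X, ψ' X = ψ (act g X)} *
        Module.finrank ℂ (LinearMap.range (projC ρ t ψ)) ≤ Module.finrank ℂ V := by
  classical
  obtain ⟨ψ, hψ1, hψ0⟩ := RepChar.exists_ne_one ρ t ht ⟨X0, hX0⟩
  refine ⟨ψ, hψ1, RepChar.finrank_range_ne_zero ρ t hψ0, ?_⟩
  rw [Nat.card_eq_fintype_card, Fintype.card_subtype]
  refine RepChar.orbit_card_mul_le_finrank ρ t ht ψ _ fun ψ' hψ' => ?_
  obtain ⟨g, hg⟩ := (Finset.mem_filter.1 hψ').2
  refine ⟨l g⁻¹, actEquiv act hact1 hactmul hactadd g⁻¹, ?_, ?_⟩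
  · intro X
    exact hconj g⁻¹ X
  · apply DFunLike.ext
    intro X
    rw [hg X]
    show ψ (act g X) = ψ (act g⁻¹⁻¹ X)
    rw [inv_inv]

end Cfsg.Agent.Lib.H4.LS
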