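import Mathlib
import Cfsg.Agent.Lib.H12.OPMinDefs

/-!
helper4: S2345 piece DUAL.  The pairing of `Alt n F` is adjoint for congruences, and the characters of `Alt n F`
are exactly the `lamA χ₀ T` (`χ₀ ≠ 1`).
-/

set_option autoImplicit false

namespace Cfsg.Agent.Lib.H4.OPMin

open Matrix Cfsg.Agent.Lib.H12.OPMin

variable {F : Type*} [Field F]

/-- for alternating `S`: `pair (M - Mᵀ) S = ∑ i j, M i j * S i j` -/
theorem pair_sub_transpose {n : ℕ} (M S : Matrix (Fin n) (Fin n) F) (hS : S ∈ Alt n F) :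
    pair (M - Mᵀ) S = ∑ i, ∑ j, M i j * S i j := by
  have h1 : ∀ i j : Fin n, M i j * S i j =
      (if i < j then M i j * S i j else 0) + (if j < i then M i j * S i j else 0) := by
    intro i j
    rcases lt_trichotomy i j with h | h | h
    · rw [if_pos h, if_neg (not_lt_of_gt h), add_zero]
    · subst h
      rw [if_neg (lt_irrefl _), diag_of_mem hS, mul_zero, add_zero]
    · rw [if_neg (not_lt_of_gt h), if_pos h, zero_add]
  have h2 : ∑ i, ∑ j, M i j * S i j =
      ∑ i, ∑ j, (if i < j then M i j * S i j else 0) +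
        ∑ i, ∑ j, (if i < j then M j i * S j i else 0) := by
    rw [Finset.sum_congr rfl (fun i _ => Finset.sum_congr rfl (fun j _ => h1 i j))]
    simp only [Finset.sum_add_distrib]
    congr 1
    rw [Finset.sum_comm]
  rw [h2]
  unfold pair
  rw [← Finset.sum_add_distrib]
  refine Finset.sum_congr rfl fun i _ => ?_
  rw [← Finset.sum_add_distrib]
  refine Finset.sum_congr rfl fun j _ => ?_
  split_ifs with h
  · rw [Matrix.sub_apply, Matrix.transpose_apply, apply_swap_of_mem hS i j]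
    ring
  · rw [add_zero]

/-- for alternating `S`: `pair (M - Mᵀ) S = trace (Mᵀ * S)` -/
theorem pair_eq_trace {n : ℕ} (M S : Matrix (Fin n) (Fin n) F) (hS : S ∈ Alt n F) :
    pair (M - Mᵀ) S = Matrix.trace (Mᵀ * S) := by
  rw [pair_sub_transpose M S hS, Matrix.trace, Finset.sum_comm]
  refine Finset.sum_congr rfl fun j _ => ?_
  rw [Matrix.diag_apply, Matrix.mul_apply]
  refine Finset.sum_congr rfl fun i _ => ?_
  rw [Matrix.transpose_apply]

theorem pair_cong {n : ℕ} (B T S : Matrix (Fin n) (Fin n) F) (hT : T ∈ Alt n F) (hS : S ∈ Alt n F) :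
    pair T (B * S * Bᵀ) = pair (Bᵀ * T * B) S := by
  obtain ⟨M, rfl⟩ := mem_Alt.1 hT
  have h1 : Bᵀ * (M - Mᵀ) * B = Bᵀ * M * B - (Bᵀ * M * B)ᵀ := by
    rw [transpose_mul, transpose_mul, transpose_transpose, Matrix.mul_sub, Matrix.sub_mul,
      Matrix.mul_assoc Bᵀ Mᵀ B]
  rw [h1, pair_eq_trace _ _ hS, pair_eq_trace _ _ (cong_mem B hS)]
  rw [transpose_mul, transpose_mul, transpose_transpose]
  rw [← Matrix.mul_assoc, ← Matrix.mul_assoc, Matrix.trace_mul_comm]
  simp only [Matrix.mul_assoc]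

theorem pair_comm {n : ℕ} (T S : Matrix (Fin n) (Fin n) F) : pair T S = pair S T := by
  unfold pair
  refine Finset.sum_congr rfl fun i _ => Finset.sum_congr rfl fun j _ => ?_
  split_ifs
  · rw [mul_comm]
  · rfl

theorem pair_sub_left {n : ℕ} (T T' S : Matrix (Fin n) (Fin n) F) :
    pair (T - T') S = pair T S - pair T' S := by
  unfold pair
  rw [← Finset.sum_sub_distrib]
  refine Finset.sum_congr rfl fun i _ => ?_
  rw [← Finset.sum_sub_distrib]
  refine Finset.sum_congr rfl fun j _ => ?_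
  split_ifs
  · rw [Matrix.sub_apply, sub_mul]
  · rw [sub_zero]

theorem sum_single_mul {n : ℕ} (i j : Fin n) (c : F) (D : Matrix (Fin n) (Fin n) F) :
    ∑ i', ∑ j', (Matrix.single i j c) i' j' * D i' j' = c * D i j := by
  rw [Finset.sum_eq_single i, Finset.sum_eq_single j]
  · rw [Matrix.single_apply_same]
  · intro b _ hb
    rw [Matrix.single_apply_of_col_ne _ _ (Ne.symm hb), zero_mul]
  · intro h
    exact absurd (Finset.mem_univ _) h
  · intro b _ hb
    refine Finset.sum_eq_zero fun j' _ => ?_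
    rw [Matrix.single_apply_of_row_ne (Ne.symm hb), zero_mul]
  · intro h
    exact absurd (Finset.mem_univ _) h

/-- `pair D (c (E_ij - E_ji)) = c * D i j` for alternating `D` -/
theorem pair_single {n : ℕ} (i j : Fin n) (c : F) (D : Matrix (Fin n) (Fin n) F) (hD : D ∈ Alt n F) :
    pair D (Matrix.single i j c - (Matrix.single i j c)ᵀ) = c * D i j := by
  rw [pair_comm, pair_sub_transpose _ _ hD, sum_single_mul]

theorem lamA_injective [Fintype F] {n : ℕ} {χ₀ : AddChar F ℂ} (hχ₀ : χ₀ ≠ 1) (T T' : Alt n F)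
    (h : lamA χ₀ T.1 = lamA χ₀ T'.1) : T = T' := by
  have hD : T.1 - T'.1 ∈ Alt n F := (Alt n F).sub_mem T.2 T'.2
  have key : ∀ S : Alt n F, χ₀ (pair (T.1 - T'.1) S.1) = 1 := by
    intro S
    have h1 : lamA χ₀ T.1 S = lamA χ₀ T'.1 S := by rw [h]
    rw [lamA_apply, lamA_apply] at h1
    rw [pair_sub_left, AddChar.map_sub_eq_div, h1]
    exact div_self ((χ₀.val_isUnit _).ne_zero)
  apply Subtype.ext
  rw [← sub_eq_zero]
  ext i j
  rw [Matrix.zero_apply]
  by_contra hij
  apply hχ₀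
  ext c
  have h2 := key ⟨Matrix.single i j (c / (T.1 - T'.1) i j) -
    (Matrix.single i j (c / (T.1 - T'.1) i j))ᵀ, sub_transpose_mem _⟩
  rw [pair_single _ _ _ _ hD, div_mul_cancel₀ _ hij] at h2
  rw [h2]
  rfl

theorem exists_lamA [Fintype F] {n : ℕ} {χ₀ : AddChar F ℂ} (hχ₀ : χ₀ ≠ 1) (ψ : AddChar (Alt n F) ℂ) :
    ∃ T : Alt n F, ψ = lamA χ₀ T.1 := by
  classical
  have hinj : Function.Injective (fun T : Alt n F => lamA χ₀ T.1) :=
    fun T T' h => lamA_injective hχ₀ T T' h
  have hcard : Fintype.card (Alt n F) = Fintype.card (AddChar (Alt n F) ℂ) :=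
    (AddChar.card_eq (α := Alt n F)).symm
  have hbij : Function.Bijective (fun T : Alt n F => lamA χ₀ T.1) :=
    (Fintype.bijective_iff_injective_and_card _).mpr ⟨hinj, hcard⟩
  obtain ⟨T, hT⟩ := hbij.2 ψ
  exact ⟨T, hT.symm⟩

end Cfsg.Agent.Lib.H4.OPMin
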