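import Mathlib
import Cfsg.Agent.Lib.H12.SLMinDefs

/-!
helper4: S2332 piece DUAL.  The characters of `Fin m → F` are exactly the `lam χ₀ v` (`χ₀ ≠ 1`).
-/

set_option autoImplicit false

namespace Cfsg.Agent.Lib.H4.SLMin

open Matrix Cfsg.Agent.Lib.H12.SLMin

theorem exists_addChar_ne_one {F : Type*} [Field F] [Fintype F] : ∃ χ₀ : AddChar F ℂ, χ₀ ≠ 1 := by
  have h : (1 : F) ≠ 0 := one_ne_zero
  obtain ⟨ψ, hψ⟩ := (AddChar.exists_apply_ne_zero (α := F) (a := (1 : F))).mpr h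
  refine ⟨ψ, ?_⟩
  intro h1
  apply hψ
  rw [h1]
  rfl

theorem lam_zero {F : Type*} [Field F] {m : ℕ} (χ₀ : AddChar F ℂ) :
    lam χ₀ (0 : Fin m → F) = 1 := by
  ext a
  rw [lam_apply, dotProduct_zero, AddChar.map_zero_eq_one]
  rfl

theorem lam_injective {F : Type*} [Field F] [Fintype F] {m : ℕ} {χ₀ : AddChar F ℂ} (hχ₀ : χ₀ ≠ 1) :
    Function.Injective (lam (m := m) χ₀) := by
  intro v v' hvv
  by_contra hne
  have hw : v - v' ≠ 0 := sub_ne_zero.mpr hne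
  obtain ⟨i, hi⟩ : ∃ i, (v - v') i ≠ 0 := by
    by_contra h
    push_neg at h
    exact hw (funext h)
  apply hχ₀
  have key : ∀ a : Fin m → F, χ₀ (a ⬝ᵥ (v - v')) = 1 := by
    intro a
    have h1 : lam χ₀ v a = lam χ₀ v' a := by rw [hvv]
    rw [lam_apply, lam_apply] at h1
    rw [dotProduct_sub, AddChar.map_sub_eq_div, h1]
    exact div_self ((χ₀.val_isUnit _).ne_zero)
  ext c
  have h2 := key (Pi.single i (c / (v - v') i))
  rw [single_dotProduct, div_mul_cancel₀ _ hi] at h2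
  rw [h2]
  rfl

theorem exists_lam {F : Type*} [Field F] [Fintype F] {m : ℕ} {χ₀ : AddChar F ℂ} (hχ₀ : χ₀ ≠ 1)
    (ψ : AddChar (Fin m → F) ℂ) : ∃ v : Fin m → F, ψ = lam χ₀ v := by
  classical
  have hinj := lam_injective (m := m) hχ₀
  have hcard : Fintype.card (Fin m → F) = Fintype.card (AddChar (Fin m → F) ℂ) :=
    (AddChar.card_eq (α := Fin m → F)).symm
  have hbij : Function.Bijective (lam (m := m) χ₀) :=
    (Fintype.bijective_iff_injective_and_card _).mpr ⟨hinj, hcard⟩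
  obtain ⟨v, hv⟩ := hbij.2 ψ
  exact ⟨v, hv.symm⟩

end Cfsg.Agent.Lib.H4.SLMin
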