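import Mathlib

/-!
Arithmetic core for order bounds of groups of Lie type (helper4): if `d * X = q ^ N * M` with `q = p ^ f`, `d` and `M`
prime to `p` and `M < q ^ a`, then the `p`-part of `X` is `q ^ N` and `X < p ^ (3 k)`, `X ^ 3 < p ^ (8 k)` for
`k = f * N` as soon as `a ≤ 2 N`, resp. `3 a ≤ 5 N`. Also the product identities and bounds for the classical
families.
-/

set_option autoImplicit false

namespace Cfsg.Agent.Lib.H4.LieOrd

open Finset

theorem cop_sub_one {p q : ℕ} (hpq : p ∣ q) (hq : 1 ≤ q) (k : ℕ) (hk : 1 ≤ k) :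
    Nat.Coprime p (q ^ k - 1) := by
  have h1 : p ∣ q ^ k := dvd_trans hpq (dvd_pow_self q (by omega))
  have h2 : 1 ≤ q ^ k := Nat.one_le_pow _ _ hq
  have h3 : Nat.gcd p (q ^ k - 1) ∣ 1 := by
    have ha : Nat.gcd p (q ^ k - 1) ∣ q ^ k := dvd_trans (Nat.gcd_dvd_left _ _) h1
    have hb : Nat.gcd p (q ^ k - 1) ∣ q ^ k - 1 := Nat.gcd_dvd_right _ _
    have := Nat.dvd_sub ha hb
    rwa [show q ^ k - (q ^ k - 1) = 1 by omega] at this
  exact Nat.eq_one_of_dvd_one h3

theorem cop_add_one {p a : ℕ} (hpa : p ∣ a) : Nat.Coprime p (a + 1) := by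
  have h3 : Nat.gcd p (a + 1) ∣ 1 := by
    have ha : Nat.gcd p (a + 1) ∣ a := dvd_trans (Nat.gcd_dvd_left _ _) hpa
    have hb : Nat.gcd p (a + 1) ∣ a + 1 := Nat.gcd_dvd_right _ _
    have := Nat.dvd_sub hb ha
    rwa [show a + 1 - a = 1 by omega] at this
  exact Nat.eq_one_of_dvd_one h3

theorem cop_pow_add_one {p q : ℕ} (hpq : p ∣ q) (k : ℕ) (hk : 1 ≤ k) :
    Nat.Coprime p (q ^ k + 1) :=
  cop_add_one (dvd_trans hpq (dvd_pow_self q (by omega)))

theorem sub_one_lt_pow {q : ℕ} (hq : 1 ≤ q) (k : ℕ) : q ^ k - 1 < q ^ k := by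
  have h2 : 1 ≤ q ^ k := Nat.one_le_pow _ _ hq
  omega

theorem sub_one_pos {q : ℕ} (hq : 2 ≤ q) (k : ℕ) (hk : 1 ≤ k) : 0 < q ^ k - 1 := by
  have h2 : 2 ^ 1 ≤ q ^ k :=
    le_trans (Nat.pow_le_pow_left hq 1) (Nat.pow_le_pow_right (by omega) hk)
  omega

theorem add_one_lt_pow {q : ℕ} (hq : 2 ≤ q) (k : ℕ) (hk : 1 ≤ k) : q ^ k + 1 < q ^ (k + 1) := by
  have h2 : 2 ^ 1 ≤ q ^ k :=
    le_trans (Nat.pow_le_pow_left hq 1) (Nat.pow_le_pow_right (by omega) hk)
  have h3 : 2 * q ^ k ≤ q ^ (k + 1) := by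
    rw [pow_succ, mul_comm]
    exact Nat.mul_le_mul_left _ hq
  omega

theorem lt_mul_pow {q a b x y : ℕ} (hx : x < q ^ a) (hy : y < q ^ b) : x * y < q ^ (a + b) := by
  rw [pow_add]
  exact Nat.mul_lt_mul'' hx hy

theorem cop_sub_one' {p q : ℕ} (hpq : p ∣ q) (hq : 1 ≤ q) : Nat.Coprime p (q - 1) := by
  simpa using cop_sub_one hpq hq 1 le_rfl

theorem sub_one_lt_pow' {q : ℕ} (hq : 1 ≤ q) : q - 1 < q ^ 1 := by
  rw [pow_one]
  omega

/-- the core estimate -/
theorem main_bound {p : ℕ} (hp : p.Prime) {q f N a d X M : ℕ} (hq : q = p ^ f)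
    (hX : d * X = q ^ N * M) (hd : Nat.Coprime p d) (hM : Nat.Coprime p M)
    (hMlt : M < q ^ a) (ha1 : a ≤ 2 * N) :
    X.factorization p = f * N ∧ X < p ^ (3 * (f * N)) ∧
      (3 * a ≤ 5 * N → X ^ 3 < p ^ (8 * (f * N))) := by
  have hp1 : p ≠ 1 := hp.ne_one
  have hd0 : d ≠ 0 := by
    rintro rfl
    exact hp1 (by simpa using hd)
  have hM0 : M ≠ 0 := by
    rintro rfl
    exact hp1 (by simpa using hM)
  have hq0 : q ≠ 0 := by
    rw [hq]
    exact pow_ne_zero _ hp.ne_zero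
  have hX0 : X ≠ 0 := by
    rintro rfl
    rw [mul_zero] at hX
    exact (Nat.mul_ne_zero (pow_ne_zero _ hq0) hM0) hX.symm
  have hfac : X.factorization p = f * N := by
    have h1 : (d * X).factorization p = (q ^ N * M).factorization p := by rw [hX]
    rw [Nat.factorization_mul hd0 hX0, Nat.factorization_mul (pow_ne_zero _ hq0) hM0] at h1
    simp only [Finsupp.add_apply] at h1
    rw [Nat.factorization_eq_zero_of_not_dvd ((Nat.Prime.coprime_iff_not_dvd hp).1 hd),
      Nat.factorization_eq_zero_of_not_dvd ((Nat.Prime.coprime_iff_not_dvd hp).1 hM), hq, ← pow_mul,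
      Nat.Prime.factorization_pow hp] at h1
    simpa using h1
  have hqpow : ∀ e, q ^ e = p ^ (f * e) := fun e => by rw [hq, pow_mul]
  have hXle : X ≤ q ^ N * M := by
    rw [← hX]
    exact Nat.le_mul_of_pos_left _ (Nat.pos_of_ne_zero hd0)
  have hlt : q ^ N * M < q ^ N * q ^ a :=
    Nat.mul_lt_mul_of_pos_left hMlt (Nat.pos_of_ne_zero (pow_ne_zero _ hq0))
  refine ⟨hfac, ?_, ?_⟩
  · calc X ≤ q ^ N * M := hXle
      _ < q ^ N * q ^ a := hlt
      _ = q ^ (N + a) := (pow_add _ _ _).symm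
      _ ≤ q ^ (3 * N) := Nat.pow_le_pow_right (Nat.pos_of_ne_zero hq0) (by omega)
      _ = p ^ (3 * (f * N)) := by rw [hqpow]; ring_nf
  · intro ha2
    calc X ^ 3 ≤ (q ^ N * M) ^ 3 := Nat.pow_le_pow_left hXle 3
      _ < (q ^ N * q ^ a) ^ 3 := Nat.pow_lt_pow_left hlt (by norm_num)
      _ = q ^ (3 * N + 3 * a) := by ring
      _ ≤ q ^ (8 * N) := Nat.pow_le_pow_right (Nat.pos_of_ne_zero hq0) (by omega)
      _ = p ^ (8 * (f * N)) := by rw [hqpow]; ring_nf

/-- the two bounds in final shape, for families where both hold unconditionally -/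
theorem final_of {p : ℕ} (hp : p.Prime) {q f N a d X M : ℕ} (hq : q = p ^ f)
    (hX : d * X = q ^ N * M) (hd : Nat.Coprime p d) (hM : Nat.Coprime p M)
    (hMlt : M < q ^ a) (ha1 : a ≤ 2 * N) (ha2 : 3 * a ≤ 5 * N) :
    X < p ^ (3 * X.factorization p) ∧ X ^ 3 < p ^ (8 * X.factorization p) := by
  obtain ⟨h1, h2, h3⟩ := main_bound hp hq hX hd hM hMlt ha1
  rw [h1]
  exact ⟨h2, h3 ha2⟩

/-- strict bound of a nonempty product by a power of `q` -/
theorem prod_lt_pow_sum (q : ℕ) (e x : ℕ → ℕ) (hx : ∀ i, 0 < x i) (hxe : ∀ i, x i < q ^ e i)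
    (k : ℕ) : ∏ i ∈ range (k + 1), x i < q ^ (∑ i ∈ range (k + 1), e i) := by
  rw [← Finset.prod_pow_eq_pow_sum]
  exact Finset.prod_lt_prod_of_nonempty (fun i _ => hx i) (fun i _ => hxe i) ⟨0, by simp⟩

theorem prod_psl (q n : ℕ) :
    ∏ i : Fin n, (q ^ n - q ^ (i : ℕ)) =
      q ^ (∑ i ∈ range n, i) * ∏ i ∈ range n, (q ^ (i + 1) - 1) := by
  rw [Fin.prod_univ_eq_prod_range (fun i => q ^ n - q ^ i) n]
  have h1 : ∀ i ∈ range n, q ^ n - q ^ i = q ^ i * (q ^ (n - i) - 1) := by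
    intro i hi
    rw [Finset.mem_range] at hi
    rw [Nat.mul_sub, mul_one, ← pow_add, Nat.add_sub_cancel' hi.le]
  rw [Finset.prod_congr rfl h1, Finset.prod_mul_distrib, Finset.prod_pow_eq_pow_sum]
  congr 1
  rw [← Finset.prod_range_reflect]
  apply Finset.prod_congr rfl
  intro i hi
  rw [Finset.mem_range] at hi
  congr 2
  omega

theorem two_mul_sum_add_two (k : ℕ) : 2 * ∑ i ∈ range (k + 1), (i + 2) = (k + 1) * (k + 4) := by
  induction k with
  | zero => simp
  | succ k ih =>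
    rw [Finset.sum_range_succ, mul_add, ih]
    ring

theorem two_mul_sum_id (n : ℕ) : 2 * ∑ i ∈ range (n + 1), i = (n + 1) * n := by
  induction n with
  | zero => simp
  | succ n ih =>
    rw [Finset.sum_range_succ, mul_add, ih]
    ring

theorem sum_two_mul_succ (m : ℕ) : ∑ i ∈ range m, 2 * (i + 1) = m * (m + 1) := by
  induction m with
  | zero => simp
  | succ m ih =>
    rw [Finset.sum_range_succ, ih]
    ring

/-- the `i`-th factor (from the second one on) in the order formula of the unitary groups -/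
def gU (q i : ℕ) : ℕ := if Even (i + 1) then q ^ (i + 1 + 1) + 1 else q ^ (i + 1 + 1) - 1

theorem gU_pos {q : ℕ} (hq : 2 ≤ q) (i : ℕ) : 0 < gU q i := by
  unfold gU
  split_ifs
  · omega
  · exact sub_one_pos hq _ (by omega)

theorem cop_gU {p q : ℕ} (hpq : p ∣ q) (hq : 1 ≤ q) (i : ℕ) : Nat.Coprime p (gU q i) := by
  unfold gU
  split_ifs
  · exact cop_pow_add_one hpq _ (by omega)
  · exact cop_sub_one hpq hq _ (by omega)

theorem pair_lt {q A : ℕ} (hq : 1 ≤ q) (hA : 1 ≤ A) : (A - 1) * (q * A + 1) < A * (q * A) := by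
  obtain ⟨B, rfl⟩ : ∃ B, A = B + 1 := ⟨A - 1, by omega⟩
  rw [Nat.add_sub_cancel]
  nlinarith [Nat.zero_le (q * B), Nat.zero_le B]

theorem prodU_lt {q : ℕ} (hq : 2 ≤ q) :
    ∀ k, ∏ i ∈ range (k + 1), gU q i < q ^ (∑ i ∈ range (k + 1), (i + 2)) := by
  have hq1 : 1 ≤ q := by omega
  intro k
  induction k using Nat.twoStepInduction with
  | zero =>
    simp only [zero_add, Finset.prod_range_one, Finset.sum_range_one]
    unfold gU
    rw [if_neg (by decide)]
    exact sub_one_lt_pow hq1 _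
  | one =>
    rw [Finset.prod_range_succ, Finset.sum_range_succ]
    simp only [zero_add, Finset.prod_range_one, Finset.sum_range_one]
    unfold gU
    rw [if_neg (by decide), if_pos (by decide)]
    have h := pair_lt (A := q ^ 2) hq1 (Nat.one_le_pow _ _ hq1)
    calc (q ^ (0 + 1 + 1) - 1) * (q ^ (1 + 1 + 1) + 1) = (q ^ 2 - 1) * (q * q ^ 2 + 1) := by
          rw [show (0 + 1 + 1) = 2 from rfl, show 1 + 1 + 1 = 3 from rfl, show q ^ 3 = q * q ^ 2 by ring]
      _ < q ^ 2 * (q * q ^ 2) := h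
      _ = q ^ (2 + (1 + 2)) := by ring
  | more k ih0 ih1 =>
    rcases Nat.even_or_odd k with hk | hk
    · -- the last factor is a "minus" factor
      rw [Finset.prod_range_succ, Finset.sum_range_succ, pow_add]
      have hlast : gU q (k + 2) < q ^ (k + 2 + 2) := by
        unfold gU
        rw [if_neg (by
          intro h
          rcases hk with ⟨a, ha⟩
          rcases h with ⟨b, hb⟩
          omega)]
        exact sub_one_lt_pow hq1 _
      exact Nat.mul_lt_mul'' ih1 hlast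
    · -- the last two factors are "minus", "plus"
      rw [Finset.prod_range_succ, Finset.sum_range_succ, Finset.prod_range_succ, Finset.sum_range_succ,
        pow_add, pow_add, mul_assoc, mul_assoc]
      have h1 : gU q (k + 1) = q ^ (k + 3) - 1 := by
        unfold gU
        rw [if_neg (by
          intro h
          rcases hk with ⟨a, ha⟩
          rcases h with ⟨b, hb⟩
          omega)]
      have h2 : gU q (k + 2) = q ^ (k + 4) + 1 := by
        unfold gU
        rw [if_pos (by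
          rcases hk with ⟨a, ha⟩
          exact ⟨a + 2, by omega⟩)]
      have hpair : gU q (k + 1) * gU q (k + 2) < q ^ (k + 1 + 2) * q ^ (k + 2 + 2) := by
        rw [h1, h2]
        have h := pair_lt (A := q ^ (k + 3)) hq1 (Nat.one_le_pow _ _ hq1)
        calc (q ^ (k + 3) - 1) * (q ^ (k + 4) + 1)
            = (q ^ (k + 3) - 1) * (q * q ^ (k + 3) + 1) := by
              rw [show k + 4 = (k + 3) + 1 by omega, pow_succ (n := k + 3), mul_comm q]
          _ < q ^ (k + 3) * (q * q ^ (k + 3)) := h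
          _ = q ^ (k + 1 + 2) * q ^ (k + 2 + 2) := by ring
      exact Nat.mul_lt_mul'' ih0 hpair

end Cfsg.Agent.Lib.H4.LieOrd
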