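import Mathlib
import Cfsg.Agent.Lib.H4.LieOrd1
import Cfsg.Agent.Lib.H2.SpOrder
import Cfsg.Agent.Lib.H13.Sp4Card

/-!
Order bounds for `PSp_{2m}(q)` (helper4): the order formula `gcd(2, q-1) |PSp_{2m}(q)| = q^(m^2) ∏ (q^(2i) - 1)`,
the `p`-part of the order and the bounds `|G| < p^(3k)`, `|G|^3 < p^(8k)` (the latter for `m ≥ 2`).
-/

set_option autoImplicit false

namespace Cfsg.Agent.Lib.H4.LieOrd

open Finset

/-- the order of `PSp_{2m}(q)` -/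
theorem card_psp {F : Type*} [Field F] [Fintype F] {q : ℕ} (hF : Fintype.card F = q) (m : ℕ) (hm : 1 ≤ m) :
    Nat.gcd 2 (q - 1) * Nat.card (Cfsg.PSp m F) =
      q ^ (m ^ 2) * ∏ i ∈ range m, (q ^ (2 * (i + 1)) - 1) := by
  have h1 := Cfsg.Agent.Lib.H13.Sp4Graph.card_SpG (F := F) (m := m) hm
  have h2 := Cfsg.Agent.Lib.H2.Sp.card_Sp (F := F) m
  rw [hF] at h1 h2
  rw [← h1, ← h2]

theorem psp_bounds {F : Type*} [Field F] [Fintype F] {p f : ℕ} (hp : p.Prime)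
    (hF : Fintype.card F = p ^ f) (hf : 1 ≤ f) (m : ℕ) (hm : 1 ≤ m) :
    (Nat.card (Cfsg.PSp m F)).factorization p = f * m ^ 2 ∧
      Nat.card (Cfsg.PSp m F) < p ^ (3 * (f * m ^ 2)) ∧
      (2 ≤ m → Nat.card (Cfsg.PSp m F) ^ 3 < p ^ (8 * (f * m ^ 2))) := by
  set q := p ^ f with hq
  have hpq : p ∣ q := dvd_pow_self p (by omega)
  have hq2 : 2 ≤ q := le_trans hp.two_le (Nat.le_self_pow (by omega) p)
  have hq1 : 1 ≤ q := by omega
  obtain ⟨k, rfl⟩ : ∃ k, m = k + 1 := ⟨m - 1, by omega⟩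
  have hX := card_psp hF (k + 1) hm
  have hd : Nat.Coprime p (Nat.gcd 2 (q - 1)) :=
    Nat.Coprime.coprime_dvd_right (Nat.gcd_dvd_right _ _) (by simpa using cop_sub_one hpq hq1 1 le_rfl)
  have hM : Nat.Coprime p (∏ i ∈ range (k + 1), (q ^ (2 * (i + 1)) - 1)) :=
    Nat.Coprime.prod_right fun i _ => cop_sub_one hpq hq1 _ (by omega)
  have hlt := prod_lt_pow_sum q (fun i => 2 * (i + 1)) (fun i => q ^ (2 * (i + 1)) - 1)
    (fun i => sub_one_pos hq2 _ (by omega)) (fun i => sub_one_lt_pow hq1 _) k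
  have e1 := sum_two_mul_succ (k + 1)
  have ha1 : ∑ i ∈ range (k + 1), 2 * (i + 1) ≤ 2 * (k + 1) ^ 2 := by
    rw [e1]
    nlinarith
  obtain ⟨r1, r2, r3⟩ := main_bound hp hq hX hd hM hlt ha1
  refine ⟨r1, r2, fun hk => r3 ?_⟩
  rw [e1]
  have : 1 ≤ k := by omega
  nlinarith

end Cfsg.Agent.Lib.H4.LieOrd
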