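import Mathlib
import Cfsg.Prelude.Def_SubgroupEmbedding
import Cfsg.Prelude.Def_Solvable
import Cfsg.Agent.S3020
import Cfsg.Agent.Lib.H22.PPrimeCore
import Cfsg.Agent.Lib.H7.CoprimeFactor

/-!
# S3017 (Shult), piece QUOT: extreme closure is inherited

`H ≤ G` is extremely closed when `⟨H, g H g⁻¹⟩ ∩ N_G(H) = H` for every `g`.

* `sub`: if `H ≤ M ≤ G` then `H` is extremely closed in `M`.
* `quot_le`: if `Z ≤ H` is normal in `G` then `H / Z` is extremely closed in `G / Z`.
* `quot_coprime`: if `H` is an abelian `p`-subgroup, extremely closed, and `X` is a normal subgroup of `G` of order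
  prime to `p`, then `H X / X` is extremely closed in `G / X` (on landed S3020: `T = ⟨H, g H g⁻¹⟩ = K ⋊ H` with
  `K = O_{p'}(T)`; an element of `K` normalizing `H X / X` centralizes `H` modulo `K ∩ X`, coprime lifting, and
  `C_K(H) ≤ N_T(H) ∩ K = H ∩ K = 1`).
-/

set_option autoImplicit false
set_option linter.unusedSectionVars false
set_option linter.unusedVariables false

namespace Cfsg.Agent.Lib.H4.SH

open Cfsg

variable {G : Type*} [Group G]

/-- Elementwise form of extreme closure. -/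
theorem mem_of_mem_sup_of_mem_normalizer {H : Subgroup G} (hcl : IsExtremelyClosed H) (g : G) {t : G}
    (ht : t ∈ H ⊔ H.map (MulAut.conj g).toMonoidHom) (htN : t ∈ Subgroup.normalizer (H : Set G)) :
    t ∈ H := by
  have h := hcl g
  rw [← h]
  exact ⟨ht, htN⟩

/-- Extreme closure from its elementwise form. -/
theorem isExtremelyClosed_of_forall {H : Subgroup G}
    (h : ∀ g t : G, t ∈ H ⊔ H.map (MulAut.conj g).toMonoidHom → t ∈ Subgroup.normalizer (H : Set G) → t ∈ H) :
    IsExtremelyClosed H := by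
  intro g
  refine le_antisymm ?_ (le_inf le_sup_left Subgroup.le_normalizer)
  rintro t ⟨ht, htN⟩
  exact h g t ht htN

/-- The image of a conjugate is the conjugate of the image. -/
theorem map_conj_map {G' : Type*} [Group G'] (f : G →* G') (H : Subgroup G) (g : G) :
    (H.map f).map (MulAut.conj (f g)).toMonoidHom = (H.map (MulAut.conj g).toMonoidHom).map f := by
  rw [Subgroup.map_map, Subgroup.map_map]
  congr 1
  ext x
  simp [MulAut.conj_apply]

/-- The image of `⟨H, g H g⁻¹⟩`. -/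
theorem map_sup_conj {G' : Type*} [Group G'] (f : G →* G') (H : Subgroup G) (g : G) :
    (H ⊔ H.map (MulAut.conj g).toMonoidHom).map f =
      H.map f ⊔ (H.map f).map (MulAut.conj (f g)).toMonoidHom := by
  rw [Subgroup.map_sup, map_conj_map]

/-- **QUOT (a)**: extreme closure passes to subgroups containing `H`. -/
theorem sub {H M : Subgroup G} (hHM : H ≤ M) (hcl : IsExtremelyClosed H) :
    IsExtremelyClosed (H.subgroupOf M) := by
  refine isExtremelyClosed_of_forall (fun m t ht htN => ?_)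
  rw [Subgroup.mem_subgroupOf]
  have h1 : (t : G) ∈ (H.subgroupOf M ⊔ (H.subgroupOf M).map (MulAut.conj m).toMonoidHom).map M.subtype :=
    Subgroup.mem_map_of_mem M.subtype ht
  rw [map_sup_conj, Subgroup.map_subgroupOf_eq_of_le hHM] at h1
  refine mem_of_mem_sup_of_mem_normalizer hcl (m : G) h1 ?_
  rw [Subgroup.mem_normalizer_iff] at htN ⊢
  intro u
  constructor
  · intro hu
    have h2 := (htN ⟨u, hHM hu⟩).1 (Subgroup.mem_subgroupOf.2 hu)
    rw [Subgroup.mem_subgroupOf] at h2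
    simpa using h2
  · intro hu
    have huM : u ∈ M := by
      have h3 : u = (t : G)⁻¹ * ((t : G) * u * (t : G)⁻¹) * (t : G) := by group
      rw [h3]
      exact M.mul_mem (M.mul_mem (M.inv_mem t.2) (hHM hu)) t.2
    have h2 := (htN ⟨u, huM⟩).2 (by rw [Subgroup.mem_subgroupOf]; simpa using hu)
    rw [Subgroup.mem_subgroupOf] at h2
    exact h2

/-- Membership in the image of `H` modulo a normal subgroup contained in `H`. -/
theorem mk_mem_map_iff {H Z : Subgroup G} [Z.Normal] (hZH : Z ≤ H) (x : G) :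
    QuotientGroup.mk' Z x ∈ H.map (QuotientGroup.mk' Z) ↔ x ∈ H := by
  rw [← Subgroup.mem_comap, QuotientGroup.comap_map_mk', sup_eq_right.2 hZH]

/-- **QUOT (c)**: extreme closure passes to `G ⧸ Z` for a normal subgroup `Z ≤ H`. -/
theorem quot_le {H Z : Subgroup G} [Z.Normal] (hZH : Z ≤ H) (hcl : IsExtremelyClosed H) :
    IsExtremelyClosed (H.map (QuotientGroup.mk' Z)) := by
  refine isExtremelyClosed_of_forall (fun q tq ht htN => ?_)
  obtain ⟨g, rfl⟩ := QuotientGroup.mk'_surjective Z q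
  rw [← map_sup_conj] at ht
  obtain ⟨t, ht, rfl⟩ := ht
  rw [mk_mem_map_iff hZH]
  refine mem_of_mem_sup_of_mem_normalizer hcl g ht ?_
  rw [Subgroup.mem_normalizer_iff] at htN ⊢
  intro u
  have h1 := htN (QuotientGroup.mk' Z u)
  rw [← map_inv, ← map_mul, ← map_mul, mk_mem_map_iff hZH, mk_mem_map_iff hZH] at h1
  exact h1

/-- The image of a commutative subgroup is commutative. -/
theorem isMulCommutative_map {G' : Type*} [Group G'] (f : G →* G') (H : Subgroup G)
    (hH : IsMulCommutative H) : IsMulCommutative (H.map f) := by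
  refine ⟨⟨?_⟩⟩
  rintro ⟨_, a, ha, rfl⟩ ⟨_, b, hb, rfl⟩
  apply Subtype.ext
  have hab : a * b = b * a := congrArg Subtype.val (hH.is_comm.comm ⟨a, ha⟩ ⟨b, hb⟩)
  change f a * f b = f b * f a
  rw [← map_mul, ← map_mul, hab]

/-- **QUOT (b)**: extreme closure of an abelian `p`-subgroup passes to `G ⧸ X` for a normal subgroup `X` of order
prime to `p`. -/
theorem quot_coprime [Finite G] {p : ℕ} [Fact p.Prime] {H : Subgroup G} (hHp : IsPGroup p H)
    (hHab : IsMulCommutative H) (hcl : IsExtremelyClosed H) (X : Subgroup G) [X.Normal]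
    (hX : (Nat.card X).Coprime p) :
    IsExtremelyClosed (H.map (QuotientGroup.mk' X)) := by
  have hp : p.Prime := Fact.out
  refine isExtremelyClosed_of_forall (fun q tq ht htN => ?_)
  obtain ⟨g, rfl⟩ := QuotientGroup.mk'_surjective X q
  rw [← map_sup_conj] at ht
  obtain ⟨t, ht, rfl⟩ := ht
  set T : Subgroup G := H ⊔ H.map (MulAut.conj g).toMonoidHom with hT
  set K : Subgroup G := (Cfsg.pPrimeCore p ↥T).map T.subtype with hK
  obtain ⟨hHK, hHKbot⟩ := Cfsg.Agent.S3020.result H hHp hHab hcl g T rfl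
  have hHT : H ≤ T := le_sup_left
  have hKT : K ≤ T := Subgroup.map_subtype_le _
  -- `T` normalizes `K`
  have hconj : ∀ s ∈ T, ∀ k ∈ K, s * k * s⁻¹ ∈ K := by
    rintro s hs _ ⟨k', hk', rfl⟩
    have hn : (Cfsg.pPrimeCore p ↥T).Normal := Cfsg.Agent.Lib.H22.pPrimeCore_normal p
    exact ⟨⟨s, hs⟩ * k' * ⟨s, hs⟩⁻¹, hn.conj_mem k' hk' ⟨s, hs⟩, by simp⟩
  have hTK : T ≤ Subgroup.normalizer (K : Set G) := by
    intro s hs
    rw [Subgroup.mem_normalizer_iff]
    intro k
    constructor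
    · exact hconj s hs k
    · intro hk
      have h3 : k = s⁻¹ * (s * k * s⁻¹) * s⁻¹⁻¹ := by group
      rw [h3]
      exact hconj s⁻¹ (T.inv_mem hs) _ hk
  have hKcard : (Nat.card K).Coprime p := by
    rw [hK, Subgroup.card_map_of_injective T.subtype_injective]
    exact Cfsg.Agent.Lib.H22.card_pPrimeCore_coprime p
  -- decompose `t = h * k`
  have htHK : t ∈ ((H ⊔ K : Subgroup G) : Set G) := by rw [hHK]; exact ht
  rw [Subgroup.coe_mul_of_left_le_normalizer_right H K (hHT.trans hTK)] at htHK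
  obtain ⟨h, hh, k, hk, rfl⟩ := htHK
  -- the image of `k` normalizes the image of `H`
  have hkN : QuotientGroup.mk' X k ∈ Subgroup.normalizer ((H.map (QuotientGroup.mk' X) : Subgroup (G ⧸ X)) : Set (G ⧸ X)) := by
    have h1 : QuotientGroup.mk' X h ∈ Subgroup.normalizer ((H.map (QuotientGroup.mk' X) : Subgroup (G ⧸ X)) : Set (G ⧸ X)) :=
      Subgroup.le_normalizer (Subgroup.mem_map_of_mem _ hh)
    have h2 : QuotientGroup.mk' X k = (QuotientGroup.mk' X h)⁻¹ * QuotientGroup.mk' X (h * k) := by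
      rw [map_mul, inv_mul_cancel_left]
    rw [h2]
    exact Subgroup.mul_mem _ (Subgroup.inv_mem _ h1) htN
  -- the images of `H` and `K` meet trivially
  have hdisj : H.map (QuotientGroup.mk' X) ⊓ K.map (QuotientGroup.mk' X) = ⊥ := by
    apply disjoint_iff.1
    apply Subgroup.disjoint_of_coprime_natCard
    obtain ⟨n, hn⟩ := IsPGroup.iff_card.1 (hHp.map (QuotientGroup.mk' X))
    rw [hn]
    exact Nat.Coprime.pow_left n
      (Nat.Coprime.coprime_dvd_left (Subgroup.card_map_dvd K _) hKcard).symm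
  -- `k` centralizes `H` modulo `K ⊓ X`
  have hcomm : ∀ u ∈ H, k * u * k⁻¹ * u⁻¹ ∈ K ⊓ X := by
    intro u hu
    have hcK : k * u * k⁻¹ * u⁻¹ ∈ K := by
      have h1 : k * u * k⁻¹ * u⁻¹ = k * (u * k⁻¹ * u⁻¹) := by group
      rw [h1]
      exact K.mul_mem hk (hconj u (hHT hu) _ (K.inv_mem hk))
    refine ⟨hcK, ?_⟩
    have h1 : QuotientGroup.mk' X (k * u * k⁻¹ * u⁻¹) ∈
        H.map (QuotientGroup.mk' X) ⊓ K.map (QuotientGroup.mk' X) := by
      refine ⟨?_, Subgroup.mem_map_of_mem _ hcK⟩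
      have h2 := (Subgroup.mem_normalizer_iff.1 hkN (QuotientGroup.mk' X u)).1
        (Subgroup.mem_map_of_mem _ hu)
      have h3 : QuotientGroup.mk' X (k * u * k⁻¹ * u⁻¹) =
          QuotientGroup.mk' X k * QuotientGroup.mk' X u * (QuotientGroup.mk' X k)⁻¹ *
            (QuotientGroup.mk' X u)⁻¹ := by
        simp only [map_mul, map_inv]
      rw [h3]
      exact Subgroup.mul_mem _ h2 (Subgroup.inv_mem _ (Subgroup.mem_map_of_mem _ hu))
    rw [hdisj, Subgroup.mem_bot] at h1
    exact (QuotientGroup.eq_one_iff _).1 h1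
  -- coprime lifting
  have hXtop : T ≤ Subgroup.normalizer (X : Set G) := by
    rw [Subgroup.normalizer_eq_top]; exact le_top
  have hTKX : T ≤ Subgroup.normalizer ((K ⊓ X : Subgroup G) : Set G) :=
    Cfsg.Agent.Lib.H7.le_normalizer_inf hTK hXtop
  have hKXcard : (Nat.card ↥(K ⊓ X)).Coprime p :=
    Nat.Coprime.coprime_dvd_left (Subgroup.card_dvd_of_le inf_le_right) hX
  obtain ⟨n, hn, hkn⟩ := Cfsg.Agent.Lib.H7.exists_mul_mem_centralizer_of_commutator_mem p
    hKXcard hHp (hHT.trans hTKX) (hTKX (hKT hk)) hcomm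
  -- `k * n ∈ K ⊓ C(H) ≤ K ⊓ T ⊓ N(H) = K ⊓ H = ⊥`
  have hknK : k * n ∈ K := K.mul_mem hk hn.1
  have hknH : k * n ∈ H :=
    mem_of_mem_sup_of_mem_normalizer hcl g (hKT hknK) (Subgroup.centralizer_le_normalizer _ hkn)
  have hkn1 : k * n = 1 := by
    have : k * n ∈ H ⊓ K := ⟨hknH, hknK⟩
    rw [hHKbot, Subgroup.mem_bot] at this
    exact this
  have hkX : k ∈ X := by
    have h1 : k = n⁻¹ := eq_inv_of_mul_eq_one_left hkn1
    rw [h1]
    exact X.inv_mem hn.2
  have hk1 : QuotientGroup.mk' X k = 1 := (QuotientGroup.eq_one_iff k).2 hkX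
  rw [map_mul, hk1, mul_one]
  exact Subgroup.mem_map_of_mem _ hh

end Cfsg.Agent.Lib.H4.SH
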