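import Mathlib
import Cfsg.Agent.Lib.H2.SHRED
import Cfsg.Agent.Lib.H4.SHQUOT
import Cfsg.Agent.Lib.H9.SHLOC

/-!
# S3017 (Shult), glue IHC: the induction hypothesis for the centralizers `C_G(h)`, `h ∈ H#`

In the minimal configuration (`H ∩ Z(G) = 1`, the theorem known for all smaller groups) every `C = C_G(h)`,
`1 ≠ h ∈ H`, is a proper subgroup containing `H`, in which `H` is again an abelian extremely closed `2`-subgroup;
so `C = N_C(H) O(C)`.  This is the hypothesis `hIH` of helper9's `loc_main`.
-/

set_option autoImplicit false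
set_option linter.unusedSectionVars false

namespace Cfsg.Agent.Lib.H4.SH

open Cfsg Cfsg.Agent.Lib.H2.SH

universe u

variable {G : Type u} [Group G] [Finite G]

/-- An abelian subgroup lies in the centralizer of each of its elements. -/
theorem le_centralizer_singleton {H : Subgroup G} (hHab : IsMulCommutative H) {h : G} (hh : h ∈ H) :
    H ≤ Subgroup.centralizer ({h} : Set G) := by
  intro u hu
  rw [Subgroup.mem_centralizer_iff]
  intro y hy
  rw [Set.mem_singleton_iff] at hy
  subst hy
  exact congrArg Subtype.val (hHab.is_comm.comm ⟨y, hh⟩ ⟨u, hu⟩)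

/-- The centralizer of a non-central element is a smaller group. -/
theorem card_centralizer_lt {h : G} (hh : h ∉ Subgroup.center G) :
    Nat.card ↥(Subgroup.centralizer ({h} : Set G)) < Nat.card G := by
  have hne : Subgroup.centralizer ({h} : Set G) ≠ ⊤ := by
    intro htop
    apply hh
    rw [Subgroup.mem_center_iff]
    intro g
    have hg : g ∈ Subgroup.centralizer ({h} : Set G) := by rw [htop]; exact Subgroup.mem_top g
    exact (Subgroup.mem_centralizer_iff.1 hg h (Set.mem_singleton h)).symm
  have hle : Nat.card ↥(Subgroup.centralizer ({h} : Set G)) ≤ Nat.card G :=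
    Subgroup.card_le_card_group _
  rcases lt_or_eq_of_le hle with hlt | heq
  · exact hlt
  · exact absurd ((Subgroup.card_eq_iff_eq_top _).1 heq) hne

/-- **IHC**: the induction hypothesis of S3017 for the centralizers of the non-identity elements of `H`. -/
theorem ih_centralizer {H : Subgroup G} (hH2 : IsPGroup 2 H) (hHab : IsMulCommutative H)
    (hcl : IsExtremelyClosed H) (IH : SmallerOK G) (hZ : H ⊓ Subgroup.center G = ⊥) :
    ∀ h ∈ H, h ≠ 1 → Subgroup.normalizer
        ((H.subgroupOf (Subgroup.centralizer ({h} : Set G)) :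
          Subgroup ↥(Subgroup.centralizer ({h} : Set G))) :
          Set ↥(Subgroup.centralizer ({h} : Set G))) ⊔
        Cfsg.oddCore ↥(Subgroup.centralizer ({h} : Set G)) = ⊤ := by
  intro h hh h1
  have hnc : h ∉ Subgroup.center G := by
    intro hc
    have : h ∈ H ⊓ Subgroup.center G := ⟨hh, hc⟩
    rw [hZ, Subgroup.mem_bot] at this
    exact h1 this
  have hHC := le_centralizer_singleton hHab hh
  exact IH ↥(Subgroup.centralizer ({h} : Set G)) (card_centralizer_lt hnc)
    (H.subgroupOf (Subgroup.centralizer ({h} : Set G))) hH2.comap_subtype inferInstance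
    (sub hHC hcl)

/-- **LOC in the minimal configuration**: helper9's `loc_main` with its induction hypothesis supplied. -/
theorem loc_of_smallerOK {H : Subgroup G} (hH2 : IsPGroup 2 H) (hHab : IsMulCommutative H)
    (hcl : IsExtremelyClosed H) (IH : SmallerOK G) (hZ : H ⊓ Subgroup.center G = ⊥) (g : G) :
    ∃ k ∈ Cfsg.Agent.Lib.H9.SH.Kg H g, ∃ ν ∈ Subgroup.normalizer (H : Set G), g = k * ν ∧
      ∀ a ∈ H, ∀ b ∈ H,
        (a * (ν * b * ν⁻¹) ≠ 1 →
          ∃ x : G, ∃ w ∈ Cfsg.centralizerPPrimeCore 2 (a * (ν * b * ν⁻¹)),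
            x * (a * (g * b * g⁻¹)) * x⁻¹ = (a * (ν * b * ν⁻¹)) * w) ∧
        (a * (ν * b * ν⁻¹) = 1 → Odd (orderOf (a * (g * b * g⁻¹)))) :=
  Cfsg.Agent.Lib.H9.SH.loc_main hH2 hHab hcl (ih_centralizer hH2 hHab hcl IH hZ) g

end Cfsg.Agent.Lib.H4.SH
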