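import Mathlib
import Cfsg.Agent.Lib.H2.SHRED
import Cfsg.Agent.Lib.H4.SHQUOT

/-!
# S3017 (Shult): the reduction `red` of helper2 with the three QUOT inputs supplied

`Lib/H2/SHRED.lean` proves: if extreme closure is inherited by subgroups (`QSub`), by quotients modulo normal
subgroups of odd order (`QOdd`) and modulo normal subgroups contained in `H` (`QCen`), then S3017 follows from the
minimal configuration.  `Lib/H4/SHQUOT.lean` proves the three inheritance statements; this file plugs them in.
-/

set_option autoImplicit false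

namespace Cfsg.Agent.Lib.H4.SH

open Cfsg Cfsg.Agent.Lib.H2.SH

universe u

theorem qSub : QSub.{u} := fun _ _ _ _ _ hHM hcl => sub hHM hcl

theorem qOdd : QOdd.{u} := fun _ _ _ _ X _ hX hH2 hHab hcl =>
  haveI : Fact (Nat.Prime 2) := ⟨Nat.prime_two⟩
  quot_coprime hH2 hHab hcl X hX

theorem qCen : QCen.{u} := fun _ _ _ _ _ _ hZH _ _ hcl => quot_le hZH hcl

/-- **RED + QUOT**: S3017 for all finite groups of a universe follows from the minimal configuration
(`O(G) = 1`, `G = ⟨H^G⟩`, `H ∩ Z(G) = 1`, and the theorem for all smaller groups). -/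
theorem red_of_min
    (hmin : ∀ (G : Type u) [Group G] [Finite G] (H : Subgroup G), IsPGroup 2 H →
      IsMulCommutative H → IsExtremelyClosed H → SmallerOK G → oddCore G = ⊥ →
      Subgroup.normalClosure (H : Set G) = ⊤ → H ⊓ Subgroup.center G = ⊥ → H.Normal) :
    ∀ (G : Type u) [Group G] [Finite G] (H : Subgroup G), IsPGroup 2 H → IsMulCommutative H →
      IsExtremelyClosed H → Subgroup.normalizer (H : Set G) ⊔ oddCore G = ⊤ :=
  red qSub qOdd qCen hmin

end Cfsg.Agent.Lib.H4.SH
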