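import Mathlib
import Cfsg.Prelude.Def_SubgroupEmbedding
import Cfsg.Prelude.Def_CaseTheorems
import Cfsg.Agent.S3020
import Cfsg.Agent.Lib.H9.PPrimeCore
import Cfsg.Agent.Lib.H1.ZStarGen
import Cfsg.Agent.Lib.H1.PCore
import Cfsg.Agent.Lib.H4.SHQUOT

/-!
# S3016 piece RED-p (helper4): reduction to the minimal configuration, for a general prime `p`

General-prime twin of helper2's `Lib/H2/SHRED.lean` (which is the case `p = 2`), with the three QUOT inputs of
`Lib/H4/SHQUOT.lean` (already general in `p`) plugged in.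

`H` an abelian extremely closed `p`-subgroup of the finite group `G`; claim `G = N_G(H) O_{p'}(G)`.
Strong induction on `|G|`:
* `O_{p'}(G) ≠ 1`: pass to `G / O_{p'}(G)` (QUOT (b)), then Frattini.
* `O_{p'}(G) = 1`, `G₀ = ⟨H^G⟩ < G`: by induction (QUOT (a)) `H ⊴ G₀`, so `G₀` is a `p`-group, every
  `T_g = ⟨H, gHg⁻¹⟩ ≤ G₀` is a `p`-group, and landed S3020 (`T_g = H O_{p'}(T_g)`) gives `T_g = H`: `H ⊴ G`.
* `O_{p'}(G) = 1`, an element `u ∈ H ∩ Z(G)` of order `p`: pass to `G / ⟨u⟩` (QUOT (c));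
  `O_{p'}(G/⟨u⟩) = 1` (`pPrimeCore_quotient_central_eq_bot`, Burnside transfer), so `H/⟨u⟩ ⊴ G/⟨u⟩`.
* otherwise: the minimal configuration `hmin`.
-/

set_option autoImplicit false

namespace Cfsg.Agent.Lib.H4.SHP

open Cfsg

universe u

/-- conclusion (II) of S3016 for all groups (of the same universe) of smaller order -/
def SmallerOKp (p : ℕ) (G : Type u) [Group G] : Prop :=
  ∀ (G' : Type u) [Group G'] [Finite G'], Nat.card G' < Nat.card G → ∀ H' : Subgroup G',
    IsPGroup p H' → IsMulCommutative H' → IsExtremelyClosed H' →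
    Subgroup.normalizer (H' : Set G') ⊔ pPrimeCore p G' = ⊤

section steps

variable {G : Type u} [Group G] [Finite G]

theorem card_quotient_lt' (X : Subgroup G) [X.Normal] (hX : X ≠ ⊥) :
    Nat.card (G ⧸ X) < Nat.card G := by
  rw [← Subgroup.index_eq_card, ← Subgroup.card_mul_index X]
  have h1 : 1 < Nat.card X := by
    rw [Finite.one_lt_card_iff_nontrivial]
    exact (Subgroup.nontrivial_iff_ne_bot X).mpr hX
  have h2 : 0 < X.index := Nat.pos_of_ne_zero (Subgroup.index_ne_zero_of_finite)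
  nlinarith

/-- If `O_{p'}(G) = 1` and `Z` is a central `p`-subgroup, then `O_{p'}(G / Z) = 1`. -/
theorem pPrimeCore_quotient_central_eq_bot {p : ℕ} [hp : Fact p.Prime]
    (hO : pPrimeCore p G = ⊥) (Z : Subgroup G) [hZn : Z.Normal] (hZp : IsPGroup p Z)
    (hZc : Z ≤ Subgroup.center G) : pPrimeCore p (G ⧸ Z) = ⊥ := by
  set π := QuotientGroup.mk' Z with hπ
  set Ob := pPrimeCore p (G ⧸ Z) with hOb
  set M : Subgroup G := Ob.comap π with hM
  have hObn : Ob.Normal := Cfsg.Agent.Lib.H22.pPrimeCore_normal p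
  have hMn : M.Normal := Subgroup.Normal.comap hObn π
  have hObc : (Nat.card Ob).Coprime p := Cfsg.Agent.Lib.H22.card_pPrimeCore_coprime p
  have hcardM : Nat.card M = Nat.card Ob * Nat.card Z := by
    rw [hM]
    exact Cfsg.Agent.Lib.H1.ZStarGen.card_comap_mk' Z Ob
  have hZM : Z ≤ M := by
    intro z hz
    show π z ∈ Ob
    have h1 : π z = 1 := (QuotientGroup.eq_one_iff z).2 hz
    rw [h1]
    exact one_mem _
  set Z' : Subgroup ↥M := Z.subgroupOf M with hZ'
  have hZ'p : IsPGroup p Z' := hZp.comap_subtype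
  have hcardZ' : Nat.card Z' = Nat.card Z :=
    Nat.card_congr (Subgroup.subgroupOfEquivOfLe hZM).toEquiv
  have hidx : Z'.index = Nat.card Ob := by
    have h1 := Subgroup.card_mul_index Z'
    rw [hcardZ', hcardM, mul_comm (Nat.card Ob)] at h1
    exact Nat.eq_of_mul_eq_mul_left Nat.card_pos h1
  have hnd : ¬ p ∣ Z'.index := by
    rw [hidx]
    intro h
    have h1 := Nat.Coprime.eq_one_of_dvd hObc.symm h
    exact hp.out.one_lt.ne' h1
  set P : Sylow p ↥M := hZ'p.toSylow hnd with hP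
  have hPcoe : (P : Subgroup ↥M) = Z' := IsPGroup.toSylow_coe _ _
  have hcen : Subgroup.normalizer ((P : Subgroup ↥M) : Set ↥M) ≤
      Subgroup.centralizer ((P : Subgroup ↥M) : Set ↥M) := by
    intro m _
    rw [Subgroup.mem_centralizer_iff]
    intro z hz
    rw [SetLike.mem_coe, hPcoe, hZ', Subgroup.mem_subgroupOf] at hz
    have hzc := hZc hz
    rw [Subgroup.mem_center_iff] at hzc
    apply Subtype.ext
    simp only [Subgroup.coe_mul]
    exact (hzc m).symm
  have hcompl := MonoidHom.ker_transferSylow_isComplement' P hcen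
  set K : Subgroup ↥M := (MonoidHom.transferSylow P hcen).ker with hK
  have hKn : K.Normal := MonoidHom.normal_ker _
  have hcardK : Nat.card K = Nat.card Ob := by
    have h1 := hcompl.card_mul_card
    rw [hPcoe, hcardZ', hcardM] at h1
    exact Nat.eq_of_mul_eq_mul_right Nat.card_pos h1
  have hKle : K ≤ pPrimeCore p ↥M :=
    Cfsg.Agent.Lib.H22.le_pPrimeCore p K hKn (by rw [hcardK]; exact hObc)
  have hsub := Cfsg.Agent.Lib.H9.pPrimeCore_subnormal_le p hMn.isSubnormal
  have hbot : pPrimeCore p ↥M = ⊥ := by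
    have h2 : (pPrimeCore p ↥M).map M.subtype = ⊥ := by
      rw [eq_bot_iff]
      refine hsub.trans ?_
      rw [hO]
    exact (Subgroup.map_eq_bot_iff_of_injective _ M.subtype_injective).1 h2
  rw [hbot, le_bot_iff] at hKle
  have hK1 : Nat.card K = 1 := by
    rw [hKle]
    exact Subgroup.card_bot
  rw [hcardK] at hK1
  exact Subgroup.card_eq_one.mp hK1

variable {p : ℕ} [hp : Fact p.Prime]

/-- (ii): `O_{p'}(G) ≠ 1`. -/
theorem step_core (IH : SmallerOKp p G) (H : Subgroup G) (hHp : IsPGroup p H)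
    (hHab : IsMulCommutative H) (hcl : IsExtremelyClosed H) (hO : pPrimeCore p G ≠ ⊥) :
    Subgroup.normalizer (H : Set G) ⊔ pPrimeCore p G = ⊤ := by
  set X : Subgroup G := pPrimeCore p G with hX
  have hXn : X.Normal := Cfsg.Agent.Lib.H22.pPrimeCore_normal p
  have hXc : (Nat.card X).Coprime p := Cfsg.Agent.Lib.H22.card_pPrimeCore_coprime p
  have hlt := card_quotient_lt' X hO
  set π := QuotientGroup.mk' X with hπ
  have hb := IH (G ⧸ X) hlt (H.map π) (hHp.map π)
    (Cfsg.Agent.Lib.H4.SH.isMulCommutative_map π H hHab)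
    (Cfsg.Agent.Lib.H4.SH.quot_coprime hHp hHab hcl X hXc)
  have hbot : pPrimeCore p (G ⧸ X) = ⊥ := Cfsg.Agent.Lib.H9.pPrimeCore_quotient_eq_bot p
  rw [hbot, sup_bot_eq, Subgroup.normalizer_eq_top_iff] at hb
  set N : Subgroup G := (H.map π).comap π with hN
  have hNn : N.Normal := Subgroup.Normal.comap hb π
  have hNeq : N = H ⊔ X := by
    rw [hN, Subgroup.comap_map_eq, QuotientGroup.ker_mk']
  have hHN : H ≤ N := by rw [hNeq]; exact le_sup_left
  have hH' : IsPGroup p (H.subgroupOf N) := hHp.comap_subtype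
  have hidx : ¬ p ∣ (H.subgroupOf N).index := by
    intro h2
    have h1 : Nat.card (H.subgroupOf N) * (H.subgroupOf N).index = Nat.card N :=
      Subgroup.card_mul_index _
    have h3 : Nat.card (H.subgroupOf N) = Nat.card H :=
      Nat.card_congr (Subgroup.subgroupOfEquivOfLe hHN).toEquiv
    have h4 : Nat.card N ∣ Nat.card H * Nat.card X := by
      rw [hNeq]
      exact Cfsg.Agent.Lib.H22.card_sup_dvd_mul H X
    rw [← h1, h3] at h4
    have h5 : (H.subgroupOf N).index ∣ Nat.card X :=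
      Nat.dvd_of_mul_dvd_mul_left Nat.card_pos h4
    have h6 : p ∣ Nat.card X := h2.trans h5
    have h7 := Nat.Coprime.eq_one_of_dvd hXc.symm h6
    exact hp.out.one_lt.ne' h7
  have hfr := Sylow.normalizer_sup_eq_top (hH'.toSylow hidx)
  have h8 : ((hH'.toSylow hidx : Sylow p ↥N) : Subgroup ↥N).map N.subtype = H := by
    rw [IsPGroup.toSylow_coe, Subgroup.subgroupOf_map_subtype, inf_of_le_left hHN]
  rw [h8, hNeq, ← sup_assoc, sup_of_le_left Subgroup.le_normalizer] at hfr
  exact hfr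

/-- a `p`-group has trivial `p'`-core -/
theorem pPrimeCore_eq_bot_of_isPGroup {T : Type u} [Group T] [Finite T] (hT : IsPGroup p T) :
    pPrimeCore p T = ⊥ := by
  have h1 : (Nat.card (pPrimeCore p T)).Coprime p := Cfsg.Agent.Lib.H22.card_pPrimeCore_coprime p
  have h2 : IsPGroup p (pPrimeCore p T) := hT.to_subgroup _
  obtain ⟨k, hk⟩ := h2.exists_card_eq
  rw [hk] at h1
  rcases Nat.eq_zero_or_pos k with rfl | hkpos
  · rw [pow_zero] at hk
    exact Subgroup.card_eq_one.mp hk
  · exfalso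
    have h3 : p ∣ p ^ k := dvd_pow_self p hkpos.ne'
    have h4 := Nat.Coprime.eq_one_of_dvd h1.symm h3
    exact hp.out.one_lt.ne' h4

/-- (iii): `O_{p'}(G) = 1` and `⟨H^G⟩ < G`. -/
theorem step_normalClosure (IH : SmallerOKp p G) (H : Subgroup G)
    (hHp : IsPGroup p H) (hHab : IsMulCommutative H) (hcl : IsExtremelyClosed H)
    (hO : pPrimeCore p G = ⊥) (hNC : Subgroup.normalClosure (H : Set G) ≠ ⊤) : H.Normal := by
  set G0 : Subgroup G := Subgroup.normalClosure (H : Set G) with hG0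
  have hG0n : G0.Normal := Subgroup.normalClosure_normal
  have hHG0 : H ≤ G0 := Subgroup.le_normalClosure
  have hlt : Nat.card ↥G0 < Nat.card G := by
    rw [← Subgroup.card_mul_index G0]
    have h1 : 0 < Nat.card G0 := Nat.card_pos
    have h2 : G0.index ≠ 1 := fun h => hNC (Subgroup.index_eq_one.1 h)
    have h3 : 0 < G0.index := Nat.pos_of_ne_zero (Subgroup.index_ne_zero_of_finite)
    have h4 : 2 ≤ G0.index := by omega
    nlinarith
  have hHab0 : IsMulCommutative (H.subgroupOf G0) := Subgroup.subgroupOf_isMulCommutative G0 H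
  have hb := IH ↥G0 hlt (H.subgroupOf G0) hHp.comap_subtype hHab0
    (Cfsg.Agent.Lib.H4.SH.sub hHG0 hcl)
  have hbot : pPrimeCore p ↥G0 = ⊥ := by
    have h1 := Cfsg.Agent.Lib.H9.pPrimeCore_subnormal_le p hG0n.isSubnormal
    have h2 : (pPrimeCore p ↥G0).map G0.subtype = ⊥ := by
      rw [eq_bot_iff]
      refine h1.trans ?_
      rw [hO]
    exact (Subgroup.map_eq_bot_iff_of_injective _ G0.subtype_injective).1 h2
  rw [hbot, sup_bot_eq, Subgroup.normalizer_eq_top_iff] at hb
  have hQchar := Cfsg.Agent.Lib.H1.pCore_characteristic p ↥G0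
  have hQ'n : ((pCore p ↥G0).map G0.subtype).Normal :=
    ConjAct.normal_of_characteristic_of_normal
  have hHQ : H ≤ (pCore p ↥G0).map G0.subtype := by
    have h1 : H.subgroupOf G0 ≤ pCore p ↥G0 := Cfsg.Agent.Lib.H1.le_pCore hb hHp.comap_subtype
    have h2 := Subgroup.map_mono (f := G0.subtype) h1
    rwa [Subgroup.subgroupOf_map_subtype, inf_of_le_left hHG0] at h2
  have hG0Q : G0 ≤ (pCore p ↥G0).map G0.subtype :=
    Subgroup.normalClosure_le_normal hHQ
  have hG0p : IsPGroup p ↥G0 := by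
    have h1 : IsPGroup p ↥((pCore p ↥G0).map G0.subtype) :=
      (Cfsg.Agent.Lib.H1.pCore_isPGroup p ↥G0).map _
    exact h1.to_le hG0Q
  refine ⟨fun x hx g => ?_⟩
  set T : Subgroup G := H ⊔ H.map (MulAut.conj g).toMonoidHom with hT
  have hconj : H.map (MulAut.conj g).toMonoidHom ≤ G0 := by
    rintro _ ⟨y, hy, rfl⟩
    exact hG0n.conj_mem y (hHG0 hy) g
  have hTG0 : T ≤ G0 := sup_le hHG0 hconj
  have hTp : IsPGroup p ↥T := hG0p.to_le hTG0
  have h3020 := (Cfsg.Agent.S3020.result H hHp hHab hcl g T hT).1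
  rw [pPrimeCore_eq_bot_of_isPGroup hTp, Subgroup.map_bot, sup_bot_eq] at h3020
  have h1 : g * x * g⁻¹ ∈ T :=
    (le_sup_right : H.map (MulAut.conj g).toMonoidHom ≤ T) ⟨x, hx, rfl⟩
  rw [← h3020] at h1
  exact h1

/-- (iv): `O_{p'}(G) = 1` and `H ∩ Z(G) ≠ 1`. -/
theorem step_center (IH : SmallerOKp p G) (H : Subgroup G)
    (hHp : IsPGroup p H) (hHab : IsMulCommutative H) (hcl : IsExtremelyClosed H)
    (hO : pPrimeCore p G = ⊥) (hZ : H ⊓ Subgroup.center G ≠ ⊥) : H.Normal := by
  set A : Subgroup G := H ⊓ Subgroup.center G with hA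
  have hAp : IsPGroup p ↥A := hHp.to_le inf_le_left
  obtain ⟨k, hk⟩ := hAp.exists_card_eq
  have hk0 : k ≠ 0 := by
    rintro rfl
    rw [pow_zero] at hk
    exact hZ (Subgroup.card_eq_one.mp hk)
  have hpA : p ∣ Nat.card ↥A := by rw [hk]; exact dvd_pow_self p hk0
  obtain ⟨u', hu'⟩ := exists_prime_orderOf_dvd_card' p hpA
  set u : G := (u' : G) with hu
  have hup : orderOf u = p := by rw [hu, Subgroup.orderOf_coe]; exact hu'
  have huH : u ∈ H := (inf_le_left : A ≤ H) u'.2
  have huZ : u ∈ Subgroup.center G := (inf_le_right : A ≤ Subgroup.center G) u'.2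
  have hZc : Subgroup.zpowers u ≤ Subgroup.center G := Subgroup.zpowers_le.2 huZ
  have hZn : (Subgroup.zpowers u).Normal := by
    refine ⟨fun x hx g => ?_⟩
    have hxZ : x ∈ Subgroup.center G := hZc hx
    have h1 : g * x * g⁻¹ = x := by
      rw [Subgroup.mem_center_iff] at hxZ
      rw [hxZ g]
      group
    rw [h1]
    exact hx
  have hZH : Subgroup.zpowers u ≤ H := Subgroup.zpowers_le.2 huH
  have hZne : Subgroup.zpowers u ≠ ⊥ := by
    intro h
    have h1 : u = 1 := Subgroup.zpowers_eq_bot.1 h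
    rw [h1, orderOf_one] at hup
    exact hp.out.one_lt.ne' hup.symm
  have hlt := card_quotient_lt' (Subgroup.zpowers u) hZne
  set π := QuotientGroup.mk' (Subgroup.zpowers u) with hπ
  have hb := IH (G ⧸ Subgroup.zpowers u) hlt (H.map π) (hHp.map π)
    (Cfsg.Agent.Lib.H4.SH.isMulCommutative_map π H hHab)
    (Cfsg.Agent.Lib.H4.SH.quot_le hZH hcl)
  have hbot : pPrimeCore p (G ⧸ Subgroup.zpowers u) = ⊥ :=
    pPrimeCore_quotient_central_eq_bot hO (Subgroup.zpowers u) (hHp.to_le hZH) hZc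
  rw [hbot, sup_bot_eq, Subgroup.normalizer_eq_top_iff] at hb
  have hNn : ((H.map π).comap π).Normal := Subgroup.Normal.comap hb π
  have hNeq : (H.map π).comap π = H := by
    rw [Subgroup.comap_map_eq, QuotientGroup.ker_mk', sup_of_le_left hZH]
  rw [hNeq] at hNn
  exact hNn

end steps

/-- **RED-p**: conclusion (II) of S3016 (`G = N_G(H) O_{p'}(G)`) for all finite groups of a universe follows
from the minimal configuration (`O_{p'}(G) = 1`, `G = ⟨H^G⟩`, `H ∩ Z(G) = 1`, and (II) for all smaller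
groups). General prime `p`; for `p = 2` this is `Cfsg.Agent.Lib.H4.SH.red_of_min`. -/
theorem red_p {p : ℕ} [hp : Fact p.Prime]
    (hmin : ∀ (G : Type u) [Group G] [Finite G] (H : Subgroup G), IsPGroup p H →
      IsMulCommutative H → IsExtremelyClosed H → SmallerOKp p G → pPrimeCore p G = ⊥ →
      Subgroup.normalClosure (H : Set G) = ⊤ → H ⊓ Subgroup.center G = ⊥ → H.Normal) :
    ∀ (G : Type u) [Group G] [Finite G] (H : Subgroup G), IsPGroup p H → IsMulCommutative H →
      IsExtremelyClosed H → Subgroup.normalizer (H : Set G) ⊔ pPrimeCore p G = ⊤ := by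
  have key : ∀ n : ℕ, ∀ (G : Type u) [Group G] [Finite G], Nat.card G = n → ∀ H : Subgroup G,
      IsPGroup p H → IsMulCommutative H → IsExtremelyClosed H →
      Subgroup.normalizer (H : Set G) ⊔ pPrimeCore p G = ⊤ := by
    intro n
    induction n using Nat.strong_induction_on with
    | _ n ih =>
    intro G _ _ hn H hHp hHab hcl
    have IH : SmallerOKp p G := fun G' _ _ hlt H' h1 h2 h3 => ih _ (hn ▸ hlt) G' rfl H' h1 h2 h3
    by_cases hO : pPrimeCore p G = ⊥
    · have hnorm : H.Normal := by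
        by_cases hNC : Subgroup.normalClosure (H : Set G) = ⊤
        · by_cases hZ : H ⊓ Subgroup.center G = ⊥
          · exact hmin G H hHp hHab hcl IH hO hNC hZ
          · exact step_center IH H hHp hHab hcl hO hZ
        · exact step_normalClosure IH H hHp hHab hcl hO hNC
      rw [Subgroup.normalizer_eq_top_iff.2 hnorm, top_sup_eq]
    · exact step_core IH H hHp hHab hcl hO
  intro G _ _ H hHp hHab hcl
  exact key _ G rfl H hHp hHab hcl

end Cfsg.Agent.Lib.H4.SHP
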