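import Mathlib
import Cfsg.Agent.Lib.H4.SHPRED

/-!
# S3016 (odd-p Shult), glue IHC-p: the induction hypothesis for the centralizers `C_G(h)`, `h ∈ H#`

General-prime twin of `Lib/H4/SHIHC.lean`.  In the minimal configuration (`H ∩ Z(G) = 1`, conclusion (II) known for
all smaller groups) every `C = C_G(h)`, `1 ≠ h ∈ H`, is a proper subgroup containing `H`, in which `H` is again an
abelian extremely closed `p`-subgroup; so `C = N_C(H) O_{p'}(C)`.
-/

set_option autoImplicit false
set_option linter.unusedSectionVars false

namespace Cfsg.Agent.Lib.H4.SHP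

open Cfsg

universe u

variable {G : Type u} [Group G] [Finite G]

/-- An abelian subgroup lies in the centralizer of each of its elements. -/
theorem le_centralizer_singleton_p {H : Subgroup G} (hHab : IsMulCommutative H) {h : G} (hh : h ∈ H) :
    H ≤ Subgroup.centralizer ({h} : Set G) := by
  intro u hu
  rw [Subgroup.mem_centralizer_iff]
  intro y hy
  rw [Set.mem_singleton_iff] at hy
  subst hy
  exact congrArg Subtype.val (hHab.is_comm.comm ⟨y, hh⟩ ⟨u, hu⟩)

/-- The centralizer of a non-central element is a smaller group. -/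
theorem card_centralizer_lt_p {h : G} (hh : h ∉ Subgroup.center G) :
    Nat.card ↥(Subgroup.centralizer ({h} : Set G)) < Nat.card G := by
  have hne : Subgroup.centralizer ({h} : Set G) ≠ ⊤ := by
    intro htop
    apply hh
    rw [Subgroup.mem_center_iff]
    intro g
    have hg : g ∈ Subgroup.centralizer ({h} : Set G) := by rw [htop]; exact Subgroup.mem_top g
    exact (Subgroup.mem_centralizer_iff.1 hg h (Set.mem_singleton h)).symm
  have hle : Nat.card ↥(Subgroup.centralizer ({h} : Set G)) ≤ Nat.card G :=
    Subgroup.card_le_card_group _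
  rcases lt_or_eq_of_le hle with hlt | heq
  · exact hlt
  · exact absurd ((Subgroup.card_eq_iff_eq_top _).1 heq) hne

/-- **IHC-p**: the induction hypothesis of S3016 (II) for the centralizers of the non-identity elements of `H`. -/
theorem ih_centralizer_p {p : ℕ} {H : Subgroup G} (hHp : IsPGroup p H) (hHab : IsMulCommutative H)
    (hcl : IsExtremelyClosed H) (IH : SmallerOKp p G) (hZ : H ⊓ Subgroup.center G = ⊥) :
    ∀ h ∈ H, h ≠ 1 → Subgroup.normalizer
        ((H.subgroupOf (Subgroup.centralizer ({h} : Set G)) :
          Subgroup ↥(Subgroup.centralizer ({h} : Set G))) :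
          Set ↥(Subgroup.centralizer ({h} : Set G))) ⊔
        Cfsg.pPrimeCore p ↥(Subgroup.centralizer ({h} : Set G)) = ⊤ := by
  intro h hh h1
  have hnc : h ∉ Subgroup.center G := by
    intro hc
    have : h ∈ H ⊓ Subgroup.center G := ⟨hh, hc⟩
    rw [hZ, Subgroup.mem_bot] at this
    exact h1 this
  have hHC := le_centralizer_singleton_p hHab hh
  exact IH ↥(Subgroup.centralizer ({h} : Set G)) (card_centralizer_lt_p hnc)
    (H.subgroupOf (Subgroup.centralizer ({h} : Set G))) hHp.comap_subtype
    (Subgroup.subgroupOf_isMulCommutative _ H)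
    (Cfsg.Agent.Lib.H4.SH.sub hHC hcl)

end Cfsg.Agent.Lib.H4.SHP
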