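import Mathlib
import Cfsg.Agent.Lib.H11.AschSDefs
import Cfsg.Agent.Lib.H11.SimMax5

set_option autoImplicit false
set_option maxHeartbeats 800000

/-! # SP2-F3: a self-adjoint field `K` of degree `r` with `f (k v) v = 0` on a symplectic space of dimension `2m`
has `r ∣ m` -/

namespace Cfsg.Agent.Lib.H4.AschSP2

open Cfsg Cfsg.Geo Cfsg.Agent.Lib.Lead.Asch Cfsg.Agent.Lib.H11.AschS
open scoped MatrixGroups Matrix Kronecker

section general

variable {ι : Type} [Fintype ι] [DecidableEq ι] {F : Type*} [Field F] [Fintype F]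
  {f : (ι → F) → (ι → F) → F}

/-- the form as a bundled bilinear form -/
def Bg (hf : IsSymplecticForm f) : LinearMap.BilinForm F (ι → F) :=
  LinearMap.mk₂ F f hf.bilinear.add_left hf.bilinear.smul_left hf.bilinear.add_right
    hf.bilinear.smul_right

theorem Bg_apply (hf : IsSymplecticForm f) (u v : ι → F) : Bg hf u v = f u v := rfl

theorem Bg_nondeg (hf : IsSymplecticForm f) : (Bg hf).Nondegenerate := by
  constructor
  · intro u hu
    by_contra hne
    obtain ⟨x, hx⟩ := (hf.nondegenerate u hne).2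
    exact hx (hu x)
  · intro v hv
    by_contra hne
    obtain ⟨x, hx⟩ := (hf.nondegenerate v hne).1
    exact hx (hv x)

/-- invariance of a subspace under a subalgebra of matrices -/
def KInv (K : Subalgebra F (Matrix ι ι F)) (W : Submodule F (ι → F)) : Prop :=
  ∀ k ∈ K, ∀ w ∈ W, k *ᵥ w ∈ W

/-- an invariant subspace of a field subalgebra of degree `r` has dimension divisible by `r` -/
theorem dvd_finrank_of_KInv [Nonempty ι] (r : ℕ) (K : Subalgebra F (Matrix ι ι F))
    (hK : IsFieldSubalgebra r K) (W : Submodule F (ι → F)) (hW : KInv K W) :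
    r ∣ Module.finrank F W := by
  have hKf : IsField K := by
    refine ⟨⟨0, 1, zero_ne_one⟩, ?_, ?_⟩
    · rintro ⟨x, hx⟩ ⟨y, hy⟩
      exact Subtype.ext (hK.comm x hx y hy)
    · rintro ⟨x, hx⟩ hx0
      have hx0' : x ≠ 0 := fun h => hx0 (Subtype.ext h)
      obtain ⟨y, hy, hxy⟩ := hK.inv x hx hx0'
      exact ⟨⟨y, hy⟩, Subtype.ext hxy⟩
  letI : Field ↥K := hKf.toField
  let φ : ↥K →+* Module.End F W :=
    { toFun := fun k => (Matrix.toLin' k.1).restrict (fun w hw => by
        rw [Matrix.toLin'_apply]; exact hW k.1 k.2 w hw)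
      map_one' := by
        apply LinearMap.ext
        intro w
        apply Subtype.ext
        simp
      map_mul' := fun a b => by
        apply LinearMap.ext
        intro w
        apply Subtype.ext
        simp [Matrix.mulVec_mulVec]
      map_zero' := by
        apply LinearMap.ext
        intro w
        apply Subtype.ext
        simp
      map_add' := fun a b => by
        apply LinearMap.ext
        intro w
        apply Subtype.ext
        simp [Matrix.add_mulVec] }
  letI : Module ↥K W := Module.compHom W φ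
  have hsmul : ∀ (k : ↥K) (w : W), ((k • w : W) : ι → F) = (k : Matrix ι ι F) *ᵥ (w : ι → F) := by
    intro k w
    show ((φ k w : W) : ι → F) = _
    simp [φ]
  have hst : IsScalarTower F ↥K W := ⟨fun c k w => by
    apply Subtype.ext
    rw [hsmul, Submodule.coe_smul, hsmul, Subalgebra.coe_smul, Matrix.smul_mulVec]⟩
  have := @Module.finrank_mul_finrank F ↥K W _ _ _ _ _ _ hst _ _ _ _
  rw [hK.finrank_eq] at this
  exact ⟨_, this.symm⟩

/-- a maximal invariant totally singular subspace is its own orthogonal complement -/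
theorem exists_lagrangian_KInv (hf : IsSymplecticForm f) (K : Subalgebra F (Matrix ι ι F))
    (hsa : IsSelfAdjointFor f K) (halt : ∀ k ∈ K, ∀ v : ι → F, f (k *ᵥ v) v = 0) :
    ∃ M : Submodule F (ι → F), KInv K M ∧ 2 * Module.finrank F M = Fintype.card ι := by
  classical
  let S : Set (Submodule F (ι → F)) := {M | KInv K M ∧ ∀ u ∈ M, ∀ v ∈ M, f u v = 0}
  have hS0 : (⊥ : Submodule F (ι → F)) ∈ S := by
    refine ⟨?_, ?_⟩
    · intro k _ w hw
      rw [(Submodule.mem_bot F).mp hw, Matrix.mulVec_zero]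
      exact Submodule.zero_mem _
    · intro u hu v _
      rw [(Submodule.mem_bot F).mp hu]
      have := hf.bilinear.smul_left 0 0 v
      rwa [zero_smul, zero_mul] at this
  obtain ⟨M, hMS, hmax⟩ := WellFounded.has_min
    (wellFounded_gt : WellFounded ((· > ·) : Submodule F (ι → F) → Submodule F (ι → F) → Prop))
    S ⟨⊥, hS0⟩
  obtain ⟨hMinv, hMts⟩ := hMS
  have hb := hf.bilinear
  have hzl : ∀ v, f 0 v = 0 := fun v => by
    have := hb.smul_left 0 0 v
    rwa [zero_smul, zero_mul] at this
  -- `M^⊥ ≤ M`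
  have hperp : (Bg hf).orthogonal M ≤ M := by
    intro v hv
    have hv' : ∀ w ∈ M, f w v = 0 := fun w hw => hv w hw
    let ψ : ↥K →ₗ[F] (ι → F) :=
      { toFun := fun k => k.1 *ᵥ v
        map_add' := fun a b => Matrix.add_mulVec _ _ _
        map_smul' := fun a b => Matrix.smul_mulVec _ _ _ }
    have hψ : ∀ x, x ∈ LinearMap.range ψ ↔ ∃ k ∈ K, k *ᵥ v = x := by
      intro x
      rw [LinearMap.mem_range]
      constructor
      · rintro ⟨k, rfl⟩
        exact ⟨k.1, k.2, rfl⟩
      · rintro ⟨k, hk, rfl⟩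
        exact ⟨⟨k, hk⟩, rfl⟩
    set N := M ⊔ LinearMap.range ψ with hN
    have hNS : N ∈ S := by
      refine ⟨?_, ?_⟩
      · intro k' hk' x hx
        obtain ⟨w, hw, y, hy, rfl⟩ := Submodule.mem_sup.mp hx
        obtain ⟨k, hk, rfl⟩ := (hψ y).mp hy
        rw [Matrix.mulVec_add]
        refine Submodule.add_mem _ (Submodule.mem_sup_left (hMinv k' hk' w hw))
          (Submodule.mem_sup_right ((hψ _).mpr ⟨k' * k, K.mul_mem hk' hk, ?_⟩))
        rw [Matrix.mulVec_mulVec]
      · intro x hx y hy
        obtain ⟨w, hw, a, ha, rfl⟩ := Submodule.mem_sup.mp hx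
        obtain ⟨k, hk, rfl⟩ := (hψ a).mp ha
        obtain ⟨w', hw', a', ha', rfl⟩ := Submodule.mem_sup.mp hy
        obtain ⟨k', hk', rfl⟩ := (hψ a').mp ha'
        have e1 : f w w' = 0 := hMts w hw w' hw'
        have e2 : f w (k' *ᵥ v) = 0 := by
          rw [← hsa k' hk']
          exact hv' _ (hMinv k' hk' w hw)
        have e3 : f (k *ᵥ v) w' = 0 := by
          rw [hf.skew, ← hsa k hk, hv' _ (hMinv k hk w' hw'), neg_zero]
        have e4 : f (k *ᵥ v) (k' *ᵥ v) = 0 := by
          rw [hsa k hk, hf.skew, Matrix.mulVec_mulVec, halt _ (K.mul_mem hk hk'), neg_zero]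
        rw [hb.add_left, hb.add_right, hb.add_right, e1, e2, e3, e4]
        simp
    have hMN : M ≤ N := le_sup_left
    have hNM : N = M := by
      by_contra hne
      exact hmax N hNS (lt_of_le_of_ne hMN (Ne.symm hne))
    rw [← hNM]
    refine Submodule.mem_sup_right ((hψ v).mpr ⟨1, K.one_mem, Matrix.one_mulVec v⟩)
  have hle : M ≤ (Bg hf).orthogonal M := fun v hv w hw => hMts w hw v hv
  have heq : (Bg hf).orthogonal M = M := le_antisymm hperp hle
  have hfr := LinearMap.BilinForm.finrank_orthogonal (Bg_nondeg hf) M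
  rw [heq, Module.finrank_fintype_fun_eq_card] at hfr
  have hle' : Module.finrank F M ≤ Fintype.card ι := by
    have := Submodule.finrank_le M
    rwa [Module.finrank_fintype_fun_eq_card] at this
  exact ⟨M, hMinv, by omega⟩

end general

section main

variable {F : Type*} [Field F] [Fintype F] {m : ℕ}

/-- **SP2-F3**. -/
theorem dvd_of_selfAdjoint (r : ℕ) (K : Subalgebra F (Matrix (Fin m ⊕ Fin m) (Fin m ⊕ Fin m) F))
    (hK : IsFieldSubalgebra r K) (hsa : IsSelfAdjointFor (sympForm m F) K)
    (halt : ∀ k ∈ K, ∀ v : Fin m ⊕ Fin m → F, sympForm m F (k *ᵥ v) v = 0) : r ∣ m := by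
  rcases Nat.eq_zero_or_pos m with h0 | hpos
  · rw [h0]; exact dvd_zero r
  have : Nonempty (Fin m ⊕ Fin m) := ⟨Sum.inl ⟨0, hpos⟩⟩
  obtain ⟨M, hMinv, hM⟩ := exists_lagrangian_KInv
    (Cfsg.Agent.Lib.H11.SimMax.sympForm_isSymplectic F m) K hsa halt
  have hdvd := dvd_finrank_of_KInv r K hK M hMinv
  have hcard : Fintype.card (Fin m ⊕ Fin m) = 2 * m := by
    rw [Fintype.card_sum, Fintype.card_fin]; ring
  have : Module.finrank F M = m := by omega
  rwa [this] at hdvd

end main

end Cfsg.Agent.Lib.H4.AschSP2
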