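import Mathlib
import Cfsg.Agent.Lib.H7.T648Defs
import Cfsg.Agent.Lib.H7.T648Model
import Cfsg.Agent.Lib.H18.L648Defs

/-!
helper4: S3702 (helper18's farm-out), piece ENUM648: the explicit enumeration `allM` of `M648`.
Exact signatures of tools/blueprints/S3702_h18_sigs.lean.
-/

set_option autoImplicit false

namespace Cfsg.Agent.Lib.H4.L648

open Cfsg Cfsg.Agent.Lib.H7.T648 Cfsg.Agent.Lib.H18 Cfsg.Agent.Lib.H18.L648
open scoped ComplexConjugate

theorem isOne_iff (x : M648) : isOne x = true ↔ x = 1 := by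
  unfold isOne
  simp only [Bool.and_eq_true, decide_eq_true_eq]
  constructor
  · rintro ⟨⟨⟨⟨⟨h0, h1⟩, h2⟩, ha⟩, hb⟩, hp⟩
    apply M648.ext
    · funext i
      fin_cases i
      · exact h0
      · exact h1
      · exact h2
    · exact ha
    · exact hb
    · exact hp
  · rintro rfl
    exact ⟨⟨⟨⟨⟨rfl, rfl⟩, rfl⟩, rfl⟩, rfl⟩, rfl⟩

theorem mem_list3 (z : ZMod 3) : z ∈ ([0, 1, 2] : List (ZMod 3)) := by
  revert z
  decide

theorem mem_P6 (p : Equiv.Perm (Fin 3)) : p ∈ P6 := by
  revert p
  decide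

theorem mem_Kl (a b : ℤˣ) (p : Equiv.Perm (Fin 3)) : (⟨0, a, b, p⟩ : M648) ∈ Kl := by
  unfold Kl
  rw [List.mem_flatMap]
  refine ⟨p, mem_P6 p, ?_⟩
  rcases Int.units_eq_one_or a with rfl | rfl <;> rcases Int.units_eq_one_or b with rfl | rfl <;> simp

/-- every element is in the explicit list -/
theorem mem_allM (x : M648) : x ∈ allM := by
  unfold allM
  rw [List.mem_flatMap]
  refine ⟨x.v 0, mem_list3 _, ?_⟩
  rw [List.mem_flatMap]
  refine ⟨x.v 1, mem_list3 _, ?_⟩
  rw [List.mem_flatMap]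
  refine ⟨x.v 2, mem_list3 _, ?_⟩
  rw [List.mem_map]
  refine ⟨⟨0, x.a, x.b, x.p⟩, mem_Kl _ _ _, ?_⟩
  apply M648.ext
  · funext i
    fin_cases i <;> rfl
  · rfl
  · rfl
  · rfl

theorem allM_length : allM.length = 648 := by
  decide +kernel

theorem allM_nodup : allM.Nodup := by
  classical
  have h1 : allM.toFinset = Finset.univ := by
    ext x
    simp [mem_allM x]
  have h2 : allM.dedup.length = allM.length := by
    rw [← List.card_toFinset, h1, Finset.card_univ, M648.fintype_card_eq, allM_length]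
  have h3 : allM.dedup = allM := (List.dedup_sublist allM).eq_of_length h2
  rw [← h3]
  exact List.nodup_dedup allM

theorem sum_eq_allM {R : Type*} [AddCommMonoid R] (f : M648 → R) :
    ∑ x : M648, f x = (allM.map f).sum := by
  classical
  have h1 : allM.toFinset = Finset.univ := by
    ext x
    simp [mem_allM x]
  rw [← h1, List.sum_toFinset f allM_nodup]

theorem forall_of_allM (p : M648 → Bool) (h : allM.all p = true) (x : M648) : p x = true :=
  List.all_eq_true.mp h x (mem_allM x)

end Cfsg.Agent.Lib.H4.L648
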