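import Mathlib
import Cfsg.Agent.Lib.H7.T27Defs

/-!
helper4: S3701 piece CHAR2 (`inner_Sfun`), with the reusable tools:
`zp x = ζ ^ x.val` is a character of `ZMod 3`, orthogonality on `V`, and the transfer of sums over the
`T`-part of `M3` to sums over `V` through `lg3`.
-/

set_option autoImplicit false

namespace Cfsg.Agent.Lib.H4.T27

open Cfsg Cfsg.Agent.Lib.H7.K4 Cfsg.Agent.Lib.H3.H108 Cfsg.Agent.Lib.H7.T27
open scoped ComplexConjugate

/-! ### the cube root of unity -/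

theorem zeta_primitive : IsPrimitiveRoot ζ 3 := by
  have h := Complex.isPrimitiveRoot_exp 3 (by norm_num)
  have h2 : ζ = Complex.exp (2 * Real.pi * Complex.I / ((3 : ℕ) : ℂ)) := by
    unfold ζ
    norm_num
  rw [h2]
  exact h

theorem zeta_pow_three : ζ ^ 3 = 1 := zeta_primitive.pow_eq_one

theorem zeta_norm : ‖ζ‖ = 1 :=
  Complex.norm_eq_one_of_pow_eq_one zeta_pow_three (by norm_num)

/-- `x ↦ ζ ^ x.val`, a character of `ZMod 3` -/
noncomputable def zp (x : ZMod 3) : ℂ := ζ ^ x.val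

theorem zp_zero : zp 0 = 1 := by
  unfold zp
  rw [ZMod.val_zero, pow_zero]

theorem zp_add (x y : ZMod 3) : zp (x + y) = zp x * zp y := by
  unfold zp
  rw [ZMod.val_add, ← pow_add, ← pow_eq_pow_mod _ zeta_pow_three]

theorem zp_ne_one {x : ZMod 3} (hx : x ≠ 0) : zp x ≠ 1 := by
  unfold zp
  intro h
  have h1 := (zeta_primitive.pow_eq_one_iff_dvd _).1 h
  have h2 : x.val < 3 := ZMod.val_lt x
  have h3 : x.val ≠ 0 := fun h0 => hx ((ZMod.val_eq_zero x).1 h0)
  have h4 := Nat.le_of_dvd (Nat.pos_of_ne_zero h3) h1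
  omega

theorem zp_norm (x : ZMod 3) : ‖zp x‖ = 1 := by
  unfold zp
  rw [norm_pow, zeta_norm, one_pow]

theorem zp_neg (x : ZMod 3) : zp (-x) = conj (zp x) := by
  have h1 : zp (-x) * zp x = 1 := by rw [← zp_add, neg_add_cancel, zp_zero]
  have h2 : conj (zp x) * zp x = 1 := by
    rw [mul_comm, Complex.mul_conj, Complex.normSq_eq_norm_sq, zp_norm]
    norm_num
  have h3 : zp x ≠ 0 := by
    intro h0
    rw [h0, mul_zero] at h1
    exact zero_ne_one h1
  exact mul_right_cancel₀ h3 (h1.trans h2.symm)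

theorem zp_mul_conj (x y : ZMod 3) : zp x * conj (zp y) = zp (x - y) := by
  rw [← zp_neg, ← zp_add, sub_eq_add_neg]

/-! ### orthogonality on `V` -/

theorem dot_add_right (c t t' : V) : dot c (t + t') = dot c t + dot c t' := by
  unfold dot
  simp only [Prod.fst_add, Prod.snd_add]
  ring

theorem dot_sub_left (a b t : V) : dot (a - b) t = dot a t - dot b t := by
  unfold dot
  simp only [Prod.fst_sub, Prod.snd_sub]
  ring

theorem dot_zero_left (t : V) : dot 0 t = 0 := by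
  unfold dot
  simp

theorem exists_dot_ne_zero : ∀ c : V, c ≠ 0 → ∃ t : V, dot c t ≠ 0 := by
  decide

theorem card_V : Fintype.card V = 27 := by
  decide

theorem sum_zp_dot (c : V) : ∑ t : V, zp (dot c t) = if c = 0 then 27 else 0 := by
  split_ifs with hc
  · subst hc
    simp only [dot_zero_left, zp_zero, Finset.sum_const, Finset.card_univ, card_V]
    norm_num
  · obtain ⟨t0, ht0⟩ := exists_dot_ne_zero c hc
    have h1 : ∑ t : V, zp (dot c t) = zp (dot c t0) * ∑ t : V, zp (dot c t) := by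
      rw [Finset.mul_sum]
      rw [← Equiv.sum_comp (Equiv.addRight t0) (fun t => zp (dot c t))]
      refine Finset.sum_congr rfl fun t _ => ?_
      rw [Equiv.coe_addRight, dot_add_right, zp_add, mul_comm]
    have h2 : (1 - zp (dot c t0)) * ∑ t : V, zp (dot c t) = 0 := by
      rw [sub_mul, one_mul, ← h1, sub_self]
    rcases mul_eq_zero.1 h2 with h3 | h3
    · exact absurd (sub_eq_zero.1 h3).symm (zp_ne_one ht0)
    · exact h3

theorem sum_zp_dot_conj (a b : V) :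
    ∑ t : V, zp (dot a t) * conj (zp (dot b t)) = if a = b then 27 else 0 := by
  have h1 : ∀ t : V, zp (dot a t) * conj (zp (dot b t)) = zp (dot (a - b) t) := by
    intro t
    rw [zp_mul_conj, dot_sub_left]
  rw [Finset.sum_congr rfl (fun t _ => h1 t), sum_zp_dot]
  simp only [sub_eq_zero]

/-! ### sums over the `T`-part of `M3` -/

/-- the inverse of `lg` -/
def ex (x : ZMod 3) : S3 := if x = 0 then 1 else if x = 1 then c3 else c3⁻¹

/-- the inverse of `lg3` -/
def ex3 (t : V) : S333 := (ex t.1, ex t.2.1, ex t.2.2)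

theorem ex_lg : ∀ a : S3, a ^ 3 = 1 → ex (lg a) = a := by decide

theorem lg_ex : ∀ x : ZMod 3, lg (ex x) = x := by decide

theorem ex_pow : ∀ x : ZMod 3, ex x ^ 3 = 1 := by decide

theorem sign_ex : ∀ x : ZMod 3, Equiv.Perm.sign (ex x) = 1 := by decide

theorem ex3_lg3 (s : S333) (hs : s ^ 3 = 1) : ex3 (lg3 s) = s := by
  have h1 : s.1 ^ 3 = 1 := congrArg Prod.fst hs
  have h2 : s.2.1 ^ 3 = 1 := congrArg (fun x => x.2.1) hs
  have h3 : s.2.2 ^ 3 = 1 := congrArg (fun x => x.2.2) hs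
  unfold ex3 lg3
  exact Prod.ext (ex_lg _ h1) (Prod.ext (ex_lg _ h2) (ex_lg _ h3))

theorem lg3_ex3 (t : V) : lg3 (ex3 t) = t := by
  unfold ex3 lg3
  exact Prod.ext (lg_ex _) (Prod.ext (lg_ex _) (lg_ex _))

theorem ex3_pow (t : V) : ex3 t ^ 3 = 1 := by
  unfold ex3
  exact Prod.ext (ex_pow _) (Prod.ext (ex_pow _) (ex_pow _))

theorem ex3_mem (t : V) : ex3 t ∈ M3 := by
  rw [mem_M3, sgn3_apply]
  unfold ex3
  simp only [sign_ex, mul_one]

/-- sums over the elements of order dividing three of `M3` are sums over `V` -/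
theorem sum_M3_eq_sum_V {R : Type*} [AddCommMonoid R] (f : V → R) :
    (∑ s : ↥M3, if (s : S333) ^ 3 = 1 then f (lg3 (s : S333)) else 0) = ∑ t : V, f t := by
  rw [← Finset.sum_filter]
  refine Finset.sum_bij' (fun s _ => lg3 (s : S333)) (fun t _ => (⟨ex3 t, ex3_mem t⟩ : ↥M3))
    ?_ ?_ ?_ ?_ ?_
  · intro s _
    exact Finset.mem_univ _
  · intro t _
    rw [Finset.mem_filter]
    exact ⟨Finset.mem_univ _, ex3_pow t⟩
  · intro s hs
    rw [Finset.mem_filter] at hs
    exact Subtype.ext (ex3_lg3 _ hs.2)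
  · intro t _
    exact lg3_ex3 t
  · intro s _
    rfl

/-! ### CHAR2 -/

theorem Sfun_eq (a : V) (s : ↥M3) :
    Sfun a s = if (s : S333) ^ 3 = 1 then ∑ κ ∈ Ksgn, zp (dot (act κ a) (lg3 (s : S333))) else 0 := rfl

theorem count_pairs : ∀ a b : V,
    (∑ κ ∈ Ksgn, ∑ κ' ∈ Ksgn, if act κ a = act κ' b then 27 else 0 : ℕ) = 108 * nn a b := by
  decide

theorem inner_Sfun (a b : V) : classInner (Sfun a) (Sfun b) = (nn a b : ℂ) := by
  unfold classInner
  rw [card_M3]
  have h1 : ∀ s : ↥M3, Sfun a s * conj (Sfun b s) =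
      if (s : S333) ^ 3 = 1 then
        (fun t : V => (∑ κ ∈ Ksgn, zp (dot (act κ a) t)) *
          conj (∑ κ' ∈ Ksgn, zp (dot (act κ' b) t))) (lg3 (s : S333)) else 0 := by
    intro s
    rw [Sfun_eq, Sfun_eq]
    split_ifs with hs
    · rfl
    · rw [zero_mul]
  rw [Finset.sum_congr rfl (fun s _ => h1 s),
    sum_M3_eq_sum_V (fun t : V => (∑ κ ∈ Ksgn, zp (dot (act κ a) t)) *
          conj (∑ κ' ∈ Ksgn, zp (dot (act κ' b) t)))]
  have h2 : ∀ t : V, (∑ κ ∈ Ksgn, zp (dot (act κ a) t)) * conj (∑ κ' ∈ Ksgn, zp (dot (act κ' b) t)) =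
      ∑ κ ∈ Ksgn, ∑ κ' ∈ Ksgn, zp (dot (act κ a) t) * conj (zp (dot (act κ' b) t)) := by
    intro t
    rw [map_sum, Finset.sum_mul_sum]
  rw [Finset.sum_congr rfl (fun t _ => h2 t), Finset.sum_comm]
  have h3 : ∀ κ ∈ Ksgn, ∑ t : V, ∑ κ' ∈ Ksgn, zp (dot (act κ a) t) * conj (zp (dot (act κ' b) t)) =
      ∑ κ' ∈ Ksgn, if act κ a = act κ' b then (27 : ℂ) else 0 := by
    intro κ _
    rw [Finset.sum_comm]
    refine Finset.sum_congr rfl fun κ' _ => ?_
    exact sum_zp_dot_conj _ _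
  rw [Finset.sum_congr rfl h3]
  have h4 := count_pairs a b
  have h5 : (∑ κ ∈ Ksgn, ∑ κ' ∈ Ksgn, if act κ a = act κ' b then (27 : ℂ) else 0) =
      ((∑ κ ∈ Ksgn, ∑ κ' ∈ Ksgn, if act κ a = act κ' b then 27 else 0 : ℕ) : ℂ) := by
    push_cast
    rfl
  rw [h5, h4]
  push_cast
  ring

end Cfsg.Agent.Lib.H4.T27
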