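import Mathlib
import Cfsg.Agent.Lib.H7.T27Defs
import Cfsg.Agent.Lib.H4.T27CHAR2

/-!
helper4: S3701 piece CHAR5 (`inner_Sfun_one`): the multiplicity of the trivial character in `S_a`.
-/

set_option autoImplicit false

namespace Cfsg.Agent.Lib.H4.T27

open Cfsg Cfsg.Agent.Lib.H7.K4 Cfsg.Agent.Lib.H3.H108 Cfsg.Agent.Lib.H7.T27
open scoped ComplexConjugate

theorem count_zero : ∀ a : V,
    (∑ κ ∈ Ksgn, if act κ a = 0 then 27 else 0 : ℕ) = if a = 0 then 108 else 0 := by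
  decide

theorem inner_Sfun_one (a : V) :
    classInner (Sfun a) (1 : ↥M3 → ℂ) = if a = 0 then 1 else 0 := by
  unfold classInner
  rw [card_M3]
  have h1 : ∀ s : ↥M3, Sfun a s * conj ((1 : ↥M3 → ℂ) s) =
      if (s : S333) ^ 3 = 1 then
        (fun t : V => ∑ κ ∈ Ksgn, zp (dot (act κ a) t)) (lg3 (s : S333)) else 0 := by
    intro s
    rw [Sfun_eq, Pi.one_apply, map_one, mul_one]
  rw [Finset.sum_congr rfl (fun s _ => h1 s),
    sum_M3_eq_sum_V (fun t : V => ∑ κ ∈ Ksgn, zp (dot (act κ a) t)), Finset.sum_comm]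
  have h3 : ∀ κ ∈ Ksgn, ∑ t : V, zp (dot (act κ a) t) = if act κ a = 0 then (27 : ℂ) else 0 := by
    intro κ _
    exact sum_zp_dot _
  rw [Finset.sum_congr rfl h3]
  have h4 := count_zero a
  have h5 : (∑ κ ∈ Ksgn, if act κ a = 0 then (27 : ℂ) else 0) =
      ((∑ κ ∈ Ksgn, if act κ a = 0 then 27 else 0 : ℕ) : ℂ) := by
    push_cast
    rfl
  rw [h5, h4]
  split_ifs
  · push_cast
    norm_num
  · push_cast
    norm_num

end Cfsg.Agent.Lib.H4.T27
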