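import Cfsg.Agent.Lib.H15.LSDefs
import Cfsg.Agent.Lib.H4.RepChar

set_option autoImplicit false

/-!
# LS-M (S2334): the Heisenberg-type multiplicity bound `|I| ≤ d²`
-/

namespace Cfsg.Agent.Lib.H4.LS

open Matrix Cfsg.Agent.Lib.H15.LS Cfsg.Agent.Lib.H4

variable {G : Type*} [Group G] {S : Type*} [AddCommGroup S] [Fintype S]
  {V : Type*} [AddCommGroup V] [Module ℂ V] [FiniteDimensional ℂ V]

theorem card_le_rank_sq {ι : Type*} [Fintype ι]
    (ρ : G →* Module.End ℂ V) (t : S → G) (ht : ∀ X X', t (X + X') = t X * t X') (ψ : AddChar S ℂ)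
    (u : ι → G) (hu : ∀ i X, u i * t X = t X * u i)
    (huv : ∀ i j, i ≠ j → ∃ (v : G) (s : S), (∀ X, v * t X = t X * v) ∧
      v * ((u j)⁻¹ * u i) * v⁻¹ = (u j)⁻¹ * u i * t s ∧ ψ s ≠ 1)
    (hd : Module.finrank ℂ (LinearMap.range (projC ρ t ψ)) ≠ 0) :
    Fintype.card ι ≤ Module.finrank ℂ (LinearMap.range (projC ρ t ψ)) *
      Module.finrank ℂ (LinearMap.range (projC ρ t ψ)) := by
  have hp : RepChar.proj ρ t ψ ≠ 0 := by
    intro h0
    apply hd
    show Module.finrank ℂ (LinearMap.range (RepChar.proj ρ t ψ)) = 0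
    rw [h0, LinearMap.range_zero]
    exact finrank_bot ℂ V
  have h := RepChar.card_le_sq ρ t ht ψ u hu huv hp
  rw [sq] at h
  exact h

end Cfsg.Agent.Lib.H4.LS
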