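import Mathlib
import Cfsg.Agent.Lib.H5.Ord.O4032a
import Cfsg.Agent.Lib.H5.Ord.SylPrime2
import Cfsg.Agent.Lib.H5.SimpleTools

set_option autoImplicit false
set_option linter.unusedSectionVars false
set_option maxHeartbeats 1000000

/-! # S0976 / T6a: `n_7 = 64` forces `4 ∣ |N_G(S)|` for a Sylow 3-subgroup `S` -/

namespace Cfsg.Agent.Lib.H5.O4032

open Subgroup MulAction Cfsg.Agent.Lib.H5 Cfsg.Agent.Lib.H5.SylPrime

variable {G : Type*} [Group G] [Finite G] [IsSimpleGroup G]

/-- **T6a** `n_7 = 64`: the normalizer of a Sylow 3-subgroup has order divisible by 4. -/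
theorem caseC_four_dvd (hG : Nat.card G = 4032) [Fact (Nat.Prime 7)] [Fact (Nat.Prime 3)]
    (hn : Nat.card (Sylow 7 G) = 64) (S : Sylow 3 G) :
    4 ∣ Nat.card (normalizer ((S : Subgroup G) : Set G)) := by
  classical
  set N := normalizer ((S : Subgroup G) : Set G) with hNdef
  have hS9 : Nat.card (S : Subgroup G) = 9 := by
    have := (sylow_card_and_index S (k := 2) (m := 448) (by rw [hG]; norm_num) (by norm_num)).1
    simpa using this
  have hmul : Nat.card N * Nat.card (Sylow 3 G) = 4032 := by
    rw [hNdef, card_normalizer_mul_card_sylow, hG]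
  have hmod : Nat.card (Sylow 3 G) % 3 = 1 := by
    have := card_sylow_modEq_one 3 G
    rw [Nat.ModEq] at this
    simpa using this
  have hSN : (S : Subgroup G) ≤ N := le_normalizer
  have h9 : 9 ∣ Nat.card N := hS9 ▸ Subgroup.card_dvd_of_le hSN
  obtain ⟨k, hk⟩ := h9
  by_contra h4
  set n3 := Nat.card (Sylow 3 G) with hn3
  have hkn : k * n3 = 448 := by
    rw [hk] at hmul
    have : 9 * (k * n3) = 9 * 448 := by rw [← mul_assoc, hmul]
    exact Nat.eq_of_mul_eq_mul_left (by norm_num) this
  have hk4 : ¬ 4 ∣ 9 * k := by rw [← hk]; exact h4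
  have hkle : k ≤ 448 := by
    have hpos : 0 < n3 := by
      rcases Nat.eq_zero_or_pos n3 with h | h
      · rw [h, mul_zero] at hkn; omega
      · exact h
    calc k = k * 1 := (mul_one k).symm
      _ ≤ k * n3 := Nat.mul_le_mul_left k hpos
      _ = 448 := hkn
  have hk17 : k = 1 ∨ k = 7 := by
    interval_cases k <;> omega
  rcases hk17 with rfl | rfl
  · -- `N = S ≤ C(S)`
    have hNS : N = (S : Subgroup G) := by
      symm
      apply Subgroup.eq_of_le_of_card_ge hSN
      rw [hk, hS9]
    have hcommS : ∀ a b : (S : Subgroup G), a * b = b * a := by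
      have := IsPGroup.isMulCommutative_of_card_eq_prime_sq (p := 3) (G := (S : Subgroup G))
        (by rw [hS9]; norm_num)
      exact this.is_comm.comm
    apply not_normalizer_le_centralizer_of_simple (G := G) (p := 3) (by rw [hG]; norm_num) ?_ S
    · intro g hg
      change g ∈ N at hg
      rw [hNS] at hg
      change g ∈ centralizer ((S : Subgroup G) : Set G)
      rw [mem_centralizer_iff]
      intro s hs
      have := hcommS ⟨s, hs⟩ ⟨g, hg⟩
      exact congrArg Subtype.val this
    · intro hp
      obtain ⟨j, hj⟩ := IsPGroup.iff_card.mp hp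
      rw [hG] at hj
      have h2 : 2 ∣ 3 ^ j := by rw [← hj]; norm_num
      have := (Nat.Prime.dvd_of_dvd_pow Nat.prime_two h2)
      omega
  · -- `|N| = 63`
    have hN63 : Nat.card N = 63 := by rw [hk]
    obtain ⟨x', hx'⟩ := exists_prime_orderOf_dvd_card' (G := N) 7 (by rw [hN63]; norm_num)
    set x : G := (x' : G) with hx
    have hx7 : orderOf x = 7 := by rw [hx, Subgroup.orderOf_coe, hx']
    have hxN : x ∈ N := x'.2
    -- a Sylow 7-subgroup containing `x`
    have hpg : IsPGroup 7 (zpowers x) := by
      apply IsPGroup.of_card (n := 1)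
      rw [pow_one, Nat.card_zpowers, hx7]
    obtain ⟨P', hP'⟩ := hpg.exists_le_sylow
    obtain ⟨hP7, -, hcases⟩ := cases hG P'
    have hC21 : Nat.card (centralizer ((P' : Subgroup G) : Set G)) = 21 := by
      rcases hcases with h | h | h
      · omega
      · exact h.2.2
      · omega
    have hPx : zpowers x = (P' : Subgroup G) := by
      apply Subgroup.eq_of_le_of_card_ge hP'
      rw [hP7, Nat.card_zpowers, hx7]
    -- the set of elements of `S` moved by `x`
    set T : Set G := {s | s ∈ (S : Subgroup G) ∧ x * s * x⁻¹ ≠ s} with hT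
    set C : Subgroup G := (S : Subgroup G) ⊓ centralizer ({x} : Set G) with hC
    have hCmem : ∀ s, s ∈ C ↔ s ∈ (S : Subgroup G) ∧ x * s * x⁻¹ = s := by
      intro s
      rw [hC, Subgroup.mem_inf, mem_centralizer_iff]
      apply and_congr Iff.rfl
      constructor
      · intro h
        have := h x (Set.mem_singleton x)
        rw [this]; group
      · intro h y hy
        rw [Set.mem_singleton_iff] at hy
        rw [hy]
        calc x * s = (x * s * x⁻¹) * x := by group
          _ = s * x := by rw [h]
    have hunion : ((S : Subgroup G) : Set G) = (C : Set G) ∪ T := by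
      ext s
      simp only [Set.mem_union, SetLike.mem_coe, hT, Set.mem_ofPred_eq]
      rw [hCmem]
      constructor
      · intro hs
        by_cases h : x * s * x⁻¹ = s
        · exact Or.inl ⟨hs, h⟩
        · exact Or.inr ⟨hs, h⟩
      · rintro (h | h) <;> exact h.1
    have hdisj : Disjoint (C : Set G) T := by
      rw [Set.disjoint_left]
      intro s hs hsT
      exact hsT.2 ((hCmem s).mp hs).2
    have hcardsum : (C : Set G).ncard + T.ncard = 9 := by
      rw [← Set.ncard_union_eq hdisj (Set.toFinite _) (Set.toFinite _), ← hunion,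
        ← Nat.card_coe_set_eq]
      exact hS9
    have hCdvd : Nat.card C ∣ 9 := hS9 ▸ Subgroup.card_dvd_of_le inf_le_left
    have hCn : (C : Set G).ncard = Nat.card C := by rw [← Nat.card_coe_set_eq]; rfl
    -- `7 ∣ |T|`
    have hTinv : ∀ q ∈ zpowers x, ∀ z ∈ T, q * z * q⁻¹ ∈ T := by
      intro q hq z hz
      have hqN : q ∈ N := by
        have : zpowers x ≤ N := (zpowers_le).mpr hxN
        exact this hq
      have hqx : q * x = x * q := by
        obtain ⟨i, rfl⟩ := mem_zpowers_iff.mp hq
        exact ((Commute.refl x).zpow_left i).eq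
      refine ⟨?_, ?_⟩
      · exact (mem_normalizer_iff.mp hqN z).mp hz.1
      · intro heq
        apply hz.2
        have h1 : x * (q * z * q⁻¹) * x⁻¹ = q * (x * z * x⁻¹) * q⁻¹ := by
          have hqx' : x * q = q * x := hqx.symm
          have hqix : q⁻¹ * x⁻¹ = x⁻¹ * q⁻¹ := by
            rw [← mul_inv_rev, ← mul_inv_rev, hqx]
          calc x * (q * z * q⁻¹) * x⁻¹ = (x * q) * z * (q⁻¹ * x⁻¹) := by group
            _ = (q * x) * z * (x⁻¹ * q⁻¹) := by rw [hqx', hqix]
            _ = q * (x * z * x⁻¹) * q⁻¹ := by group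
        rw [h1] at heq
        have h2 : q⁻¹ * (q * (x * z * x⁻¹) * q⁻¹) * q = q⁻¹ * (q * z * q⁻¹) * q := by rw [heq]
        have e1 : q⁻¹ * (q * (x * z * x⁻¹) * q⁻¹) * q = x * z * x⁻¹ := by group
        have e2 : q⁻¹ * (q * z * q⁻¹) * q = z := by group
        rw [e1, e2] at h2
        exact h2
    have hTfree : ∀ z ∈ T, ∃ q ∈ zpowers x, q * z * q⁻¹ ≠ z :=
      fun z hz => ⟨x, mem_zpowers x, hz.2⟩
    have : Finite T := Set.toFinite T |>.to_subtype
    have h7T := dvd_card_of_conj_free (p := 7) (zpowers x) hpg T hTinv hTfree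
    rw [Nat.card_coe_set_eq] at h7T
    -- hence `T` is empty
    have hT0 : T.ncard = 0 := by
      obtain ⟨c, hc⟩ := h7T
      rw [hCn] at hcardsum
      have hCle : Nat.card C ≤ 9 := Nat.le_of_dvd (by norm_num) hCdvd
      have hC39 : Nat.card C = 1 ∨ Nat.card C = 3 ∨ Nat.card C = 9 := by
        have : Nat.card C ∈ Nat.divisors 9 := Nat.mem_divisors.mpr ⟨hCdvd, by norm_num⟩
        have hd : Nat.divisors 9 = {1, 3, 9} := by decide
        rw [hd] at this
        simpa using this
      omega
    have hSC : (S : Subgroup G) ≤ centralizer ((P' : Subgroup G) : Set G) := by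
      intro s hs
      rw [mem_centralizer_iff]
      intro y hy
      have hy' : y ∈ zpowers x := by rw [hPx]; exact hy
      obtain ⟨i, rfl⟩ := mem_zpowers_iff.mp hy'
      have hsx : x * s * x⁻¹ = s := by
        by_contra hne
        have : s ∈ T := ⟨hs, hne⟩
        have hTempty : T = ∅ := (Set.ncard_eq_zero (Set.toFinite T)).mp hT0
        rw [hTempty] at this
        exact this
      have hcomm : Commute x s := by
        show x * s = s * x
        calc x * s = (x * s * x⁻¹) * x := by group
          _ = s * x := by rw [hsx]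
      exact (hcomm.zpow_left i).eq
    have := Subgroup.card_dvd_of_le hSC
    rw [hS9, hC21] at this
    omega

end Cfsg.Agent.Lib.H5.O4032
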