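import Mathlib
import Cfsg.Agent.Lib.H5.Ord.BrVal1
import Cfsg.Agent.Lib.H23.ClassProduct

set_option autoImplicit false
set_option linter.unusedSectionVars false
set_option maxHeartbeats 400000

/-! # S0976 / T9: the class-algebra identity weighted by `α_ζ = π - ζ` -/

namespace Cfsg.Agent.Lib.H5.BrVal

open Cfsg Cfsg.Agent.Lib.L0 Cfsg.Agent.Lib.L0.FrobTI Cfsg.Agent.Lib.H8 Cfsg.Agent.Lib.H4.Feit
  Cfsg.Agent.Lib.H24.BrP
open scoped ComplexConjugate Classical

section
variable {G : Type*} [Group G] [Fintype G] {K : Subgroup G} [Fintype (nz K)]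

/-- **T9** the class-algebra identity weighted by `α_ζ = π - ζ`. -/
theorem class_eq (h : FrobTI K) (hab : ∀ a ∈ K, ∀ b ∈ K, a * b = b * a) (D : Exc K) (ζ : RelT K)
    [Fintype (IrrCharacter G)] (s : G) (M : ℂ)
    (hM : ∀ k ∈ K, k ≠ 1 →
      (∑ a : G, ∑ b : G, if (a * s * a⁻¹) * (b * s * b⁻¹) = k then (1 : ℂ) else 0) = M) :
    M = (Nat.card G : ℂ) * ∑ χ : IrrCharacter G,
      classInner (D.Phi ζ) (χ : G → ℂ) * ((χ : G → ℂ) s) ^ 2 / (χ : G → ℂ) 1 := by
  have hN0 : (Nat.card (nz K) : ℂ) ≠ 0 := by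
    exact_mod_cast (Nat.card_pos (α := nz K)).ne'
  -- the function `L`
  set L : G → ℂ := fun u =>
    ∑ a : G, ∑ b : G, if (a * s * a⁻¹) * (b * s * b⁻¹) = u then (1 : ℂ) else 0 with hL
  have hLform : ∀ u : G, L u = (Nat.card G : ℂ) * ∑ χ : IrrCharacter G,
      (χ : G → ℂ) s * (χ : G → ℂ) s * (χ : G → ℂ) u⁻¹ / (χ : G → ℂ) 1 := by
    intro u
    exact Cfsg.Agent.Lib.H23.sum_sum_ite_conj_mul_eq s s u
  -- first evaluation
  have h1 : ∑ n : nz K, alphaFun ζ n * L (n : G) = M * (Nat.card (nz K) : ℂ) := by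
    have hterm : ∀ n : nz K, alphaFun ζ n * L (n : G) = M * alphaFun ζ n := by
      intro n
      by_cases hnK : (n : G) ∈ K
      · by_cases hn1 : n = 1
        · rw [hn1, alphaFun_one h hab ζ, zero_mul, mul_zero]
        · have hn1' : (n : G) ≠ 1 := fun hh => hn1 (Subtype.ext hh)
          have : L (n : G) = M := hM (n : G) hnK hn1'
          rw [this, mul_comm]
      · rw [alphaFun_vanish h ζ n hnK, zero_mul, mul_zero]
    rw [Finset.sum_congr rfl (fun n _ => hterm n), ← Finset.mul_sum]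
    have hinner := alphaFun_inner_one (K := K) ζ
    unfold classInner at hinner
    have hsum : ∑ n : nz K, alphaFun ζ n = (Nat.card (nz K) : ℂ) := by
      have h2 : ∑ g : nz K, alphaFun ζ g * conj ((1 : nz K → ℂ) g) = ∑ n : nz K, alphaFun ζ n := by
        refine Finset.sum_congr rfl fun g _ => ?_
        simp
      rw [h2] at hinner
      field_simp at hinner
      exact hinner
    rw [hsum]
  -- second evaluation
  have h2 : ∑ n : nz K, alphaFun ζ n * L (n : G) =
      (Nat.card (nz K) : ℂ) * ((Nat.card G : ℂ) * ∑ χ : IrrCharacter G,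
        classInner (D.Phi ζ) (χ : G → ℂ) * ((χ : G → ℂ) s) ^ 2 / (χ : G → ℂ) 1) := by
    have hΦ : ∀ χ : IrrCharacter G, classInner (D.Phi ζ) (χ : G → ℂ) =
        (Nat.card (nz K) : ℂ)⁻¹ * ∑ n : nz K, alphaFun ζ n * (χ : G → ℂ) ((n : G)⁻¹) := by
      intro χ
      unfold Exc.Phi
      rw [Cfsg.Agent.Lib.L0.frobenius_reciprocity _ _ _
        (isClassFunction_of_isCharacter (isCharacter_of_irr χ.2))]
      unfold classInner
      congr 1
      refine Finset.sum_congr rfl fun n _ => ?_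
      rw [Cfsg.Agent.Lib.H24.irr_inv]
    calc ∑ n : nz K, alphaFun ζ n * L (n : G)
        = ∑ n : nz K, ∑ χ : IrrCharacter G, (Nat.card G : ℂ) *
            ((alphaFun ζ n * (χ : G → ℂ) ((n : G)⁻¹)) *
              (((χ : G → ℂ) s) ^ 2 / (χ : G → ℂ) 1)) := by
          refine Finset.sum_congr rfl fun n _ => ?_
          rw [hLform, Finset.mul_sum, Finset.mul_sum]
          refine Finset.sum_congr rfl fun χ _ => ?_
          ring
      _ = ∑ χ : IrrCharacter G, (Nat.card G : ℂ) *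
            ((∑ n : nz K, alphaFun ζ n * (χ : G → ℂ) ((n : G)⁻¹)) *
              (((χ : G → ℂ) s) ^ 2 / (χ : G → ℂ) 1)) := by
          rw [Finset.sum_comm]
          refine Finset.sum_congr rfl fun χ _ => ?_
          rw [← Finset.mul_sum, ← Finset.sum_mul]
      _ = _ := by
          rw [Finset.mul_sum, Finset.mul_sum]
          refine Finset.sum_congr rfl fun χ _ => ?_
          rw [hΦ χ]
          field_simp
  have h3 := h1.symm.trans h2
  have h4 : (Nat.card (nz K) : ℂ) * M = (Nat.card (nz K) : ℂ) * ((Nat.card G : ℂ) *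
      ∑ χ : IrrCharacter G,
        classInner (D.Phi ζ) (χ : G → ℂ) * ((χ : G → ℂ) s) ^ 2 / (χ : G → ℂ) 1) := by
    rw [← h3, mul_comm]
  exact mul_left_cancel₀ hN0 h4

end

end Cfsg.Agent.Lib.H5.BrVal
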