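import Mathlib
import Cfsg.Prelude.Def_PLocal
import Cfsg.Agent.Lib.H1.PCore
import Cfsg.Agent.Lib.H1.PGroupBasic
import Cfsg.Agent.Lib.H4.ZJ
import Cfsg.Agent.Lib.H4.ZJInst

/-!
# Action-`p`-stability from `p`-stability on normal elementary abelian subgroups

For a class `𝒦` of finite groups closed under subgroups and quotients in which every
normal elementary abelian `p`-subgroup carries a `p`-stable action, every member of `𝒦`
is action-`p`-stable.
-/

set_option autoImplicit false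

namespace Cfsg.Agent.Lib.H4.ActionStable

open Cfsg.Agent.Lib
open scoped commutatorElement

universe u

variable {p : ℕ} [Fact p.Prime]

/-- `O_p(G)/Φ(O_p(G))` is elementary abelian. -/
theorem elemAb_map_mk (G : Type u) [Group G] [Finite G]
    [hN : ((frattini ↥(Cfsg.pCore p G)).map (Cfsg.pCore p G).subtype).Normal] :
    Cfsg.IsElementaryAbelian p ((Cfsg.pCore p G).map
      (QuotientGroup.mk' ((frattini ↥(Cfsg.pCore p G)).map (Cfsg.pCore p G).subtype))) := by
  have hBp : IsPGroup p ↥(Cfsg.pCore p G) := H1.pCore_isPGroup p G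
  constructor
  · rw [H4.ZJ.isMulCommutative_iff]
    rintro _ ⟨x, hx, rfl⟩ _ ⟨y, hy, rfl⟩
    have h1 : ⁅(⟨x, hx⟩ : ↥(Cfsg.pCore p G)), ⟨y, hy⟩⁆ ∈ frattini ↥(Cfsg.pCore p G) :=
      H1.isPGroup_commutator_le_frattini hBp
        (Subgroup.commutator_mem_commutator (Subgroup.mem_top _) (Subgroup.mem_top _))
    have h2 : ⁅x, y⁆ ∈ (frattini ↥(Cfsg.pCore p G)).map (Cfsg.pCore p G).subtype :=
      ⟨_, h1, rfl⟩
    have h3 := (QuotientGroup.eq_one_iff (N := (frattini ↥(Cfsg.pCore p G)).map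
      (Cfsg.pCore p G).subtype) _).2 h2
    have h4 : ((⁅x, y⁆ : G) : G ⧸ (frattini ↥(Cfsg.pCore p G)).map (Cfsg.pCore p G).subtype) =
        ⁅(QuotientGroup.mk' ((frattini ↥(Cfsg.pCore p G)).map (Cfsg.pCore p G).subtype) x),
          (QuotientGroup.mk' ((frattini ↥(Cfsg.pCore p G)).map (Cfsg.pCore p G).subtype) y)⁆ := by
      rw [← map_commutatorElement]; rfl
    rw [h4] at h3
    exact commutatorElement_eq_one_iff_mul_comm.1 h3
  · rintro _ ⟨x, hx, rfl⟩
    have h1 : (⟨x, hx⟩ : ↥(Cfsg.pCore p G)) ^ p ∈ frattini ↥(Cfsg.pCore p G) :=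
      H1.isPGroup_pow_mem_frattini hBp _
    have h2 : x ^ p ∈ (frattini ↥(Cfsg.pCore p G)).map (Cfsg.pCore p G).subtype :=
      ⟨_, h1, rfl⟩
    rw [← map_pow]
    exact (QuotientGroup.eq_one_iff _).2 h2

/-- Pulling back `O_p` of a quotient. -/
theorem exists_D_comap {G Γ : Type u} [Group G] [Group Γ] [Finite Γ] (π : G →* Γ)
    (hπ : Function.Surjective π) (C : Subgroup Γ) [C.Normal] (a : G)
    (h1 : ((π a : Γ) : Γ ⧸ C) ∈ Cfsg.pCore p (Γ ⧸ C)) :
    ∃ D : Subgroup G, D.Normal ∧ C.comap π ≤ D ∧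
      (∃ k : ℕ, (C.comap π).relIndex D = p ^ k) ∧ a ∈ D := by
  obtain ⟨O, hOdef⟩ : ∃ O : Subgroup (Γ ⧸ C), O = Cfsg.pCore p _ := ⟨_, rfl⟩
  have hOn : O.Normal := by rw [hOdef]; exact H1.pCore_normal p _
  have hOp : IsPGroup p ↥O := by rw [hOdef]; exact H1.pCore_isPGroup p _
  rw [← hOdef] at h1
  refine ⟨(O.comap (QuotientGroup.mk' C)).comap π, ?_, ?_, ?_, h1⟩
  · exact Subgroup.Normal.comap (Subgroup.Normal.comap hOn _) _
  · apply Subgroup.comap_mono
    intro x hx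
    rw [Subgroup.mem_comap]
    have : QuotientGroup.mk' C x = 1 := (QuotientGroup.eq_one_iff _).2 hx
    rw [this]
    exact O.one_mem
  · obtain ⟨k, hk⟩ := IsPGroup.iff_card.1 hOp
    refine ⟨k, ?_⟩
    rw [Subgroup.relIndex_comap, Subgroup.map_comap_eq_self_of_surjective hπ]
    have hC' : ((⊥ : Subgroup (Γ ⧸ C)).comap (QuotientGroup.mk' C)) = C := by
      rw [MonoidHom.comap_bot, QuotientGroup.ker_mk']
    have h2 := Subgroup.relIndex_comap (⊥ : Subgroup (Γ ⧸ C)) (QuotientGroup.mk' C)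
      (O.comap (QuotientGroup.mk' C))
    rw [hC', Subgroup.map_comap_eq_self_of_surjective
      (QuotientGroup.mk'_surjective _), Subgroup.relIndex_bot_left, hk] at h2
    exact h2

/-- Clause 2 from `p`-stability on the elementary abelian quotient. -/
theorem section_of_stable (G : Type u) [Group G] [Finite G]
    [hN : ((frattini ↥(Cfsg.pCore p G)).map (Cfsg.pCore p G).subtype).Normal]
    [hVn : ((Cfsg.pCore p G).map
      (QuotientGroup.mk' ((frattini ↥(Cfsg.pCore p G)).map (Cfsg.pCore p G).subtype))).Normal]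
    (hst : Cfsg.IsPStableOn p ((Cfsg.pCore p G).map
      (QuotientGroup.mk' ((frattini ↥(Cfsg.pCore p G)).map (Cfsg.pCore p G).subtype)))) :
    Cfsg.IsPStableOnSection p (Cfsg.pCore p G)
      ((frattini ↥(Cfsg.pCore p G)).map (Cfsg.pCore p G).subtype) := by
  intro a ha
  obtain ⟨N, hNdef⟩ : ∃ N : Subgroup G,
    N = (frattini ↥(Cfsg.pCore p G)).map (Cfsg.pCore p G).subtype := ⟨_, rfl⟩
  obtain ⟨B, hBdef⟩ : ∃ B : Subgroup G, B = Cfsg.pCore p G := ⟨_, rfl⟩
  simp only [← hNdef, ← hBdef] at hst ha hVn ⊢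
  subst hNdef
  obtain ⟨V, hVdef⟩ : ∃ V : Subgroup (G ⧸ (frattini ↥(Cfsg.pCore p G)).map
    (Cfsg.pCore p G).subtype), V = B.map (QuotientGroup.mk' _) := ⟨_, rfl⟩
  simp only [← hVdef] at hst hVn
  have hq : ⁅⁅V, Subgroup.zpowers (QuotientGroup.mk' ((frattini ↥(Cfsg.pCore p G)).map
      (Cfsg.pCore p G).subtype) a)⁆, Subgroup.zpowers (QuotientGroup.mk'
      ((frattini ↥(Cfsg.pCore p G)).map (Cfsg.pCore p G).subtype) a)⁆ = ⊥ := by
    rw [hVdef, ← MonoidHom.map_zpowers, ← Subgroup.map_commutator, ← Subgroup.map_commutator,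
      eq_bot_iff]
    rintro _ ⟨x, hx, rfl⟩
    rw [Subgroup.mem_bot]
    exact (QuotientGroup.eq_one_iff _).2 (ha hx)
  have h1 := hst _ hq
  have hSK : Cfsg.sectionKernel B ((frattini ↥(Cfsg.pCore p G)).map
      (Cfsg.pCore p G).subtype) = (Subgroup.centralizer (V : Set (G ⧸ (frattini
        ↥(Cfsg.pCore p G)).map (Cfsg.pCore p G).subtype))).comap
        (QuotientGroup.mk' ((frattini ↥(Cfsg.pCore p G)).map (Cfsg.pCore p G).subtype)) := by
    unfold Cfsg.sectionKernel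
    rw [hVdef]
  rw [hSK]
  exact exists_D_comap (QuotientGroup.mk' ((frattini ↥(Cfsg.pCore p G)).map
    (Cfsg.pCore p G).subtype)) (QuotientGroup.mk'_surjective _)
    (Subgroup.centralizer (V : Set (G ⧸ (frattini
        ↥(Cfsg.pCore p G)).map (Cfsg.pCore p G).subtype))) a h1

omit [Fact p.Prime] in
/-- A subgroup of `N` lying (in `G`) inside `Ω₁Z(J(S))` is elementary abelian. -/
theorem elemAb_of_le_oct {G : Type u} [Group G] [Finite G] (S N : Subgroup G)
    (V : Subgroup ↥N)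
    (hV : V.map N.subtype ≤ (Cfsg.omegaCenterThompson p ↥S).map S.subtype) :
    Cfsg.IsElementaryAbelian p V := by
  have hpred := H4.ZJ.ZJ_pred (𝒞 := H4.ZJ.eaClass p G) S
  rw [H4.ZJ.ZJ_eaClass] at hpred
  constructor
  · rw [H4.ZJ.isMulCommutative_iff]
    intro x hx y hy
    apply Subtype.ext
    exact hpred.1 _ (hV ⟨x, hx, rfl⟩) _ (hV ⟨y, hy, rfl⟩)
  · intro x hx
    apply Subtype.ext
    have := hpred.2 _ (hV ⟨x, hx, rfl⟩)
    simpa using this

/-- The generic reduction. -/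
theorem actionPStable_of_class (𝒦 : ∀ (X : Type u) [Group X], Prop)
    (hsub : ∀ (X : Type u) [Group X] [Finite X] (H : Subgroup X), 𝒦 X → 𝒦 ↥H)
    (hquot : ∀ (X : Type u) [Group X] [Finite X] (N : Subgroup X) [N.Normal], 𝒦 X → 𝒦 (X ⧸ N))
    (hBB : ∀ (X : Type u) [Group X] [Finite X], 𝒦 X → ∀ (V : Subgroup X) [V.Normal],
      Cfsg.IsElementaryAbelian p V → Cfsg.IsPStableOn p V)
    (G : Type u) [Group G] [Finite G] (hG : 𝒦 G) : Cfsg.IsActionPStable p G := by
  refine ⟨fun V _ hV => hBB G hG V hV, ?_, ?_⟩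
  · have hBn : (Cfsg.pCore p G).Normal := H1.pCore_normal p G
    have hVn : ((Cfsg.pCore p G).map
      (QuotientGroup.mk' ((frattini ↥(Cfsg.pCore p G)).map (Cfsg.pCore p G).subtype))).Normal :=
      Subgroup.Normal.map hBn _ (QuotientGroup.mk'_surjective _)
    apply section_of_stable G
    exact hBB _ (hquot G _ hG) _ (elemAb_map_mk G)
  · intro S V hVn hV
    exact hBB _ (hsub G _ hG) V (elemAb_of_le_oct _ _ V hV)

end Cfsg.Agent.Lib.H4.ActionStable
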