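import Mathlib
import Cfsg.Prelude.Def_PLocal
import Cfsg.Agent.Lib.H1.PCore
import Cfsg.Agent.Lib.H4.ZJInst

/-!
# From the "faithful" form of `p`-stability to `IsPStableOn`

Inside `Equiv.Perm V` (the holomorph of `V`) the normal subgroup `V` of `X` becomes the group of
left translations and `X / C_X(V)` the group of conjugations.  A `p`-stability statement for
faithful actions inside an ambient group can thus be fed to any normal subgroup.
-/

set_option autoImplicit false

namespace Cfsg.Agent.Lib.H4.FaithfulForm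

open Cfsg.Agent.Lib
open scoped commutatorElement

universe u

variable {X : Type u} [Group X] (V : Subgroup X) [V.Normal]

/-- left translations -/
def L : ↥V →* Equiv.Perm ↥V := MulAction.toPermHom ↥V ↥V

/-- conjugations -/
def c : X →* Equiv.Perm ↥V := (MulAut.toPerm ↥V).comp MulAut.conjNormal

omit [V.Normal] in
theorem L_apply (v w : ↥V) : L V v w = v * w := rfl

theorem c_apply (x : X) (w : ↥V) : c V x w = MulAut.conjNormal x w := rfl

theorem c_apply_coe (x : X) (w : ↥V) : ((c V x w : ↥V) : X) = x * w * x⁻¹ := by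
  rw [c_apply, MulAut.conjNormal_apply]

theorem c_mul_apply (x : X) (v w : ↥V) : c V x (v * w) = c V x v * c V x w := by
  rw [c_apply, c_apply, c_apply, map_mul]

theorem c_one_apply (x : X) : c V x 1 = 1 := by
  rw [c_apply, map_one]

omit [V.Normal] in
theorem L_injective : Function.Injective (L V) := by
  intro v w h
  have := congrArg (fun σ : Equiv.Perm ↥V => σ 1) h
  simpa [L_apply] using this

theorem rel (x : X) (v : ↥V) : c V x * L V v * (c V x)⁻¹ = L V (c V x v) := by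
  ext w
  rw [Equiv.Perm.mul_apply, Equiv.Perm.mul_apply, L_apply, L_apply, c_mul_apply,
    Equiv.Perm.inv_def, Equiv.apply_symm_apply]

theorem c_eq_one_iff (x : X) : c V x = 1 ↔ x ∈ Subgroup.centralizer (V : Set X) := by
  rw [Subgroup.mem_centralizer_iff]
  constructor
  · intro h v hv
    have h1 : c V x ⟨v, hv⟩ = ⟨v, hv⟩ := by rw [h]; rfl
    have h2 := congrArg Subtype.val h1
    rw [c_apply_coe] at h2
    calc v * x = (x * v * x⁻¹) * x := by rw [h2]
      _ = x * v := by group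
  · intro h
    ext w
    rw [c_apply_coe, Equiv.Perm.one_apply, ← h w w.2]
    group

theorem ker_c : (c V).ker = Subgroup.centralizer (V : Set X) := by
  ext x
  rw [MonoidHom.mem_ker, c_eq_one_iff]

theorem comm_L_c (v : ↥V) (x : X) :
    ⁅L V v, c V x⁆ = L V (v * (c V x v)⁻¹) := by
  have h := rel V x v⁻¹
  rw [commutatorElement_def, map_mul, mul_assoc (L V v), mul_assoc (L V v), ← map_inv, h]
  congr 2
  rw [c_apply, c_apply, map_inv]

variable {p : ℕ} [Fact p.Prime]

omit [Fact p.Prime] [V.Normal] in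
theorem elemAb_range (hV : Cfsg.IsElementaryAbelian p V) :
    Cfsg.IsElementaryAbelian p (L V).range := by
  obtain ⟨hc, he⟩ := hV
  rw [H4.ZJ.isMulCommutative_iff] at hc
  constructor
  · rw [H4.ZJ.isMulCommutative_iff]
    rintro _ ⟨v, rfl⟩ _ ⟨w, rfl⟩
    rw [← map_mul, ← map_mul]
    congr 1
    exact Subtype.ext (hc v v.2 w w.2)
  · rintro _ ⟨v, rfl⟩
    rw [← map_pow]
    have : v ^ p = 1 := Subtype.ext (by simpa using he v v.2)
    rw [this, map_one]

theorem range_le_normalizer : (c V).range ≤ Subgroup.normalizer ((L V).range : Set _) := by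
  have key : ∀ g ∈ (c V).range, ∀ y ∈ (L V).range, g * y * g⁻¹ ∈ (L V).range := by
    rintro _ ⟨x, rfl⟩ _ ⟨v, rfl⟩
    rw [rel]
    exact ⟨_, rfl⟩
  intro g hg
  rw [Subgroup.mem_normalizer_iff]
  intro y
  constructor
  · exact key g hg y
  · intro hy
    have := key g⁻¹ (Subgroup.inv_mem _ hg) _ hy
    rw [inv_inv] at this
    have e : g⁻¹ * (g * y * g⁻¹) * g = y := by group
    rwa [e] at this

theorem range_inf_centralizer :
    (c V).range ⊓ Subgroup.centralizer ((L V).range : Set _) = ⊥ := by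
  rw [eq_bot_iff]
  rintro _ ⟨⟨x, rfl⟩, hx⟩
  rw [Subgroup.mem_bot]
  have hx : c V x ∈ Subgroup.centralizer (((L V).range : Subgroup _) : Set (Equiv.Perm ↥V)) := hx
  rw [Subgroup.mem_centralizer_iff] at hx
  ext w
  have h1 := hx (L V w) ⟨w, rfl⟩
  have h2 := congrArg (fun σ : Equiv.Perm ↥V => σ 1) h1
  simp only [Equiv.Perm.mul_apply, L_apply, c_one_apply, mul_one] at h2
  rw [Equiv.Perm.one_apply, ← h2]

/-- quadratic action transfers -/
theorem quadratic_c (a : X)
    (hq : ⁅⁅V, Subgroup.zpowers a⁆, Subgroup.zpowers a⁆ = ⊥) :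
    ⁅⁅(L V).range, Subgroup.zpowers (c V a)⁆, Subgroup.zpowers (c V a)⁆ = ⊥ := by
  rw [Subgroup.commutator_eq_bot_iff_le_centralizer, Subgroup.commutator_le]
  rintro _ ⟨v, rfl⟩ _ ⟨k, rfl⟩
  show _ ∈ Subgroup.centralizer ((Subgroup.zpowers (c V a) : Subgroup (Equiv.Perm ↥V)) :
    Set (Equiv.Perm ↥V))
  rw [Subgroup.mem_centralizer_iff]
  rintro _ ⟨j, rfl⟩
  show (c V a) ^ j * ⁅L V v, (c V a) ^ k⁆ = ⁅L V v, (c V a) ^ k⁆ * (c V a) ^ j
  rw [← map_zpow, ← map_zpow, comm_L_c]
  -- the element `w = [v, a^k]` is fixed by `a^j`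
  have hw : c V (a ^ j) (v * (c V (a ^ k) v)⁻¹) = v * (c V (a ^ k) v)⁻¹ := by
    apply Subtype.ext
    rw [c_apply_coe]
    have h1 : ((v * (c V (a ^ k) v)⁻¹ : ↥V) : X) = ⁅(v : X), a ^ k⁆ := by
      rw [Subgroup.coe_mul, Subgroup.coe_inv, c_apply_coe, commutatorElement_def]
      group
    rw [h1]
    have h2 : ⁅⁅(v : X), a ^ k⁆, a ^ j⁆ = 1 := by
      have : ⁅⁅(v : X), a ^ k⁆, a ^ j⁆ ∈ ⁅⁅V, Subgroup.zpowers a⁆, Subgroup.zpowers a⁆ :=
        Subgroup.commutator_mem_commutator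
          (Subgroup.commutator_mem_commutator v.2 ⟨k, rfl⟩) ⟨j, rfl⟩
      rw [hq] at this
      exact this
    rw [commutatorElement_eq_one_iff_mul_comm] at h2
    calc a ^ j * ⁅(v : X), a ^ k⁆ * (a ^ j)⁻¹ = (⁅(v : X), a ^ k⁆ * a ^ j) * (a ^ j)⁻¹ := by rw [h2]
      _ = ⁅(v : X), a ^ k⁆ := by group
  have h3 := rel V (a ^ j) (v * (c V (a ^ k) v)⁻¹)
  rw [hw] at h3
  calc c V (a ^ j) * L V (v * (c V (a ^ k) v)⁻¹)
      = (c V (a ^ j) * L V (v * (c V (a ^ k) v)⁻¹) * (c V (a ^ j))⁻¹) * c V (a ^ j) := by group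
    _ = L V (v * (c V (a ^ k) v)⁻¹) * c V (a ^ j) := by rw [h3]

/-- **Transfer**: a `p`-stability statement in faithful form (both `V` and the acting group
inside one ambient group) yields `IsPStableOn` for a normal subgroup. -/
theorem isPStableOn_of_faithful [Finite X]
    (hV : Cfsg.IsElementaryAbelian p V)
    (hkey : ∀ (V' H : Subgroup (Equiv.Perm ↥V)), Cfsg.IsElementaryAbelian p V' →
      H ≤ Subgroup.normalizer (V' : Set _) → H ⊓ Subgroup.centralizer (V' : Set _) = ⊥ →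
      (∃ f : X →* ↥H, Function.Surjective f) → ∀ a ∈ H,
      ⁅⁅V', Subgroup.zpowers a⁆, Subgroup.zpowers a⁆ = ⊥ →
        a ∈ (Cfsg.pCore p ↥H).map H.subtype) :
    Cfsg.IsPStableOn p V := by
  intro a hq
  have h1 := hkey (L V).range (c V).range (elemAb_range V hV) (range_le_normalizer V)
    (range_inf_centralizer V) ⟨(c V).rangeRestrict, (c V).rangeRestrict_surjective⟩ (c V a)
    ⟨a, rfl⟩ (quadratic_c V a hq)
  obtain ⟨y, hy, hya⟩ := h1
  -- the normal `p`-subgroup of `X / C` coming from `O_p(H)`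
  obtain ⟨D, hD⟩ : ∃ D : Subgroup (X ⧸ Subgroup.centralizer (V : Set X)),
      D = ((Cfsg.pCore p ↥(c V).range).comap (c V).rangeRestrict).map
        (QuotientGroup.mk' (Subgroup.centralizer (V : Set X))) := ⟨_, rfl⟩
  have hOn : (Cfsg.pCore p ↥(c V).range).Normal := H1.pCore_normal p _
  have hDn : D.Normal := by
    rw [hD]
    exact Subgroup.Normal.map (Subgroup.Normal.comap hOn _) _ (QuotientGroup.mk'_surjective _)
  have hDp : IsPGroup p ↥D := by
    rintro ⟨d, hd⟩
    rw [hD] at hd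
    obtain ⟨x, hx, rfl⟩ := hd
    obtain ⟨k, hk⟩ := (H1.pCore_isPGroup p ↥(c V).range) ⟨_, hx⟩
    refine ⟨k, Subtype.ext ?_⟩
    have hk' := congrArg (fun z : ↥(Cfsg.pCore p ↥(c V).range) =>
      ((z : ↥(c V).range) : Equiv.Perm ↥V)) hk
    simp only [SubmonoidClass.coe_pow, Subgroup.coe_one] at hk'
    change (QuotientGroup.mk' _ x) ^ (p ^ k) = 1
    rw [← map_pow]
    apply (QuotientGroup.eq_one_iff _).2
    rw [← c_eq_one_iff, map_pow]
    exact hk'
  apply H1.le_pCore hDn hDp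
  rw [hD]
  refine ⟨a, ?_, rfl⟩
  show a ∈ (Cfsg.pCore p ↥(c V).range).comap (c V).rangeRestrict
  rw [Subgroup.mem_comap]
  have : (c V).rangeRestrict a = y := by
    apply Subtype.ext
    exact hya.symm
  rw [this]
  exact hy

end Cfsg.Agent.Lib.H4.FaithfulForm
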