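import Mathlib
import Cfsg.Agent.Lib.H2.KRDEFS
import Cfsg.Agent.Lib.L0.BlockRankTrace
import Cfsg.Agent.Lib.L0.SectionSum
import Cfsg.Agent.Lib.H23.BlockEquiv
import Cfsg.Agent.S4511
import Cfsg.Agent.Lib.H23.KRRank

/-!
S4651 piece (K3 PX) `sum_secSum_eq_card_mul_rank` in the exact signature of `tools/blueprints/S4651_sigs.lean`
(architect helper2): the contribution of the section of a `p`-element `x` to a union of blocks `U`.
-/
set_option autoImplicit false
namespace Cfsg.Agent.Lib.H4.KR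

open Cfsg Cfsg.Agent.Lib.H2.KR Cfsg.Agent.Lib.H23 Cfsg.Agent.Lib.L0.BlockRankTrace
  Cfsg.Agent.Lib.L0.SectionSum Cfsg.Agent.Lib.L0.BlockParseval
open scoped Classical ComplexConjugate

section chars

variable {K : Type*} [Group K] [Fintype K] {p : ℕ} {M : Ideal AlgInt}

/-- A sum over a union of blocks, block by block. -/
theorem sum_filter_eq_sum_blocks [Fintype (IrrCharacter K)] [hP : M.IsPrime]
    (P : Set (IrrCharacter K) → Prop) (W : Set (IrrCharacter K))
    (hW : ∀ ζ : IrrCharacter K, ζ ∈ W ↔ P (blockOf M (ζ : K → ℂ))) (f : IrrCharacter K → ℂ) :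
    ∑ ζ ∈ Finset.univ.filter (· ∈ W), f ζ =
      ∑ β ∈ blocks M K, if P β then ∑ ζ : IrrCharacter K, (if ζ ∈ β then f ζ else 0) else 0 := by
  have h1 : ∀ ζ : IrrCharacter K, (if ζ ∈ W then f ζ else 0) =
      ∑ β ∈ blocks M K, if P β then (if ζ ∈ β then f ζ else 0) else 0 := by
    intro ζ
    rw [Finset.sum_eq_single (blockOf M (ζ : K → ℂ))]
    · by_cases h : ζ ∈ W
      · rw [if_pos h, if_pos ((hW ζ).1 h), if_pos (mem_blockOf_self ζ)]
      · rw [if_neg h, if_neg (fun h' => h ((hW ζ).2 h'))]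
    · intro β hβ hne
      obtain ⟨ξ₀, rfl⟩ := mem_blocks.1 hβ
      split_ifs with h1 h2
      · exact absurd (blockOf_eq_of_mem h2).symm hne
      · rfl
      · rfl
    · intro h
      exact absurd (mem_blocks.2 ⟨ζ, rfl⟩) h
  rw [Finset.sum_filter, Finset.sum_congr rfl fun ζ _ => h1 ζ, Finset.sum_comm]
  refine Finset.sum_congr rfl fun β _ => ?_
  split_ifs
  · rfl
  · exact Finset.sum_const_zero

theorem sum_secSum_eq_card_mul_rank (hM : IsPModular p M) [Fintype (IrrCharacter K)]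
    (U : Set (IrrCharacter K)) (hU : ∀ ζ ∈ U, blockOf M (ζ : K → ℂ) ⊆ U)
    {x : K} (hx : ∃ k : ℕ, orderOf x = p ^ k) (C : Subgroup K)
    (hC : C = Subgroup.centralizer ({x} : Set K)) :
    ∑ ζ ∈ Finset.univ.filter (· ∈ U),
        secSum p (fun g => conj ((ζ : K → ℂ) g) * (ζ : K → ℂ) g) x =
      (Nat.card C : ℂ) * (blockRank p (pull M U C) : ℂ) := by
  subst hC
  have : Fact p.Prime := ⟨hM.1⟩
  have hPr := isPrime_of_isPModular hM
  haveI : Fintype (Subgroup.centralizer ({x} : Set K)) := Fintype.ofFinite _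
  haveI : Fintype (IrrCharacter (Subgroup.centralizer ({x} : Set K))) := Fintype.ofFinite _
  -- the predicate on the blocks of the centralizer
  set P : Set (IrrCharacter (Subgroup.centralizer ({x} : Set K))) → Prop :=
    fun b' => ∃ β : Set (IrrCharacter K),
      IsInducedBlock M (Subgroup.centralizer ({x} : Set K)) b' β ∧ β ⊆ U with hP
  -- membership in `pull`
  have hpull : ∀ ξ : IrrCharacter (Subgroup.centralizer ({x} : Set K)),
      ξ ∈ pull M U (Subgroup.centralizer ({x} : Set K)) ↔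
        P (blockOf M (ξ : Subgroup.centralizer ({x} : Set K) → ℂ)) := by
    intro ξ
    constructor
    · rintro ⟨b', β, hξ, hind, hβ⟩
      obtain ⟨ξ₀, rfl⟩ := hind.1
      rw [blockOf_eq_of_mem hξ]
      exact ⟨β, hind, hβ⟩
    · rintro ⟨β, hind, hβ⟩
      exact ⟨_, β, mem_blockOf_self ξ, hind, hβ⟩
  have hpull_closed : ∀ ξ ∈ pull M U (Subgroup.centralizer ({x} : Set K)),
      blockOf M (ξ : Subgroup.centralizer ({x} : Set K) → ℂ) ⊆
        pull M U (Subgroup.centralizer ({x} : Set K)) := by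
    intro ξ hξ ξ' hξ'
    rw [hpull] at hξ ⊢
    rwa [blockOf_eq_of_mem hξ']
  -- the right side
  have hR : (blockRank p (pull M U (Subgroup.centralizer ({x} : Set K))) : ℂ) =
      ∑ b' ∈ blocks M (Subgroup.centralizer ({x} : Set K)),
        if P b' then (blockRank p b' : ℂ) else 0 := by
    rw [← Cfsg.Agent.Lib.H23.KR.sum_inner0_eq_blockRank_of_closed hM _
        (fun ξ hξ ξ' h => hpull_closed ξ hξ h),
      sum_filter_eq_sum_blocks P _ hpull]
    refine Finset.sum_congr rfl fun b' hb' => ?_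
    obtain ⟨ξ₀, rfl⟩ := mem_blocks.1 hb'
    split_ifs
    · rw [← sum_inner0_eq_blockRank hM ξ₀, Finset.sum_filter]
    · rfl
  -- the left side
  have hUmem : ∀ ζ : IrrCharacter K, ζ ∈ U ↔ blockOf M (ζ : K → ℂ) ⊆ U :=
    fun ζ => ⟨fun h => hU ζ h, fun h => h (mem_blockOf_self ζ)⟩
  have h1 : ∀ ζ : IrrCharacter K, secSum p (fun g => conj ((ζ : K → ℂ) g) * (ζ : K → ℂ) g) x =
      ∑ s : Subgroup.centralizer ({x} : Set K), (if p ∣ orderOf s then 0 else
        conj ((ζ : K → ℂ) (x * (s : K))) * (ζ : K → ℂ) (x * (s : K))) :=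
    fun ζ => secSum_eq _ hx
  rw [sum_filter_eq_sum_blocks (fun β => β ⊆ U) U hUmem, hR, Finset.mul_sum]
  -- block by block
  have h2 : ∀ β ∈ blocks M K, (if β ⊆ U then ∑ ζ : IrrCharacter K, (if ζ ∈ β then
      secSum p (fun g => conj ((ζ : K → ℂ) g) * (ζ : K → ℂ) g) x else 0) else 0) =
      ∑ b' ∈ blocks M (Subgroup.centralizer ({x} : Set K)),
        if β ⊆ U ∧ IsInducedBlock M (Subgroup.centralizer ({x} : Set K)) b' β then
          (Nat.card (Subgroup.centralizer ({x} : Set K)) : ℂ) * (blockRank p b' : ℂ) else 0 := by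
    intro β hβ
    by_cases hβU : β ⊆ U
    · rw [if_pos hβU]
      simp only [h1]
      rw [Cfsg.Agent.S4511.per_x hM hx (mem_blocks.1 hβ), Finset.mul_sum]
      refine Finset.sum_congr rfl fun b' _ => ?_
      by_cases hind : IsInducedBlock M (Subgroup.centralizer ({x} : Set K)) b' β
      · rw [if_pos hind, if_pos ⟨hβU, hind⟩]
      · rw [if_neg hind, if_neg (fun h => hind h.2), mul_zero]
    · rw [if_neg hβU]
      symm
      refine Finset.sum_eq_zero fun b' _ => ?_
      rw [if_neg (fun h => hβU h.1)]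
  rw [Finset.sum_congr rfl h2, Finset.sum_comm]
  refine Finset.sum_congr rfl fun b' _ => ?_
  by_cases hPb : P b'
  · obtain ⟨β₀, hind₀, hβ₀⟩ := hPb
    rw [if_pos ⟨β₀, hind₀, hβ₀⟩, Finset.sum_eq_single β₀]
    · rw [if_pos ⟨hβ₀, hind₀⟩]
    · intro β _ hne
      rw [if_neg]
      rintro ⟨_, hind⟩
      exact hne (isInducedBlock_unique _ hind hind₀)
    · intro h
      exact absurd (mem_blocks.2 hind₀.2.1) h
  · rw [if_neg hPb, mul_zero]
    refine Finset.sum_eq_zero fun β _ => ?_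
    rw [if_neg]
    rintro ⟨hβU, hind⟩
    exact hPb ⟨β, hind, hβU⟩

end chars

end Cfsg.Agent.Lib.H4.KR
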