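import Mathlib
import Cfsg.Prelude.Def_Blocks
import Cfsg.Agent.Lib.L0.BlockMinMax
import Cfsg.Agent.Lib.H23.BlockMinMax
import Cfsg.Agent.Lib.H23.BlockDefect
import Cfsg.Agent.Lib.H23.BlockDefectGroups
import Cfsg.Agent.Lib.H23.BlockIdem
import Cfsg.Agent.Lib.H23.BlockOsima
import Cfsg.Agent.Lib.H23.BlockVanish
import Cfsg.Agent.Lib.H24.CharPermLemma

/-!
S4443 piece (DUAL) `dual_blockCoeff` in the exact signature of `tools/blueprints/S4443_sigs.lean` (helper2 architect):
duality of `β_B` and `ω_{B'}` on the classes with defect group the normal subgroup `D`.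
-/
set_option autoImplicit false
namespace Cfsg.Agent.Lib.H4.RB

open Cfsg Cfsg.Agent.Lib.H23 Cfsg.Agent.Lib.L0.BlockMinMax
open scoped ComplexConjugate

section blocks
variable {G : Type*} [Group G] [Fintype G] {p : ℕ} [Fact p.Prime] {M : Ideal Cfsg.AlgInt}

omit [Fintype G] in
/-- The `p`-part of `|C_G(g)|` when a Sylow `p`-subgroup of `C_G(g)` is `D`. -/
theorem factorization_card_centralizer_eq [Finite G] (D : Subgroup G) (g : G)
    (hg : ∃ Q : Sylow p (Subgroup.centralizer ({g} : Set G)),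
      (Q : Subgroup (Subgroup.centralizer ({g} : Set G))).map
        (Subgroup.centralizer ({g} : Set G)).subtype = D) {d : ℕ} (hcard : Nat.card D = p ^ d) :
    (Nat.card (Subgroup.centralizer ({g} : Set G))).factorization p = d := by
  have hp : p.Prime := Fact.out
  obtain ⟨Q, hQ⟩ := hg
  have h1 : Nat.card Q = p ^ (Nat.card (Subgroup.centralizer ({g} : Set G))).factorization p :=
    Q.card_eq_multiplicity
  have h2 : Nat.card ((Q : Subgroup (Subgroup.centralizer ({g} : Set G))).map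
      (Subgroup.centralizer ({g} : Set G)).subtype) = Nat.card Q :=
    Subgroup.card_map_of_injective (Subgroup.subtype_injective _)
  rw [hQ, hcard, h1] at h2
  exact (Nat.pow_right_injective hp.two_le h2).symm

/-- If `D ⊴ G` is a defect group of the block of `ψ₀`, `ω_{ψ₀}(g) ∉ 𝔭` and the `p`-part of `|C_G(g)|` is `|D|`, then `D` is a
Sylow `p`-subgroup of `C_G(g)`. -/
theorem exists_sylow_map_eq (hM : Cfsg.IsPModular p M) (D : Subgroup G) [hDn : D.Normal]
    (hD : IsPGroup p D) (ψ₀ : IrrCharacter G)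
    (hψ₀ : IsDefectGroup p M (blockOf M (ψ₀ : G → ℂ)) D) (g : G)
    (hdef : (Nat.card (Subgroup.centralizer ({g} : Set G))).factorization p =
      blockDefect p (blockOf M (ψ₀ : G → ℂ)))
    (hω : ¬ MemLocalIdeal M (centralChar (ψ₀ : G → ℂ) g)) :
    ∃ Q : Sylow p (Subgroup.centralizer ({g} : Set G)),
      (Q : Subgroup (Subgroup.centralizer ({g} : Set G))).map
        (Subgroup.centralizer ({g} : Set G)).subtype = D := by
  have hP := isPrime_of_isPModular hM
  have hcard : Nat.card D = p ^ blockDefect p (blockOf M (ψ₀ : G → ℂ)) :=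
    card_defectGroup hM ψ₀ D hψ₀
  obtain ⟨k, hk, P, hDP⟩ := hψ₀
  have hDk : D ≤ Subgroup.centralizer ({k} : Set G) := by
    rw [hDP]
    exact Subgroup.map_subtype_le _
  obtain ⟨x, hgx, hDx⟩ := exists_conj_centralized hM ψ₀ k g hk.2.1 ψ₀ (mem_blockOf_self ψ₀) hω
    D hD hDk
  obtain ⟨c, hc⟩ := isConj_iff.1 hgx
  have hDg : D ≤ Subgroup.centralizer ({g} : Set G) := by
    intro u hu
    rw [Subgroup.mem_centralizer_singleton_iff]
    have h1 : c * u * c⁻¹ ∈ D := hDn.conj_mem u hu c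
    have h2 := hDx h1
    rw [Subgroup.mem_centralizer_singleton_iff, ← hc] at h2
    -- h2 : (c u c⁻¹) (c g c⁻¹) = (c g c⁻¹) (c u c⁻¹)
    have h3 : c * (u * g) * c⁻¹ = c * (g * u) * c⁻¹ := by
      calc c * (u * g) * c⁻¹ = c * u * c⁻¹ * (c * g * c⁻¹) := by group
        _ = c * g * c⁻¹ * (c * u * c⁻¹) := h2
        _ = c * (g * u) * c⁻¹ := by group
    exact mul_left_cancel (mul_right_cancel h3)
  have hcardsub : Nat.card (D.subgroupOf (Subgroup.centralizer ({g} : Set G))) =
      p ^ (Nat.card (Subgroup.centralizer ({g} : Set G))).factorization p := by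
    rw [hdef, ← hcard]
    exact Nat.card_congr (Subgroup.subgroupOfEquivOfLe hDg).toEquiv
  refine ⟨Sylow.ofCard (D.subgroupOf (Subgroup.centralizer ({g} : Set G))) hcardsub, ?_⟩
  rw [Sylow.coe_ofCard]
  exact Subgroup.map_subgroupOf_eq_of_le hDg

/-- (DUAL). -/
theorem dual_blockCoeff [Fintype (ConjClasses G)] (hM : Cfsg.IsPModular p M) (D : Subgroup G)
    [D.Normal] (hD : IsPGroup p D) {ι : Type*} [Fintype ι] (x : ι → G)
    (hreg : ∀ i, ¬ p ∣ orderOf (x i))
    (hsyl : ∀ i, ∃ Q : Sylow p (Subgroup.centralizer ({x i} : Set G)),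
      (Q : Subgroup (Subgroup.centralizer ({x i} : Set G))).map
        (Subgroup.centralizer ({x i} : Set G)).subtype = D)
    (hinj : ∀ i j, IsConj (x i) (x j) → i = j)
    (hall : ∀ g : G, ¬ p ∣ orderOf g →
      (∃ Q : Sylow p (Subgroup.centralizer ({g} : Set G)),
        (Q : Subgroup (Subgroup.centralizer ({g} : Set G))).map
          (Subgroup.centralizer ({g} : Set G)).subtype = D) → ∃ i, IsConj (x i) g)
    (χ₀ ψ₀ : IrrCharacter G) (hχ₀ : IsDefectGroup p M (blockOf M (χ₀ : G → ℂ)) D)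
    (hψ₀ : IsDefectGroup p M (blockOf M (ψ₀ : G → ℂ)) D) :
    (ψ₀ ∈ blockOf M (χ₀ : G → ℂ) → MemLocalIdeal M ((1 : ℂ) -
      ∑ i, blockCoeff (blockOf M (χ₀ : G → ℂ)) (x i) * centralChar (ψ₀ : G → ℂ) (x i))) ∧
    (ψ₀ ∉ blockOf M (χ₀ : G → ℂ) → MemLocalIdeal M
      (∑ i, blockCoeff (blockOf M (χ₀ : G → ℂ)) (x i) * centralChar (ψ₀ : G → ℂ) (x i))) := by
  classical
  have hp : p.Prime := Fact.out
  have hP := isPrime_of_isPModular hM
  set B := blockOf M (χ₀ : G → ℂ) with hB
  set d := blockDefect p B with hd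
  have hcardD : Nat.card D = p ^ d := card_defectGroup hM χ₀ D hχ₀
  have hcardD' : Nat.card D = p ^ blockDefect p (blockOf M (ψ₀ : G → ℂ)) :=
    card_defectGroup hM ψ₀ D hψ₀
  have hd' : blockDefect p (blockOf M (ψ₀ : G → ℂ)) = d :=
    Nat.pow_right_injective hp.two_le (hcardD'.symm.trans hcardD)
  have key := omega_blockIdem_sub_sum_mem hM χ₀ ψ₀ d rfl hd'
  rw [omega_blockIdem] at key
  set t : ConjClasses G → ℂ := fun c =>
    blockCoeff B (classRep c) * centralChar (ψ₀ : G → ℂ) (classRep c) with ht_def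
  set cls : ι → ConjClasses G := fun i => ConjClasses.mk (x i) with hcls_def
  have hcls_inj : Function.Injective cls :=
    fun i j h => hinj i j (ConjClasses.mk_eq_mk_iff_isConj.1 h)
  have hconj : ∀ i, IsConj (classRep (cls i)) (x i) :=
    fun i => ConjClasses.mk_eq_mk_iff_isConj.mp (mk_classRep _)
  have hregdef : ∀ i, IsRegDefect p d (cls i) := by
    intro i
    refine ⟨?_, ?_⟩
    · rw [orderOf_eq_of_isConj (hconj i)]
      exact hreg i
    · rw [Cfsg.Agent.Lib.H24.card_centralizer_eq_of_isConj (hconj i)]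
      exact factorization_card_centralizer_eq D (x i) (hsyl i) hcardD
  have ht : ∀ i, t (cls i) = blockCoeff B (x i) * centralChar (ψ₀ : G → ℂ) (x i) := by
    intro i
    simp only [ht_def]
    rw [blockCoeff_eq_of_isConj B (hconj i), centralChar_eq_of_isConj ψ₀ (hconj i)]
  have hrest : ∀ c, c ∉ Finset.univ.image cls → IsRegDefect p d c → MemLocalIdeal M (t c) := by
    intro c hc hrd
    by_contra hne
    have hω : ¬ MemLocalIdeal M (centralChar (ψ₀ : G → ℂ) (classRep c)) :=
      fun h => hne (memLocalIdeal_mul_left (memLocalRing_blockCoeff hM χ₀ _) h)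
    obtain ⟨Q, hQ⟩ := exists_sylow_map_eq hM D hD ψ₀ hψ₀ (classRep c) (hrd.2.trans hd'.symm) hω
    obtain ⟨i, hi⟩ := hall (classRep c) hrd.1 ⟨Q, hQ⟩
    apply hc
    rw [Finset.mem_image]
    refine ⟨i, Finset.mem_univ _, ?_⟩
    rw [← mk_classRep c]
    exact ConjClasses.mk_eq_mk_iff_isConj.2 hi
  have hsum : MemLocalIdeal M ((∑ c : ConjClasses G, if IsRegDefect p d c then t c else 0) -
      ∑ i, blockCoeff B (x i) * centralChar (ψ₀ : G → ℂ) (x i)) := by
    have h1 : ∑ i, blockCoeff B (x i) * centralChar (ψ₀ : G → ℂ) (x i) =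
        ∑ c ∈ Finset.univ.image cls, (if IsRegDefect p d c then t c else 0) := by
      rw [Finset.sum_image (fun a _ b _ h => hcls_inj h)]
      refine Finset.sum_congr rfl fun i _ => ?_
      rw [if_pos (hregdef i), ht i]
    rw [h1, ← Finset.sum_sdiff (Finset.subset_univ (Finset.univ.image cls)), add_sub_cancel_right]
    refine memLocalIdeal_sum _ _ fun c hc => ?_
    rw [Finset.mem_sdiff] at hc
    by_cases hrd : IsRegDefect p d c
    · rw [if_pos hrd]
      exact hrest c hc.2 hrd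
    · rw [if_neg hrd]
      exact memLocalIdeal_zero hP.ne_top
  have hcomb := memLocalIdeal_add key hsum
  rw [sub_add_sub_cancel] at hcomb
  constructor
  · intro h
    rwa [if_pos h] at hcomb
  · intro h
    rw [if_neg h, zero_sub] at hcomb
    have := memLocalIdeal_neg hcomb
    rwa [neg_neg] at this

end blocks

end Cfsg.Agent.Lib.H4.RB
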