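import Mathlib
import Cfsg.Agent.Lib.H4.ReeSpecDefs

/-!
# S3626 piece FIX: elements of `Mq K` with a nonzero fixed vector have square or cube `1`.
-/

set_option autoImplicit false

namespace Cfsg.Agent.Lib.H4.RS

open Matrix Cfsg.Agent.Lib.H4.ReeSpec

variable {K : Type*} [Field K] [CharP K 3]

/-- `A + adj A = tr A • 1` for `2 × 2` matrices. -/
theorem fix_add_adjugate (A : M2 K) : A + A.adjugate = A.trace • (1 : M2 K) := by
  ext i j
  fin_cases i <;> fin_cases j <;>
    simp [Matrix.adjugate_fin_two, Matrix.trace_fin_two] <;> ring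

theorem fix_three : (3 : K) = 0 := by
  have := CharP.cast_eq_zero K 3
  simpa using this

theorem fix_trace_cube (A : M2 K) : (cube A).trace = A.trace ^ 3 := by
  rw [Matrix.trace_fin_two, Matrix.trace_fin_two, cube_apply, cube_apply]
  have h3 : (3 : K) = 0 := fix_three
  linear_combination (- (A 0 0) ^ 2 * A 1 1 - A 0 0 * (A 1 1) ^ 2) * h3

theorem fix_det_cube (A : M2 K) : (cube A).det = A.det ^ 3 := by
  rw [Matrix.det_fin_two, Matrix.det_fin_two]
  simp only [cube_apply]
  have h3 : (3 : K) = 0 := fix_three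
  linear_combination
    ((A 0 0 * A 1 1) ^ 2 * (A 0 1 * A 1 0) - A 0 0 * A 1 1 * (A 0 1 * A 1 0) ^ 2) * h3

/-- Cayley–Hamilton for `SL₂`: `A² = t A - 1`. -/
theorem fix_sq (A : M2 K) (hA : A.det = 1) : A * A = A.trace • A - 1 := by
  rw [Matrix.det_fin_two] at hA
  ext i j
  fin_cases i <;> fin_cases j <;>
    simp [Matrix.mul_apply, Fin.sum_univ_two, Matrix.trace_fin_two] <;>
    first
      | linear_combination (1 : K) * hA
      | linear_combination (-1 : K) * hA
      | ring

theorem fix_rho_neg_one : rho K ((1, -1) : G0 K) = 1 := by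
  apply MulEquiv.ext
  intro w
  change Multiplicative.ofAdd (act ((1, -1) : G0 K) (Multiplicative.toAdd w)) = w
  have : act ((1, -1) : G0 K) (Multiplicative.toAdd w) = Multiplicative.toAdd w := by
    unfold act
    have hc : cube (-1 : M2 K) = -1 := by
      ext i j
      fin_cases i <;> fin_cases j <;> simp [cube_apply] <;> ring
    simp [hc]
  rw [this]
  rfl

/-- The trace identity: if `ε • (A X Cᵀ) = X`, `A, C ∈ SL₂`, then `tr A • X = (ε tr C) • X`. -/
theorem fix_trace_identity (e : K) (he : e * e = 1) (A C X : M2 K) (hA : A.det = 1) (hC : C.det = 1)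
    (h : e • (A * X * Cᵀ) = X) : A.trace • X = (e * C.trace) • X := by
  have hC1 : Cᵀ * (C.adjugate)ᵀ = 1 := by
    rw [← Matrix.transpose_mul, Matrix.adjugate_mul, hC, one_smul, Matrix.transpose_one]
  have hA1 : A.adjugate * A = 1 := by
    rw [Matrix.adjugate_mul, hA, one_smul]
  -- (1) e • (A X) = X (adj C)ᵀ
  have h1 : e • (A * X) = X * (C.adjugate)ᵀ := by
    have := congrArg (fun Z => Z * (C.adjugate)ᵀ) h
    simp only [Matrix.smul_mul, Matrix.mul_assoc, hC1, Matrix.mul_one] at this
    exact this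
  -- (2) e • (X Cᵀ) = adj A X
  have h2 : e • (X * Cᵀ) = A.adjugate * X := by
    have := congrArg (fun Z => A.adjugate * Z) h
    simp only [Matrix.mul_smul] at this
    rw [← Matrix.mul_assoc, ← Matrix.mul_assoc, hA1, Matrix.one_mul] at this
    exact this
  have h1' : A * X = e • (X * (C.adjugate)ᵀ) := by
    rw [← h1, smul_smul, he, one_smul]
  calc A.trace • X = (A.trace • (1 : M2 K)) * X := by rw [Matrix.smul_mul, Matrix.one_mul]
    _ = (A + A.adjugate) * X := by rw [fix_add_adjugate]
    _ = A * X + A.adjugate * X := by rw [add_mul]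
    _ = e • (X * (C.adjugate)ᵀ) + e • (X * Cᵀ) := by rw [h1', h2]
    _ = e • (X * (C + C.adjugate)ᵀ) := by
        rw [Matrix.transpose_add, mul_add, smul_add, add_comm]
    _ = e • (X * (C.trace • (1 : M2 K))ᵀ) := by rw [fix_add_adjugate]
    _ = (e * C.trace) • X := by
        rw [Matrix.transpose_smul, Matrix.transpose_one, Matrix.mul_smul, Matrix.mul_one, smul_smul]

theorem fix_card_mod_four [Fintype K] {m : ℕ} (hK : Fintype.card K = 3 ^ (2 * m + 1)) :
    Fintype.card K % 4 = 3 := by
  rw [hK, pow_succ, pow_mul, Nat.mul_mod, Nat.pow_mod]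
  norm_num

theorem fix_pow_two_eq (ε : ℤˣ) (A : Matrix.SpecialLinearGroup (Fin 2) K) (hA2 : A ^ 2 = -1) :
    rho K ((ε, A) : G0 K) ^ 2 = 1 := by
  rw [← map_pow]
  have : ((ε, A) : G0 K) ^ 2 = (1, -1) := by
    rw [Prod.pow_mk, hA2]
    congr 1
    rcases Int.units_eq_one_or ε with h | h <;> rw [h] <;> rfl
  rw [this, fix_rho_neg_one]

/-- FIX: an element of `Mq K` fixing a nontrivial `w` has square or cube `1`. -/
theorem fixed_cases [Fintype K] {m : ℕ} (hK : Fintype.card K = 3 ^ (2 * m + 1)) (x : Mq K) (w : W K)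
    (hw : w ≠ 1) (hfix : (x : MulAut (W K)) w = w) : x ^ 2 = 1 ∨ x ^ 3 = 1 := by
  obtain ⟨x, ⟨⟨ε, A⟩, rfl⟩⟩ := x
  set X : M2 K := Multiplicative.toAdd w with hX
  have hX0 : X ≠ 0 := by
    intro h
    apply hw
    have : w = Multiplicative.ofAdd X := rfl
    rw [this, h]
    rfl
  have hact : act ((ε, A) : G0 K) X = X := by
    have : Multiplicative.ofAdd (act ((ε, A) : G0 K) X) = Multiplicative.ofAdd X := hfix
    exact Multiplicative.ofAdd.injective this
  have h3 : (3 : K) = 0 := fix_three
  have hAdet : (A : M2 K).det = 1 := A.2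
  have hCdet : (cube (A : M2 K)).det = 1 := by rw [fix_det_cube, hAdet, one_pow]
  set t : K := (A : M2 K).trace with ht
  set e : K := (((ε : ℤˣ) : ℤ) : K) with he
  have hee : e * e = 1 := by
    rcases Int.units_eq_one_or ε with h | h <;> rw [he, h] <;> simp
  have hid := fix_trace_identity e hee (A : M2 K) (cube (A : M2 K)) X hAdet hCdet hact
  rw [fix_trace_cube, ← ht] at hid
  have hte : t = e * t ^ 3 := by
    by_contra hne
    apply hX0
    have h0 : (t - e * t ^ 3) • X = 0 := by rw [sub_smul, hid, sub_self]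
    rcases smul_eq_zero.1 h0 with h | h
    · exact absurd (sub_eq_zero.1 h) hne
    · exact h
  have hsq := fix_sq (A : M2 K) hAdet
  rw [← ht] at hsq
  -- the three possible conclusions
  have case0 : t = 0 → (⟨rho K ((ε, A) : G0 K), ⟨(ε, A), rfl⟩⟩ : Mq K) ^ 2 = 1 := by
    intro h0
    have hA2 : A ^ 2 = -1 := by
      apply Subtype.ext
      rw [Matrix.SpecialLinearGroup.coe_pow, pow_two, hsq, h0, zero_smul, zero_sub]
      simp
    apply Subtype.ext
    rw [Subgroup.coe_pow]
    exact fix_pow_two_eq ε A hA2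
  have case1 : ε = 1 → t ^ 2 = 1 → (⟨rho K ((ε, A) : G0 K), ⟨(ε, A), rfl⟩⟩ : Mq K) ^ 3 = 1 := by
    intro hε ht2
    have hA3m : (A : M2 K) ^ 3 = (-t) • (1 : M2 K) := by
      rw [pow_succ, pow_two, hsq, sub_mul, Matrix.smul_mul, hsq, one_mul, smul_sub, smul_smul,
        ← pow_two, ht2, one_smul]
      rw [neg_smul]
      abel
    have ht1 : t = 1 ∨ t = -1 := by
      have : (t - 1) * (t + 1) = 0 := by linear_combination ht2
      rcases mul_eq_zero.1 this with h | h
      · exact Or.inl (sub_eq_zero.1 h)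
      · exact Or.inr (eq_neg_of_add_eq_zero_left h)
    apply Subtype.ext
    rw [Subgroup.coe_pow]
    change rho K ((ε, A) : G0 K) ^ 3 = 1
    rw [← map_pow, Prod.pow_mk, hε, one_pow]
    rcases ht1 with h | h
    · have hA3 : A ^ 3 = -1 := by
        apply Subtype.ext
        rw [Matrix.SpecialLinearGroup.coe_pow, hA3m, h]
        simp
      rw [hA3, fix_rho_neg_one]
    · have hA3 : A ^ 3 = 1 := by
        apply Subtype.ext
        rw [Matrix.SpecialLinearGroup.coe_pow, hA3m, h]
        simp
      rw [hA3]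
      exact map_one _
  rcases Int.units_eq_one_or ε with hε | hε
  · -- ε = 1: t = t³
    have he1 : e = 1 := by rw [he, hε]; simp
    rw [he1, one_mul] at hte
    have : t * (t ^ 2 - 1) = 0 := by linear_combination -hte
    rcases mul_eq_zero.1 this with h | h
    · exact Or.inl (case0 h)
    · exact Or.inr (case1 hε (sub_eq_zero.1 h))
  · -- ε = -1: t = -t³, and -1 is not a square
    have he1 : e = -1 := by rw [he, hε]; simp
    rw [he1] at hte
    have : t * (t ^ 2 + 1) = 0 := by linear_combination hte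
    rcases mul_eq_zero.1 this with h | h
    · exact Or.inl (case0 h)
    · exfalso
      have hsqr : IsSquare (-1 : K) := ⟨t, by linear_combination -h⟩
      rw [FiniteField.isSquare_neg_one_iff] at hsqr
      exact hsqr (fix_card_mod_four hK)

end Cfsg.Agent.Lib.H4.RS
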