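import Mathlib
import Cfsg.Agent.Lib.H4.AschU91a

set_option autoImplicit false

/-! # U9-1, model computations: the extraspecial group `3^{1+2}` inside `GU_3(2)` over the explicit field `F4` -/

namespace Cfsg.Agent.Lib.H4.Asch

open F4

abbrev M3 := Matrix (Fin 3) (Fin 3) F4

def X4 : M3 := !![i, o, o; o, w, o; o, o, v]
def Z4 : M3 := !![o, o, i; i, o, o; o, i, o]
def U4 : M3 := !![i, i, i; i, w, v; i, v, w]

/-- explicit product of 3 × 3 matrices -/
def mul3 (A B : M3) : M3 := fun a b => A a 0 * B 0 b + A a 1 * B 1 b + A a 2 * B 2 b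

theorem mul3_eq (A B : M3) : mul3 A B = A * B := by
  ext a b
  simp [mul3, Matrix.mul_apply, Fin.sum_univ_three]

/-- conjugate transpose (`σ(x) = x²`) -/
def ct (A : M3) : M3 := fun a b => A b a * A b a

def one3 : M3 := !![i, o, o; o, i, o; o, o, i]

theorem one3_eq : one3 = 1 := by
  ext a b
  fin_cases a <;> fin_cases b <;> rfl

def pw (A : M3) : Fin 3 → M3
  | 0 => one3
  | 1 => A
  | 2 => mul3 A A

def sc (z : F4) (A : M3) : M3 := fun a b => z * A a b

theorem sc_eq (z : F4) (A : M3) : sc z A = z • A := rfl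

def wp : Fin 3 → F4
  | 0 => i
  | 1 => w
  | 2 => v

def el (p : Fin 3 × Fin 3 × Fin 3) : M3 := sc (wp p.1) (mul3 (pw X4 p.2.1) (pw Z4 p.2.2))

def RM4 : Finset M3 := Finset.image el Finset.univ

theorem mem_RM4 {A : M3} : A ∈ RM4 ↔ ∃ p, el p = A := by
  simp [RM4]

theorem el_zero : el (0, 0, 0) = one3 := by decide

theorem el_X : el (0, 1, 0) = X4 := by decide

theorem el_Z : el (0, 0, 1) = Z4 := by decide

set_option maxRecDepth 100000 in
theorem RM4_mul : ∀ p q : Fin 3 × Fin 3 × Fin 3, mul3 (el p) (el q) ∈ RM4 := by decide +kernel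

set_option maxRecDepth 100000 in
theorem RM4_sc : ∀ (z : Fin 3) (p : Fin 3 × Fin 3 × Fin 3), sc (wp z) (el p) ∈ RM4 := by decide +kernel

set_option maxRecDepth 100000 in
theorem RM4_pow : ∀ p : Fin 3 × Fin 3 × Fin 3, mul3 (mul3 (el p) (el p)) (el p) = one3 := by
  decide +kernel

set_option maxRecDepth 100000 in
theorem RM4_iso : ∀ p : Fin 3 × Fin 3 × Fin 3, mul3 (ct (el p)) (el p) = one3 := by decide +kernel

set_option maxRecDepth 100000 in
theorem RM4_comm : ∀ p q : Fin 3 × Fin 3 × Fin 3, ∃ z : Fin 3,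
    mul3 (el p) (el q) = sc (wp z) (mul3 (el q) (el p)) := by decide +kernel

theorem U4_iso : mul3 (ct U4) U4 = one3 := by decide +kernel

theorem U4_iso' : mul3 U4 (ct U4) = one3 := by decide +kernel

set_option maxRecDepth 100000 in
theorem unc4 : ∀ p : Fin 3 × Fin 3 × Fin 3,
    mul3 (mul3 (mul3 U4 (el p)) (ct U4)) (el p) = mul3 (el p) (mul3 (mul3 U4 (el p)) (ct U4)) →
    ∃ z : Fin 3, el p = sc (wp z) one3 := by decide +kernel

/-- matrix units -/
def unit3 (a b : Fin 3) : M3 := fun x y => if x = a ∧ y = b then i else o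

/-- a linear combination of `X^t Z^s`, `t = 0, 1, 2` -/
def lin3 (c0 c1 c2 : F4) (s : Fin 3) : M3 :=
  fun x y => c0 * el (0, 0, s) x y + c1 * el (0, 1, s) x y + c2 * el (0, 2, s) x y

set_option maxRecDepth 100000 in
theorem span4 : ∀ a b : Fin 3, ∃ (c0 c1 c2 : F4) (s : Fin 3), unit3 a b = lin3 c0 c1 c2 s := by
  decide +kernel

def mk3 (a b c d e f g h k : F4) : M3 := !![a, d, g; b, e, h; c, f, k]

set_option maxRecDepth 100000 in
theorem norm4 : ∀ a b c : F4, a * a * a + b * b * b + c * c * c = i →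
    ∀ d e f : F4, d * d * d + e * e * e + f * f * f = i → d * d * a + e * e * b + f * f * c = o →
    ∀ g h k : F4, g * g * g + h * h * h + k * k * k = i → g * g * a + h * h * b + k * k * c = o →
      g * g * d + h * h * e + k * k * f = o →
      mul3 (mul3 (mk3 a b c d e f g h k) X4) (ct (mk3 a b c d e f g h k)) ∈ RM4 ∧
      mul3 (mul3 (mk3 a b c d e f g h k) Z4) (ct (mk3 a b c d e f g h k)) ∈ RM4 := by
  decide +kernel

end Cfsg.Agent.Lib.H4.Asch
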