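import Mathlib
import Cfsg.Agent.Lib.Lead.AschU9Defs
import Cfsg.Agent.Lib.H4.AschU91b
import Cfsg.Agent.Lib.H4.AschUM3
import Cfsg.Agent.Lib.H4.Herm

set_option autoImplicit false
set_option maxHeartbeats 800000

/-! # U9-1: the standard `U3Data` over a field with four elements -/

namespace Cfsg.Agent.Lib.H4.Asch

open Cfsg Cfsg.Geo Cfsg.Agent.Lib.Lead.Asch
open scoped MatrixGroups Matrix

/-! ## the model -/

theorem RM4_one : (1 : M3) ∈ RM4 := by
  rw [← one3_eq, ← el_zero]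
  exact mem_RM4.mpr ⟨_, rfl⟩

theorem RM4_mul' {r s : M3} (hr : r ∈ RM4) (hs : s ∈ RM4) : r * s ∈ RM4 := by
  obtain ⟨p, rfl⟩ := mem_RM4.mp hr
  obtain ⟨q, rfl⟩ := mem_RM4.mp hs
  rw [← mul3_eq]
  exact RM4_mul p q

theorem RM4_pw {r : M3} (hr : r ∈ RM4) (a : Fin 3) : pw r a ∈ RM4 := by
  fin_cases a
  · show one3 ∈ RM4
    rw [one3_eq]; exact RM4_one
  · exact hr
  · show mul3 r r ∈ RM4
    rw [mul3_eq]; exact RM4_mul' hr hr

theorem conj_pw (A B r : M3) (hAB : A * B = 1) (hBA : B * A = 1) (a : Fin 3) :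
    A * pw r a * B = pw (A * r * B) a := by
  fin_cases a
  · show A * one3 * B = one3
    rw [one3_eq, mul_one, hAB]
  · rfl
  · show A * mul3 r r * B = mul3 (A * r * B) (A * r * B)
    rw [mul3_eq, mul3_eq]
    calc A * (r * r) * B = A * r * 1 * r * B := by simp only [mul_one, mul_assoc]
      _ = A * r * B * (A * r * B) := by rw [← hBA]; simp only [mul_assoc]

/-- conjugation by an invertible matrix maps the model group into itself as soon as it does so on the
generators -/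
theorem conj_mem_RM4 (A B : M3) (hAB : A * B = 1) (hBA : B * A = 1) (hX : A * X4 * B ∈ RM4)
    (hZ : A * Z4 * B ∈ RM4) (p : Fin 3 × Fin 3 × Fin 3) : A * el p * B ∈ RM4 := by
  obtain ⟨c, a, b⟩ := p
  show A * sc (wp c) (mul3 (pw X4 a) (pw Z4 b)) * B ∈ RM4
  rw [sc_eq, mul3_eq]
  have h1 : A * (wp c • (pw X4 a * pw Z4 b)) * B =
      wp c • ((A * pw X4 a * B) * (A * pw Z4 b * B)) := by
    rw [Matrix.mul_smul, Matrix.smul_mul]
    congr 1
    calc A * (pw X4 a * pw Z4 b) * B = A * pw X4 a * 1 * pw Z4 b * B := by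
          simp only [mul_one, mul_assoc]
      _ = _ := by rw [← hBA]; simp only [mul_assoc]
  rw [h1, conj_pw A B X4 hAB hBA, conj_pw A B Z4 hAB hBA]
  have h2 := RM4_mul' (RM4_pw hX a) (RM4_pw hZ b)
  obtain ⟨q, hq⟩ := mem_RM4.mp h2
  rw [← hq, ← sc_eq]
  exact RM4_sc c q

theorem ct_mul_self_entry (A : M3) (j k : Fin 3) :
    mul3 (ct A) A j k = A 0 j * A 0 j * A 0 k + A 1 j * A 1 j * A 1 k + A 2 j * A 2 j * A 2 k := rfl

theorem eq_mk3 (A : M3) :
    A = mk3 (A 0 0) (A 1 0) (A 2 0) (A 0 1) (A 1 1) (A 2 1) (A 0 2) (A 1 2) (A 2 2) := by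
  ext a b
  fin_cases a <;> fin_cases b <;> rfl

/-- every isometry of the standard hermitian form on `F4³` normalises the model group -/
theorem norm4' (A : M3) (hA : ct A * A = 1) (p : Fin 3 × Fin 3 × Fin 3) : A * el p * ct A ∈ RM4 := by
  have hA' : A * ct A = 1 := mul_eq_one_comm.mp hA
  have hA3 : mul3 (ct A) A = one3 := by rw [mul3_eq, one3_eq]; exact hA
  have e := fun j k => (ct_mul_self_entry A j k).symm.trans (congrFun (congrFun hA3 j) k)
  have h := norm4 (A 0 0) (A 1 0) (A 2 0) (e 0 0) (A 0 1) (A 1 1) (A 2 1) (e 1 1) (e 1 0)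
    (A 0 2) (A 1 2) (A 2 2) (e 2 2) (e 2 0) (e 2 1)
  rw [← eq_mk3 A, mul3_eq, mul3_eq, mul3_eq, mul3_eq] at h
  exact conj_mem_RM4 A (ct A) hA' hA h.1 h.2 p

/-! ## transfer to an arbitrary field with four elements -/

section transfer

variable {F : Type*} [Field F]

/-- transfer of a model matrix -/
def mp (ι : F4 ≃+* F) (A : M3) : Matrix (Fin 3) (Fin 3) F := A.map ι

theorem mp_apply (ι : F4 ≃+* F) (A : M3) (a b : Fin 3) : mp ι A a b = ι (A a b) := rfl

theorem mp_mul (ι : F4 ≃+* F) (A B : M3) : mp ι (A * B) = mp ι A * mp ι B := by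
  unfold mp
  exact Matrix.map_mul

theorem mp_one (ι : F4 ≃+* F) : mp ι (1 : M3) = 1 := by
  unfold mp
  exact Matrix.map_one _ (map_zero ι) (map_one ι)

theorem mp_smul (ι : F4 ≃+* F) (z : F4) (A : M3) : mp ι (z • A) = ι z • mp ι A := by
  ext a b
  simp [mp_apply]

theorem mp_injective (ι : F4 ≃+* F) : Function.Injective (mp ι) := by
  intro A B h
  ext a b
  exact ι.injective (congrFun (congrFun h a) b)

theorem mp_surjective (ι : F4 ≃+* F) (M : Matrix (Fin 3) (Fin 3) F) : ∃ A : M3, mp ι A = M := by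
  refine ⟨M.map ι.symm, ?_⟩
  ext a b
  simp [mp_apply]

theorem mp_ct (ι : F4 ≃+* F) (φ : F →+* F) (hφ : ∀ x, φ x = x ^ 2) (A : M3) :
    mp ι (ct A) = adj φ (mp ι A) := by
  ext a b
  rw [adj_apply, mp_apply, mp_apply, hφ, sq]
  exact map_mul ι _ _

theorem isom_of_adj (φ : F →+* F) (hφ : ∀ x, φ x = x ^ 2) (hφ2 : ∀ x, φ (φ x) = x)
    (g : Matrix (Fin 3) (Fin 3) F) (h : adj φ g * g = 1) (x y : Fin 3 → F) :
    hermForm 3 F 2 (g *ᵥ x) (g *ᵥ y) = hermForm 3 F 2 x y := by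
  rw [hermForm_adj φ hφ hφ2, Matrix.mulVec_mulVec, h, Matrix.one_mulVec]

end transfer

/-- **U9-1**. -/
theorem exists_u3Data_std {F : Type*} [Field F] [Fintype F] (hF : Fintype.card F = 4) :
    ∃ (R₁ : Subgroup (GL (Fin 3) F)) (u : GL (Fin 3) F), U3Data (hermForm 3 F 2) R₁ u := by
  classical
  have hF' : Fintype.card F = 2 ^ 2 := by rw [hF]; norm_num
  obtain ⟨φ, hφ, hφ2⟩ := Cfsg.Agent.Lib.H4.exists_frob hF'
  let ι : F4 ≃+* F := FiniteField.ringEquivOfCardEq (K := F4) (K' := F) (by rw [F4.card_eq, hF])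
  -- the isometry criterion
  have hadj : ∀ a : GL (Fin 3) F, (∀ x y : Fin 3 → F,
      hermForm 3 F 2 ((a : Matrix (Fin 3) (Fin 3) F) *ᵥ x) ((a : Matrix (Fin 3) (Fin 3) F) *ᵥ y) =
        hermForm 3 F 2 x y) →
      adj φ (a : Matrix (Fin 3) (Fin 3) F) * (a : Matrix (Fin 3) (Fin 3) F) = 1 := by
    intro a ha
    exact adj_mul_self_of_mem_GU φ hφ hφ2 a (fun u v => ha u v)
  -- model elements give isometries
  have hel : ∀ p, adj φ (mp ι (el p)) * mp ι (el p) = 1 := by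
    intro p
    rw [← mp_ct ι φ hφ, ← mp_mul, ← mul3_eq, RM4_iso p, one3_eq, mp_one]
  have hel3 : ∀ p, mp ι (el p) * mp ι (el p) * mp ι (el p) = 1 := by
    intro p
    rw [← mp_mul, ← mp_mul, ← mul3_eq, ← mul3_eq, RM4_pow p, one3_eq, mp_one]
  -- the group
  let R₁ : Subgroup (GL (Fin 3) F) :=
    { carrier := {g | ∃ p, (g : Matrix (Fin 3) (Fin 3) F) = mp ι (el p)}
      one_mem' := ⟨(0, 0, 0), by rw [el_zero, one3_eq, mp_one]; rfl⟩
      mul_mem' := by
        rintro g h ⟨p, hp⟩ ⟨q, hq⟩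
        obtain ⟨r, hr⟩ := mem_RM4.mp (RM4_mul p q)
        refine ⟨r, ?_⟩
        rw [hr, mul3_eq, mp_mul, ← hp, ← hq]
        rfl
      inv_mem' := by
        rintro g ⟨p, hp⟩
        obtain ⟨r, hr⟩ := mem_RM4.mp (RM4_mul p p)
        refine ⟨r, ?_⟩
        have h3 : g * g * g = 1 := by
          apply Units.ext
          rw [Units.val_mul, Units.val_mul, hp, hel3 p]
          rfl
        have hinv : g⁻¹ = g * g := by
          rw [inv_eq_iff_mul_eq_one, ← mul_assoc]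
          exact h3
        rw [hinv, hr, mul3_eq, mp_mul, ← hp]
        rfl }
  have hR₁ : ∀ g : GL (Fin 3) F, g ∈ R₁ ↔ ∃ p, (g : Matrix (Fin 3) (Fin 3) F) = mp ι (el p) :=
    fun g => Iff.rfl
  -- the Fourier element
  let u : GL (Fin 3) F :=
    ⟨mp ι U4, mp ι (ct U4), by rw [← mp_mul, ← mul3_eq, U4_iso', one3_eq, mp_one],
      by rw [← mp_mul, ← mul3_eq, U4_iso, one3_eq, mp_one]⟩
  have hu : (u : Matrix (Fin 3) (Fin 3) F) = mp ι U4 := rfl
  have hu' : ((u⁻¹ : GL (Fin 3) F) : Matrix (Fin 3) (Fin 3) F) = mp ι (ct U4) := rfl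
  refine ⟨R₁, u, ⟨?_, ?_, ?_, ?_, ?_, ?_, ?_⟩⟩
  · -- fix
    rintro r ⟨p, hp⟩ x y
    rw [hp]
    exact isom_of_adj φ hφ hφ2 _ (hel p) x y
  · -- norm
    intro a ha r hr
    obtain ⟨p, hp⟩ := hr
    obtain ⟨A, hA⟩ := mp_surjective ι (a : Matrix (Fin 3) (Fin 3) F)
    have h1 := hadj a ha
    rw [← hA, ← mp_ct ι φ hφ, ← mp_mul] at h1
    have hA1 : ct A * A = 1 := mp_injective ι (h1.trans (mp_one ι).symm)
    have hA1' : A * ct A = 1 := mul_eq_one_comm.mp hA1
    obtain ⟨q, hq⟩ := mem_RM4.mp (norm4' A hA1 p)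
    refine ⟨q, ?_⟩
    have hainv : ((a⁻¹ : GL (Fin 3) F) : Matrix (Fin 3) (Fin 3) F) = mp ι (ct A) := by
      have h2 : (a : Matrix (Fin 3) (Fin 3) F) * mp ι (ct A) = 1 := by
        rw [← hA, ← mp_mul, hA1', mp_one]
      calc ((a⁻¹ : GL (Fin 3) F) : Matrix (Fin 3) (Fin 3) F)
          = ((a⁻¹ : GL (Fin 3) F) : Matrix (Fin 3) (Fin 3) F) *
              ((a : Matrix (Fin 3) (Fin 3) F) * mp ι (ct A)) := by rw [h2, mul_one]
        _ = mp ι (ct A) := by
            rw [← mul_assoc, ← Units.val_mul, inv_mul_cancel, Units.val_one, one_mul]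
    rw [Units.val_mul, Units.val_mul, hainv, hp, ← hA, ← mp_mul, ← mp_mul, hq]
  · -- comm
    rintro r ⟨p, hp⟩ s ⟨q, hq⟩
    obtain ⟨z, hz⟩ := RM4_comm p q
    rw [mul3_eq, mul3_eq, sc_eq] at hz
    have hwz : wp z ≠ 0 := by fin_cases z <;> decide
    have hιz : ι (wp z) ≠ 0 := by
      intro h0
      exact hwz (ι.injective (h0.trans (map_zero ι).symm))
    rw [mem_scalars_iff]
    refine ⟨Units.mk0 _ hιz, ?_⟩
    have h1 : ((r * s : GL (Fin 3) F) : Matrix (Fin 3) (Fin 3) F) =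
        ι (wp z) • ((s * r : GL (Fin 3) F) : Matrix (Fin 3) (Fin 3) F) := by
      rw [Units.val_mul, Units.val_mul, hp, hq, ← mp_mul, ← mp_mul, hz, mp_smul]
    have h2 : r * s * r⁻¹ * s⁻¹ = (r * s) * (s * r)⁻¹ := by group
    rw [h2, Units.val_mul, h1, Matrix.smul_mul, ← Units.val_mul, mul_inv_cancel, Units.val_one]
    rfl
  · -- pow
    rintro r ⟨p, hp⟩
    apply Units.ext
    rw [pow_succ, pow_two, Units.val_mul, Units.val_mul, hp, hel3 p]
    rfl
  · -- span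
    rw [eq_top_iff]
    intro M _
    have hM : M = ∑ a : Fin 3, ∑ b : Fin 3, M a b • Matrix.single a b (1 : F) := by
      conv_lhs => rw [Matrix.matrix_eq_sum_single M]
      simp [Matrix.smul_single]
    rw [hM]
    refine Submodule.sum_mem _ fun a _ => Submodule.sum_mem _ fun b _ => Submodule.smul_mem _ _ ?_
    obtain ⟨c0, c1, c2, s, hs⟩ := span4 a b
    have hunit : Matrix.single a b (1 : F) = mp ι (unit3 a b) := by
      ext x y
      rw [mp_apply, Matrix.single_apply]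
      unfold unit3
      by_cases h : x = a ∧ y = b
      · rw [if_pos h, if_pos ⟨h.1.symm, h.2.symm⟩]
        exact (map_one ι).symm
      · rw [if_neg h, if_neg (fun h' => h ⟨h'.1.symm, h'.2.symm⟩)]
        exact (map_zero ι).symm
    have hmem : ∀ t : Fin 3, mp ι (el (0, t, s)) ∈
        Submodule.span F (matrixSet R₁) := by
      intro t
      apply Submodule.subset_span
      have hinv1 : mp ι (el (0, t, s)) * mp ι (ct (el (0, t, s))) = 1 := by
        rw [← mp_mul]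
        have := RM4_iso (0, t, s)
        rw [mul3_eq, one3_eq] at this
        rw [mul_eq_one_comm.mp this, mp_one]
      have hinv2 : mp ι (ct (el (0, t, s))) * mp ι (el (0, t, s)) = 1 := by
        rw [← mp_mul]
        have := RM4_iso (0, t, s)
        rw [mul3_eq, one3_eq] at this
        rw [this, mp_one]
      exact ⟨⟨_, _, hinv1, hinv2⟩, ⟨(0, t, s), rfl⟩, rfl⟩
    have hlin : mp ι (unit3 a b) = ι c0 • mp ι (el (0, 0, s)) + ι c1 • mp ι (el (0, 1, s)) +
        ι c2 • mp ι (el (0, 2, s)) := by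
      rw [hs]
      ext x y
      simp [mp_apply, lin3]
    rw [hunit, hlin]
    exact Submodule.add_mem _ (Submodule.add_mem _ (Submodule.smul_mem _ _ (hmem 0))
      (Submodule.smul_mem _ _ (hmem 1))) (Submodule.smul_mem _ _ (hmem 2))
  · -- ufix
    intro x y
    rw [hu]
    refine isom_of_adj φ hφ hφ2 _ ?_ x y
    rw [← mp_ct ι φ hφ, ← mp_mul, ← mul3_eq, U4_iso, one3_eq, mp_one]
  · -- unc
    rintro r ⟨p, hp⟩ hns hcomm
    apply hns
    have h1 := congrArg (fun g : GL (Fin 3) F => (g : Matrix (Fin 3) (Fin 3) F)) hcomm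
    simp only [Units.val_mul, hu, hu', hp, ← mp_mul] at h1
    have h2 := mp_injective ι h1
    simp only [← mul3_eq] at h2
    obtain ⟨z, hz⟩ := unc4 p h2
    have hwz : wp z ≠ 0 := by fin_cases z <;> decide
    have hιz : ι (wp z) ≠ 0 := by
      intro h0
      exact hwz (ι.injective (h0.trans (map_zero ι).symm))
    rw [mem_scalars_iff]
    refine ⟨Units.mk0 _ hιz, ?_⟩
    rw [hp, hz, sc_eq, one3_eq, mp_smul, mp_one]
    rfl

end Cfsg.Agent.Lib.H4.Asch
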