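import Mathlib
import Cfsg.Agent.Lib.H21.Hall4Defs

/-!
# S4221 (M. Hall), piece PAT: involutions with prescribed index patterns

`pattern_conj`, `exists_invol`, `exists_comm_pair` with the exact signatures of
`tools/blueprints/S4221_sigs.lean`.  The two pure group-theory lemmas of piece ODD are reproved
here under private-style names (`oddConjAux`, `commLiftAux`) so that the file is self-contained.
-/

set_option autoImplicit false
set_option linter.unusedSectionVars false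

namespace Cfsg.Agent.Lib.H4.Hall4

open Equiv Cfsg.Agent.Lib.H21.Hall4

variable {α : Type*} [Fintype α] [DecidableEq α] {G : Subgroup (Perm α)}

/-- If `u` inverts `w` (in the form `u * w * u = w⁻¹`, `u` an involution) then it inverts every
power of `w`. -/
theorem invPowAux {Γ : Type*} [Group Γ] (u w : Γ) (hu : u * u = 1) (h : u * w * u = w⁻¹) (n : ℕ) :
    u * w ^ n * u = (w ^ n)⁻¹ := by
  have hu' : u⁻¹ = u := inv_eq_of_mul_eq_one_left hu
  have h1 : u * w ^ n * u⁻¹ = (u * w * u⁻¹) ^ n := (conj_pow (a := u) (b := w) (i := n)).symm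
  rw [hu'] at h1
  rw [h1, h, inv_pow]

theorem oddConjAux {Γ : Type*} [Group Γ] (u v : Γ) (hu : u * u = 1) (hv : v * v = 1)
    (h : Odd (orderOf (u * v))) : ∃ s ∈ Subgroup.zpowers (u * v), s⁻¹ * u * s = v := by
  obtain ⟨j, hj⟩ := h
  have hu' : u⁻¹ = u := inv_eq_of_mul_eq_one_left hu
  have hv' : v⁻¹ = v := inv_eq_of_mul_eq_one_left hv
  have hinv : u * (u * v) * u = (u * v)⁻¹ := by
    rw [mul_inv_rev, hu', hv', ← mul_assoc, hu, one_mul]
  refine ⟨(u * v) ^ (j + 1), Subgroup.pow_mem _ (Subgroup.mem_zpowers _) _, ?_⟩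
  have h1 := invPowAux u (u * v) hu hinv (j + 1)
  -- `u * s = s⁻¹ * u`
  have h2 : u * (u * v) ^ (j + 1) = ((u * v) ^ (j + 1))⁻¹ * u := by
    have : u * (u * v) ^ (j + 1) * u * u = ((u * v) ^ (j + 1))⁻¹ * u := by rw [h1]
    rw [mul_assoc, hu, mul_one] at this
    exact this
  have h3 : (u * v) ^ (j + 1) * (u * v) ^ (j + 1) = u * v := by
    rw [← pow_add]
    have : j + 1 + (j + 1) = (2 * j + 1) + 1 := by ring
    rw [this, pow_succ, ← hj, pow_orderOf_eq_one, one_mul]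
  calc ((u * v) ^ (j + 1))⁻¹ * u * (u * v) ^ (j + 1)
      = ((u * v) ^ (j + 1))⁻¹ * (u * (u * v) ^ (j + 1)) := by rw [mul_assoc]
    _ = ((u * v) ^ (j + 1))⁻¹ * (((u * v) ^ (j + 1))⁻¹ * u) := by rw [h2]
    _ = ((u * v) ^ (j + 1) * (u * v) ^ (j + 1))⁻¹ * u := by rw [mul_inv_rev, mul_assoc]
    _ = (u * v)⁻¹ * u := by rw [h3]
    _ = v := by rw [mul_inv_rev, hu', hv', mul_assoc, hu, mul_one]

theorem commLiftAux {Γ : Type*} [Group Γ] (a b : Γ) (ha : a * a = 1) (hb : b * b = 1)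
    (h : Odd (orderOf (b * (a * b * a)))) :
    ∃ w ∈ Subgroup.zpowers (b * (a * b * a)), (b * w) * (b * w) = 1 ∧ a * (b * w) = (b * w) * a := by
  obtain ⟨j, hj⟩ := h
  have ha' : a⁻¹ = a := inv_eq_of_mul_eq_one_left ha
  have hb' : b⁻¹ = b := inv_eq_of_mul_eq_one_left hb
  set w := b * (a * b * a) with hw
  have hwinv : w⁻¹ = a * b * a * b := by
    rw [hw]
    simp only [mul_inv_rev, ha', hb', mul_assoc]
  have hainv : a * w * a = w⁻¹ := by
    rw [hwinv, hw]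
    calc a * (b * (a * b * a)) * a = a * b * a * b * (a * a) := by simp only [mul_assoc]
      _ = a * b * a * b := by rw [ha, mul_one]
  have hbinv : b * w * b = w⁻¹ := by
    rw [hwinv, hw]
    calc b * (b * (a * b * a)) * b = (b * b) * (a * b * a * b) := by simp only [mul_assoc]
      _ = a * b * a * b := by rw [hb, one_mul]
  have haba : a * b * a = b * w := by
    rw [hw, ← mul_assoc b b, hb, one_mul]
  refine ⟨w ^ (j + 1), Subgroup.pow_mem _ (Subgroup.mem_zpowers _) _, ?_, ?_⟩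
  · have h1 := invPowAux b w hb hbinv (j + 1)
    calc b * w ^ (j + 1) * (b * w ^ (j + 1))
        = (b * w ^ (j + 1) * b) * w ^ (j + 1) := by simp only [mul_assoc]
      _ = 1 := by rw [h1, inv_mul_cancel]
  · have h1 := invPowAux a w ha hainv (j + 1)
    -- `a * (b * w') * a = b * w'`
    have hpow : w * (w ^ (j + 1))⁻¹ = w ^ (j + 1) := by
      have h2 : w ^ (j + 1) * w ^ (j + 1) = w := by
        rw [← pow_add]
        have : j + 1 + (j + 1) = (2 * j + 1) + 1 := by ring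
        rw [this, pow_succ, ← hj, pow_orderOf_eq_one, one_mul]
      calc w * (w ^ (j + 1))⁻¹ = w ^ (j + 1) * w ^ (j + 1) * (w ^ (j + 1))⁻¹ := by rw [h2]
        _ = w ^ (j + 1) := by rw [mul_assoc, mul_inv_cancel, mul_one]
    have h3 : a * (b * w ^ (j + 1)) * a = b * w ^ (j + 1) := by
      calc a * (b * w ^ (j + 1)) * a = (a * b * a) * (a * w ^ (j + 1) * a) := by
            have : a * b * a * (a * w ^ (j + 1) * a) = a * b * (a * a) * w ^ (j + 1) * a := by
              simp only [mul_assoc]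
            rw [this, ha, mul_one]
            simp only [mul_assoc]
        _ = b * w * (w ^ (j + 1))⁻¹ := by rw [haba, h1]
        _ = b * w ^ (j + 1) := by rw [mul_assoc, hpow]
    calc a * (b * w ^ (j + 1)) = a * (b * w ^ (j + 1)) * (a * a) := by rw [ha, mul_one]
      _ = (a * (b * w ^ (j + 1)) * a) * a := by simp only [mul_assoc]
      _ = b * w ^ (j + 1) * a := by rw [h3]

/-- The pattern of a product. -/
theorem Pat_mul {x y : Perm α} {s : Fin 4 ↪ α} {ρ π : Perm (Fin 4)} (hx : Pat x s ρ)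
    (hy : Pat y s π) : Pat (x * y) s (ρ * π) := by
  intro i
  rw [Perm.mul_apply, hy, hx, Perm.mul_apply]

/-- The pattern of an involution is an involution. -/
theorem Pat_invol {a : Perm α} (ha2 : a * a = 1) {s : Fin 4 ↪ α} {σ : Perm (Fin 4)}
    (hs : Pat a s σ) : σ * σ = 1 := by
  ext i
  have h1 : (a * a) (s i) = s ((σ * σ) i) := Pat_mul hs hs i
  rw [ha2, Perm.one_apply] at h1
  have := s.injective h1
  rw [← this, Perm.one_apply]

/-- An element with trivial pattern lies in the stabilizer. -/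
theorem mem_st_of_Pat_one {x : Perm α} (hx : x ∈ G) {s : Fin 4 ↪ α} (h : Pat x s 1) :
    x ∈ st G s :=
  ⟨hx, fun i => by rw [h i, Perm.one_apply]⟩

/-- Pattern of a conjugate carried along `g`. -/
theorem Pat_conj {g a : Perm α} {s s' : Fin 4 ↪ α} {σ : Perm (Fin 4)} (hg : ∀ i, g (s i) = s' i)
    (hs : Pat a s σ) : Pat (g * a * g⁻¹) s' σ := by
  intro i
  have h1 : g⁻¹ (s' i) = s i := by rw [Perm.inv_eq_iff_eq, hg]
  rw [Perm.mul_apply, Perm.mul_apply, h1, hs, hg]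

theorem pattern_conj (hG : Hyp G) {a a' : Perm α} (ha : a ∈ G) (ha2 : a * a = 1) (ha' : a' ∈ G)
    (ha'2 : a' * a' = 1) (s s' : Fin 4 ↪ α) (σ : Perm (Fin 4)) (hs : Pat a s σ) (hs' : Pat a' s' σ) :
    ∃ g ∈ G, (∀ i, g (s i) = s' i) ∧ g * a * g⁻¹ = a' := by
  obtain ⟨g₀, hg₀, hg₀s⟩ := hG.trans s s'
  have hσ : σ * σ = 1 := Pat_invol ha2 hs
  set a'' := g₀ * a * g₀⁻¹ with ha''
  have ha''G : a'' ∈ G := G.mul_mem (G.mul_mem hg₀ ha) (G.inv_mem hg₀)
  have ha''2 : a'' * a'' = 1 := by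
    rw [ha'']
    calc g₀ * a * g₀⁻¹ * (g₀ * a * g₀⁻¹) = g₀ * (a * a) * g₀⁻¹ := by group
      _ = 1 := by rw [ha2]; group
  have hp'' : Pat a'' s' σ := Pat_conj hg₀s hs
  have hprod : a'' * a' ∈ st G s' := by
    refine mem_st_of_Pat_one (G.mul_mem ha''G ha') ?_
    have := Pat_mul hp'' hs'
    rwa [hσ] at this
  have hodd : Odd (orderOf (a'' * a')) := hG.odd_orderOf hprod
  obtain ⟨z, hz, hzc⟩ := oddConjAux a'' a' ha''2 ha'2 hodd
  have hzst : z ∈ st G s' := by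
    have : Subgroup.zpowers (a'' * a') ≤ st G s' := by
      rw [Subgroup.zpowers_le]; exact hprod
    exact this hz
  refine ⟨z⁻¹ * g₀, G.mul_mem (G.inv_mem hzst.1) hg₀, ?_, ?_⟩
  · intro i
    rw [Perm.mul_apply, hg₀s, Perm.inv_eq_iff_eq, hzst.2]
  · rw [← hzc, ha'']
    group

theorem Pat_pow {g : Perm α} {s : Fin 4 ↪ α} {σ : Perm (Fin 4)} (h : Pat g s σ) (n : ℕ) :
    Pat (g ^ n) s (σ ^ n) := by
  induction n with
  | zero => intro i; simp
  | succ n ih =>
    rw [pow_succ, pow_succ]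
    exact Pat_mul ih h

theorem exists_invol (hG : Hyp G) (s : Fin 4 ↪ α) (σ : Perm (Fin 4)) (hσ : σ * σ = 1) :
    ∃ a ∈ G, a * a = 1 ∧ Pat a s σ := by
  obtain ⟨g, hg, hgs⟩ := hG.trans s (σ.toEmbedding.trans s)
  have hp : Pat g s σ := fun i => by
    rw [hgs i]; rfl
  have hgg : g * g ∈ st G s := by
    refine mem_st_of_Pat_one (G.mul_mem hg hg) ?_
    have := Pat_mul hp hp
    rwa [hσ] at this
  have hodd : Odd (orderOf (g * g)) := hG.odd_orderOf hgg
  obtain ⟨j, hj⟩ := hodd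
  refine ⟨g ^ (orderOf (g * g)), G.pow_mem hg _, ?_, ?_⟩
  · rw [← pow_add, ← two_mul, pow_mul, pow_two, pow_orderOf_eq_one]
  · have h1 := Pat_pow hp (orderOf (g * g))
    have h2 : σ ^ (orderOf (g * g)) = σ := by
      rw [hj, pow_succ, pow_mul, pow_two, hσ, one_pow, one_mul]
    rwa [h2] at h1

theorem exists_comm_pair (hG : Hyp G) (s : Fin 4 ↪ α) (σ τ : Perm (Fin 4)) (hσ : σ * σ = 1)
    (hτ : τ * τ = 1) (hc : σ * τ = τ * σ) :
    ∃ a ∈ G, ∃ b ∈ G, a * a = 1 ∧ b * b = 1 ∧ a * b = b * a ∧ Pat a s σ ∧ Pat b s τ := by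
  obtain ⟨a, ha, ha2, hpa⟩ := exists_invol hG s σ hσ
  obtain ⟨b₀, hb₀, hb₀2, hpb₀⟩ := exists_invol hG s τ hτ
  have hpat : Pat (b₀ * (a * b₀ * a)) s (τ * (σ * τ * σ)) :=
    Pat_mul hpb₀ (Pat_mul (Pat_mul hpa hpb₀) hpa)
  have hone : τ * (σ * τ * σ) = 1 := by
    calc τ * (σ * τ * σ) = τ * (τ * σ * σ) := by rw [hc]
      _ = (τ * τ) * (σ * σ) := by simp only [mul_assoc]
      _ = 1 := by rw [hσ, hτ, one_mul]
  rw [hone] at hpat
  have hmem : b₀ * (a * b₀ * a) ∈ st G s :=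
    mem_st_of_Pat_one (G.mul_mem hb₀ (G.mul_mem (G.mul_mem ha hb₀) ha)) hpat
  have hodd : Odd (orderOf (b₀ * (a * b₀ * a))) := hG.odd_orderOf hmem
  obtain ⟨w, hw, hw2, hwc⟩ := commLiftAux a b₀ ha2 hb₀2 hodd
  have hwst : w ∈ st G s := by
    have : Subgroup.zpowers (b₀ * (a * b₀ * a)) ≤ st G s := by
      rw [Subgroup.zpowers_le]; exact hmem
    exact this hw
  refine ⟨a, ha, b₀ * w, G.mul_mem hb₀ hwst.1, ha2, hw2, hwc, hpa, ?_⟩
  intro i
  rw [Perm.mul_apply, hwst.2, hpb₀]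

end Cfsg.Agent.Lib.H4.Hall4
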