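import Mathlib
import Cfsg.Agent.Lib.H21.Hall4Defs
import Cfsg.Agent.Lib.H4.Hall4PAT

/-!
# S4221 (M. Hall), piece CST: conjugate patterns give equally large centralizers in `st G s`

`card_cst_eq` with the exact signature of `tools/blueprints/S4221_sigs.lean`.
-/

set_option autoImplicit false
set_option linter.unusedSectionVars false

namespace Cfsg.Agent.Lib.H4.Hall4

open Equiv Cfsg.Agent.Lib.H21.Hall4

variable {α : Type*} [Fintype α] [DecidableEq α] {G : Subgroup (Perm α)}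

theorem permApplyInvSelf {β : Type*} (f : Perm β) (x : β) : f (f⁻¹ x) = x := by simp

theorem permInvApplySelf {β : Type*} (f : Perm β) (x : β) : f⁻¹ (f x) = x := by simp

/-- Conjugation by `k` carries `K ⊓ C(a)` onto `K ⊓ C(k a k⁻¹)` when `k` normalizes `K`
(in the weak form `k K k⁻¹ ⊆ K` and `k⁻¹ K k ⊆ K`). -/
theorem card_inf_centralizer_conj {Γ : Type*} [Group Γ] (K : Subgroup Γ) (k a : Γ)
    (h1 : ∀ x ∈ K, k * x * k⁻¹ ∈ K) (h2 : ∀ x ∈ K, k⁻¹ * x * k ∈ K) :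
    Nat.card (K ⊓ Subgroup.centralizer ({a} : Set Γ) : Subgroup Γ) =
      Nat.card (K ⊓ Subgroup.centralizer ({k * a * k⁻¹} : Set Γ) : Subgroup Γ) := by
  refine Nat.card_congr
    { toFun := fun x => ⟨k * x.1 * k⁻¹, ?_⟩
      invFun := fun y => ⟨k⁻¹ * y.1 * k, ?_⟩
      left_inv := fun x => by
        apply Subtype.ext
        show k⁻¹ * (k * x.1 * k⁻¹) * k = x.1
        group
      right_inv := fun y => by
        apply Subtype.ext
        show k * (k⁻¹ * y.1 * k) * k⁻¹ = y.1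
        group }
  · obtain ⟨hxK, hxC⟩ := Subgroup.mem_inf.mp x.2
    refine Subgroup.mem_inf.mpr ⟨h1 _ hxK, ?_⟩
    rw [Subgroup.mem_centralizer_singleton_iff] at hxC ⊢
    calc k * x.1 * k⁻¹ * (k * a * k⁻¹) = k * (x.1 * a) * k⁻¹ := by group
      _ = k * (a * x.1) * k⁻¹ := by rw [hxC]
      _ = k * a * k⁻¹ * (k * x.1 * k⁻¹) := by group
  · obtain ⟨hyK, hyC⟩ := Subgroup.mem_inf.mp y.2
    refine Subgroup.mem_inf.mpr ⟨h2 _ hyK, ?_⟩
    rw [Subgroup.mem_centralizer_singleton_iff] at hyC ⊢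
    have h3 : a = k⁻¹ * (k * a * k⁻¹) * k := by group
    calc k⁻¹ * y.1 * k * a = k⁻¹ * (y.1 * (k * a * k⁻¹)) * k := by group
      _ = k⁻¹ * ((k * a * k⁻¹) * y.1) * k := by rw [hyC]
      _ = a * (k⁻¹ * y.1 * k) := by group

theorem card_cst_eq (hG : Hyp G) {a a' : Perm α} (ha : a ∈ G) (ha2 : a * a = 1) (ha' : a' ∈ G)
    (ha'2 : a' * a' = 1) (s : Fin 4 ↪ α) (σ ρ : Perm (Fin 4)) (hp : Pat a s σ)
    (hp' : Pat a' s (ρ * σ * ρ⁻¹)) :
    Nat.card (st G s ⊓ Subgroup.centralizer ({a} : Set (Perm α)) : Subgroup (Perm α)) =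
      Nat.card (st G s ⊓ Subgroup.centralizer ({a'} : Set (Perm α)) : Subgroup (Perm α)) := by
  obtain ⟨g, hg, hgs⟩ := hG.trans s (ρ.toEmbedding.trans s)
  have hgs' : ∀ i, g (s i) = s (ρ i) := fun i => by rw [hgs i]; rfl
  have hginv : ∀ i, g⁻¹ (s i) = s (ρ⁻¹ i) := fun i => by
    rw [Perm.inv_eq_iff_eq, hgs', permApplyInvSelf]
  set a'' := g * a * g⁻¹ with ha''
  have ha''G : a'' ∈ G := G.mul_mem (G.mul_mem hg ha) (G.inv_mem hg)
  have ha''2 : a'' * a'' = 1 := by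
    rw [ha'']
    calc g * a * g⁻¹ * (g * a * g⁻¹) = g * (a * a) * g⁻¹ := by group
      _ = 1 := by rw [ha2]; group
  have hp'' : Pat a'' s (ρ * σ * ρ⁻¹) := by
    intro i
    rw [ha'', Perm.mul_apply, Perm.mul_apply, hginv, hp, hgs']
    rfl
  obtain ⟨h, hh, hhs, hha⟩ := pattern_conj hG ha''G ha''2 ha' ha'2 s s (ρ * σ * ρ⁻¹) hp'' hp'
  have hhinv : ∀ i, h⁻¹ (s i) = s i := fun i => by rw [Perm.inv_eq_iff_eq, hhs]
  -- `k = h * g`
  have hka : (h * g) * a * (h * g)⁻¹ = a' := by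
    rw [← hha, ha'']; group
  have hkG : h * g ∈ G := G.mul_mem hh hg
  have hks : ∀ i, (h * g) (s i) = s (ρ i) := fun i => by
    rw [Perm.mul_apply, hgs', hhs]
  have hkinv : ∀ i, (h * g)⁻¹ (s i) = s (ρ⁻¹ i) := fun i => by
    rw [Perm.inv_eq_iff_eq, hks, permApplyInvSelf]
  have h1 : ∀ x ∈ st G s, (h * g) * x * (h * g)⁻¹ ∈ st G s := by
    intro x hx
    refine ⟨G.mul_mem (G.mul_mem hkG hx.1) (G.inv_mem hkG), fun i => ?_⟩
    rw [Perm.mul_apply, Perm.mul_apply, hkinv, hx.2, hks, permApplyInvSelf]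
  have h2 : ∀ x ∈ st G s, (h * g)⁻¹ * x * (h * g) ∈ st G s := by
    intro x hx
    refine ⟨G.mul_mem (G.mul_mem (G.inv_mem hkG) hx.1) hkG, fun i => ?_⟩
    rw [Perm.mul_apply, Perm.mul_apply, hks, hx.2, hkinv, permInvApplySelf]
  have := card_inf_centralizer_conj (st G s) (h * g) a h1 h2
  rw [hka] at this
  exact this

end Cfsg.Agent.Lib.H4.Hall4
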