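import Mathlib
import Cfsg.Agent.Lib.H21.Hall4Defs
import Cfsg.Agent.Lib.H4.Hall4PAT

/-!
# S4221 (M. Hall), piece FIX: fixed points of involutions, all involutions conjugate for `n ≥ 8`

`nfix_le_three`, `invol_conj` with the exact signatures of `tools/blueprints/S4221_sigs.lean`.
-/

set_option autoImplicit false
set_option linter.unusedSectionVars false

namespace Cfsg.Agent.Lib.H4.Hall4

open Equiv Cfsg.Agent.Lib.H21.Hall4

variable {α : Type*} [Fintype α] [DecidableEq α] {G : Subgroup (Perm α)}

theorem nfix_le_three (hG : Hyp G) {a : Perm α} (ha : a ∈ G) (ha2 : a * a = 1) (hne : a ≠ 1) :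
    nfix a ≤ 3 := by
  by_contra hcon
  have h4 : 4 ≤ nfix a := by omega
  have hcard : Fintype.card {x : α // a x = x} = nfix a := by
    unfold nfix
    rw [Fintype.card_subtype]
  have hle : Fintype.card (Fin 4) ≤ Fintype.card {x : α // a x = x} := by
    rw [hcard, Fintype.card_fin]; exact h4
  obtain ⟨e⟩ := Function.Embedding.nonempty_of_card_le hle
  set s : Fin 4 ↪ α := e.trans (Function.Embedding.subtype _) with hs
  have hmem : a ∈ st G s := by
    refine ⟨ha, fun i => ?_⟩
    have : s i = (e i : α) := rfl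
    rw [this]
    exact (e i).2
  have hodd : Odd (orderOf a) := hG.odd_orderOf hmem
  have hdvd : orderOf a ∣ 2 := by
    apply orderOf_dvd_of_pow_eq_one
    rw [pow_two, ha2]
  have h1 : orderOf a = 1 := by
    have hle2 : orderOf a ≤ 2 := Nat.le_of_dvd (by norm_num) hdvd
    obtain ⟨j, hj⟩ := hodd
    interval_cases h : orderOf a
    · omega
    · rfl
    · omega
  exact hne (orderOf_eq_one_iff.mp h1)

/-- A non-trivial involution of `G` has pattern `σa` on some 4-tuple when `n ≥ 8`. -/
theorem exists_Pat_σa (hG : Hyp G) (h8 : 8 ≤ Fintype.card α) {a : Perm α} (ha : a ∈ G)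
    (ha2 : a * a = 1) (hne : a ≠ 1) : ∃ s : Fin 4 ↪ α, Pat a s σa := by
  have h3 := nfix_le_three hG ha ha2 hne
  have haa : ∀ x, a (a x) = x := fun x => by
    have := congrArg (fun f : Perm α => f x) ha2
    simpa using this
  -- the moved points
  set M : Finset α := Finset.univ.filter (fun x => a x ≠ x) with hM
  have hMcard : M.card + nfix a = Fintype.card α := by
    unfold nfix
    rw [hM, add_comm]
    have := Finset.card_filter_add_card_filter_not (s := (Finset.univ : Finset α))
      (fun x => a x = x)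
    rw [Finset.card_univ] at this
    exact this
  have hM5 : 5 ≤ M.card := by omega
  have hMne : M.Nonempty := by
    rw [← Finset.card_pos]; omega
  obtain ⟨y0, hy0⟩ := hMne
  have hy0' : a y0 ≠ y0 := by
    rw [hM, Finset.mem_filter] at hy0; exact hy0.2
  have hsub : (M \ {y0, a y0}).Nonempty := by
    rw [← Finset.card_pos]
    have h1 := Finset.le_card_sdiff ({y0, a y0} : Finset α) M
    have h2 : ({y0, a y0} : Finset α).card ≤ 2 := Finset.card_le_two
    omega
  obtain ⟨y2, hy2⟩ := hsub
  rw [Finset.mem_sdiff, Finset.mem_insert, Finset.mem_singleton] at hy2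
  obtain ⟨hy2M, hy2n⟩ := hy2
  have hy2' : a y2 ≠ y2 := by
    rw [hM, Finset.mem_filter] at hy2M; exact hy2M.2
  have h20 : y2 ≠ y0 := fun h => hy2n (Or.inl h)
  have h21 : y2 ≠ a y0 := fun h => hy2n (Or.inr h)
  have h30 : a y2 ≠ y0 := fun h => h21 (by rw [← h, haa])
  have h31 : a y2 ≠ a y0 := fun h => h20 (a.injective h)
  let f : Fin 4 → α := ![y0, a y0, y2, a y2]
  have hf : Function.Injective f := by
    intro i j hij
    fin_cases i <;> fin_cases j <;>
      simp only [f, Matrix.cons_val_zero, Matrix.cons_val_one, Matrix.cons_val_two,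
        Matrix.cons_val_three, Matrix.head_cons, Matrix.tail_cons, Fin.zero_eta, Fin.mk_one,
        Fin.reduceFinMk] at hij <;>
      first
        | rfl
        | exact absurd hij hy0'
        | exact absurd hij.symm hy0'
        | exact absurd hij h20
        | exact absurd hij.symm h20
        | exact absurd hij h21
        | exact absurd hij.symm h21
        | exact absurd hij h30
        | exact absurd hij.symm h30
        | exact absurd hij h31
        | exact absurd hij.symm h31
        | exact absurd hij hy2'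
        | exact absurd hij.symm hy2'
  refine ⟨⟨f, hf⟩, ?_⟩
  intro i
  fin_cases i
  · show a y0 = f (σa 0)
    have : σa 0 = 1 := by decide
    rw [this]; rfl
  · show a (a y0) = f (σa 1)
    have : σa 1 = 0 := by decide
    rw [this, haa]; rfl
  · show a y2 = f (σa 2)
    have : σa 2 = 3 := by decide
    rw [this]; rfl
  · show a (a y2) = f (σa 3)
    have : σa 3 = 2 := by decide
    rw [this, haa]; rfl

theorem invol_conj (hG : Hyp G) (h8 : 8 ≤ Fintype.card α) {a a' : Perm α} (ha : a ∈ G)
    (ha2 : a * a = 1) (hne : a ≠ 1) (ha' : a' ∈ G) (ha'2 : a' * a' = 1) (hne' : a' ≠ 1) :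
    ∃ g ∈ G, g * a * g⁻¹ = a' := by
  obtain ⟨s, hs⟩ := exists_Pat_σa hG h8 ha ha2 hne
  obtain ⟨s', hs'⟩ := exists_Pat_σa hG h8 ha' ha'2 hne'
  obtain ⟨g, hg, _, hga⟩ := pattern_conj hG ha ha2 ha' ha'2 s s' σa hs hs'
  exact ⟨g, hg, hga⟩

end Cfsg.Agent.Lib.H4.Hall4
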