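import Cfsg.Agent.Lib.H27.LCDefs

/-!
# S0406 piece LC-CODE (helper27 architect): the sublattice `4 D_24` of a Leech-like lattice and the weights of its code
-/

set_option autoImplicit false

namespace Cfsg.Agent.Lib.H4.LC

open Cfsg Cfsg.Agent.Lib.H27.LC

variable {Λ : AddSubgroup (Fin 24 → ℤ)}

theorem single_add_single_mem (h : LeechLike Λ) (i : Fin 24) :
    (Pi.single i 4 + Pi.single 0 4 : Fin 24 → ℤ) ∈ Λ := by
  by_cases hi : i = 0
  · subst hi
    have e : (Pi.single 0 4 + Pi.single 0 4 : Fin 24 → ℤ) = Pi.single 0 8 := by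
      rw [← Pi.single_add]
      norm_num
    rw [e]
    exact h.h8 0
  · exact h.h4 i 0 hi

theorem four_mul_mem (h : LeechLike Λ) (y : Fin 24 → ℤ) (hy : (2 : ℤ) ∣ ∑ i, y i) :
    (fun i => 4 * y i) ∈ Λ := by
  obtain ⟨t, ht⟩ := hy
  have e : (fun i => 4 * y i) =
      ∑ i, y i • (Pi.single i 4 + Pi.single 0 4 : Fin 24 → ℤ) - t • (Pi.single 0 8 : Fin 24 → ℤ) := by
    funext j
    simp only [Pi.sub_apply, Finset.sum_apply, Pi.smul_apply, Pi.add_apply, Pi.single_apply, smul_eq_mul,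
      mul_add, Finset.sum_add_distrib, mul_ite, mul_zero, Finset.sum_ite_eq, Finset.mem_univ, if_true]
    by_cases hj : j = 0
    · subst hj
      simp only [if_true]
      rw [← Finset.sum_mul, ht]
      ring
    · simp only [hj, if_false, Finset.sum_const_zero]
      ring
  rw [e]
  refine Λ.sub_mem (Λ.sum_mem fun i _ => Λ.zsmul_mem (single_add_single_mem h i) _) ?_
  exact Λ.zsmul_mem (h.h8 0) _

theorem sum_even_of_four_mul_mem (h : LeechLike Λ) (y : Fin 24 → ℤ) (hy : (fun i => 4 * y i) ∈ Λ) :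
    (2 : ℤ) ∣ ∑ i, y i := by
  by_contra hodd
  have hodd' : (∑ i, y i) % 2 = 1 := by omega
  have hsum : ∑ i, (y - (Pi.single 0 1 : Fin 24 → ℤ)) i = ∑ i, y i - 1 := by
    simp only [Pi.sub_apply, Finset.sum_sub_distrib, Pi.single_apply, Finset.sum_ite_eq', Finset.mem_univ,
      if_true]
  have h1 : (fun i => 4 * (y - (Pi.single 0 1 : Fin 24 → ℤ)) i) ∈ Λ := by
    apply four_mul_mem h
    rw [hsum]
    omega
  have h2 := Λ.sub_mem hy h1
  have e : ((fun i => 4 * y i) - fun i => 4 * (y - (Pi.single 0 1 : Fin 24 → ℤ)) i) = (Pi.single 0 4 : Fin 24 → ℤ) := by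
    funext j
    simp only [Pi.sub_apply, Pi.single_apply]
    split_ifs <;> ring
  rw [e] at h2
  have hne : (Pi.single 0 4 : Fin 24 → ℤ) ≠ 0 := by
    intro h0
    have := congrFun h0 0
    simp at this
  have h3 := h.h32 _ h2 hne
  have h4 : nrm (Pi.single 0 4 : Fin 24 → ℤ) = 16 := by
    unfold nrm
    simp only [Pi.single_apply, ite_pow]
    rw [Finset.sum_eq_single 0]
    · norm_num
    · intro b _ hb
      simp [hb]
    · intro hb
      exact absurd (Finset.mem_univ _) hb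
  rw [h4] at h3
  omega

theorem dot_dvd (h : LeechLike Λ) {c d : Fin 24 → ℤ} (hc : c ∈ Λ) (hd : d ∈ Λ) :
    (8 : ℤ) ∣ ∑ i, c i * d i := by
  have h1 := h.h16 _ (Λ.add_mem hc hd)
  have h2 := h.h16 _ hc
  have h3 := h.h16 _ hd
  rw [nrm_add] at h1
  omega

theorem intCast_zmod_two_eq_zero_iff (a : ℤ) : ((a : ℤ) : ZMod 2) = 0 ↔ a % 2 = 0 := by
  rw [ZMod.intCast_zmod_eq_zero_iff_dvd]
  omega

theorem exists_reduced (h : LeechLike Λ) {w : Fin 24 → ZMod 2} (hw : w ∈ codeOf Λ) (hw0 : w ≠ 0) :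
    ∃ d : Fin 24 → ℤ, (fun i => 2 * d i) ∈ Λ ∧ (∀ i, w i = 0 → d i = 0) ∧
      (∀ i, w i ≠ 0 → d i = 1 ∨ d i = -1) := by
  obtain ⟨d', hd', hdw⟩ := mem_codeOf.1 hw
  have hw0' : ∃ i0, w i0 ≠ 0 := by
    by_contra hcon
    push Not at hcon
    exact hw0 (funext hcon)
  obtain ⟨i0, hi0⟩ := hw0'
  have hz : ∀ i, w i = 0 → d' i % 2 = 0 := by
    intro i hi
    rw [← hdw i] at hi
    exact (intCast_zmod_two_eq_zero_iff _).1 hi
  have hnz : ∀ i, w i ≠ 0 → d' i % 2 = 1 := by
    intro i hi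
    rw [← hdw i] at hi
    have := (intCast_zmod_two_eq_zero_iff (d' i)).not.1 hi
    omega
  by_cases hS : (2 : ℤ) ∣ ∑ i, d' i / 2
  · refine ⟨fun i => d' i - 2 * (d' i / 2), ?_, ?_, ?_⟩
    · have h1 := four_mul_mem h (fun i => d' i / 2) hS
      have h2 := Λ.sub_mem hd' h1
      have e : ((fun i => 2 * d' i) - fun i => 4 * (d' i / 2)) =
          fun i => 2 * (d' i - 2 * (d' i / 2)) := by
        funext j
        simp only [Pi.sub_apply]
        ring
      rw [e] at h2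
      exact h2
    · intro i hi
      have := hz i hi
      show d' i - 2 * (d' i / 2) = 0
      omega
    · intro i hi
      have := hnz i hi
      left
      show d' i - 2 * (d' i / 2) = 1
      omega
  · have hS' : (2 : ℤ) ∣ ∑ i, (d' i / 2 + (Pi.single i0 1 : Fin 24 → ℤ) i) := by
      rw [Finset.sum_add_distrib]
      simp only [Pi.single_apply, Finset.sum_ite_eq', Finset.mem_univ, if_true]
      omega
    refine ⟨fun i => d' i - 2 * (d' i / 2 + (Pi.single i0 1 : Fin 24 → ℤ) i), ?_, ?_, ?_⟩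
    · have h1 := four_mul_mem h (fun i => d' i / 2 + (Pi.single i0 1 : Fin 24 → ℤ) i) hS'
      have h2 := Λ.sub_mem hd' h1
      have e : ((fun i => 2 * d' i) - fun i => 4 * (d' i / 2 + (Pi.single i0 1 : Fin 24 → ℤ) i)) =
          fun i => 2 * (d' i - 2 * (d' i / 2 + (Pi.single i0 1 : Fin 24 → ℤ) i)) := by
        funext j
        simp only [Pi.sub_apply]
        ring
      rw [e] at h2
      exact h2
    · intro i hi
      have := hz i hi
      have hne : i ≠ i0 := by
        rintro rfl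
        exact hi0 hi
      show d' i - 2 * (d' i / 2 + (Pi.single i0 1 : Fin 24 → ℤ) i) = 0
      rw [Pi.single_apply, if_neg hne]
      omega
    · intro i hi
      have := hnz i hi
      show d' i - 2 * (d' i / 2 + (Pi.single i0 1 : Fin 24 → ℤ) i) = 1 ∨
        d' i - 2 * (d' i / 2 + (Pi.single i0 1 : Fin 24 → ℤ) i) = -1
      rw [Pi.single_apply]
      split_ifs
      · right
        omega
      · left
        omega

theorem nrm_two_mul_reduced {w : Fin 24 → ZMod 2} {d : Fin 24 → ℤ} (h0 : ∀ i, w i = 0 → d i = 0)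
    (h1 : ∀ i, w i ≠ 0 → d i = 1 ∨ d i = -1) :
    nrm (fun i => 2 * d i) = 4 * (hammingNorm w : ℤ) := by
  unfold nrm hammingNorm
  rw [Finset.card_filter, Nat.cast_sum, Finset.mul_sum]
  refine Finset.sum_congr rfl fun i _ => ?_
  show (2 * d i) ^ 2 = 4 * ((if w i ≠ 0 then 1 else 0 : ℕ) : ℤ)
  by_cases hi : w i = 0
  · rw [h0 i hi]
    simp [hi]
  · rcases h1 i hi with h | h <;> rw [h] <;> simp [hi]

theorem four_dvd_weight (h : LeechLike Λ) {w : Fin 24 → ZMod 2} (hw : w ∈ codeOf Λ) :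
    4 ∣ hammingNorm w := by
  by_cases hw0 : w = 0
  · subst hw0
    simp
  · obtain ⟨d, hd, h0, h1⟩ := exists_reduced h hw hw0
    have h2 := h.h16 _ hd
    rw [nrm_two_mul_reduced h0 h1] at h2
    omega

theorem eight_le_weight (h : LeechLike Λ) {w : Fin 24 → ZMod 2} (hw : w ∈ codeOf Λ) (hw0 : w ≠ 0) :
    8 ≤ hammingNorm w := by
  obtain ⟨d, hd, h0, h1⟩ := exists_reduced h hw hw0
  have hne : (fun i => 2 * d i) ≠ 0 := by
    intro hz
    have hw0' : ∃ i0, w i0 ≠ 0 := by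
      by_contra hcon
      push Not at hcon
      exact hw0 (funext hcon)
    obtain ⟨i0, hi0⟩ := hw0'
    have h3 := congrFun hz i0
    simp only [Pi.zero_apply] at h3
    rcases h1 i0 hi0 with h4 | h4 <;> rw [h4] at h3 <;> omega
  have h2 := h.h32 _ hd hne
  rw [nrm_two_mul_reduced h0 h1] at h2
  omega

end Cfsg.Agent.Lib.H4.LC
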