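import Mathlib
import Cfsg.Agent.Lib.L0.SFDefs

/-!
helper4: S4130-E1 (key lemma), core version with the two inputs (A4, C2-for-quotients) as hypotheses.
`N ⊴ G` an `r`-group: some `a ∈ N` such that every `r'`-element of `C_G(a)` centralises `N`.
-/

set_option autoImplicit false

namespace Cfsg.Agent.Lib.H4.SF

section twostep
variable {G : Type*} [Group G]

/-- Coprime two-step: `g` of order prime to `r` centralising `M` and acting trivially on `N/M`
(`N` an `r`-group) centralises `N`. -/
theorem comm_of_two_step {r : ℕ} [Fact r.Prime] (M N : Subgroup G) (hMN : M ≤ N)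
    (hN : IsPGroup r N) (g : G) (hgM : ∀ m ∈ M, g * m = m * g)
    (hgN : ∀ n ∈ N, n⁻¹ * (g * n * g⁻¹) ∈ M) (hcop : (orderOf g).Coprime r) :
    ∀ n ∈ N, g * n = n * g := by
  intro n hn
  set m := n⁻¹ * (g * n * g⁻¹) with hm
  have hmM : m ∈ M := hgN n hn
  have hgm : Commute g m := hgM m hmM
  have hconj : g * n * g⁻¹ = n * m := by rw [hm]; group
  have hpow : ∀ k : ℕ, g ^ k * n * (g ^ k)⁻¹ = n * m ^ k := by
    intro k
    induction k with
    | zero => simp
    | succ k ih =>
      have h1 : g ^ (k + 1) * n * (g ^ (k + 1))⁻¹ = g * (g ^ k * n * (g ^ k)⁻¹) * g⁻¹ := by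
        rw [pow_succ']; group
      rw [h1, ih]
      have hgmk : g * m ^ k * g⁻¹ = m ^ k := by
        rw [(hgm.pow_right k).eq, mul_inv_cancel_right]
      calc g * (n * m ^ k) * g⁻¹ = (g * n * g⁻¹) * (g * m ^ k * g⁻¹) := by group
        _ = n * m * m ^ k := by rw [hconj, hgmk]
        _ = n * m ^ (k + 1) := by rw [pow_succ', mul_assoc]
  have h1 := hpow (orderOf g)
  rw [pow_orderOf_eq_one, one_mul, inv_one, mul_one] at h1
  have hmk : m ^ orderOf g = 1 := by
    have : n * m ^ orderOf g = n * 1 := by rw [mul_one]; exact h1.symm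
    exact mul_left_cancel this
  obtain ⟨j, hj⟩ := hN ⟨m, hMN hmM⟩
  have hj' : m ^ (r ^ j) = 1 := by
    have := congrArg Subtype.val hj
    simpa using this
  have hm1 : m = 1 := by
    have h1 : orderOf m ∣ orderOf g := orderOf_dvd_of_pow_eq_one hmk
    have h2 : orderOf m ∣ r ^ j := orderOf_dvd_of_pow_eq_one hj'
    have hc : Nat.Coprime (orderOf g) (r ^ j) := hcop.pow_right j
    have h3 := Nat.dvd_gcd h1 h2
    rw [hc.gcd_eq_one] at h3
    exact orderOf_eq_one_iff.mp (Nat.dvd_one.mp h3)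
  rw [hm1, mul_one] at hconj
  calc g * n = g * n * g⁻¹ * g := by group
    _ = n * g := by rw [hconj]

/-- The elements of `N` whose coset mod `M` is fixed by `g`. -/
def fixSub (M : Subgroup G) [M.Normal] (N : Subgroup G) (g : G) : Subgroup G :=
  N ⊓ (Subgroup.centralizer {(QuotientGroup.mk' M g)}).comap (QuotientGroup.mk' M)

theorem mem_fixSub {M : Subgroup G} [M.Normal] {N : Subgroup G} {g n : G} :
    n ∈ fixSub M N g ↔ n ∈ N ∧ n⁻¹ * (g * n * g⁻¹) ∈ M := by
  unfold fixSub
  rw [Subgroup.mem_inf, Subgroup.mem_comap, Subgroup.mem_centralizer_singleton_iff]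
  refine and_congr_right (fun _ => ?_)
  rw [← QuotientGroup.eq_one_iff (N := M)]
  simp only [QuotientGroup.mk'_apply, QuotientGroup.mk_mul, QuotientGroup.mk_inv]
  constructor
  · intro h
    calc ((n : G ⧸ M))⁻¹ * ((g : G ⧸ M) * n * (g : G ⧸ M)⁻¹)
        = ((n : G ⧸ M))⁻¹ * ((n : G ⧸ M) * g) * (g : G ⧸ M)⁻¹ := by rw [h]; group
      _ = 1 := by group
  · intro h
    have h' : (n : G ⧸ M) * ((n : G ⧸ M)⁻¹ * ((g : G ⧸ M) * n * (g : G ⧸ M)⁻¹)) * g =
        n * 1 * g := by rw [h]
    calc (n : G ⧸ M) * g = n * 1 * g := by group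
      _ = (n : G ⧸ M) * ((n : G ⧸ M)⁻¹ * ((g : G ⧸ M) * n * (g : G ⧸ M)⁻¹)) * g := h'.symm
      _ = g * n := by group

theorem fixSub_le {M : Subgroup G} [M.Normal] {N : Subgroup G} {g : G} : fixSub M N g ≤ N :=
  inf_le_left

theorem le_fixSub {M : Subgroup G} [hMn : M.Normal] {N : Subgroup G} (hMN : M ≤ N) (g : G) :
    M ≤ fixSub M N g := by
  intro m hm
  rw [mem_fixSub]
  refine ⟨hMN hm, M.mul_mem (M.inv_mem hm) (hMn.conj_mem m hm g)⟩

end twostep

section main
variable {G : Type*} [Group G] [Finite G]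

omit [Finite G] in
/-- Between `M` and `N` with `|N:M|` prime there is nothing. -/
theorem eq_or_eq_of_relIndex_prime {r : ℕ} (hr : r.Prime) {M N T : Subgroup G}
    (hMN : M.relIndex N = r) (hMT : M ≤ T) (hTN : T ≤ N) : T = M ∨ T = N := by
  have h := Subgroup.relIndex_mul_relIndex M T N hMT hTN
  rw [hMN] at h
  have hd : M.relIndex T ∣ r := Dvd.intro _ h
  rcases (Nat.dvd_prime hr).1 hd with h1 | h1
  · left
    exact le_antisymm (Subgroup.relIndex_eq_one.mp h1) hMT
  · right
    rw [h1] at h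
    have h2 : T.relIndex N = 1 := by
      have : r * T.relIndex N = r * 1 := by rw [h, mul_one]
      exact Nat.eq_of_mul_eq_mul_left hr.pos this
    exact le_antisymm hTN (Subgroup.relIndex_eq_one.mp h2)

/-- **S4130-E1**, core form. -/
theorem exists_mem_centralizer_coprime_core {r : ℕ} [Fact r.Prime]
    (hA4 : ∀ N : Subgroup G, N.Normal → IsPGroup r N → ∀ x : G,
      (Subgroup.centralizer ({x} : Set G)).relIndex N ∣ r)
    (hC2 : ∀ (M : Subgroup G) [M.Normal] (U : Subgroup (G ⧸ M)), U.Normal → U ≠ ⊥ →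
      (∀ V : Subgroup (G ⧸ M), V.Normal → V ≤ U → V = ⊥ ∨ V = U) → (Nat.card U).Prime)
    (N : Subgroup G) [hNn : N.Normal] (hN : IsPGroup r N) :
    ∃ a ∈ N, ∀ g : G, g * a = a * g → (orderOf g).Coprime r → ∀ n ∈ N, g * n = n * g := by
  have hr : r.Prime := Fact.out
  -- strong induction on the order of `N`
  suffices H : ∀ k : ℕ, ∀ N : Subgroup G, N.Normal → IsPGroup r N → Nat.card N = k →
      ∃ a ∈ N, ∀ g : G, g * a = a * g → (orderOf g).Coprime r → ∀ n ∈ N, g * n = n * g from
    H _ N hNn hN rfl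
  intro k
  induction k using Nat.strong_induction_on with
  | _ k ih =>
  intro N hNn hN hk
  by_cases hbot : N = ⊥
  · refine ⟨1, N.one_mem, ?_⟩
    intro g _ _ n hn
    rw [hbot, Subgroup.mem_bot] at hn
    rw [hn, mul_one, one_mul]
  -- a maximal normal subgroup `M < N`
  let S : Set (Subgroup G) := {M | M.Normal ∧ M < N}
  have hS0 : (⊥ : Subgroup G) ∈ S := ⟨inferInstance, bot_lt_iff_ne_bot.mpr hbot⟩
  obtain ⟨M, -, hMmax⟩ := (Set.toFinite S).exists_le_maximal hS0
  obtain ⟨hMn, hMlt⟩ : M.Normal ∧ M < N := hMmax.prop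
  have hMN : M ≤ N := hMlt.le
  have hmaxM : ∀ T : Subgroup G, T.Normal → M ≤ T → T ≤ N → T = M ∨ T = N := by
    intro T hTn hMT hTN
    by_cases hT : T = N
    · right; exact hT
    · left
      have hTS : T ∈ S := ⟨hTn, lt_of_le_of_ne hTN hT⟩
      exact le_antisymm (hMmax.le_of_ge hTS hMT) hMT
  -- `|N : M| = r`
  have hidx : M.relIndex N = r := by
    set π := QuotientGroup.mk' M with hπ
    have hπs : Function.Surjective π := QuotientGroup.mk'_surjective M
    have hUn : (N.map π).Normal := hNn.map π hπs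
    have hUne : N.map π ≠ ⊥ := by
      intro h
      rw [Subgroup.map_eq_bot_iff, QuotientGroup.ker_mk'] at h
      exact hMlt.not_ge h
    have hUmin : ∀ V : Subgroup (G ⧸ M), V.Normal → V ≤ N.map π → V = ⊥ ∨ V = N.map π := by
      intro V hVn hVU
      have hT1 : (V.comap π).Normal := hVn.comap π
      have hT2 : M ≤ V.comap π := by
        intro m hm
        rw [Subgroup.mem_comap]
        have : π m = 1 := by rw [hπ, QuotientGroup.mk'_apply, QuotientGroup.eq_one_iff]; exact hm
        rw [this]; exact V.one_mem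
      have hT3 : V.comap π ≤ N := by
        intro x hx
        rw [Subgroup.mem_comap] at hx
        obtain ⟨n, hn, hnx⟩ := hVU hx
        have hxn : n⁻¹ * x ∈ M := by
          rw [← QuotientGroup.eq_one_iff]
          have : π (n⁻¹ * x) = 1 := by rw [map_mul, map_inv, hnx]; group
          simpa [hπ] using this
        have : x = n * (n⁻¹ * x) := by group
        rw [this]
        exact N.mul_mem hn (hMN hxn)
      have hV : V = (V.comap π).map π := (Subgroup.map_comap_eq_self_of_surjective hπs V).symm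
      rcases hmaxM _ hT1 hT2 hT3 with h | h
      · left
        rw [hV, h, Subgroup.map_eq_bot_iff, QuotientGroup.ker_mk']
      · right
        rw [hV, h]
    have hprime := hC2 M (N.map π) hUn hUne hUmin
    have hUp : IsPGroup r (N.map π) := hN.map π
    obtain ⟨j, hj⟩ := IsPGroup.iff_card.mp hUp
    have hcardU : Nat.card (N.map π) = r := by
      rw [hj] at hprime ⊢
      have hj1 : j ≠ 0 := by
        intro h0
        rw [h0, pow_zero] at hprime
        exact Nat.not_prime_one hprime
      have hdvd : r ∣ r ^ j := dvd_pow_self r hj1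
      exact ((Nat.prime_dvd_prime_iff_eq hr hprime).mp hdvd).symm
    have h1 : M.relIndex N = (⊥ : Subgroup (G ⧸ M)).relIndex (N.map π) := by
      rw [← Subgroup.relIndex_comap, MonoidHom.comap_bot, QuotientGroup.ker_mk']
    rw [h1, Subgroup.relIndex_bot_left, hcardU]
  have hdich : ∀ g : G, fixSub M N g = M ∨ fixSub M N g = N := fun g =>
    eq_or_eq_of_relIndex_prime hr hidx (le_fixSub hMN g) fixSub_le
  -- induction hypothesis for `M`
  have hMp : IsPGroup r M := hN.to_le hMN
  have hcardlt : Nat.card M < k := by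
    rw [← hk]
    have := Set.ncard_lt_ncard (SetLike.coe_ssubset_coe.mpr hMlt) (Set.toFinite _)
    rwa [← Nat.card_coe_set_eq, ← Nat.card_coe_set_eq] at this
  obtain ⟨aM, haM, haMc⟩ := ih _ hcardlt M hMn hMp rfl
  by_cases hcase : ∀ g : G, (∀ m ∈ M, g * m = m * g) → fixSub M N g = N
  · -- Case 1
    refine ⟨aM, hMN haM, ?_⟩
    intro g hga hcop
    have hgM : ∀ m ∈ M, g * m = m * g := haMc g hga hcop
    have hfix := hcase g hgM
    apply comm_of_two_step M N hMN hN g hgM _ hcop
    intro n hn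
    have : n ∈ fixSub M N g := by rw [hfix]; exact hn
    exact (mem_fixSub.mp this).2
  · -- Case 2
    push_neg at hcase
    obtain ⟨g₀, hg₀M, hg₀⟩ := hcase
    have hfix₀ : fixSub M N g₀ = M := (hdich g₀).resolve_right hg₀
    obtain ⟨a, haN, haM'⟩ : ∃ a ∈ N, a ∉ M := by
      by_contra h
      push_neg at h
      exact hMlt.not_ge h
    refine ⟨a, haN, ?_⟩
    intro g hga hcop
    -- `g` fixes the coset of `a`, so acts trivially on `N/M`
    have hafix : a ∈ fixSub M N g := by
      rw [mem_fixSub]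
      refine ⟨haN, ?_⟩
      have : a⁻¹ * (g * a * g⁻¹) = 1 := by rw [hga]; group
      rw [this]; exact M.one_mem
    have hfixg : fixSub M N g = N := by
      rcases hdich g with h | h
      · exfalso
        rw [h] at hafix
        exact haM' hafix
      · exact h
    have hgN : ∀ n ∈ N, n⁻¹ * (g * n * g⁻¹) ∈ M := by
      intro n hn
      have : n ∈ fixSub M N g := by rw [hfixg]; exact hn
      exact (mem_fixSub.mp this).2
    -- `g` centralises `M`
    have hgM : ∀ m ∈ M, g * m = m * g := by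
      by_contra hnot
      push_neg at hnot
      obtain ⟨m₀, hm₀M, hm₀⟩ := hnot
      set x := g * g₀ with hx
      -- `C_N(x) ≤ M`
      have hCx : N ⊓ Subgroup.centralizer ({x} : Set G) ≤ M ⊓ Subgroup.centralizer ({g} : Set G) := by
        intro n hn
        obtain ⟨hnN, hnx⟩ := Subgroup.mem_inf.mp hn
        rw [Subgroup.mem_centralizer_singleton_iff] at hnx
        -- hnx : n * x = x * n
        have hn₀ : n ∈ fixSub M N g₀ := by
          rw [mem_fixSub]
          refine ⟨hnN, ?_⟩
          -- n⁻¹ g₀ n g₀⁻¹ = (n⁻¹ g⁻¹ n g) · stuff in M ...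
          have h1 : n⁻¹ * (g * n * g⁻¹) ∈ M := hgN n hnN
          -- x n x⁻¹ = n, i.e. g (g₀ n g₀⁻¹) g⁻¹ = n, so g₀ n g₀⁻¹ = g⁻¹ n g
          have h2 : g₀ * n * g₀⁻¹ = g⁻¹ * n * g := by
            have : g * g₀ * n = n * (g * g₀) := by rw [← hx]; exact hnx.symm
            calc g₀ * n * g₀⁻¹ = g⁻¹ * (g * g₀ * n) * g₀⁻¹ := by group
              _ = g⁻¹ * (n * (g * g₀)) * g₀⁻¹ := by rw [this]
              _ = g⁻¹ * n * g := by group
          rw [h2]
          -- n⁻¹ g⁻¹ n g = g⁻¹ (g n⁻¹ g⁻¹ n) g = g⁻¹ (n⁻¹ g n g⁻¹)⁻¹ ... conj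
          have h3 : n⁻¹ * (g⁻¹ * n * g) = g⁻¹ * (n⁻¹ * (g * n * g⁻¹))⁻¹ * g⁻¹⁻¹ := by group
          rw [h3]
          exact hMn.conj_mem _ (M.inv_mem h1) g⁻¹
        rw [hfix₀] at hn₀
        refine Subgroup.mem_inf.mpr ⟨hn₀, ?_⟩
        rw [Subgroup.mem_centralizer_singleton_iff]
        -- x acts on M as g
        have hg₀n : g₀ * n = n * g₀ := hg₀M n hn₀
        have : n * (g * g₀) = g * g₀ * n := by rw [← hx]; exact hnx
        calc n * g = n * (g * g₀) * g₀⁻¹ := by group
          _ = g * g₀ * n * g₀⁻¹ := by rw [this]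
          _ = g * (g₀ * n) * g₀⁻¹ := by group
          _ = g * (n * g₀) * g₀⁻¹ := by rw [hg₀n]
          _ = g * n := by group
      have hD : ¬ M ≤ M ⊓ Subgroup.centralizer ({g} : Set G) := by
        intro hle
        have := (Subgroup.mem_inf.mp (hle hm₀M)).2
        rw [Subgroup.mem_centralizer_singleton_iff] at this
        exact hm₀ this.symm
      set D := M ⊓ Subgroup.centralizer ({g} : Set G) with hDdef
      have hDM : D ≤ M := inf_le_left
      have h4 := hA4 N hNn hN x
      rw [← Subgroup.inf_relIndex_right] at h4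
      have h5 : D.relIndex N ∣ (Subgroup.centralizer ({x} : Set G) ⊓ N).relIndex N :=
        Subgroup.relIndex_dvd_of_le_left N (by rw [inf_comm]; exact hCx)
      have h6 := Subgroup.relIndex_mul_relIndex D M N hDM hMN
      rw [hidx] at h6
      have h7 : D.relIndex M * r ∣ r := by rw [h6]; exact h5.trans h4
      have h8 : D.relIndex M ∣ 1 := by
        have : D.relIndex M * r ∣ 1 * r := by rwa [one_mul]
        exact Nat.dvd_of_mul_dvd_mul_right hr.pos this
      exact hD (Subgroup.relIndex_eq_one.mp (Nat.dvd_one.mp h8))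
    exact comm_of_two_step M N hMN hN g hgM hgN hcop

end main

end Cfsg.Agent.Lib.H4.SF
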