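import Mathlib
import Cfsg.Prelude.Def_Characters
import Cfsg.Agent.Lib.H4.CentRingA

/-!
# Centralizer ring of a permutation representation, part B (helper4)

For a matrix representation `R : G →* Matrix ι ι ℂ` and a finite `G`-set `Ω`:
the averaging idempotent `EE R` on `ι × Ω` (projection of `V* ⊗ ℂΩ` onto its invariants),
the operators `XA ι A = 1 ⊗ A` for `A` in the centralizer ring, which commute with `EE R`,
trace formulas, and facts on idempotent complex matrices (trace `0` means zero; trace `1`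
means that commuting operators act on it as scalars).
-/

open scoped Kronecker ComplexConjugate

set_option linter.unusedSectionVars false
set_option linter.unusedVariables false

namespace Cfsg.Agent.Lib.H4.CentRing

section Avg

variable {G : Type*} [Group G] [Fintype G]

theorem avg_mul_left {R : Type*} [Ring R] [Algebra ℂ R] (σ : G → R)
    (hσ : ∀ g h, σ (g * h) = σ g * σ h) (h : G) :
    σ h * ((Nat.card G : ℂ)⁻¹ • ∑ g, σ g) = (Nat.card G : ℂ)⁻¹ • ∑ g, σ g := by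
  rw [mul_smul_comm, Finset.mul_sum]
  congr 1
  simp only [← hσ]
  exact Fintype.sum_equiv (Equiv.mulLeft h) _ _ fun g => rfl

theorem avg_mul_right {R : Type*} [Ring R] [Algebra ℂ R] (σ : G → R)
    (hσ : ∀ g h, σ (g * h) = σ g * σ h) (h : G) :
    ((Nat.card G : ℂ)⁻¹ • ∑ g, σ g) * σ h = (Nat.card G : ℂ)⁻¹ • ∑ g, σ g := by
  rw [smul_mul_assoc, Finset.sum_mul]
  congr 1
  simp only [← hσ]
  exact Fintype.sum_equiv (Equiv.mulRight h) _ _ fun g => rfl

theorem avg_idem {R : Type*} [Ring R] [Algebra ℂ R] (σ : G → R)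
    (hσ : ∀ g h, σ (g * h) = σ g * σ h) :
    ((Nat.card G : ℂ)⁻¹ • ∑ g, σ g) * ((Nat.card G : ℂ)⁻¹ • ∑ g, σ g) =
      (Nat.card G : ℂ)⁻¹ • ∑ g, σ g := by
  have hne : (Nat.card G : ℂ) ≠ 0 := by exact_mod_cast (Nat.card_pos (α := G)).ne'
  rw [smul_mul_assoc, Finset.sum_mul]
  simp only [avg_mul_left σ hσ]
  rw [Finset.sum_const, Finset.card_univ, ← Nat.card_eq_fintype_card, ← Nat.cast_smul_eq_nsmul ℂ,
    smul_smul, inv_mul_cancel₀ hne, one_smul]

end Avg

section Kron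

variable {G : Type*} [Group G] [Fintype G] {Ω : Type*} [Fintype Ω] [DecidableEq Ω] [MulAction G Ω]
  {ι : Type*} [Fintype ι] [DecidableEq ι]

/-- `g ↦ (R g⁻¹)ᵀ ⊗ P(g)`: the action on `V* ⊗ ℂΩ`. -/
noncomputable def sg (R : G →* Matrix ι ι ℂ) (g : G) : Matrix (ι × Ω) (ι × Ω) ℂ :=
  (R g⁻¹).transpose ⊗ₖ (pm g : Matrix Ω Ω ℂ)

theorem sg_mul (R : G →* Matrix ι ι ℂ) (g h : G) :
    (sg R (g * h) : Matrix (ι × Ω) (ι × Ω) ℂ) = sg R g * sg R h := by
  rw [sg, sg, sg, ← Matrix.mul_kronecker_mul, ← Matrix.transpose_mul, ← map_mul, mul_inv_rev, pm_mul]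

/-- The averaging idempotent: projection onto `(V* ⊗ ℂΩ)^G`. -/
noncomputable def EE (R : G →* Matrix ι ι ℂ) : Matrix (ι × Ω) (ι × Ω) ℂ :=
  (Nat.card G : ℂ)⁻¹ • ∑ g, sg R g

theorem EE_idem (R : G →* Matrix ι ι ℂ) : (EE R : Matrix (ι × Ω) (ι × Ω) ℂ) * EE R = EE R :=
  avg_idem _ (sg_mul R)

theorem sg_mul_EE (R : G →* Matrix ι ι ℂ) (g : G) :
    (sg R g : Matrix (ι × Ω) (ι × Ω) ℂ) * EE R = EE R :=
  avg_mul_left _ (sg_mul R) g

/-- `1 ⊗ A`. -/
noncomputable def XA (ι : Type*) [Fintype ι] [DecidableEq ι] (A : Matrix Ω Ω ℂ) :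
    Matrix (ι × Ω) (ι × Ω) ℂ :=
  (1 : Matrix ι ι ℂ) ⊗ₖ A

theorem XA_mul_sg (R : G →* Matrix ι ι ℂ) (A : Matrix Ω Ω ℂ) (g : G) :
    XA ι A * sg R g = (R g⁻¹).transpose ⊗ₖ (A * pm g) := by
  rw [XA, sg, ← Matrix.mul_kronecker_mul, one_mul]

theorem sg_mul_XA (R : G →* Matrix ι ι ℂ) (A : Matrix Ω Ω ℂ) (g : G) :
    sg R g * XA ι A = (R g⁻¹).transpose ⊗ₖ (pm g * A) := by
  rw [XA, sg, ← Matrix.mul_kronecker_mul, mul_one]

theorem XA_comm_EE (R : G →* Matrix ι ι ℂ) {A : Matrix Ω Ω ℂ} (hA : IsEqv G A) :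
    XA ι A * EE R = EE R * XA ι A := by
  rw [EE, mul_smul_comm, smul_mul_assoc, Finset.mul_sum, Finset.sum_mul]
  congr 1
  refine Finset.sum_congr rfl fun g _ => ?_
  rw [XA_mul_sg, sg_mul_XA, hA.comm]

theorem XA_mul (A B : Matrix Ω Ω ℂ) : XA ι (A * B) = XA ι A * XA ι B := by
  rw [XA, XA, XA, ← Matrix.mul_kronecker_mul, one_mul]

theorem trace_XA_mul_EE (R : G →* Matrix ι ι ℂ) (A : Matrix Ω Ω ℂ) :
    (XA ι A * EE R).trace = (Nat.card G : ℂ)⁻¹ * ∑ g : G, (R g⁻¹).trace * cA A g := by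
  rw [EE, mul_smul_comm, Matrix.trace_smul, Finset.mul_sum, Matrix.trace_sum, smul_eq_mul]
  congr 1
  refine Finset.sum_congr rfl fun g _ => ?_
  rw [XA_mul_sg, Matrix.trace_kronecker, Matrix.trace_transpose, cA]

theorem trace_EE (R : G →* Matrix ι ι ℂ) :
    (EE R : Matrix (ι × Ω) (ι × Ω) ℂ).trace =
      (Nat.card G : ℂ)⁻¹ * ∑ g : G, (R g⁻¹).trace * (Nat.card (MulAction.fixedBy Ω g) : ℂ) := by
  rw [EE, Matrix.trace_smul, Matrix.trace_sum, smul_eq_mul]
  congr 1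
  refine Finset.sum_congr rfl fun g _ => ?_
  rw [sg, Matrix.trace_kronecker, Matrix.trace_transpose, trace_pm]

end Kron

section Idem

variable {n : Type*} [Fintype n] [DecidableEq n]

theorem eq_zero_of_idem_of_trace_eq_zero (E : Matrix n n ℂ) (hE : E * E = E) (ht : E.trace = 0) :
    E = 0 := by
  have h1 : IsIdempotentElem (Matrix.toLin' E) := by
    show Matrix.toLin' E * Matrix.toLin' E = Matrix.toLin' E
    rw [Module.End.mul_eq_comp, ← Matrix.toLin'_mul, hE]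
  have h2 : LinearMap.trace ℂ _ (Matrix.toLin' E) = 0 := by
    rw [Matrix.trace_toLin'_eq, ht]
  have h3 := (LinearMap.IsIdempotentElem.trace_eq_zero_iff h1).mp h2
  have := congrArg LinearMap.toMatrix' h3
  simpa using this

theorem finrank_range_of_idem (E : Matrix n n ℂ) (hE : E * E = E) :
    (Module.finrank ℂ (LinearMap.range (Matrix.toLin' E)) : ℂ) = E.trace := by
  have h1 : IsIdempotentElem (Matrix.toLin' E) := by
    show Matrix.toLin' E * Matrix.toLin' E = Matrix.toLin' E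
    rw [Module.End.mul_eq_comp, ← Matrix.toLin'_mul, hE]
  rw [← Matrix.trace_toLin'_eq, (LinearMap.IsIdempotentElem.isProj_range _ h1).trace]

/-- An operator commuting with a rank-one idempotent acts on it as a scalar. -/
theorem exists_smul_of_idem_of_trace_eq_one (E X : Matrix n n ℂ) (hE : E * E = E)
    (ht : E.trace = 1) (hc : X * E = E * X) : ∃ c : ℂ, X * E = c • E := by
  have hfr : Module.finrank ℂ (LinearMap.range (Matrix.toLin' E)) = 1 := by
    have := finrank_range_of_idem E hE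
    rw [ht] at this
    exact_mod_cast this
  obtain ⟨⟨v, hv⟩, hv0, hspan⟩ := finrank_eq_one_iff'.mp hfr
  -- `E v = v`
  have hEv : E.mulVec v = v := by
    obtain ⟨w, rfl⟩ := hv
    rw [Matrix.toLin'_apply, Matrix.mulVec_mulVec, hE]
  -- `X v ∈ range E`
  have hXv : X.mulVec v ∈ LinearMap.range (Matrix.toLin' E) := by
    refine ⟨X.mulVec v, ?_⟩
    rw [Matrix.toLin'_apply, Matrix.mulVec_mulVec, ← hc, ← Matrix.mulVec_mulVec, hEv]
  obtain ⟨c, hc1⟩ := hspan ⟨X.mulVec v, hXv⟩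
  have hc2 : X.mulVec v = c • v := by
    have := congrArg Subtype.val hc1
    simpa using this.symm
  refine ⟨c, ?_⟩
  -- compare on each vector `w`
  apply Matrix.toLin'.injective
  apply LinearMap.ext
  intro w
  obtain ⟨d, hd⟩ := hspan ⟨E.mulVec w, ⟨w, by rw [Matrix.toLin'_apply]⟩⟩
  have hd2 : E.mulVec w = d • v := by
    have := congrArg Subtype.val hd
    simpa using this.symm
  rw [Matrix.toLin'_apply, Matrix.toLin'_apply, ← Matrix.mulVec_mulVec, hd2, Matrix.mulVec_smul, hc2,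
    Matrix.smul_mulVec, hd2, smul_comm]

end Idem

end Cfsg.Agent.Lib.H4.CentRing
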