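import Mathlib
import Cfsg.Prelude.Def_Characters
import Cfsg.Agent.Lib.H4.CentRingB
import Cfsg.Agent.Lib.L0.CharBasic

/-!
# Centralizer ring of a permutation representation, part C (helper4)

Partial trace `ptr`, integrality of `1 ⊗ A` for integer matrices `A`.
-/

open scoped Kronecker ComplexConjugate

set_option linter.unusedSectionVars false
set_option linter.unusedVariables false

namespace Cfsg.Agent.Lib.H4.CentRing

section PTrace

variable {Ω : Type*} [Fintype Ω] [DecidableEq Ω] {ι : Type*} [Fintype ι] [DecidableEq ι]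

/-- Partial trace over the first factor. -/
def ptr (M : Matrix (ι × Ω) (ι × Ω) ℂ) : Matrix Ω Ω ℂ := fun x y => ∑ i, M (i, x) (i, y)

theorem ptr_apply (M : Matrix (ι × Ω) (ι × Ω) ℂ) (x y : Ω) : ptr M x y = ∑ i, M (i, x) (i, y) := rfl

theorem ptr_kronecker (B : Matrix ι ι ℂ) (C : Matrix Ω Ω ℂ) : ptr (B ⊗ₖ C) = B.trace • C := by
  ext x y
  rw [ptr_apply, Matrix.smul_apply, Matrix.trace, smul_eq_mul, Finset.sum_mul]
  refine Finset.sum_congr rfl fun i _ => ?_
  rw [Matrix.kroneckerMap_apply, Matrix.diag_apply]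

theorem ptr_smul (c : ℂ) (M : Matrix (ι × Ω) (ι × Ω) ℂ) : ptr (c • M) = c • ptr M := by
  ext x y
  simp [ptr_apply, Finset.mul_sum]

theorem ptr_sum {κ : Type*} (s : Finset κ) (M : κ → Matrix (ι × Ω) (ι × Ω) ℂ) :
    ptr (∑ k ∈ s, M k) = ∑ k ∈ s, ptr (M k) := by
  ext x y
  simp only [ptr_apply, Matrix.sum_apply]
  rw [Finset.sum_comm]

theorem ptr_zero : ptr (0 : Matrix (ι × Ω) (ι × Ω) ℂ) = 0 := by
  ext x y
  simp [ptr_apply]

theorem ptr_XA_mul (A : Matrix Ω Ω ℂ) (M : Matrix (ι × Ω) (ι × Ω) ℂ) :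
    ptr (XA ι A * M) = A * ptr M := by
  ext x y
  rw [ptr_apply, Matrix.mul_apply]
  simp only [ptr_apply, Finset.mul_sum]
  rw [Finset.sum_comm]
  refine Finset.sum_congr rfl fun i _ => ?_
  rw [Matrix.mul_apply, Fintype.sum_prod_type, Finset.sum_eq_single i]
  · refine Finset.sum_congr rfl fun z _ => ?_
    rw [XA, Matrix.kroneckerMap_apply, Matrix.one_apply_eq, one_mul]
  · intro j _ hj
    refine Finset.sum_eq_zero fun z _ => ?_
    rw [XA, Matrix.kroneckerMap_apply, Matrix.one_apply_ne hj.symm, zero_mul, zero_mul]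
  · intro h
    exact absurd (Finset.mem_univ _) h

end PTrace

section Int

variable {Ω : Type*} [Fintype Ω] [DecidableEq Ω] {ι : Type*} [Fintype ι] [DecidableEq ι]

theorem isIntegral_XA (A₀ : Matrix Ω Ω ℤ) :
    IsIntegral ℤ (XA ι (A₀.map (Int.cast : ℤ → ℂ))) := by
  have h0 : IsIntegral ℤ ((1 : Matrix ι ι ℤ) ⊗ₖ A₀) := Matrix.isIntegral _
  have h1 := h0.map ((Int.castRingHom ℂ).mapMatrix (m := ι × Ω)).toIntAlgHom
  convert h1 using 1
  ext ⟨i, x⟩ ⟨j, y⟩
  simp [XA, Matrix.kroneckerMap_apply, Matrix.one_apply]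

end Int

end Cfsg.Agent.Lib.H4.CentRing
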