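import Mathlib
import Cfsg.Prelude.Def_Characters
import Cfsg.Agent.Lib.H4.CentRingC
import Cfsg.Agent.Lib.L0.CharBasic

/-!
# Centralizer ring of a permutation representation, part D (helper4)

Character-level statements.  For a character `χ` of `G` and a finite `G`-set `Ω` with permutation
character `permCh G Ω`:
* `isIntegral_classInner_cA`: for an integer matrix `A` in the centralizer ring, the inner product
  `⟨cA A, χ⟩` is an algebraic integer;
* `classInner_cA_eq_zero`: it vanishes when `⟨π, χ⟩ = 0`;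
* `Fm Ω χ = ∑ g, conj (χ g) • pm g` vanishes when `⟨π, χ⟩ = 0`, and when `⟨π, χ⟩ = 1` every `A` in the
  centralizer ring acts on it as a scalar (`exists_mul_Fm_eq`).
-/

open scoped Kronecker ComplexConjugate

set_option linter.unusedSectionVars false
set_option linter.unusedVariables false

namespace Cfsg.Agent.Lib.H4.CentRing

section Char

variable {G : Type*} [Group G] [Fintype G] {Ω : Type*} [Fintype Ω] [DecidableEq Ω] [MulAction G Ω]

/-- The permutation character. -/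
noncomputable def permCh (G : Type*) [Group G] (Ω : Type*) [MulAction G Ω] : G → ℂ :=
  fun g => (Nat.card (MulAction.fixedBy Ω g) : ℂ)

/-- Matrix form of a representation on `Fin d → ℂ`. -/
noncomputable def matRep {d : ℕ} (ρ : Representation ℂ G (Fin d → ℂ)) :
    G →* Matrix (Fin d) (Fin d) ℂ :=
  ((LinearMap.toMatrixAlgEquiv' : ((Fin d → ℂ) →ₗ[ℂ] (Fin d → ℂ)) ≃ₐ[ℂ] Matrix (Fin d) (Fin d) ℂ) :
    ((Fin d → ℂ) →ₗ[ℂ] (Fin d → ℂ)) →* Matrix (Fin d) (Fin d) ℂ).comp ρ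

theorem matRep_apply {d : ℕ} (ρ : Representation ℂ G (Fin d → ℂ)) (g : G) :
    matRep ρ g = LinearMap.toMatrix' (ρ g) := rfl

theorem trace_matRep {d : ℕ} (ρ : Representation ℂ G (Fin d → ℂ)) (g : G) :
    (matRep ρ g).trace = ρ.character g := by
  rw [matRep_apply, Representation.character, LinearMap.trace_eq_matrix_trace ℂ (Pi.basisFun ℂ (Fin d)),
    LinearMap.toMatrix_eq_toMatrix']

theorem trace_EE_eq {d : ℕ} (ρ : Representation ℂ G (Fin d → ℂ)) :
    (EE (matRep ρ) : Matrix (Fin d × Ω) (Fin d × Ω) ℂ).trace =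
      Cfsg.classInner (permCh G Ω) ρ.character := by
  rw [trace_EE, Cfsg.classInner]
  congr 1
  refine Finset.sum_congr rfl fun g _ => ?_
  rw [trace_matRep, Cfsg.Agent.Lib.L0.char_inv, mul_comm]
  rfl

theorem trace_XA_mul_EE_eq {d : ℕ} (ρ : Representation ℂ G (Fin d → ℂ)) (A : Matrix Ω Ω ℂ) :
    (XA (Fin d) A * EE (matRep ρ)).trace = Cfsg.classInner (cA A) ρ.character := by
  rw [trace_XA_mul_EE, Cfsg.classInner]
  congr 1
  refine Finset.sum_congr rfl fun g _ => ?_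
  rw [trace_matRep, Cfsg.Agent.Lib.L0.char_inv, mul_comm]

/-- Integrality of the "eigenvalue sums" of an integral element of the centralizer ring. -/
theorem isIntegral_classInner_cA (A₀ : Matrix Ω Ω ℤ) (hA : IsEqv G (A₀.map (Int.cast : ℤ → ℂ)))
    {χ : G → ℂ} (hχ : Cfsg.IsCharacter G χ) :
    IsIntegral ℤ (Cfsg.classInner (cA (A₀.map (Int.cast : ℤ → ℂ))) χ) := by
  obtain ⟨d, ρ, rfl⟩ := hχ
  rw [← trace_XA_mul_EE_eq]
  apply isIntegral_trace_of_isIntegral
  exact isIntegral_mul_idempotent _ _ (isIntegral_XA A₀) (EE_idem _) (XA_comm_EE _ hA)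

theorem EE_eq_zero {d : ℕ} (ρ : Representation ℂ G (Fin d → ℂ))
    (h0 : Cfsg.classInner (permCh G Ω) ρ.character = 0) :
    (EE (matRep ρ) : Matrix (Fin d × Ω) (Fin d × Ω) ℂ) = 0 :=
  eq_zero_of_idem_of_trace_eq_zero _ (EE_idem _) (by rw [trace_EE_eq, h0])

theorem classInner_cA_eq_zero (A : Matrix Ω Ω ℂ) {χ : G → ℂ} (hχ : Cfsg.IsCharacter G χ)
    (h0 : Cfsg.classInner (permCh G Ω) χ = 0) : Cfsg.classInner (cA A) χ = 0 := by
  obtain ⟨d, ρ, rfl⟩ := hχ
  rw [← trace_XA_mul_EE_eq, EE_eq_zero ρ h0, mul_zero, Matrix.trace_zero]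

/-- `∑ g, conj (χ g) • pm g`: a multiple of the projection onto the `χ`-isotypic component. -/
noncomputable def Fm (Ω : Type*) [Fintype Ω] [DecidableEq Ω] [MulAction G Ω] (χ : G → ℂ) :
    Matrix Ω Ω ℂ :=
  ∑ g, conj (χ g) • (pm g : Matrix Ω Ω ℂ)

theorem ptr_EE {d : ℕ} (ρ : Representation ℂ G (Fin d → ℂ)) :
    ptr (EE (matRep ρ) : Matrix (Fin d × Ω) (Fin d × Ω) ℂ) =
      (Nat.card G : ℂ)⁻¹ • Fm Ω ρ.character := by
  rw [EE, ptr_smul, ptr_sum, Fm]
  congr 1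
  refine Finset.sum_congr rfl fun g _ => ?_
  rw [sg, ptr_kronecker, Matrix.trace_transpose, trace_matRep, Cfsg.Agent.Lib.L0.char_inv]

theorem Fm_eq_zero {χ : G → ℂ} (hχ : Cfsg.IsCharacter G χ)
    (h0 : Cfsg.classInner (permCh G Ω) χ = 0) : Fm Ω χ = 0 := by
  obtain ⟨d, ρ, rfl⟩ := hχ
  have hne : (Nat.card G : ℂ) ≠ 0 := by exact_mod_cast (Nat.card_pos (α := G)).ne'
  have h := ptr_EE (Ω := Ω) ρ
  rw [EE_eq_zero ρ h0, ptr_zero] at h
  have h2 := congrArg (fun M => (Nat.card G : ℂ) • M) h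
  simp only [smul_zero, smul_smul, mul_inv_cancel₀ hne, one_smul] at h2
  exact h2.symm

theorem exists_mul_Fm_eq {χ : G → ℂ} (hχ : Cfsg.IsCharacter G χ)
    (h1 : Cfsg.classInner (permCh G Ω) χ = 1) {A : Matrix Ω Ω ℂ} (hA : IsEqv G A) :
    ∃ c : ℂ, A * Fm Ω χ = c • Fm Ω χ := by
  obtain ⟨d, ρ, rfl⟩ := hχ
  have hne : (Nat.card G : ℂ) ≠ 0 := by exact_mod_cast (Nat.card_pos (α := G)).ne'
  obtain ⟨c, hc⟩ := exists_smul_of_idem_of_trace_eq_one (EE (matRep ρ)) (XA (Fin d) A) (EE_idem _)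
    (by rw [trace_EE_eq, h1]) (XA_comm_EE _ hA)
  refine ⟨c, ?_⟩
  have h := congrArg ptr hc
  rw [ptr_XA_mul, ptr_smul, ptr_EE, mul_smul_comm, smul_comm] at h
  have h2 := congrArg (fun M => (Nat.card G : ℂ) • M) h
  simp only [smul_smul, mul_inv_cancel₀ hne, one_smul] at h2
  rw [h2]
  congr 1
  field_simp

end Char

end Cfsg.Agent.Lib.H4.CentRing
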