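import Mathlib
import Cfsg.Prelude.Def_Characters
import Cfsg.Agent.Lib.H4.CentRingD
import Cfsg.Agent.Lib.L0.CharPerm
import Cfsg.Agent.Lib.H24.CharOrth

/-!
# Centralizer ring of a permutation representation, part E (helper4)

Transitive actions: `classInner_cA_one` (the multiplicity of the principal character in `cA A` is
the row sum of `A`), `trace_eq_sum_irr` (`tr A = ∑ χ, ⟨cA A, χ⟩ χ(1)`),
`nat_dvd_of_isIntegral`; the orbital matrices `orbMat G a b` (integer entries) and `orbMatC G a b`.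
-/

open scoped Kronecker ComplexConjugate

set_option linter.unusedSectionVars false
set_option linter.unusedVariables false

namespace Cfsg.Agent.Lib.H4.CentRing

section Trans

variable {G : Type*} [Group G] [Fintype G] {Ω : Type*} [Fintype Ω] [DecidableEq Ω] [MulAction G Ω]

theorem nat_dvd_of_isIntegral {f n : ℕ} {z : ℂ} (hz : IsIntegral ℤ z) (h : (n : ℂ) = f * z) :
    f ∣ n := by
  rcases Nat.eq_zero_or_pos f with hf | hf
  · subst hf
    simp only [Nat.cast_zero, zero_mul, Nat.cast_eq_zero] at h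
    rw [h]
  have hn : (f : ℚ) ≠ 0 := Nat.cast_ne_zero.mpr hf.ne'
  have hn' : (f : ℂ) ≠ 0 := Nat.cast_ne_zero.mpr hf.ne'
  have hz' : z = (n : ℂ) / f := by
    rw [h]; field_simp
  have h2 : IsIntegral ℤ ((n : ℚ) / (f : ℚ)) := by
    rw [← isIntegral_algebraMap_iff (algebraMap ℚ ℂ).injective]
    rw [hz'] at hz
    simpa using hz
  obtain ⟨y, hy⟩ := IsIntegrallyClosed.isIntegral_iff.mp h2
  have h3 : (n : ℚ) = (f : ℚ) * y := by
    rw [eq_div_iff hn] at hy
    simp only [algebraMap_int_eq, eq_intCast] at hy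
    linarith
  have h4 : (n : ℤ) = (f : ℤ) * y := by exact_mod_cast h3
  exact Int.natCast_dvd_natCast.mp ⟨y, h4⟩

/-- Summing a function over the orbit map of a transitive action. -/
theorem sum_comp_smul [MulAction.IsPretransitive G Ω] (f : Ω → ℂ) (a : Ω) :
    ∑ g : G, f (g • a) = (Nat.card (MulAction.stabilizer G a) : ℂ) * ∑ y, f y := by
  classical
  have h1 : ∀ g : G, f (g • a) = ∑ y, if g • a = y then f y else 0 := by
    intro g
    rw [Finset.sum_ite_eq]
    simp
  simp only [h1]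
  rw [Finset.sum_comm, Finset.mul_sum]
  refine Finset.sum_congr rfl fun y _ => ?_
  rw [← Finset.sum_filter, Finset.sum_const, ← Cfsg.Agent.Lib.L0.card_fiber_orbitMap Ω a y,
    Nat.card_eq_fintype_card, Fintype.card_subtype, nsmul_eq_mul]

theorem card_eq_card_mul_card_stabilizer (G : Type*) [Group G] {Ω : Type*} [Fintype Ω] [MulAction G Ω]
    [MulAction.IsPretransitive G Ω] (a : Ω) :
    Nat.card G = Fintype.card Ω * Nat.card (MulAction.stabilizer G a) := by
  rw [← Subgroup.card_mul_index (MulAction.stabilizer G a), MulAction.index_stabilizer_of_transitive,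
    Nat.card_eq_fintype_card (α := Ω), mul_comm]

/-- The multiplicity of the principal character in `cA A` is the row sum of `A`. -/
theorem classInner_cA_one [MulAction.IsPretransitive G Ω] {A : Matrix Ω Ω ℂ} (hA : IsEqv G A)
    (a : Ω) : Cfsg.classInner (cA A : G → ℂ) (fun _ : G => (1 : ℂ)) = ∑ y, A a y := by
  have hne : (Nat.card G : ℂ) ≠ 0 := by exact_mod_cast (Nat.card_pos (α := G)).ne'
  rw [Cfsg.classInner]
  simp only [map_one, mul_one, cA_eq]
  rw [Finset.sum_comm]
  have h1 : ∀ x : Ω, ∑ g : G, A x (g • x) = (Nat.card (MulAction.stabilizer G a) : ℂ) * ∑ y, A a y := by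
    intro x
    obtain ⟨k, rfl⟩ := MulAction.exists_smul_eq G a x
    rw [← sum_comp_smul (fun y => A a y) a]
    refine Fintype.sum_equiv (MulAut.conj k⁻¹).toEquiv _ _ fun g => ?_
    simp only [MulEquiv.toEquiv_eq_coe, MulEquiv.coe_toEquiv, MulAut.conj_apply, inv_inv]
    rw [← hA k a ((k⁻¹ * g * k) • a), ← mul_smul, ← mul_smul]
    congr 2
    group
  simp only [h1]
  rw [Finset.sum_const, Finset.card_univ, nsmul_eq_mul, ← mul_assoc, ← mul_assoc,
    card_eq_card_mul_card_stabilizer G a]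
  rw [card_eq_card_mul_card_stabilizer G a] at hne
  push_cast at hne ⊢
  rw [mul_assoc _ (Fintype.card Ω : ℂ), inv_mul_cancel₀ hne, one_mul]

theorem trace_eq_sum_irr [Fintype (Cfsg.IrrCharacter G)] {A : Matrix Ω Ω ℂ} (hA : IsEqv G A) :
    A.trace = ∑ χ : Cfsg.IrrCharacter G, Cfsg.classInner (cA A) (χ : G → ℂ) * (χ : G → ℂ) 1 := by
  have h := congrFun (Cfsg.Agent.Lib.H24.classFunction_expansion (cA A) (cA_isClassFunction hA)) 1
  rw [Finset.sum_apply] at h
  simp only [Pi.smul_apply, smul_eq_mul] at h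
  rw [← h, cA, pm_one, mul_one]

end Trans

section Orbital

variable {G : Type*} [Group G] [Fintype G] {Ω : Type*} [Fintype Ω] [DecidableEq Ω] [MulAction G Ω]

open Classical in
/-- The orbital matrix of the pair `(a, b)`, with integer entries. -/
noncomputable def orbMat (G : Type*) [Group G] [MulAction G Ω] (a b : Ω) : Matrix Ω Ω ℤ :=
  fun x y => if ∃ g : G, g • a = x ∧ g • b = y then 1 else 0

/-- Its image over `ℂ`. -/
noncomputable def orbMatC (G : Type*) [Group G] [MulAction G Ω] (a b : Ω) : Matrix Ω Ω ℂ :=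
  (orbMat G a b).map (Int.cast : ℤ → ℂ)

theorem orbMatC_apply (a b x y : Ω) :
    orbMatC G a b x y = if ∃ g : G, g • a = x ∧ g • b = y then 1 else 0 := by
  classical
  rw [orbMatC, Matrix.map_apply, orbMat]
  split_ifs <;> simp

theorem orbMatC_isEqv (a b : Ω) : IsEqv G (orbMatC G a b) := by
  intro g x y
  rw [orbMatC_apply, orbMatC_apply]
  congr 1
  rw [eq_iff_iff]
  constructor
  · rintro ⟨k, hk1, hk2⟩
    refine ⟨g⁻¹ * k, ?_, ?_⟩
    · rw [mul_smul, hk1, inv_smul_smul]
    · rw [mul_smul, hk2, inv_smul_smul]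
  · rintro ⟨k, hk1, hk2⟩
    refine ⟨g * k, ?_, ?_⟩
    · rw [mul_smul, hk1]
    · rw [mul_smul, hk2]

theorem orbMatC_row (a b : Ω) :
    ∑ y, orbMatC G a b a y = (Nat.card (MulAction.orbit (MulAction.stabilizer G a) b) : ℂ) := by
  classical
  simp only [orbMatC_apply]
  rw [Finset.sum_boole, Nat.card_eq_fintype_card, Fintype.card_subtype]
  congr 2
  ext y
  simp only [Finset.mem_filter, Finset.mem_univ, true_and, MulAction.mem_orbit_iff]
  constructor
  · rintro ⟨g, hg1, hg2⟩
    exact ⟨⟨g, hg1⟩, hg2⟩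
  · rintro ⟨⟨g, hg1⟩, hg2⟩
    exact ⟨g, hg1, hg2⟩

theorem orbMatC_diag {a b : Ω} (hab : b ≠ a) (x : Ω) : orbMatC G a b x x = 0 := by
  rw [orbMatC_apply, if_neg]
  rintro ⟨g, hg1, hg2⟩
  apply hab
  have := hg2.trans hg1.symm
  exact (MulAction.injective g) this

theorem orbMatC_trace {a b : Ω} (hab : b ≠ a) : (orbMatC G a b).trace = 0 := by
  rw [Matrix.trace]
  exact Finset.sum_eq_zero fun x _ => orbMatC_diag hab x

end Orbital

end Cfsg.Agent.Lib.H4.CentRing
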