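import Mathlib
import Cfsg.Prelude.Def_Characters
import Cfsg.Agent.Lib.H4.CentRingE
import Cfsg.Agent.Lib.L0.CharInner
import Cfsg.Agent.Lib.H24.CharBasic

/-!
# Centralizer ring of a permutation representation, part F (helper4)

Multiplicities `⟨π, χ⟩` of the permutation character: they are natural numbers, the
principal character has multiplicity one in the transitive case, `⟨π, π⟩` is the rank,
Parseval, and the degree formula `|Ω| = ∑ χ, ⟨π, χ⟩ χ(1)`.
-/

open scoped Kronecker ComplexConjugate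

set_option linter.unusedSectionVars false
set_option linter.unusedVariables false

namespace Cfsg.Agent.Lib.H4.CentRing

section Mult

variable {G : Type*} [Group G] [Fintype G] {Ω : Type*} [Fintype Ω] [DecidableEq Ω] [MulAction G Ω]

theorem cA_one_eq : (cA (1 : Matrix Ω Ω ℂ) : G → ℂ) = permCh G Ω := by
  funext g
  rw [cA, one_mul, trace_pm]
  rfl

theorem permCh_isClassFunction : Cfsg.IsClassFunction G (permCh G Ω) := by
  rw [← cA_one_eq]
  exact cA_isClassFunction isEqv_one

/-- The multiplicity of a character in the permutation character is a natural number. -/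
theorem exists_nat_classInner_permCh {χ : G → ℂ} (hχ : Cfsg.IsCharacter G χ) :
    ∃ n : ℕ, Cfsg.classInner (permCh G Ω) χ = n := by
  obtain ⟨d, ρ, rfl⟩ := hχ
  refine ⟨Module.finrank ℂ (LinearMap.range (Matrix.toLin' (EE (matRep ρ) :
    Matrix (Fin d × Ω) (Fin d × Ω) ℂ))), ?_⟩
  rw [finrank_range_of_idem _ (EE_idem _), trace_EE_eq]

theorem classInner_permCh_one [MulAction.IsPretransitive G Ω] [Nonempty Ω] :
    Cfsg.classInner (permCh G Ω) (fun _ : G => (1 : ℂ)) = 1 := by
  obtain ⟨a⟩ := ‹Nonempty Ω›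
  rw [← cA_one_eq, classInner_cA_one isEqv_one a]
  simp [Matrix.one_apply]

theorem classInner_symm_of_nat {φ ψ : G → ℂ} {n : ℕ} (h : Cfsg.classInner φ ψ = n) :
    Cfsg.classInner ψ φ = n := by
  rw [← Cfsg.Agent.Lib.L0.classInner_conj_symm, h, Complex.conj_natCast]

/-- Parseval for the permutation character. -/
theorem classInner_permCh_self [Fintype (Cfsg.IrrCharacter G)] (e : Cfsg.IrrCharacter G → ℕ)
    (he : ∀ χ : Cfsg.IrrCharacter G, Cfsg.classInner (permCh G Ω) (χ : G → ℂ) = e χ) :
    Cfsg.classInner (permCh G Ω) (permCh G Ω) = ((∑ χ, e χ ^ 2 : ℕ) : ℂ) := by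
  conv_lhs =>
    arg 1
    rw [Cfsg.Agent.Lib.H24.classFunction_expansion (permCh G Ω) permCh_isClassFunction]
  rw [Cfsg.Agent.Lib.L0.classInner_sum_left]
  push_cast
  refine Finset.sum_congr rfl fun χ _ => ?_
  rw [Cfsg.Agent.Lib.L0.classInner_smul_left, classInner_symm_of_nat (he χ), he χ]
  ring

/-- The degree formula. -/
theorem card_eq_sum_irr [Fintype (Cfsg.IrrCharacter G)] :
    (Fintype.card Ω : ℂ) =
      ∑ χ : Cfsg.IrrCharacter G, Cfsg.classInner (permCh G Ω) (χ : G → ℂ) * (χ : G → ℂ) 1 := by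
  have h := trace_eq_sum_irr (G := G) (Ω := Ω) isEqv_one
  rw [cA_one_eq, Matrix.trace_one] at h
  exact h

/-- Burnside: `⟨π, π⟩` is the number of orbits of a point stabilizer (the rank). -/
theorem classInner_permCh_self_eq_rank [MulAction.IsPretransitive G Ω] (a : Ω) :
    Cfsg.classInner (permCh G Ω) (permCh G Ω) =
      (Nat.card (MulAction.orbitRel.Quotient (MulAction.stabilizer G a) Ω) : ℂ) := by
  classical
  have h1 : permCh G Ω = Cfsg.indFun (MulAction.stabilizer G a) (fun _ => 1) :=
    Cfsg.Agent.Lib.L0.fixedPoints_eq_indFun Ω a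
  conv_lhs =>
    arg 1
    rw [h1]
  rw [Cfsg.Agent.Lib.L0.frobenius_reciprocity _ _ _ permCh_isClassFunction, Cfsg.classInner]
  have hne : (Nat.card (MulAction.stabilizer G a) : ℂ) ≠ 0 := by
    exact_mod_cast (Nat.card_pos (α := MulAction.stabilizer G a)).ne'
  rw [inv_mul_eq_iff_eq_mul₀ hne]
  haveI : Fintype (MulAction.orbitRel.Quotient (MulAction.stabilizer G a) Ω) := Fintype.ofFinite _
  have hB := MulAction.sum_card_fixedBy_eq_card_orbits_mul_card_group (MulAction.stabilizer G a) Ω
  rw [Nat.card_eq_fintype_card, Nat.card_eq_fintype_card, mul_comm]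
  rw [← Nat.cast_mul, ← hB]
  push_cast
  refine Finset.sum_congr rfl fun h _ => ?_
  rw [one_mul, permCh, Complex.conj_natCast, Nat.card_eq_fintype_card]
  congr 1

end Mult

end Cfsg.Agent.Lib.H4.CentRing
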