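import Cfsg.Agent.Lib.H4.W2PV1
import Cfsg.Agent.Lib.H24.CharAbelian

/-!
# S0720 (Wielandt, degree `2p`), piece DEC (helper4)

`decomp`: the decomposition `θ = 1 + χ₁ + ∑_{ψ ∈ X} ψ` of the permutation character (case `c₁ = 1`),
multiplicity free, and `rank = |X| + 2`.  Restriction to `P = ⟨x⟩`: `θ|_P = 2 ρ_P`, `χ₁|_P = ρ_P`, and
the irreducible characters of `P` are linear.
-/

set_option autoImplicit false
set_option linter.unusedSectionVars false
set_option linter.unusedVariables false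

open Cfsg
open scoped ComplexConjugate
open Cfsg.Agent.Lib.H4.CentRing Cfsg.Agent.Lib.H21.W2P

namespace Cfsg.Agent.Lib.H4.W2P

section Aux

theorem dec_two_le_sum {ι : Type*} [Fintype ι] [DecidableEq ι] (f : ι → ℕ) (i j : ι)
    (hij : i ≠ j) : f i + f j ≤ ∑ t, f t := by
  have h : ∑ t ∈ ({i, j} : Finset ι), f t ≤ ∑ t, f t :=
    Finset.sum_le_sum_of_subset (Finset.subset_univ _)
  rwa [Finset.sum_pair hij] at h

theorem dec_three_le_sum {ι : Type*} [Fintype ι] [DecidableEq ι] (f : ι → ℕ) (i j k : ι)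
    (hij : i ≠ j) (hik : i ≠ k) (hjk : j ≠ k) : f i + f j + f k ≤ ∑ t, f t := by
  have h : ∑ t ∈ ({i, j, k} : Finset ι), f t ≤ ∑ t, f t :=
    Finset.sum_le_sum_of_subset (Finset.subset_univ _)
  rwa [Finset.sum_insert (by simp [hij, hik]), Finset.sum_pair hjk, ← add_assoc] at h

end Aux

section Res

variable {L : Type*} [Group L] [Fintype L]

theorem dec_sum_zpowers (x : L) (hx : IsOfFinOrder x) [Fintype ↥(Subgroup.zpowers x)]
    (f : L → ℂ) : ∑ y : ↥(Subgroup.zpowers x), f y = ∑ j ∈ Finset.range (orderOf x), f (x ^ j) := by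
  rw [Finset.sum_range, ← Equiv.sum_comp (finEquivZPowers hx) (fun y : ↥(Subgroup.zpowers x) => f y)]
  refine Finset.sum_congr rfl fun i _ => ?_
  rw [finEquivZPowers_apply]

/-- Inner product on `⟨x⟩` of the restriction of a function vanishing on `⟨x⟩ ∖ 1`. -/
theorem dec_inner_res_of_vanish {p : ℕ} (hp : p.Prime) (x : L) (hox : orderOf x = p)
    [Fintype ↥(Subgroup.zpowers x)] (f : L → ℂ) (hf : ∀ k : ℕ, ¬ p ∣ k → f (x ^ k) = 0)
    (μ : ↥(Subgroup.zpowers x) → ℂ) :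
    classInner (fun y : ↥(Subgroup.zpowers x) => f y) μ = (p : ℂ)⁻¹ * (f 1 * conj (μ 1)) := by
  have hfo : IsOfFinOrder x := by
    rw [← orderOf_pos_iff, hox]
    exact hp.pos
  rw [classInner, Nat.card_zpowers, hox]
  congr 1
  rw [Finset.sum_eq_single (1 : ↥(Subgroup.zpowers x))]
  · rfl
  · intro y _ hy
    obtain ⟨k, hk⟩ := (Submonoid.mem_powers_iff _ _).mp (hfo.mem_powers_iff_mem_zpowers.mpr y.2)
    have hnd : ¬ p ∣ k := by
      intro hdvd
      apply hy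
      apply Subtype.ext
      rw [← hk]
      exact orderOf_dvd_iff_pow_eq_one.mp (hox ▸ hdvd)
    show f (y : L) * _ = 0
    rw [← hk, hf k hnd, zero_mul]
  · intro h
    exact absurd (Finset.mem_univ _) h

/-- Inner product with the principal character of `⟨x⟩`. -/
theorem dec_inner_res_one {p : ℕ} (hp : p.Prime) (x : L) (hox : orderOf x = p)
    [Fintype ↥(Subgroup.zpowers x)] (f : L → ℂ) :
    classInner (fun y : ↥(Subgroup.zpowers x) => f y) (fun _ => 1) =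
      (p : ℂ)⁻¹ * ∑ k ∈ Finset.range p, f (x ^ k) := by
  have hfo : IsOfFinOrder x := by
    rw [← orderOf_pos_iff, hox]
    exact hp.pos
  rw [classInner, Nat.card_zpowers, hox]
  congr 1
  rw [← hox, ← dec_sum_zpowers x hfo f]
  refine Finset.sum_congr rfl fun y _ => ?_
  simp

theorem dec_sum_split [Fintype (IrrCharacter L)] {Ω : Type*} [MulAction L Ω] {χ₁ : L → ℂ}
    {X : Finset (IrrCharacter L)} (h₁ : IsIrrCharacter L χ₁) (hne : χ₁ ≠ fun _ => 1)
    (hmem : ∀ ψ : IrrCharacter L, ψ ∈ X ↔ (classInner (permCh L Ω) (ψ : L → ℂ) ≠ 0 ∧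
      (ψ : L → ℂ) ≠ (fun _ => 1) ∧ (ψ : L → ℂ) ≠ χ₁))
    (F : (L → ℂ) → ℂ)
    (hF : ∀ ψ : L → ℂ, IsIrrCharacter L ψ → classInner (permCh L Ω) ψ = 0 → F ψ = 0) :
    ∑ ψ : IrrCharacter L, F (ψ : L → ℂ) =
      F (fun _ => 1) + F χ₁ + ∑ ψ ∈ X, F (ψ : L → ℂ) := by
  classical
  obtain ⟨t0, ht0⟩ : ∃ t0 : IrrCharacter L, t0 = Cfsg.Agent.Lib.H24.trivialIrr L := ⟨_, rfl⟩
  obtain ⟨x₁, hx₁⟩ : ∃ x₁ : IrrCharacter L, x₁ = ⟨χ₁, h₁⟩ := ⟨_, rfl⟩
  have hv0 : (t0 : L → ℂ) = fun _ => 1 := by rw [ht0]; rfl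
  have hv1 : (x₁ : L → ℂ) = χ₁ := by rw [hx₁]
  have h1X : x₁ ∉ X := fun h => ((hmem x₁).mp h).2.2 hv1
  have h0X : t0 ∉ X := fun h => ((hmem t0).mp h).2.1 hv0
  have h01 : t0 ≠ x₁ := by
    intro h
    apply hne
    rw [← hv1, ← h, hv0]
  rw [← Finset.sum_subset (Finset.subset_univ (insert t0 (insert x₁ X)))]
  · rw [Finset.sum_insert (by simp [h01, h0X]), Finset.sum_insert h1X, hv0, hv1, add_assoc]
  · intro ψ _ hψ
    simp only [Finset.mem_insert, not_or] at hψ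
    apply hF ψ ψ.2
    by_contra h0
    exact hψ.2.2 ((hmem ψ).mpr ⟨h0, fun h => hψ.1 (Subtype.ext (h.trans hv0.symm)),
      fun h => hψ.2.1 (Subtype.ext (h.trans hv1.symm))⟩)

end Res

/-- DEC: the decomposition of the permutation character in the case `c₁ = 1`, and the rank. -/
theorem decomp {L : Type*} [Group L] [Fintype L] {Ω : Type*} [Fintype Ω] [DecidableEq Ω]
    [MulAction L Ω] [MulAction.IsPretransitive L Ω] {p : ℕ} (hp : p.Prime)
    (hΩ : Fintype.card Ω = 2 * p) (x : L) (hox : orderOf x = p) (hfpf : ∀ a : Ω, x • a ≠ a)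
    (χ₁ : L → ℂ) (h₁ : IsIrrCharacter L χ₁) (hin : classInner (permCh L Ω) χ₁ ≠ 0)
    (hdeg : χ₁ 1 = (p : ℂ)) (hvan : ∀ k : ℕ, ¬ p ∣ k → χ₁ (x ^ k) = 0) (a : Ω) :
    ∃ X : Finset (IrrCharacter L), Dec L Ω p x χ₁ X ∧
      Nat.card (MulAction.orbitRel.Quotient (MulAction.stabilizer L a) Ω) = X.card + 2 := by
  classical
  have : Fintype (IrrCharacter L) := Fintype.ofFinite _
  have : Fintype ↥(Subgroup.zpowers x) := Fintype.ofFinite _
  have : Fintype (IrrCharacter ↥(Subgroup.zpowers x)) := Fintype.ofFinite _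
  have : Nonempty Ω := ⟨a⟩
  have hpC : (p : ℂ) ≠ 0 := by exact_mod_cast hp.ne_zero
  have hone := Cfsg.Agent.Lib.H24.isIrrCharacter_one (G := L)
  have honeP := Cfsg.Agent.Lib.H24.isIrrCharacter_one (G := ↥(Subgroup.zpowers x))
  -- values of the permutation character on `⟨x⟩`
  have hθ1 : permCh L Ω 1 = ((2 * p : ℕ) : ℂ) := by
    rw [permCh, ← hΩ, ← Nat.card_eq_fintype_card]
    congr 1
    apply Nat.card_congr
    exact (Equiv.subtypeUnivEquiv (fun y => by simp))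
  have hθx : ∀ k : ℕ, ¬ p ∣ k → permCh L Ω (x ^ k) = 0 := by
    intro k hk
    have hempty : MulAction.fixedBy Ω (x ^ k) = ∅ := by
      ext b
      simp only [MulAction.mem_fixedBy, Set.mem_empty_iff_false, iff_false]
      intro h
      have hc : k.Coprime (orderOf x) := by
        rw [hox]
        exact ((Nat.Prime.coprime_iff_not_dvd hp).mpr hk).symm
      obtain ⟨j, hj⟩ := exists_pow_eq_self_of_coprime hc
      apply hfpf b
      rw [← hj]
      have : ∀ i : ℕ, (x ^ k) ^ i • b = b := by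
        intro i
        induction i with
        | zero => rw [pow_zero, one_smul]
        | succ i ih => rw [pow_succ, mul_smul, h, ih]
      exact this j
    rw [permCh, hempty]
    simp
  -- multiplicities in `θ`
  choose e he using fun ψ : IrrCharacter L =>
    exists_nat_classInner_permCh (Ω := Ω) (Cfsg.Agent.Lib.L0.isCharacter_of_irr ψ.2)
  have hexp : ∀ g : L, permCh L Ω g = ∑ ψ : IrrCharacter L, (e ψ : ℂ) * (ψ : L → ℂ) g := by
    intro g
    have h := congrFun (Cfsg.Agent.Lib.H24.classFunction_expansion (permCh L Ω)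
      permCh_isClassFunction) g
    rw [Finset.sum_apply] at h
    simp only [Pi.smul_apply, smul_eq_mul, he] at h
    exact h
  -- multiplicities of the restrictions to `⟨x⟩`
  choose m hm using fun (ψ : IrrCharacter L) (μ : IrrCharacter ↥(Subgroup.zpowers x)) =>
    Cfsg.Agent.Lib.L0.classInner_char_irr_nat
      (Cfsg.Agent.Lib.L0.isCharacter_restrict (Subgroup.zpowers x)
        (Cfsg.Agent.Lib.L0.isCharacter_of_irr ψ.2)) μ.2
  have hlin : ∀ μ : IrrCharacter ↥(Subgroup.zpowers x), (μ : ↥(Subgroup.zpowers x) → ℂ) 1 = 1 := by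
    intro μ
    apply Cfsg.Agent.Lib.H24.irr_apply_one_of_comm
    intro u v
    obtain ⟨u, hu⟩ := u
    obtain ⟨v, hv⟩ := v
    apply Subtype.ext
    obtain ⟨i, rfl⟩ := Subgroup.mem_zpowers_iff.mp hu
    obtain ⟨j, rfl⟩ := Subgroup.mem_zpowers_iff.mp hv
    exact (Commute.zpow_zpow_self x i j).eq
  have hkey : ∀ μ : IrrCharacter ↥(Subgroup.zpowers x), ∑ ψ : IrrCharacter L, e ψ * m ψ μ = 2 := by
    intro μ
    have h1 : classInner (fun y : ↥(Subgroup.zpowers x) => permCh L Ω y)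
        (μ : ↥(Subgroup.zpowers x) → ℂ) = 2 := by
      rw [dec_inner_res_of_vanish hp x hox (permCh L Ω) hθx, hθ1, hlin, map_one]
      push_cast
      field_simp
    have h2 : (fun y : ↥(Subgroup.zpowers x) => permCh L Ω y) =
        ∑ ψ : IrrCharacter L, (e ψ : ℂ) • (fun y : ↥(Subgroup.zpowers x) => (ψ : L → ℂ) y) := by
      funext y
      rw [hexp, Finset.sum_apply]
      rfl
    rw [h2, Cfsg.Agent.Lib.L0.classInner_sum_left] at h1
    simp only [Cfsg.Agent.Lib.L0.classInner_smul_left, hm] at h1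
    exact_mod_cast h1
  -- the special characters
  obtain ⟨t0, ht0⟩ : ∃ t0 : IrrCharacter L, t0 = Cfsg.Agent.Lib.H24.trivialIrr L := ⟨_, rfl⟩
  obtain ⟨x₁, hx₁⟩ : ∃ x₁ : IrrCharacter L, x₁ = ⟨χ₁, h₁⟩ := ⟨_, rfl⟩
  obtain ⟨μ₀, hμ₀⟩ : ∃ μ₀ : IrrCharacter ↥(Subgroup.zpowers x),
      μ₀ = Cfsg.Agent.Lib.H24.trivialIrr ↥(Subgroup.zpowers x) := ⟨_, rfl⟩
  have hv0 : (t0 : L → ℂ) = fun _ => 1 := by rw [ht0]; rfl
  have hv1 : (x₁ : L → ℂ) = χ₁ := by rw [hx₁]
  have hvμ : (μ₀ : ↥(Subgroup.zpowers x) → ℂ) = fun _ => 1 := by rw [hμ₀]; rfl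
  have hne₁ : χ₁ ≠ fun _ => 1 := by
    intro h
    have h2 := congrFun h 1
    rw [hdeg] at h2
    have : p = 1 := by exact_mod_cast h2
    exact hp.one_lt.ne' this
  have h01 : t0 ≠ x₁ := by
    intro h
    apply hne₁
    rw [← hv1, ← h, hv0]
  have het0 : e t0 = 1 := by
    have := he t0
    rw [hv0, classInner_permCh_one] at this
    exact_mod_cast this.symm
  have hex1 : 1 ≤ e x₁ := by
    rcases Nat.eq_zero_or_pos (e x₁) with h | h
    · exfalso
      apply hin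
      rw [← hv1, he x₁, h, Nat.cast_zero]
    · exact h
  have hmt0 : m t0 μ₀ = 1 := by
    have := hm t0 μ₀
    rw [hv0, hvμ, Cfsg.Agent.Lib.L0.irr_classInner_self honeP] at this
    exact_mod_cast this.symm
  have hmx1 : ∀ μ, m x₁ μ = 1 := by
    intro μ
    have := hm x₁ μ
    rw [hv1, dec_inner_res_of_vanish hp x hox χ₁ hvan, hdeg, hlin, map_one, mul_one,
      inv_mul_cancel₀ hpC] at this
    exact_mod_cast this.symm
  -- consequences of `hkey μ₀`
  have hex1' : e x₁ = 1 := by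
    have h := dec_two_le_sum (fun ψ => e ψ * m ψ μ₀) t0 x₁ h01
    rw [hkey μ₀] at h
    simp only [het0, hmt0, hmx1] at h
    omega
  have hzero : ∀ ψ : IrrCharacter L, ψ ≠ t0 → ψ ≠ x₁ → e ψ * m ψ μ₀ = 0 := by
    intro ψ h0 h1
    have h := dec_three_le_sum (fun ψ => e ψ * m ψ μ₀) t0 x₁ ψ h01 (Ne.symm h0) (Ne.symm h1)
    rw [hkey μ₀] at h
    simp only [het0, hmt0, hmx1, hex1'] at h
    omega
  have hle : ∀ ψ : IrrCharacter L, ψ ≠ x₁ → ∀ μ, e ψ * m ψ μ ≤ 1 := by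
    intro ψ h1 μ
    have h := dec_two_le_sum (fun ψ => e ψ * m ψ μ) x₁ ψ (Ne.symm h1)
    rw [hkey μ] at h
    simp only [hmx1, hex1'] at h
    omega
  -- every irreducible character has a constituent on `⟨x⟩`
  have hexμ : ∀ ψ : IrrCharacter L, ∃ μ, m ψ μ ≠ 0 := by
    intro ψ
    by_contra hcon
    push Not at hcon
    have hcf : IsClassFunction ↥(Subgroup.zpowers x)
        (fun y : ↥(Subgroup.zpowers x) => (ψ : L → ℂ) y) :=
      Cfsg.Agent.Lib.L0.isClassFunction_of_isCharacter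
        (Cfsg.Agent.Lib.L0.isCharacter_restrict (Subgroup.zpowers x)
          (Cfsg.Agent.Lib.L0.isCharacter_of_irr ψ.2))
    have h := congrFun (Cfsg.Agent.Lib.H24.classFunction_expansion _ hcf) 1
    rw [Finset.sum_apply] at h
    simp only [Pi.smul_apply, smul_eq_mul, hm, hcon, Nat.cast_zero, zero_mul,
      Finset.sum_const_zero] at h
    obtain ⟨n, hn0, hn⟩ := Cfsg.Agent.Lib.H24.irr_one_eq ψ
    have h' : (ψ : L → ℂ) 1 = 0 := h
    rw [hn] at h'
    have : n = 0 := by exact_mod_cast h'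
    omega
  -- the set `X`
  obtain ⟨X, hX⟩ : ∃ X : Finset (IrrCharacter L), X = Finset.univ.filter
      (fun ψ : IrrCharacter L => classInner (permCh L Ω) (ψ : L → ℂ) ≠ 0 ∧
        (ψ : L → ℂ) ≠ (fun _ => 1) ∧ (ψ : L → ℂ) ≠ χ₁) := ⟨_, rfl⟩
  have hmem : ∀ ψ : IrrCharacter L, ψ ∈ X ↔ (classInner (permCh L Ω) (ψ : L → ℂ) ≠ 0 ∧
      (ψ : L → ℂ) ≠ (fun _ => 1) ∧ (ψ : L → ℂ) ≠ χ₁) := by
    intro ψ
    rw [hX]
    simp
  have hXe : ∀ ψ ∈ X, e ψ = 1 ∧ m ψ μ₀ = 0 := by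
    intro ψ hψ
    obtain ⟨hψ0, hψ1, hψ2⟩ := (hmem ψ).mp hψ
    have hn0 : ψ ≠ t0 := fun h => hψ1 (by rw [h, hv0])
    have hn1 : ψ ≠ x₁ := fun h => hψ2 (by rw [h, hv1])
    have hepos : e ψ ≠ 0 := by
      intro h
      apply hψ0
      rw [he ψ, h, Nat.cast_zero]
    have hm0 : m ψ μ₀ = 0 := by
      rcases Nat.mul_eq_zero.mp (hzero ψ hn0 hn1) with h | h
      · exact absurd h hepos
      · exact h
    obtain ⟨μ, hμ⟩ := hexμ ψ
    have h2 := hle ψ hn1 μ
    refine ⟨?_, hm0⟩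
    have h3 : 1 ≤ m ψ μ := Nat.pos_of_ne_zero hμ
    have h4 : 1 ≤ e ψ := Nat.pos_of_ne_zero hepos
    nlinarith
  have hmultX : ∀ ψ ∈ X, classInner (permCh L Ω) (ψ : L → ℂ) = 1 := by
    intro ψ hψ
    rw [he ψ, (hXe ψ hψ).1, Nat.cast_one]
  have hmult₁ : classInner (permCh L Ω) χ₁ = 1 := by
    rw [← hv1, he x₁, hex1', Nat.cast_one]
  have hD : Dec L Ω p x χ₁ X := by
    refine ⟨h₁, hmult₁, hdeg, hvan, hne₁, hmem, hmultX, ?_, ?_⟩
    · intro ψ hψ
      have h := hm ψ μ₀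
      rw [(hXe ψ hψ).2, hvμ, dec_inner_res_one hp x hox, Nat.cast_zero] at h
      rcases mul_eq_zero.mp h with h | h
      · exact absurd (inv_eq_zero.mp h) hpC
      · exact h
    · funext g
      have h := hexp g
      have h2 : ∑ ψ : IrrCharacter L, (e ψ : ℂ) * (ψ : L → ℂ) g =
          ∑ ψ : IrrCharacter L, classInner (permCh L Ω) (ψ : L → ℂ) * (ψ : L → ℂ) g :=
        Finset.sum_congr rfl fun ψ _ => by rw [he ψ]
      rw [h2, dec_sum_split (Ω := Ω) h₁ hne₁ hmem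
        (fun ψ => classInner (permCh L Ω) ψ * ψ g)
        (fun ψ _ h0 => by show classInner (permCh L Ω) ψ * ψ g = 0; rw [h0, zero_mul])] at h
      rw [h, classInner_permCh_one, hmult₁, one_mul, one_mul]
      congr 1
      exact Finset.sum_congr rfl fun ψ hψ => by rw [hmultX ψ hψ, one_mul]
  refine ⟨X, hD, ?_⟩
  have h1 := classInner_permCh_self (Ω := Ω) e he
  rw [classInner_permCh_self_eq_rank a] at h1
  have h2 : ((∑ χ : IrrCharacter L, e χ ^ 2 : ℕ) : ℂ) =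
      ∑ ψ : IrrCharacter L, classInner (permCh L Ω) (ψ : L → ℂ) ^ 2 := by
    push_cast
    exact Finset.sum_congr rfl fun ψ _ => by rw [he ψ]
  rw [h2, dec_sum_split (Ω := Ω) h₁ hne₁ hmem (fun ψ => classInner (permCh L Ω) ψ ^ 2)
    (fun ψ _ h0 => by show classInner (permCh L Ω) ψ ^ 2 = 0; rw [h0]; ring),
    classInner_permCh_one, hmult₁,
    Finset.sum_congr rfl (fun ψ hψ => by rw [hmultX ψ hψ, one_pow] : ∀ ψ ∈ X,
      classInner (permCh L Ω) (ψ : L → ℂ) ^ 2 = 1), Finset.sum_const, nsmul_eq_mul] at h1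
  have h3 : (Nat.card (MulAction.orbitRel.Quotient (MulAction.stabilizer L a) Ω) : ℂ) =
      ((X.card + 2 : ℕ) : ℂ) := by
    rw [h1]
    push_cast
    ring
  exact_mod_cast h3

end Cfsg.Agent.Lib.H4.W2P
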