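import Cfsg.Agent.S0719
import Cfsg.Agent.Lib.H21.W2P.Defs

/-!
# S0720 (Wielandt, degree `2p`), piece V1 (helper4)

`valency_one`: an orbital that is bipartite between the two `⟨x⟩`-orbits has valency one
(trace of `A` and of `A * Aᵀ`, `theta_mul`, Cauchy-Schwarz).
-/

set_option autoImplicit false
set_option linter.unusedSectionVars false
set_option linter.unusedVariables false

open Cfsg
open scoped ComplexConjugate ComplexOrder
open Cfsg.Agent.Lib.H4.CentRing Cfsg.Agent.Lib.H21.W2P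

namespace Cfsg.Agent.Lib.H4.W2P

section Orbit

variable {L : Type*} [Group L] {Ω : Type*} [MulAction L Ω]

theorem v1_pow_smul_mem_iff (x : L) (a y : Ω) (k : ℕ) :
    (x ^ k) • y ∈ MulAction.orbit (Subgroup.zpowers x) a ↔
      y ∈ MulAction.orbit (Subgroup.zpowers x) a := by
  have hk : x ^ k ∈ Subgroup.zpowers x := Subgroup.pow_mem _ (Subgroup.mem_zpowers x) k
  have h1 : (x ^ k) • y = (⟨x ^ k, hk⟩ : Subgroup.zpowers x) • y := rfl
  rw [h1, ← MulAction.orbit_eq_iff, MulAction.orbit_smul, MulAction.orbit_eq_iff]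

theorem v1_zpow_smul_mem_iff (x : L) (a y : Ω) (g : L) (hg : g ∈ Subgroup.zpowers x) :
    g • y ∈ MulAction.orbit (Subgroup.zpowers x) a ↔
      y ∈ MulAction.orbit (Subgroup.zpowers x) a := by
  have h1 : g • y = (⟨g, hg⟩ : Subgroup.zpowers x) • y := rfl
  rw [h1, ← MulAction.orbit_eq_iff, MulAction.orbit_smul, MulAction.orbit_eq_iff]

theorem v1_card_orbit [Fintype Ω] [DecidableEq Ω] {p : ℕ} (hp : p.Prime) (x : L)
    (hox : orderOf x = p) (a : Ω) (hfa : x • a ≠ a)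
    [DecidablePred fun y => y ∈ MulAction.orbit (Subgroup.zpowers x) a] :
    (Finset.univ.filter (fun y => y ∈ MulAction.orbit (Subgroup.zpowers x) a)).card = p := by
  have hcard : Nat.card (Subgroup.zpowers x) = p := by rw [Nat.card_zpowers, hox]
  have : Fact (Nat.card (Subgroup.zpowers x)).Prime := ⟨by rw [hcard]; exact hp⟩
  have hstab : MulAction.stabilizer (Subgroup.zpowers x) a = ⊥ := by
    rcases Subgroup.eq_bot_or_eq_top_of_prime_card (MulAction.stabilizer (Subgroup.zpowers x) a)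
      with h | h
    · exact h
    · exfalso
      have hx : (⟨x, Subgroup.mem_zpowers x⟩ : Subgroup.zpowers x) ∈
          MulAction.stabilizer (Subgroup.zpowers x) a := by rw [h]; trivial
      exact hfa hx
  have hidx := MulAction.index_stabilizer (Subgroup.zpowers x) a
  rw [hstab, Subgroup.index_bot, hcard] at hidx
  rw [← Set.ncard_coe_finset, hidx]
  congr 1
  ext y
  simp

end Orbit

section Sums

variable {G : Type*} [Group G] [Fintype G] {Ω : Type*} [Fintype Ω] [DecidableEq Ω] [MulAction G Ω]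

theorem v1_row_smul {A : Matrix Ω Ω ℂ} (hA : IsEqv G A) (g : G) (z : Ω) :
    ∑ w, A (g • z) w = ∑ w, A z w := by
  rw [← Equiv.sum_comp (MulAction.toPerm g) (fun w => A (g • z) w)]
  exact Finset.sum_congr rfl fun w _ => hA g z w

theorem v1_col_smul {A : Matrix Ω Ω ℂ} (hA : IsEqv G A) (g : G) (w : Ω) :
    ∑ z, A z (g • w) = ∑ z, A z w := by
  rw [← Equiv.sum_comp (MulAction.toPerm g) (fun z => A z (g • w))]
  exact Finset.sum_congr rfl fun z _ => hA g z w

theorem v1_row_eq [MulAction.IsPretransitive G Ω] {A : Matrix Ω Ω ℂ} (hA : IsEqv G A) (a z : Ω) :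
    ∑ w, A z w = ∑ w, A a w := by
  obtain ⟨g, rfl⟩ := MulAction.exists_smul_eq G a z
  exact v1_row_smul hA g a

theorem v1_col_eq [MulAction.IsPretransitive G Ω] {A : Matrix Ω Ω ℂ} (hA : IsEqv G A) (a w : Ω) :
    ∑ z, A z w = ∑ w', A a w' := by
  have hcol : ∀ w' : Ω, ∑ z, A z w' = ∑ z, A z w := by
    intro w'
    obtain ⟨g, rfl⟩ := MulAction.exists_smul_eq G w w'
    exact v1_col_smul hA g w
  have h1 : ∑ w' : Ω, ∑ z, A z w' = (Fintype.card Ω : ℂ) * ∑ z, A z w := by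
    rw [Finset.sum_congr rfl fun w' _ => hcol w', Finset.sum_const, Finset.card_univ, nsmul_eq_mul]
  have h2 : ∑ w' : Ω, ∑ z, A z w' = (Fintype.card Ω : ℂ) * ∑ w', A a w' := by
    rw [Finset.sum_comm, Finset.sum_congr rfl fun z _ => v1_row_eq hA a z, Finset.sum_const,
      Finset.card_univ, nsmul_eq_mul]
  have hne : (Fintype.card Ω : ℂ) ≠ 0 := by
    have : Nonempty Ω := ⟨a⟩
    exact_mod_cast Fintype.card_ne_zero
  exact mul_left_cancel₀ hne (h1.symm.trans h2)

/-- Double counting: if no edge joins two points of `S`, rows and columns have the same constant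
sum and `|S| = |Sᶜ|`, then no edge joins two points of `Sᶜ`. -/
theorem v1_no_inner {A : Matrix Ω Ω ℂ} (S : Finset Ω) (n : ℂ) (hrow : ∀ z, ∑ w, A z w = n)
    (hcol : ∀ w, ∑ z, A z w = n) (hnn : ∀ z w, 0 ≤ A z w) (hS : S.card = Sᶜ.card)
    (hin : ∀ z ∈ S, ∀ w ∈ S, A z w = 0) : ∀ z ∈ Sᶜ, ∀ w ∈ Sᶜ, A z w = 0 := by
  have h1 : ∀ z ∈ S, ∑ w ∈ Sᶜ, A z w = n := by
    intro z hz
    rw [← hrow z, ← Finset.sum_add_sum_compl S (fun w => A z w),
      Finset.sum_eq_zero (fun w hw => hin z hz w hw), zero_add]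
  have h2 : ∑ z ∈ S, ∑ w ∈ Sᶜ, A z w = (S.card : ℂ) * n := by
    rw [Finset.sum_congr rfl h1, Finset.sum_const, nsmul_eq_mul]
  have h3 : ∀ w ∈ Sᶜ, ∑ z ∈ Sᶜ, A z w = n - ∑ z ∈ S, A z w := by
    intro w _
    rw [← hcol w, ← Finset.sum_add_sum_compl S (fun z => A z w)]
    ring
  have h4 : ∑ w ∈ Sᶜ, ∑ z ∈ Sᶜ, A z w = 0 := by
    rw [Finset.sum_congr rfl h3, Finset.sum_sub_distrib, Finset.sum_const, nsmul_eq_mul,
      Finset.sum_comm, h2, hS]
    ring
  intro z hz w hw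
  have h5 := (Finset.sum_eq_zero_iff_of_nonneg
    (fun w' _ => Finset.sum_nonneg fun z' _ => hnn z' w')).mp h4 w hw
  exact (Finset.sum_eq_zero_iff_of_nonneg (fun z' _ => hnn z' w)).mp h5 z hz

end Sums

section Char

variable {L : Type*} [Group L] [Fintype L] {Ω : Type*} [Fintype Ω] [DecidableEq Ω] [MulAction L Ω]

theorem v1_cA_transpose (A : Matrix Ω Ω ℂ) (g : L) : cA A.transpose g = cA A g⁻¹ := by
  rw [cA_eq, cA_eq, ← Equiv.sum_comp (MulAction.toPerm g) (fun z => A z (g⁻¹ • z))]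
  refine Finset.sum_congr rfl fun z _ => ?_
  simp [Matrix.transpose_apply]

theorem v1_theta_transpose {A : Matrix Ω Ω ℂ} (hreal : ∀ z w, conj (A z w) = A z w) {ψ : L → ℂ}
    (hψ : IsCharacter L ψ) : theta A.transpose ψ = conj (theta A ψ) := by
  rw [theta, theta, classInner, classInner, map_mul, map_inv₀, Complex.conj_natCast, map_sum]
  congr 1
  rw [← Equiv.sum_comp (Equiv.inv L)]
  refine Finset.sum_congr rfl fun g _ => ?_
  rw [Equiv.inv_apply, v1_cA_transpose, inv_inv, map_mul, Complex.conj_conj,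
    Cfsg.Agent.Lib.L0.isCharacter_apply_inv hψ, Complex.conj_conj]
  congr 1
  rw [cA_eq, map_sum]
  exact Finset.sum_congr rfl fun z _ => (hreal _ _).symm

theorem v1_sum_split [Fintype (IrrCharacter L)] {p : ℕ} {x : L} {χ₁ : L → ℂ}
    {X : Finset (IrrCharacter L)} (hD : Dec L Ω p x χ₁ X) (F : (L → ℂ) → ℂ)
    (hF : ∀ ψ : L → ℂ, IsIrrCharacter L ψ → classInner (permCh L Ω) ψ = 0 → F ψ = 0) :
    ∑ ψ : IrrCharacter L, F (ψ : L → ℂ) =
      F (fun _ => 1) + F χ₁ + ∑ ψ ∈ X, F (ψ : L → ℂ) := by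
  classical
  obtain ⟨t0, ht0⟩ : ∃ t0 : IrrCharacter L, t0 = Cfsg.Agent.Lib.H24.trivialIrr L := ⟨_, rfl⟩
  obtain ⟨x₁, hx₁⟩ : ∃ x₁ : IrrCharacter L, x₁ = ⟨χ₁, hD.irr₁⟩ := ⟨_, rfl⟩
  have hv0 : (t0 : L → ℂ) = fun _ => 1 := by rw [ht0]; rfl
  have hv1 : (x₁ : L → ℂ) = χ₁ := by rw [hx₁]
  have h1X : x₁ ∉ X := fun h => ((hD.mem x₁).mp h).2.2 hv1
  have h0X : t0 ∉ X := fun h => ((hD.mem t0).mp h).2.1 hv0
  have h01 : t0 ≠ x₁ := by
    intro h
    apply hD.ne₁
    rw [← hv1, ← h, hv0]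
  rw [← Finset.sum_subset (Finset.subset_univ (insert t0 (insert x₁ X)))]
  · rw [Finset.sum_insert (by simp [h01, h0X]), Finset.sum_insert h1X, hv0, hv1, add_assoc]
  · intro ψ _ hψ
    simp only [Finset.mem_insert, not_or] at hψ
    apply hF ψ ψ.2
    by_contra h0
    exact hψ.2.2 ((hD.mem ψ).mpr ⟨h0, fun h => hψ.1 (Subtype.ext (h.trans hv0.symm)),
      fun h => hψ.2.1 (Subtype.ext (h.trans hv1.symm))⟩)

theorem v1_normSq_ge (z : ℂ) (t : ℝ) : 2 * t * z.re - t ^ 2 ≤ Complex.normSq z := by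
  rw [Complex.normSq_apply]
  nlinarith [sq_nonneg (z.re - t), sq_nonneg z.im]

end Char

/-- V1: an orbital that is bipartite between the two `⟨x⟩`-orbits has valency one. -/
theorem valency_one {L : Type*} [Group L] [Fintype L] {Ω : Type*} [Fintype Ω] [DecidableEq Ω]
    [MulAction L Ω] [MulAction.IsPretransitive L Ω] {p : ℕ} (hp : p.Prime)
    (hΩ : Fintype.card Ω = 2 * p) (x : L) (hox : orderOf x = p) (hfpf : ∀ a : Ω, x • a ≠ a)
    (e : ℕ) (χ₁ : L → ℂ) (X : Finset (IrrCharacter L)) (hD : Dec L Ω p x χ₁ X)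
    (hdeg : ∀ ψ ∈ X, (ψ : L → ℂ) 1 = (e : ℂ)) (a b : Ω) (hba : b ≠ a)
    (hbip : ∀ h ∈ MulAction.stabilizer L a, h • b ∉ MulAction.orbit (Subgroup.zpowers x) a) :
    ∀ h ∈ MulAction.stabilizer L a, h • b = b := by
  classical
  haveI : Fintype (IrrCharacter L) := Fintype.ofFinite _
  have : Nonempty Ω := ⟨a⟩
  have hone := Cfsg.Agent.Lib.H24.isIrrCharacter_one (G := L)
  obtain ⟨A, hAdef⟩ : ∃ A : Matrix Ω Ω ℂ, A = orbMatC L a b := ⟨_, rfl⟩
  have hA : IsEqv L A := by rw [hAdef]; exact orbMatC_isEqv a b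
  obtain ⟨n, hn⟩ : ∃ n : ℕ, n = Nat.card (MulAction.orbit (MulAction.stabilizer L a) b) := ⟨_, rfl⟩
  have hrowa : ∑ w, A a w = (n : ℂ) := by rw [hAdef, hn]; exact orbMatC_row a b
  have hrow : ∀ z, ∑ w, A z w = n := fun z => (v1_row_eq hA a z).trans hrowa
  have hcol : ∀ w, ∑ z, A z w = n := fun w => (v1_col_eq hA a w).trans hrowa
  have h01 : ∀ z w, A z w = 0 ∨ A z w = 1 := by
    intro z w
    rw [hAdef, orbMatC_apply]
    split_ifs <;> simp
  have hnn : ∀ z w, 0 ≤ A z w := by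
    intro z w
    rcases h01 z w with h | h <;> rw [h]
    exact zero_le_one
  have hreal : ∀ z w, conj (A z w) = A z w := by
    intro z w
    rcases h01 z w with h | h <;> rw [h] <;> simp
  have hsq : ∀ z w, A z w * A z w = A z w := by
    intro z w
    rcases h01 z w with h | h <;> rw [h] <;> simp
  -- the `⟨x⟩`-orbit of `a`
  obtain ⟨S, hS⟩ : ∃ S : Finset Ω,
      S = Finset.univ.filter (fun y => y ∈ MulAction.orbit (Subgroup.zpowers x) a) := ⟨_, rfl⟩
  have hmemS : ∀ y, y ∈ S ↔ y ∈ MulAction.orbit (Subgroup.zpowers x) a := by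
    intro y
    rw [hS]
    simp
  have hScard : S.card = p := by rw [hS]; exact v1_card_orbit hp x hox a (hfpf a)
  have hSc : Sᶜ.card = p := by
    rw [Finset.card_compl, hΩ, hScard]
    omega
  have hout : ∀ z ∈ S, ∀ w ∈ S, A z w = 0 := by
    intro z hz w hw
    rw [hmemS] at hz hw
    obtain ⟨⟨g, hg⟩, rfl⟩ := hz
    have h1 : A (g • a) w = A a (g⁻¹ • w) := by
      have := hA g a (g⁻¹ • w)
      rw [smul_inv_smul] at this
      exact this
    show A (g • a) w = 0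
    rw [h1]
    by_contra hne
    rw [hAdef, orbMatC_apply] at hne
    split_ifs at hne with hex
    · obtain ⟨h, h1, h2⟩ := hex
      have h3 := hbip h h1
      rw [h2] at h3
      exact h3 ((v1_zpow_smul_mem_iff x a w g⁻¹ (inv_mem hg)).mpr hw)
    · exact hne rfl
  have hin := v1_no_inner S n hrow hcol hnn (hScard.trans hSc.symm) hout
  have hcA : ∀ k : ℕ, cA A (x ^ k) = 0 := by
    intro k
    rw [cA_eq]
    refine Finset.sum_eq_zero fun z _ => ?_
    by_cases hz : z ∈ S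
    · refine hout z hz _ ?_
      rw [hmemS] at hz ⊢
      exact (v1_pow_smul_mem_iff x a z k).mpr hz
    · refine hin z (Finset.mem_compl.mpr hz) _ (Finset.mem_compl.mpr ?_)
      rw [hmemS] at hz ⊢
      rwa [v1_pow_smul_mem_iff]
  -- expansion of `cA A`
  have hexp := Cfsg.Agent.Lib.H24.classFunction_expansion (cA A) (cA_isClassFunction hA)
  have hpt : ∀ g, cA A g = ∑ ψ : IrrCharacter L, theta A (ψ : L → ℂ) * (ψ : L → ℂ) g := by
    intro g
    have := congrFun hexp g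
    rw [Finset.sum_apply] at this
    simp only [Pi.smul_apply, smul_eq_mul] at this
    exact this
  have hsplit : ∀ g, cA A g = theta A (fun _ : L => (1 : ℂ)) * 1 + theta A χ₁ * χ₁ g +
      ∑ ψ ∈ X, theta A (ψ : L → ℂ) * (ψ : L → ℂ) g := by
    intro g
    rw [hpt g]
    exact v1_sum_split hD (fun ψ => theta A ψ * ψ g) (fun ψ hψ h0 => by
      show theta A ψ * ψ g = 0
      rw [theta_eq_zero A (Cfsg.Agent.Lib.L0.isCharacter_of_irr hψ) h0, zero_mul])
  have hω0 : theta A (fun _ : L => (1 : ℂ)) = n := by rw [theta_triv hA a, hrowa]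
  have hp0 : (p : ℂ) ≠ 0 := by exact_mod_cast hp.ne_zero
  -- (II): sum over the powers of `x`
  have hsum1 : ∑ k ∈ Finset.range p, χ₁ (x ^ k) = p := by
    rw [Finset.sum_eq_single 0]
    · rw [pow_zero, hD.deg₁]
    · intro k hk hk0
      apply hD.van₁
      intro hdvd
      have := Nat.le_of_dvd (Nat.pos_of_ne_zero hk0) hdvd
      rw [Finset.mem_range] at hk
      omega
    · intro h
      exact absurd (Finset.mem_range.mpr hp.pos) h
  have hII : (p : ℂ) * n + theta A χ₁ * p = 0 := by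
    have h1 : ∑ k ∈ Finset.range p, cA A (x ^ k) = 0 :=
      Finset.sum_eq_zero fun k _ => hcA k
    rw [Finset.sum_congr rfl fun k _ => hsplit (x ^ k)] at h1
    rw [Finset.sum_add_distrib, Finset.sum_add_distrib, Finset.sum_const, Finset.card_range,
      ← Finset.mul_sum, hsum1, Finset.sum_comm] at h1
    have h2 : ∑ ψ ∈ X, ∑ k ∈ Finset.range p, theta A (ψ : L → ℂ) * (ψ : L → ℂ) (x ^ k) = 0 := by
      refine Finset.sum_eq_zero fun ψ hψ => ?_
      rw [← Finset.mul_sum, hD.sumP ψ hψ, mul_zero]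
    rw [h2, hω0, add_zero, nsmul_eq_mul, mul_one] at h1
    exact h1
  have hω1 : theta A χ₁ = -n := by
    have : (p : ℂ) * (n + theta A χ₁) = 0 := by linear_combination hII
    rcases mul_eq_zero.mp this with h | h
    · exact absurd h hp0
    · linear_combination h
  -- degrees: `s * e = p - 1`
  have hse : (X.card : ℂ) * e = p - 1 := by
    have h1 := congrFun hD.eq 1
    have h2 : permCh L Ω 1 = (2 * p : ℕ) := by
      rw [permCh, ← hΩ, ← Nat.card_eq_fintype_card]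
      congr 1
      apply Nat.card_congr
      exact (Equiv.subtypeUnivEquiv (fun y => by simp))
    rw [h2, hD.deg₁, Finset.sum_congr rfl hdeg, Finset.sum_const, nsmul_eq_mul] at h1
    push_cast at h1
    linear_combination -h1
  have hp1 : (p : ℂ) - 1 ≠ 0 := by
    have : (p : ℂ) ≠ 1 := by exact_mod_cast hp.one_lt.ne'
    exact sub_ne_zero.mpr this
  have he0 : (e : ℂ) ≠ 0 := by
    intro h
    rw [h, mul_zero] at hse
    exact hp1 hse.symm
  -- (I): value at 1
  have hI : (e : ℂ) * ∑ ψ ∈ X, theta A (ψ : L → ℂ) = e * (X.card * n) := by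
    have h1 := hsplit 1
    have h0 : cA A (1 : L) = 0 := by
      have := hcA 0
      rwa [pow_zero] at this
    rw [h0, hω0, hω1, hD.deg₁] at h1
    have h2 : ∑ ψ ∈ X, theta A (ψ : L → ℂ) * (ψ : L → ℂ) 1 =
        (e : ℂ) * ∑ ψ ∈ X, theta A (ψ : L → ℂ) := by
      rw [Finset.mul_sum]
      refine Finset.sum_congr rfl fun ψ hψ => ?_
      rw [hdeg ψ hψ, mul_comm]
    rw [h2] at h1
    linear_combination -h1 - (n : ℂ) * hse
  have hsumω : ∑ ψ ∈ X, theta A (ψ : L → ℂ) = X.card * n := mul_left_cancel₀ he0 hI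
  -- (III): trace of `A * Aᵀ`
  have hAAt : IsEqv L (A * A.transpose) := hA.mul hA.transpose
  have htr1 : (A * A.transpose).trace = (2 * p : ℕ) * n := by
    rw [Matrix.trace]
    simp only [Matrix.diag_apply, Matrix.mul_apply, Matrix.transpose_apply, hsq]
    rw [Finset.sum_congr rfl fun z _ => hrow z, Finset.sum_const, Finset.card_univ, hΩ,
      nsmul_eq_mul]
  have hmulθ : ∀ ψ : L → ℂ, IsCharacter L ψ → classInner (permCh L Ω) ψ = 1 →
      theta (A * A.transpose) ψ = (Complex.normSq (theta A ψ) : ℂ) := by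
    intro ψ hψ h1
    rw [theta_mul hψ h1 hA hA.transpose, v1_theta_transpose hreal hψ, Complex.mul_conj]
  have htr2 : (A * A.transpose).trace = theta (A * A.transpose) (fun _ : L => (1 : ℂ)) * 1 +
      theta (A * A.transpose) χ₁ * χ₁ 1 +
      ∑ ψ ∈ X, theta (A * A.transpose) (ψ : L → ℂ) * (ψ : L → ℂ) 1 := by
    rw [trace_eq_sum_irr hAAt]
    exact v1_sum_split hD (fun ψ => classInner (cA (A * A.transpose)) ψ * ψ 1) (fun ψ hψ h0 => by
      show classInner (cA (A * A.transpose)) ψ * ψ 1 = 0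
      rw [classInner_cA_eq_zero _ (Cfsg.Agent.Lib.L0.isCharacter_of_irr hψ) h0, zero_mul])
  rw [htr1, hmulθ _ (Cfsg.Agent.Lib.L0.isCharacter_of_irr hone) classInner_permCh_one,
    hmulθ _ (Cfsg.Agent.Lib.L0.isCharacter_of_irr hD.irr₁) hD.mult₁, hω0, hω1, hD.deg₁] at htr2
  have htr3 : ∑ ψ ∈ X, theta (A * A.transpose) (ψ : L → ℂ) * (ψ : L → ℂ) 1 =
      ((e * ∑ ψ ∈ X, Complex.normSq (theta A (ψ : L → ℂ)) : ℝ) : ℂ) := by
    push_cast
    rw [Finset.mul_sum]
    refine Finset.sum_congr rfl fun ψ hψ => ?_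
    rw [hmulθ _ (Cfsg.Agent.Lib.L0.isCharacter_of_irr ψ.2) (hD.mult ψ hψ), hdeg ψ hψ, mul_comm]
  rw [htr3] at htr2
  -- move to the reals
  have hR : ((2 * p : ℕ) : ℝ) * n = (n : ℝ) ^ 2 * 1 + (n : ℝ) ^ 2 * p +
      e * ∑ ψ ∈ X, Complex.normSq (theta A (ψ : L → ℂ)) := by
    have h1 : Complex.normSq (n : ℂ) = (n : ℝ) ^ 2 := by
      rw [Complex.normSq_natCast]; ring
    have h2 : Complex.normSq (-(n : ℂ)) = (n : ℝ) ^ 2 := by rw [Complex.normSq_neg, h1]
    rw [h1, h2] at htr2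
    exact_mod_cast htr2
  have hseR : (X.card : ℝ) * e = p - 1 := by exact_mod_cast hse
  have hsumre : ∑ ψ ∈ X, (theta A (ψ : L → ℂ)).re = X.card * n := by
    have := congrArg Complex.re hsumω
    rw [Complex.re_sum] at this
    rw [this]
    simp
  have hCS : (X.card : ℝ) * (n : ℝ) ^ 2 ≤ ∑ ψ ∈ X, Complex.normSq (theta A (ψ : L → ℂ)) := by
    have h1 : ∑ ψ ∈ X, (2 * (n : ℝ) * (theta A (ψ : L → ℂ)).re - (n : ℝ) ^ 2) ≤
        ∑ ψ ∈ X, Complex.normSq (theta A (ψ : L → ℂ)) :=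
      Finset.sum_le_sum fun ψ _ => v1_normSq_ge _ _
    rw [Finset.sum_sub_distrib, ← Finset.mul_sum, hsumre, Finset.sum_const, nsmul_eq_mul] at h1
    linarith
  have hpR : (0 : ℝ) < p := by exact_mod_cast hp.pos
  have heR : (0 : ℝ) ≤ e := Nat.cast_nonneg e
  have hfin : (n : ℝ) ^ 2 ≤ n := by
    have h1 : (e : ℝ) * ((X.card : ℝ) * (n : ℝ) ^ 2) ≤
        e * ∑ ψ ∈ X, Complex.normSq (theta A (ψ : L → ℂ)) := mul_le_mul_of_nonneg_left hCS heR
    have h2 : (e : ℝ) * ((X.card : ℝ) * (n : ℝ) ^ 2) = ((p : ℝ) - 1) * (n : ℝ) ^ 2 := by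
      rw [← hseR]; ring
    have h3 : 2 * (p : ℝ) * (n : ℝ) ^ 2 ≤ 2 * p * n := by
      push_cast at hR
      nlinarith
    have h4 : (0 : ℝ) < 2 * p := by linarith
    exact le_of_mul_le_mul_left (by linarith) h4
  have hn1 : n ≤ 1 := by
    have h1 : n ^ 2 ≤ n := by exact_mod_cast hfin
    nlinarith
  -- conclusion
  intro h hh
  have hsub : Subsingleton (MulAction.orbit (MulAction.stabilizer L a) b) := by
    rw [← Finite.card_le_one_iff_subsingleton, ← hn]
    exact hn1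
  have := @Subsingleton.elim _ hsub
    (⟨(⟨h, hh⟩ : MulAction.stabilizer L a) • b, MulAction.mem_orbit _ _⟩ :
      MulAction.orbit (MulAction.stabilizer L a) b) ⟨b, MulAction.mem_orbit_self b⟩
  exact congrArg Subtype.val this

end Cfsg.Agent.Lib.H4.W2P
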