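import Mathlib
import Cfsg.Agent.Lib.H22.O5040B

set_option autoImplicit false
set_option maxHeartbeats 400000

/-! # Order 5040: at most 14 conjugates of `s` other than `s` commute with `s` -/

namespace Cfsg.Agent.Lib.H4.O5040

open Subgroup MulAction Cfsg.Agent.Lib.H5.SylPrime

variable {G : Type*} [Group G]

theorem card_conj_commute_self_le [Finite G] (hG : Nat.card G = 5040) {x s : G}
    (hx : orderOf x = 7) (hs : orderOf s = 2) (hinv : s * x * s⁻¹ = x⁻¹)
    (h48 : Nat.card (centralizer ({s} : Set G)) = 48) :
    Nat.card {q : G // IsConj s q ∧ q ≠ s ∧ Commute q s} ≤ 14 := by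
  have : Fact (Nat.Prime 7) := ⟨by norm_num⟩
  set H : Subgroup G := centralizer ({s} : Set G) with hH
  have hsH : s ∈ H := by
    rw [hH, mem_centralizer_iff]
    intro z hz
    rw [Set.mem_singleton_iff] at hz
    rw [hz]
  have hidx : H.index = 105 := by
    have := H.card_mul_index
    rw [h48, hG] at this
    omega
  have hfreex : ∀ q : G ⧸ H, x • q ≠ q := by
    intro q
    induction q using QuotientGroup.induction_on with
    | H g =>
      intro heq
      have h1 := Cfsg.Agent.Lib.H22.O5040.conj_mem_of_smul_eq H heq
      have h2 : orderOf (g⁻¹ * x * g) = 7 := by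
        rw [Cfsg.Agent.Lib.H22.O5040.orderOf_conj', hx]
      have h3 : 7 ∣ 48 := by
        rw [← h48, ← h2]
        have := orderOf_dvd_natCard (⟨_, h1⟩ : H)
        rwa [Subgroup.orderOf_mk] at this
      omega
  have h7 := Cfsg.Agent.Lib.H22.O5040.card_fixedBy_mul_le_of_invert (Ω := G ⧸ H) (p := 7)
    (by norm_num) hx hinv hfreex
  have hcardΩ : Nat.card (G ⧸ H) = 105 := by rw [← Subgroup.index_eq_card, hidx]
  rw [hcardΩ] at h7
  have hmul := card_fixedBy_mul_card H hsH
  rw [h48] at hmul
  have hfix : Nat.card (fixedBy (G ⧸ H) s) = Nat.card {g : G // IsConj s g ∧ g ∈ H} := by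
    have : Nat.card (fixedBy (G ⧸ H) s) * 48 = Nat.card {g : G // IsConj s g ∧ g ∈ H} * 48 := by
      rw [hmul]; ring
    exact Nat.eq_of_mul_eq_mul_right (by norm_num) this
  -- inject `Option {q // ...}` into `{g // IsConj s g ∧ g ∈ H}`
  let f : Option {q : G // IsConj s q ∧ q ≠ s ∧ Commute q s} → {g : G // IsConj s g ∧ g ∈ H} :=
    fun o => match o with
      | none => ⟨s, IsConj.refl s, hsH⟩
      | some q => ⟨q.1, q.2.1, by
          rw [hH, mem_centralizer_iff]
          intro z hz
          rw [Set.mem_singleton_iff] at hz
          rw [hz]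
          exact q.2.2.2.eq.symm⟩
  have hf : Function.Injective f := by
    intro a b hab
    cases a with
    | none =>
      cases b with
      | none => rfl
      | some q =>
        exfalso
        have : s = q.1 := congrArg Subtype.val hab
        exact q.2.2.1 this.symm
    | some p =>
      cases b with
      | none =>
        exfalso
        have : p.1 = s := congrArg Subtype.val hab
        exact p.2.2.1 this
      | some q =>
        have h1 : (f (some p)).1 = (f (some q)).1 := congrArg Subtype.val hab
        have h2 : p.1 = q.1 := h1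
        rw [Subtype.ext h2]
  have hle := Nat.card_le_card_of_injective f hf
  rw [Finite.card_option] at hle
  omega

end Cfsg.Agent.Lib.H4.O5040
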