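import Mathlib
import Cfsg.Prelude.Def_Solvable
import Cfsg.Agent.Lib.H22.PPrimeCore

/-!
S4886 piece IDX (helper4): for a normal `p'`-subgroup `N`, the index of `O_{p'}(G/N)` in `G/N`
equals the index of `O_{p'}(G)` in `G`.
-/

set_option autoImplicit false

namespace Cfsg.Agent.Lib.H4.PQ2

open Cfsg

/-- an element of a subgroup of order prime to `p` whose order divides `p` is trivial -/
theorem pq2_eq_one_of_orderOf_dvd {G : Type*} [Group G] [Finite G] (p : ℕ) (K : Subgroup G)
    (hK : (Nat.card K).Coprime p) (x : G) (hx : x ∈ K) (hdvd : orderOf x ∣ p) : x = 1 := by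
  have h1 : orderOf x ∣ Nat.card K := by
    have := orderOf_dvd_natCard (⟨x, hx⟩ : K)
    rwa [Subgroup.orderOf_mk] at this
  have h2 : orderOf x ∣ Nat.gcd (Nat.card K) p := Nat.dvd_gcd h1 hdvd
  rw [hK] at h2
  exact orderOf_eq_one_iff.1 (Nat.dvd_one.1 h2)

/-- the preimage of a `p'`-subgroup under the quotient map by a normal `p'`-subgroup is a
`p'`-group -/
theorem pq2_card_comap_coprime {G : Type*} [Group G] [Finite G] (p : ℕ) [Fact p.Prime]
    (N : Subgroup G) [N.Normal] (hN : (Nat.card N).Coprime p) (B : Subgroup (G ⧸ N))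
    (hB : (Nat.card B).Coprime p) :
    (Nat.card (B.comap (QuotientGroup.mk' N))).Coprime p := by
  have hp : p.Prime := Fact.out
  rw [Nat.coprime_comm, hp.coprime_iff_not_dvd]
  intro hdvd
  obtain ⟨x, hx⟩ := exists_prime_orderOf_dvd_card' p hdvd
  have hxG : orderOf (x : G) = p := by rw [Subgroup.orderOf_coe]; exact hx
  have hxB : QuotientGroup.mk' N (x : G) ∈ B := x.2
  have h1 : QuotientGroup.mk' N (x : G) = 1 := by
    apply pq2_eq_one_of_orderOf_dvd p B hB _ hxB
    rw [← hxG]
    exact orderOf_map_dvd _ _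
  have hxN : (x : G) ∈ N := by
    have := (QuotientGroup.eq_one_iff (N := N) (x : G)).1 h1
    exact this
  have h2 : (x : G) = 1 := pq2_eq_one_of_orderOf_dvd p N hN _ hxN (by rw [hxG])
  rw [h2, orderOf_one] at hxG
  exact hp.one_lt.ne hxG

/-- IDX -/
theorem index_pPrimeCore_quotient {G : Type*} [Group G] [Finite G] (p : ℕ) [Fact p.Prime]
    (N : Subgroup G) [N.Normal] (hN : (Nat.card N).Coprime p) :
    (pPrimeCore p (G ⧸ N)).index = (pPrimeCore p G).index := by
  have hsurj : Function.Surjective (QuotientGroup.mk' N) := QuotientGroup.mk'_surjective N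
  have hcomap : (pPrimeCore p (G ⧸ N)).comap (QuotientGroup.mk' N) = pPrimeCore p G := by
    apply le_antisymm
    · apply Cfsg.Agent.Lib.H22.le_pPrimeCore
      · haveI := Cfsg.Agent.Lib.H22.pPrimeCore_normal (G := G ⧸ N) p
        exact Subgroup.Normal.comap inferInstance _
      · exact pq2_card_comap_coprime p N hN _ (Cfsg.Agent.Lib.H22.card_pPrimeCore_coprime p)
    · rw [← Subgroup.map_le_iff_le_comap]
      apply Cfsg.Agent.Lib.H22.le_pPrimeCore
      · haveI := Cfsg.Agent.Lib.H22.pPrimeCore_normal (G := G) p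
        exact Subgroup.Normal.map inferInstance _ hsurj
      · have hdvd : Nat.card ((pPrimeCore p G).map (QuotientGroup.mk' N)) ∣
            Nat.card (pPrimeCore p G) := Subgroup.card_map_dvd _ _
        exact Nat.Coprime.coprime_dvd_left hdvd (Cfsg.Agent.Lib.H22.card_pPrimeCore_coprime p)
  rw [← hcomap, Subgroup.index_comap_of_surjective _ hsurj]

end Cfsg.Agent.Lib.H4.PQ2
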