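import Mathlib
import Cfsg.Prelude.Def_Solvable
import Cfsg.Prelude.Def_Characters
import Cfsg.Agent.Lib.H22.PPrimeCore
import Cfsg.Agent.Lib.H24.CharDefl

/-!
S4886 piece QUOT (helper4): the cross hypothesis
`A = O_{p'}(G) ≤ ker χ → p ∤ χ(1) → q ∤ χ(1)` passes to quotients `G ⧸ N`.
-/

set_option autoImplicit false

namespace Cfsg.Agent.Lib.H4.PQ2

open Cfsg

/-- QUOT -/
theorem cross_quotient {G : Type*} [Group G] [Finite G] (p q : ℕ) [Fact p.Prime]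
    (N : Subgroup G) [N.Normal]
    (h : ∀ χ : IrrCharacter G, (∀ a ∈ pPrimeCore p G, (χ : G → ℂ) a = (χ : G → ℂ) 1) →
      ¬ p ∣ charDegree (χ : G → ℂ) → ¬ q ∣ charDegree (χ : G → ℂ))
    (ψ : IrrCharacter (G ⧸ N))
    (hψ : ∀ a ∈ pPrimeCore p (G ⧸ N), (ψ : G ⧸ N → ℂ) a = (ψ : G ⧸ N → ℂ) 1)
    (hp : ¬ p ∣ charDegree (ψ : G ⧸ N → ℂ)) : ¬ q ∣ charDegree (ψ : G ⧸ N → ℂ) := by
  have hsurj : Function.Surjective (QuotientGroup.mk' N) := QuotientGroup.mk'_surjective N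
  have hmap : (pPrimeCore p G).map (QuotientGroup.mk' N) ≤ pPrimeCore p (G ⧸ N) := by
    apply Cfsg.Agent.Lib.H22.le_pPrimeCore
    · haveI := Cfsg.Agent.Lib.H22.pPrimeCore_normal (G := G) p
      exact Subgroup.Normal.map inferInstance _ hsurj
    · have hdvd : Nat.card ((pPrimeCore p G).map (QuotientGroup.mk' N)) ∣
          Nat.card (pPrimeCore p G) := Subgroup.card_map_dvd _ _
      exact Nat.Coprime.coprime_dvd_left hdvd (Cfsg.Agent.Lib.H22.card_pPrimeCore_coprime p)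
  have key := h (Cfsg.Agent.Lib.H24.inflIrr N ψ) ?_ ?_
  · rwa [Cfsg.Agent.Lib.H24.charDegree_inflIrr] at key
  · intro a ha
    rw [Cfsg.Agent.Lib.H24.inflIrr_apply, Cfsg.Agent.Lib.H24.inflIrr_apply, QuotientGroup.mk_one]
    exact hψ _ (hmap (Subgroup.mem_map_of_mem _ ha))
  · rwa [Cfsg.Agent.Lib.H24.charDegree_inflIrr]

end Cfsg.Agent.Lib.H4.PQ2
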