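import Mathlib
import Cfsg.Prelude.Def_Solvable
import Cfsg.Prelude.Def_Local
import Cfsg.Agent.Lib.H22.PPrimeCore
import Cfsg.Agent.Lib.H9.PPrimeCore
import Cfsg.Agent.Lib.H10.PSolvable2
import Cfsg.Agent.Lib.H4.PSolvSub
import Cfsg.Agent.Lib.H14.Subnormal

/-!
S4886 piece SUBN (helper4): if `O_q(G) = 1`, `O_{p'}(G) ∩ O_{q'}(G) = 1` and `G` is `q`-solvable
then `O_{p'}(G) = 1`.
-/

set_option autoImplicit false

namespace Cfsg.Agent.Lib.H4.PQ2

open Cfsg

/-- the image in `G` of a normal subgroup of a normal subgroup is subnormal -/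
theorem pq2_isSubnormal_map_subtype {G : Type*} [Group G] (A : Subgroup G) [hA : A.Normal]
    (M : Subgroup A) [hM : M.Normal] : (M.map A.subtype).IsSubnormal := by
  refine Subgroup.IsSubnormal.step (M.map A.subtype) A ?_ hA.isSubnormal ?_
  · exact Subgroup.map_subtype_le M
  · have h : (M.map A.subtype).subgroupOf A = M := by
      ext x
      rw [Subgroup.mem_subgroupOf, Subgroup.mem_map]
      constructor
      · rintro ⟨y, hy, hyx⟩
        have : y = x := Subtype.ext hyx
        rwa [← this]
      · intro hx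
        exact ⟨x, hx, rfl⟩
    rw [h]
    exact hM

/-- SUBN -/
theorem pPrimeCore_eq_bot_of_cores {G : Type*} [Group G] [Finite G] (p q : ℕ) [Fact p.Prime]
    [Fact q.Prime] (hqs : IsPSolvable q G) (hq : pCore q G = ⊥)
    (hD : pPrimeCore p G ⊓ pPrimeCore q G = ⊥) : pPrimeCore p G = ⊥ := by
  by_contra hne
  set A : Subgroup G := pPrimeCore p G with hA
  haveI hAn : A.Normal := Cfsg.Agent.Lib.H22.pPrimeCore_normal p
  have hAs : IsPSolvable q ↥A := Cfsg.Agent.Lib.H4.PSolvSub.isPSolvable_subgroup hqs A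
  haveI : Nontrivial ↥A := (Subgroup.nontrivial_iff_ne_bot A).2 hne
  obtain ⟨M, hMn, hMne, hM⟩ := Cfsg.Agent.Lib.H10.exists_normal_of_isPSolvable hAs
  haveI := hMn
  have hsub : (M.map A.subtype).IsSubnormal := pq2_isSubnormal_map_subtype A M
  have hcard : Nat.card (M.map A.subtype) = Nat.card M :=
    Nat.card_congr (M.equivMapOfInjective A.subtype A.subtype_injective).toEquiv.symm
  have hMbot : M.map A.subtype = ⊥ := by
    rcases hM with hMq | hMq'
    · have hpg : IsPGroup q (M.map A.subtype) :=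
        hMq.of_equiv (M.equivMapOfInjective A.subtype A.subtype_injective)
      have := Cfsg.Agent.Lib.H14.le_pCore_of_isSubnormal_of_isPGroup q _ hsub hpg
      rw [hq] at this
      exact le_bot_iff.1 this
    · have h1 : M.map A.subtype ≤ pPrimeCore q G := by
        apply Cfsg.Agent.Lib.H9.subnormal_coprime_le_pPrimeCore q hsub
        rwa [hcard]
      have h2 : M.map A.subtype ≤ A := Subgroup.map_subtype_le M
      have := le_inf h2 h1
      rw [hD] at this
      exact le_bot_iff.1 this
  apply hMne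
  rw [eq_bot_iff]
  intro x hx
  have : A.subtype x ∈ M.map A.subtype := Subgroup.mem_map_of_mem _ hx
  rw [hMbot, Subgroup.mem_bot] at this
  rw [Subgroup.mem_bot]
  exact Subtype.ext this

end Cfsg.Agent.Lib.H4.PQ2
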