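import Mathlib
import Cfsg.Agent.Lib.H24.AschOBasic
import Cfsg.Agent.Lib.H4.AschM3
import Cfsg.Agent.Lib.H4.AschUM3
import Cfsg.Agent.Lib.H4.AschSM3

set_option autoImplicit false
set_option maxHeartbeats 800000

/-! # S5673 / OM3: homogeneous with a constituent that is not absolutely irreducible ⇒ class 3
(orthogonal groups in odd dimension) -/

namespace Cfsg.Agent.Lib.H4.Asch

open Cfsg Cfsg.Geo Cfsg.Agent.Lib.Lead.Asch Cfsg.Agent.Lib.H24.Asch Cfsg.Agent.Lib.H4.AschS
open scoped MatrixGroups Matrix Kronecker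

section form
variable {F : Type*} [Field F] {n : ℕ} {f : (Fin n → F) → (Fin n → F) → F}

theorem sadj_sadj_of_symm (hb : IsBilinearForm f) (hnd : IsNondegenerateForm f)
    (hsymm : ∀ u v, f u v = f v u) (a : Matrix (Fin n) (Fin n) F) :
    sadj f (sadj f a) = a := by
  apply eq_of_form_eq hb hnd
  intro u v
  rw [← form_sadj hb hnd, hsymm, ← form_sadj hb hnd, hsymm]

theorem sadj_neg (a : Matrix (Fin n) (Fin n) F) : sadj f (-a) = -sadj f a := by
  rw [← neg_one_smul F a, sadj_smul, neg_one_smul]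

theorem sadj_sub (a b : Matrix (Fin n) (Fin n) F) : sadj f (a - b) = sadj f a - sadj f b := by
  rw [sub_eq_add_neg, sadj_add, sadj_neg, ← sub_eq_add_neg]

/-- the commutant of an adjoint-stable set is adjoint-stable (any involutive adjoint) -/
theorem sadj_mem_centralizer_of_invol (hb : IsBilinearForm f) (hnd : IsNondegenerateForm f)
    (hinvol : ∀ a, sadj f (sadj f a) = a)
    (S : Set (Matrix (Fin n) (Fin n) F)) (hS : ∀ s ∈ S, sadj f s ∈ S)
    (z : Matrix (Fin n) (Fin n) F) (hz : z ∈ Subalgebra.centralizer F S) :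
    sadj f z ∈ Subalgebra.centralizer F S := by
  rw [Subalgebra.mem_centralizer_iff F] at hz ⊢
  intro s hs
  have h1 := hz (sadj f s) (hS s hs)
  have h2 := congrArg (sadj f) h1
  rw [sadj_mul hb hnd, sadj_mul hb hnd, hinvol] at h2
  exact h2.symm

theorem sadj_mem_cc_of_invol (hb : IsBilinearForm f) (hnd : IsNondegenerateForm f)
    (hinvol : ∀ a, sadj f (sadj f a) = a)
    (S : Set (Matrix (Fin n) (Fin n) F)) (hS : ∀ s ∈ S, sadj f s ∈ S)
    (z : Matrix (Fin n) (Fin n) F) (hz : z ∈ cc F S) : sadj f z ∈ cc F S := by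
  rw [mem_cc_iff] at hz ⊢
  refine ⟨sadj_mem_centralizer_of_invol hb hnd hinvol S hS z hz.1, ?_⟩
  exact sadj_mem_centralizer_of_invol hb hnd hinvol _
    (fun s hs => sadj_mem_centralizer_of_invol hb hnd hinvol S hS s hs) z hz.2

/-- in odd dimension and odd characteristic a symmetric non-degenerate form has no invertible skew-adjoint
matrix -/
theorem false_of_sadj_eq_neg (hb : IsBilinearForm f) (hnd : IsNondegenerateForm f)
    (hsymm : ∀ u v, f u v = f v u) (h2 : (2 : F) ≠ 0) (hn : Odd n)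
    (θ : Matrix (Fin n) (Fin n) F) (hθ : sadj f θ = -θ) (hdet : IsUnit θ.det) : False := by
  have hG := isUnit_det_gram hb hnd
  have hGT : (gramMatrix f)ᵀ = gramMatrix f := by
    ext i j
    simp only [Matrix.transpose_apply, gramMatrix]
    exact hsymm _ _
  have h1 : θᵀ * gramMatrix f = -(gramMatrix f * θ) := by
    have := congrArg (fun w => gramMatrix f * w) hθ
    simp only [sadj] at this
    rw [← mul_assoc, ← mul_assoc, Matrix.mul_nonsing_inv _ hG, one_mul, mul_neg] at this
    exact this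
  have hMT : (gramMatrix f * θ)ᵀ = -(gramMatrix f * θ) := by
    rw [Matrix.transpose_mul, hGT, h1]
  have hd : (gramMatrix f * θ).det = -(gramMatrix f * θ).det := by
    conv_lhs => rw [← Matrix.det_transpose, hMT, Matrix.det_neg, Fintype.card_fin, hn.neg_one_pow,
      neg_one_mul]
  have hd0 : (gramMatrix f * θ).det = 0 := by
    have h3 : (2 : F) * (gramMatrix f * θ).det = 0 := by
      rw [two_mul]
      exact add_eq_zero_iff_eq_neg.mpr hd
    exact (mul_eq_zero.mp h3).resolve_left h2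
  rw [Matrix.det_mul] at hd0
  rcases mul_eq_zero.mp hd0 with h | h
  · exact hG.ne_zero h
  · exact hdet.ne_zero h

end form

section main

variable {F : Type*} [Field F] [Fintype F] {n : ℕ}

/-- a field subalgebra of `M_n(F)` of degree `n` is its own commutant -/
theorem mem_of_commute_of_finrank_eq (hn : 0 < n) (K : Subalgebra F (Matrix (Fin n) (Fin n) F))
    (hcomm : ∀ x ∈ K, ∀ y ∈ K, x * y = y * x) (hinv : ∀ x ∈ K, x ≠ 0 → ∃ y ∈ K, x * y = 1)
    (hfin : Module.finrank F K = n) (c : Matrix (Fin n) (Fin n) F)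
    (hc : ∀ k ∈ K, c * k = k * c) : c ∈ K := by
  classical
  set v : Fin n → F := Pi.single ⟨0, hn⟩ 1 with hv
  have hv0 : v ≠ 0 := by
    intro h
    have := congrFun h ⟨0, hn⟩
    rw [hv, Pi.single_eq_same, Pi.zero_apply] at this
    exact one_ne_zero this
  let φ : K →ₗ[F] (Fin n → F) :=
    { toFun := fun k => k.1 *ᵥ v
      map_add' := fun a b => Matrix.add_mulVec _ _ _
      map_smul' := fun a b => Matrix.smul_mulVec _ _ _ }
  have hφ : ∀ k : K, φ k = k.1 *ᵥ v := fun k => rfl
  have hinj : Function.Injective φ := by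
    rw [injective_iff_map_eq_zero]
    intro k hk
    by_contra hk0
    have hk0' : k.1 ≠ 0 := fun h => hk0 (Subtype.ext h)
    obtain ⟨y, hyK, hy⟩ := hinv k.1 k.2 hk0'
    have hy' : y * k.1 = 1 := by rw [hcomm y hyK k.1 k.2]; exact hy
    apply hv0
    calc v = (y * k.1) *ᵥ v := by rw [hy', Matrix.one_mulVec]
      _ = y *ᵥ (k.1 *ᵥ v) := (Matrix.mulVec_mulVec _ _ _).symm
      _ = 0 := by rw [← hφ, hk, Matrix.mulVec_zero]
  have hsurj : Function.Surjective φ := by
    refine (LinearMap.injective_iff_surjective_of_finrank_eq_finrank ?_).mp hinj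
    rw [hfin, Module.finrank_fin_fun]
  obtain ⟨k₀, hk₀⟩ := hsurj (c *ᵥ v)
  have hck : c = k₀.1 := by
    apply Matrix.toLin'.injective
    apply LinearMap.ext
    intro w
    rw [Matrix.toLin'_apply, Matrix.toLin'_apply]
    obtain ⟨k, rfl⟩ := hsurj w
    rw [hφ, Matrix.mulVec_mulVec, hc k.1 k.2, ← Matrix.mulVec_mulVec, ← hk₀, hφ,
      Matrix.mulVec_mulVec, Matrix.mulVec_mulVec, hcomm k.1 k.2 k₀.1 k₀.2]
  rw [hck]
  exact k₀.2

/-- **OM3** (C3, orthogonal groups in odd dimension). -/
theorem oc3_of_homog_not_absIrr (Q : (Fin n → F) → F) (hQ : OData Q) (hn : 0 < n)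
    (H N : Subgroup (GL (Fin n) F)) (hH : H ≤ isometryGroup F Q) (hNH : N ≤ H)
    (hnorm : NormalizedBy H N) (D : HomogData N)
    (hna : ¬ ActsAbsolutelyIrreducibly (repSet D.ρ)) : OC3 Q H := by
  classical
  have : Nonempty (Fin n) := ⟨⟨0, hn⟩⟩
  set f := QuadraticMap.polar Q with hfdef
  have hb : IsBilinearForm f := hQ.quad.polar_bilinear
  have hnd : IsNondegenerateForm f := hQ.quad.nondegenerate
  have hsymm : ∀ u v, f u v = f v u := fun u v => QuadraticMap.polar_comm Q u v
  have h2 : (2 : F) ≠ 0 := two_ne_zero_of_odd hQ.qodd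
  have hnodd : Odd n := by
    have := hQ.nodd
    rwa [Fintype.card_fin] at this
  have hinvol : ∀ a, sadj f (sadj f a) = a := sadj_sadj_of_symm hb hnd hsymm
  obtain ⟨hcomm, hinv, hdim⟩ := cc_field_props hn N D hna
  set Z := cc F (matrixSet N) with hZ
  have hHadj : ∀ h ∈ H, sadj f (h : Matrix (Fin n) (Fin n) F) =
      ((h⁻¹ : GL (Fin n) F) : Matrix (Fin n) (Fin n) F) := by
    intro h hh
    exact sadj_eq_inv_of_isometry hb hnd h (polar_isometry Q h (hH hh))
  have hSadj : ∀ s ∈ matrixSet N, sadj f s ∈ matrixSet N := by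
    rintro _ ⟨x, hx, rfl⟩
    exact ⟨x⁻¹, N.inv_mem hx, (hHadj x (hNH hx)).symm⟩
  have hZadj : ∀ z ∈ Z, sadj f z ∈ Z := fun z hz => sadj_mem_cc_of_invol hb hnd hinvol _ hSadj z hz
  -- the adjoint is trivial on `Z`
  have hZself : ∀ z ∈ Z, sadj f z = z := by
    intro z hz
    by_contra hne
    set θ := z - sadj f z with hθ
    have hθZ : θ ∈ Z := Z.sub_mem hz (hZadj z hz)
    have hθ0 : θ ≠ 0 := sub_ne_zero.mpr (Ne.symm hne)
    have hθadj : sadj f θ = -θ := by
      rw [hθ, sadj_sub, hinvol]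
      abel
    obtain ⟨y, hyZ, hθy⟩ := hinv θ hθZ hθ0
    have hdet : IsUnit θ.det := by
      have := congrArg Matrix.det hθy
      rw [Matrix.det_mul, Matrix.det_one] at this
      exact IsUnit.of_mul_eq_one _ this
    exact false_of_sadj_eq_neg hb hnd hsymm h2 hnodd θ hθadj hdet
  obtain ⟨r, K, hrp, hK, hKr⟩ := exists_frobenius_fixed_subalgebra Z hcomm hinv hdim
  set m := Fintype.card F ^ r with hm
  have hfield : IsFieldSubalgebra r K := by
    refine ⟨?_, ?_, hKr⟩
    · intro x hx y hy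
      exact hcomm x ((hK x).mp hx).1 y ((hK y).mp hy).1
    · intro x hx hx0
      obtain ⟨hxZ, hxm⟩ := (hK x).mp hx
      obtain ⟨y, hyZ, hxy⟩ := hinv x hxZ hx0
      refine ⟨y, (hK y).mpr ⟨hyZ, ?_⟩, hxy⟩
      have hyx : y * x = 1 := by rw [← hcomm x hxZ y hyZ, hxy]
      have hc : Commute x y := hcomm x hxZ y hyZ
      have h1 : x * y ^ m = 1 := by
        have := hc.mul_pow m
        rw [hxy, one_pow, hxm] at this
        exact this.symm
      calc y ^ m = (y * x) * y ^ m := by rw [hyx, one_mul]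
        _ = y * (x * y ^ m) := mul_assoc _ _ _
        _ = y := by rw [h1, mul_one]
  refine ⟨r, K, hrp, ?_, hfield, ?_, ?_⟩
  · -- `r ≠ n`
    rw [Fintype.card_fin]
    intro hnr
    have hNK : ∀ s ∈ matrixSet N, s ∈ K := by
      intro s hs
      apply mem_of_commute_of_finrank_eq hn K hfield.comm hfield.inv (by rw [hKr, hnr])
      intro k hk
      have hkZ := ((hK k).mp hk).1
      exact (Subalgebra.mem_centralizer_iff F).mp hkZ.1 s hs
    have hpm : ∀ s ∈ matrixSet N, s = 1 ∨ s = -1 := by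
      rintro _ ⟨x, hx, rfl⟩
      have hxK : (x : Matrix (Fin n) (Fin n) F) ∈ K := hNK _ ⟨x, hx, rfl⟩
      have hxZ := ((hK _).mp hxK).1
      have h1 : ((x⁻¹ : GL (Fin n) F) : Matrix (Fin n) (Fin n) F) = (x : Matrix (Fin n) (Fin n) F) := by
        rw [← hHadj x (hNH hx), hZself _ hxZ]
      have hxx : (x : Matrix (Fin n) (Fin n) F) * (x : Matrix (Fin n) (Fin n) F) = 1 := by
        nth_rewrite 1 [← h1]
        rw [← Units.val_mul, inv_mul_cancel, Units.val_one]
      by_cases hx1 : (x : Matrix (Fin n) (Fin n) F) - 1 = 0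
      · left; exact sub_eq_zero.mp hx1
      · right
        obtain ⟨y, hyK, hy⟩ := hfield.inv _ (K.sub_mem hxK K.one_mem) hx1
        have hprod : ((x : Matrix (Fin n) (Fin n) F) - 1) * ((x : Matrix (Fin n) (Fin n) F) + 1) = 0 := by
          have h3 : ((x : Matrix (Fin n) (Fin n) F) - 1) * ((x : Matrix (Fin n) (Fin n) F) + 1) =
              (x : Matrix (Fin n) (Fin n) F) * (x : Matrix (Fin n) (Fin n) F) - 1 := by noncomm_ring
          rw [h3, hxx, sub_self]
        have hy' : y * ((x : Matrix (Fin n) (Fin n) F) - 1) = 1 := by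
          rw [hfield.comm y hyK _ (K.sub_mem hxK K.one_mem)]; exact hy
        have h4 : (x : Matrix (Fin n) (Fin n) F) + 1 = 0 := by
          calc (x : Matrix (Fin n) (Fin n) F) + 1
              = y * ((x : Matrix (Fin n) (Fin n) F) - 1) * ((x : Matrix (Fin n) (Fin n) F) + 1) := by
                rw [hy', one_mul]
            _ = 0 := by rw [mul_assoc, hprod, mul_zero]
        exact eq_neg_of_add_eq_zero_left h4
    have hbot : Z = ⊥ := by
      rw [eq_bot_iff]
      intro z hz
      have hzc : z ∈ Subalgebra.center F (Matrix (Fin n) (Fin n) F) := by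
        rw [Subalgebra.mem_center_iff]
        intro b
        have hbc : b ∈ Subalgebra.centralizer F (matrixSet N) := by
          rw [Subalgebra.mem_centralizer_iff F]
          intro s hs
          rcases hpm s hs with rfl | rfl
          · rw [one_mul, mul_one]
          · rw [neg_one_mul, mul_neg_one]
        exact (Subalgebra.mem_centralizer_iff F).mp hz.2 b hbc
      rwa [Algebra.IsCentral.center_eq_bot] at hzc
    have h1 : Module.finrank F Z = 1 := Subalgebra.finrank_eq_one_iff.mpr hbot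
    omega
  · intro k hk u v
    show f (k *ᵥ u) v = f u (k *ᵥ v)
    rw [form_sadj hb hnd, hZself k ((hK k).mp hk).1]
  · intro h hh
    show ∀ k' : Matrix (Fin n) (Fin n) F, k' ∈ K ↔
      (h : Matrix (Fin n) (Fin n) F) * k' * ((h⁻¹ : GL (Fin n) F) : Matrix (Fin n) (Fin n) F) ∈ K
    intro k'
    have hZconj := cc_conj_iff H N hnorm h hh k'
    rw [hK, hK, ← hZconj, Units.conj_pow, conj_eq_conj_iff]

end main

end Cfsg.Agent.Lib.H4.Asch
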