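import Mathlib

set_option autoImplicit false

namespace Cfsg.Agent.Lib.H4.AG

open Equiv Equiv.Perm Subgroup
open scoped Pointwise

/-- (G2) primitivity: a transitive group containing a cycle of prime length `q > d/2`. -/
theorem isPreprimitive_of_prime_cycle {d q : ℕ} (G : Subgroup (Perm (Fin d)))
    (hG : MulAction.IsPretransitive G (Fin d)) (y : Perm (Fin d)) (hyG : y ∈ G)
    (hy : y.IsCycle) (hq : q.Prime) (hyq : y.support.card = q) (hdq : d < 2 * q) :
    MulAction.IsPreprimitive G (Fin d) := by
  have hord : orderOf y = q := by rw [hy.orderOf, hyq]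
  obtain ⟨a, ha, -⟩ := id hy
  set g : G := ⟨y, hyG⟩ with hg
  have hgpow : ∀ (i : ℕ) (z : Fin d), (g ^ i) • z = (y ^ i) z := by
    intro i z
    rfl
  apply MulAction.IsPreprimitive.of_isTrivialBlock_base a
  intro B haB hB
  -- stabilizer closed under powers
  have hstab : ∀ (h : G) (i : ℕ), h • B = B → (h ^ i) • B = B := by
    intro h i hh
    have : h ∈ MulAction.stabilizer G B := MulAction.mem_stabilizer_iff.mpr hh
    exact MulAction.mem_stabilizer_iff.mp (pow_mem this i)
  rcases hB.smul_eq_or_disjoint g with h | h
  · -- supp y ⊆ B, so B is large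
    right
    apply hB.eq_univ_of_card_lt
    have hsub : (y.support : Set (Fin d)) ⊆ B := by
      intro z hz
      have hz' : y z ≠ z := mem_support.mp (Finset.mem_coe.mp hz)
      obtain ⟨i, hi⟩ := hy.exists_pow_eq ha hz'
      have h1 : (g ^ i) • B = B := hstab g i h
      rw [← h1]
      exact ⟨a, haB, by rw [← hi]; rfl⟩
    have hle : (y.support : Set (Fin d)).ncard ≤ B.ncard :=
      Set.ncard_le_ncard hsub (Set.toFinite B)
    rw [Set.ncard_coe_finset, hyq] at hle
    rw [Nat.card_eq_fintype_card, Fintype.card_fin]
    omega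
  · -- B ⊆ {a}
    left
    have hBa : ∀ b ∈ B, b = a := by
      intro b hb
      by_contra hne
      -- b is moved by y
      have hbm : y b ≠ b := by
        intro hfix
        have : b ∈ g • B := ⟨b, hb, hfix⟩
        exact (Set.disjoint_left.mp h this) hb
      obtain ⟨i, hi⟩ := hy.exists_pow_eq ha hbm
      have hndvd : ¬ q ∣ i := by
        intro hdvd
        have : y ^ i = 1 := by
          rw [← hord] at hdvd
          exact orderOf_dvd_iff_pow_eq_one.mp hdvd
        rw [this] at hi
        exact hne hi.symm
      have hcop : Nat.Coprime i (orderOf y) := by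
        rw [hord]
        exact ((Nat.Prime.coprime_iff_not_dvd hq).mpr hndvd).symm
      obtain ⟨m, hm⟩ := exists_pow_eq_self_of_coprime hcop
      have h1 : (g ^ i) • B = B := by
        apply hB.smul_eq_of_mem haB
        rw [hgpow, hi]
        exact hb
      have h2 : ((g ^ i) ^ m) • B = B := hstab _ m h1
      have h3 : (g ^ i) ^ m = g := by
        apply Subtype.ext
        simp only [SubmonoidClass.coe_pow, hg]
        exact hm
      rw [h3] at h2
      rw [h2] at h
      exact (Set.disjoint_left.mp h haB) haB
    intro b hb c hc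
    rw [hBa b hb, hBa c hc]

end Cfsg.Agent.Lib.H4.AG
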