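import Mathlib

set_option autoImplicit false

namespace Cfsg.Agent.Lib.H4.AG

open Equiv Equiv.Perm Subgroup

/-- (G3) transitivity. -/
theorem isPretransitive_closure {d p q : ℕ} (x y : Perm (Fin d)) (hp : p.Prime)
    (hx : orderOf x = p) (hy : y.IsCycle) (hyq : y.support.card = q)
    (hfull : x.support ∪ y.support = Finset.univ) (hpq : d < p + q) :
    MulAction.IsPretransitive (closure ({x, y} : Set (Perm (Fin d)))) (Fin d) := by
  have hxG : x ∈ closure ({x, y} : Set (Perm (Fin d))) := subset_closure (by simp)
  have hyG : y ∈ closure ({x, y} : Set (Perm (Fin d))) := subset_closure (by simp)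
  obtain ⟨a, ha, hcyc⟩ := hy
  have key : ∀ z : Fin d, ∃ g : closure ({x, y} : Set (Perm (Fin d))), g • a = z := by
    intro z
    by_cases hz : z ∈ y.support
    · obtain ⟨i, hi⟩ := hcyc (mem_support.mp hz)
      exact ⟨⟨y ^ i, zpow_mem hyG i⟩, hi⟩
    · have hzx : z ∈ x.support := by
        have : z ∈ x.support ∪ y.support := by rw [hfull]; exact Finset.mem_univ z
        rcases Finset.mem_union.mp this with h | h
        · exact h
        · exact absurd h hz
      have hex : ∃ w, x.SameCycle z w ∧ w ∈ y.support := by
        by_contra hcon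
        push Not at hcon
        have hsub : (x.cycleOf z).support ⊆ y.supportᶜ := by
          intro w hw
          rw [mem_support_cycleOf_iff] at hw
          exact Finset.mem_compl.mpr (hcon w hw.1)
        have hcard : (x.cycleOf z).support.card = p := by
          have h1 : orderOf (x.cycleOf z) ∣ p := hx ▸ orderOf_cycleOf_dvd_orderOf x z
          have h2 : 2 ≤ (x.cycleOf z).support.card :=
            two_le_card_support_cycleOf_iff.mpr (mem_support.mp hzx)
          rw [← (isCycle_cycleOf x (mem_support.mp hzx)).orderOf] at h2 ⊢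
          rcases (Nat.dvd_prime hp).mp h1 with h | h
          · omega
          · exact h
        have hle := Finset.card_le_card hsub
        rw [Finset.card_compl, Fintype.card_fin, hyq, hcard] at hle
        have := hp.two_le
        omega
      obtain ⟨w, ⟨i, hi⟩, hw⟩ := hex
      obtain ⟨j, hj⟩ := hcyc (mem_support.mp hw)
      refine ⟨⟨x ^ (-i) * y ^ j, mul_mem (zpow_mem hxG _) (zpow_mem hyG _)⟩, ?_⟩
      show (x ^ (-i) * y ^ j) a = z
      rw [mul_apply, hj, ← hi, ← mul_apply, ← zpow_add]
      simp
  constructor
  intro u v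
  obtain ⟨g, hg⟩ := key u
  obtain ⟨h, hh⟩ := key v
  exact ⟨h * g⁻¹, by rw [mul_smul, ← hg, inv_smul_smul, hh]⟩

end Cfsg.Agent.Lib.H4.AG
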