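import Mathlib
import Cfsg.Agent.S0713
import Cfsg.Agent.Lib.H4.AGG2
import Cfsg.Agent.Lib.H4.AGG3

set_option autoImplicit false

namespace Cfsg.Agent.Lib.H4.AG

open Equiv Equiv.Perm Subgroup

/-- (JG) the generic case, via Jordan's theorem on prime cycles (landed `S0713.result`). -/
theorem closure_eq_alternatingGroup_of_gap {d p q : ℕ} (x y : Perm (Fin d)) (hp : p.Prime)
    (hq : q.Prime) (hpq : p < q) (hx : orderOf x = p) (hy : y.IsCycle)
    (hyq : y.support.card = q) (hfull : x.support ∪ y.support = Finset.univ) (hd : d < p + q)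
    (hsx : Perm.sign x = 1) (hsy : Perm.sign y = 1)
    (hgap : (x.IsCycle ∧ p + 3 ≤ d) ∨ q + 3 ≤ d) :
    closure ({x, y} : Set (Perm (Fin d))) = alternatingGroup (Fin d) := by
  have hxG : x ∈ closure ({x, y} : Set (Perm (Fin d))) := subset_closure (by simp)
  have hyG : y ∈ closure ({x, y} : Set (Perm (Fin d))) := subset_closure (by simp)
  have htr : MulAction.IsPretransitive (closure ({x, y} : Set (Perm (Fin d)))) (Fin d) :=
    isPretransitive_closure x y hp hx hy hyq hfull hd
  have hprim : MulAction.IsPreprimitive (closure ({x, y} : Set (Perm (Fin d)))) (Fin d) :=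
    isPreprimitive_of_prime_cycle _ htr y hyG hy hq hyq (by omega)
  have hp2 : 2 ≤ p := hp.two_le
  have h5 : 5 ≤ Fintype.card (Fin d) := by
    rw [Fintype.card_fin]
    rcases hgap with ⟨_, h⟩ | h <;> omega
  apply le_antisymm
  · rw [closure_le]
    intro z hz
    rcases hz with rfl | rfl
    · exact Equiv.Perm.mem_alternatingGroup.mpr hsx
    · exact Equiv.Perm.mem_alternatingGroup.mpr hsy
  · rcases hgap with ⟨hxc, h⟩ | h
    · have hxs : x.support.card = p := by rw [← hxc.orderOf, hx]
      exact Cfsg.Agent.S0713.result _ hprim hp h5 (by rw [Fintype.card_fin]; exact h) hxc hxs hxG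
    · exact Cfsg.Agent.S0713.result _ hprim hq h5 (by rw [Fintype.card_fin]; exact h) hy hyq hyG

end Cfsg.Agent.Lib.H4.AG
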