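import Mathlib
import Cfsg.Prelude.Def_Transfer
import Cfsg.Agent.Lib.H1.PGroupBasic
import Cfsg.Agent.Lib.H27.Extraspecial

/-!
helper4: S5188-P5b.  A group of order `p⁴` and exponent `p` whose centre has order `p²` is
`E × C_p` with `E` extraspecial of order `p³` (with `E` living in `Type`).
-/

set_option autoImplicit false

namespace Cfsg.Agent.Lib.H4.Ess

open scoped commutatorElement

section general
variable {G : Type*} [Group G]

/-- In a group in which all commutators are central, `b ↦ ⁅a, b⁆` is a homomorphism. -/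
def commHomP5b (hcl : ∀ a b : G, ⁅a, b⁆ ∈ Subgroup.center G) (a : G) : G →* G where
  toFun b := ⁅a, b⁆
  map_one' := commutatorElement_one_right a
  map_mul' b b' := by
    have h := hcl a b'
    rw [Subgroup.mem_center_iff] at h
    have h1 : ⁅a, b * b'⁆ = ⁅a, b⁆ * (b * ⁅a, b'⁆ * b⁻¹) := by
      simp only [commutatorElement_def]; group
    rw [h1, h b, mul_inv_cancel_right]

@[simp] theorem commHomP5b_apply (hcl : ∀ a b : G, ⁅a, b⁆ ∈ Subgroup.center G) (a b : G) :
    commHomP5b hcl a b = ⁅a, b⁆ := rfl

theorem card_lt_of_lt_P5b [Finite G] {H K : Subgroup G} (h : H < K) : Nat.card H < Nat.card K := by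
  have := Set.ncard_lt_ncard (SetLike.coe_ssubset_coe.mpr h) (Set.toFinite _)
  rwa [← Nat.card_coe_set_eq, ← Nat.card_coe_set_eq] at this

end general

section main
variable {G : Type*} [Group G] [Finite G] {p : ℕ} [Fact p.Prime]

/-- A subgroup containing the centre, `x ∉ Z` and `y` not commuting with `x` is everything. -/
theorem eq_top_of_chain_P5b (hcard : Nat.card G = p ^ 4)
    (hZ : Nat.card (Subgroup.center G) = p ^ 2)
    {x y : G} (hx : x ∉ Subgroup.center G) (hxy : x * y ≠ y * x) (T : Subgroup G)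
    (hZT : Subgroup.center G ≤ T) (hxT : x ∈ T) (hyT : y ∈ T) : T = ⊤ := by
  have hp : p.Prime := Fact.out
  set A : Subgroup G := T ⊓ Subgroup.centralizer {x} with hA
  have hxA : x ∈ A := by
    refine Subgroup.mem_inf.mpr ⟨hxT, ?_⟩
    rw [Subgroup.mem_centralizer_iff]
    intro h hh
    rw [Set.mem_singleton_iff] at hh
    rw [hh]
  have hZA : Subgroup.center G < A := by
    refine lt_of_le_of_ne (le_inf hZT (Subgroup.center_le_centralizer _)) ?_
    intro h
    exact hx (h ▸ hxA)
  have hAT : A < T := by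
    refine lt_of_le_of_ne inf_le_left ?_
    intro h
    have hyA : y ∈ A := h ▸ hyT
    have := (Subgroup.mem_inf.mp hyA).2
    rw [Subgroup.mem_centralizer_iff] at this
    exact hxy (this x rfl)
  have h1 := card_lt_of_lt_P5b hZA
  have h2 := card_lt_of_lt_P5b hAT
  obtain ⟨a, ha4, ha⟩ := (Nat.dvd_prime_pow hp).1 (hcard ▸ Subgroup.card_subgroup_dvd_card A)
  obtain ⟨t, ht4, ht⟩ := (Nat.dvd_prime_pow hp).1 (hcard ▸ Subgroup.card_subgroup_dvd_card T)
  rw [hZ, ha] at h1
  rw [ha, ht] at h2
  have h1' : 2 < a := (Nat.pow_lt_pow_iff_right hp.one_lt).mp h1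
  have h2' : a < t := (Nat.pow_lt_pow_iff_right hp.one_lt).mp h2
  have ht' : t = 4 := by omega
  apply Subgroup.eq_top_of_card_eq
  rw [ht, ht', hcard]

/-- Key step: a maximal subgroup missing a central element. -/
theorem exists_compl_P5b (hcard : Nat.card G = p ^ 4)
    (hZ : Nat.card (Subgroup.center G) = p ^ 2) (hexp : ∀ x : G, x ^ p = 1) :
    ∃ (M : Subgroup G) (d : G), Nat.card M = p ^ 3 ∧ d ∈ Subgroup.center G ∧ d ∉ M := by
  have hp : p.Prime := Fact.out
  have hG : IsPGroup p G := IsPGroup.of_card hcard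
  -- class two
  have hq : Nat.card (G ⧸ Subgroup.center G) = p ^ 2 := by
    have h := Subgroup.card_eq_card_quotient_mul_card_subgroup (Subgroup.center G)
    rw [hcard, hZ] at h
    have : p ^ 2 * p ^ 2 = Nat.card (G ⧸ Subgroup.center G) * p ^ 2 := by rw [← h]; ring
    exact (Nat.eq_of_mul_eq_mul_right (pow_pos hp.pos 2) this).symm
  have hqc := IsPGroup.commutative_of_card_eq_prime_sq hq
  have hcl : ∀ a b : G, ⁅a, b⁆ ∈ Subgroup.center G := by
    intro a b
    rw [← QuotientGroup.eq_one_iff, commutatorElement_def]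
    simp only [QuotientGroup.mk_mul, QuotientGroup.mk_inv]
    rw [hqc (a : G ⧸ Subgroup.center G) b]
    group
  -- x outside the centre, y not commuting with x
  obtain ⟨x, hx⟩ : ∃ x : G, x ∉ Subgroup.center G := by
    by_contra h
    push_neg at h
    have htop : Subgroup.center G = ⊤ := by
      rw [eq_top_iff]; intro g _; exact h g
    rw [htop, Subgroup.card_top, hcard] at hZ
    have := Nat.pow_right_injective hp.two_le hZ
    omega
  obtain ⟨y, hxy⟩ : ∃ y : G, x * y ≠ y * x := by
    by_contra h
    push_neg at h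
    apply hx
    rw [Subgroup.mem_center_iff]
    intro g
    exact (h g).symm
  set c : G := ⁅x, y⁆ with hc
  have hc1 : c ≠ 1 := by
    rw [hc, Ne, commutatorElement_eq_one_iff_mul_comm]
    exact hxy
  have hcZ : c ∈ Subgroup.center G := hcl x y
  set I : Subgroup G := Subgroup.zpowers c with hI
  have hIcard : Nat.card I = p := by
    rw [hI, Nat.card_zpowers]
    exact orderOf_eq_prime (hexp c) hc1
  have hIZ : I ≤ Subgroup.center G := by
    rw [hI, Subgroup.zpowers_le]; exact hcZ
  -- all commutators lie in `I`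
  have hZT : ∀ a : G, Subgroup.center G ≤ I.comap (commHomP5b hcl a) := by
    intro a z hz
    rw [Subgroup.mem_comap, commHomP5b_apply]
    have : ⁅a, z⁆ = 1 := by
      rw [commutatorElement_eq_one_iff_mul_comm]
      rw [Subgroup.mem_center_iff] at hz
      exact hz a
    rw [this]; exact one_mem _
  have hcI : c ∈ I := Subgroup.mem_zpowers c
  have hTx : I.comap (commHomP5b hcl x) = ⊤ := by
    apply eq_top_of_chain_P5b hcard hZ hx hxy _ (hZT x)
    · rw [Subgroup.mem_comap, commHomP5b_apply, commutatorElement_self]; exact one_mem _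
    · rw [Subgroup.mem_comap, commHomP5b_apply]; exact hcI
  have hTy : I.comap (commHomP5b hcl y) = ⊤ := by
    apply eq_top_of_chain_P5b hcard hZ hx hxy _ (hZT y)
    · rw [Subgroup.mem_comap, commHomP5b_apply, ← commutatorElement_inv]; exact inv_mem hcI
    · rw [Subgroup.mem_comap, commHomP5b_apply, commutatorElement_self]; exact one_mem _
  have hall : ∀ a b : G, ⁅a, b⁆ ∈ I := by
    intro a b
    have hT : I.comap (commHomP5b hcl a) = ⊤ := by
      apply eq_top_of_chain_P5b hcard hZ hx hxy _ (hZT a)
      · rw [Subgroup.mem_comap, commHomP5b_apply, ← commutatorElement_inv]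
        apply inv_mem
        have : a ∈ I.comap (commHomP5b hcl x) := by rw [hTx]; exact Subgroup.mem_top a
        simpa using this
      · rw [Subgroup.mem_comap, commHomP5b_apply, ← commutatorElement_inv]
        apply inv_mem
        have : a ∈ I.comap (commHomP5b hcl y) := by rw [hTy]; exact Subgroup.mem_top a
        simpa using this
    have : b ∈ I.comap (commHomP5b hcl a) := by rw [hT]; exact Subgroup.mem_top b
    simpa using this
  have hcomm : commutator G ≤ I := by
    rw [commutator_eq_closure, Subgroup.closure_le]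
    rintro _ ⟨a, b, rfl⟩
    exact hall a b
  have hfr : frattini G ≤ I :=
    Cfsg.Agent.Lib.H1.frattini_le_of_commutator_le_of_pow_mem I hcomm
      (fun g => by rw [hexp g]; exact one_mem _)
  -- a central element outside `I`
  obtain ⟨d, hdZ, hdI⟩ : ∃ d ∈ Subgroup.center G, d ∉ I := by
    by_contra h
    push_neg at h
    have hle : Subgroup.center G ≤ I := h
    have := Subgroup.card_le_of_le hle
    rw [hZ, hIcard] at this
    have h2 : p < p ^ 2 := by
      calc p = p ^ 1 := (pow_one p).symm
        _ < p ^ 2 := Nat.pow_lt_pow_right hp.one_lt (by norm_num)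
    omega
  -- a maximal subgroup missing `d`
  obtain ⟨M, hM, hdM⟩ : ∃ M : Subgroup G, IsCoatom M ∧ d ∉ M := by
    by_contra h
    push_neg at h
    have : Subgroup.zpowers d ≤ frattini G := by
      rw [Cfsg.Agent.Lib.H1.le_frattini_iff]
      intro M hM
      rw [Subgroup.zpowers_le]
      exact h M hM
    exact hdI (hfr (this (Subgroup.mem_zpowers d)))
  refine ⟨M, d, ?_, hdZ, hdM⟩
  have hidx := Cfsg.Agent.Lib.H1.isPGroup_coatom_index hG hM
  have h := M.card_mul_index
  rw [hidx, hcard] at h
  have : Nat.card M * p = p ^ 3 * p := by rw [h]; ring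
  exact Nat.eq_of_mul_eq_mul_right hp.pos this

/-- The product decomposition `G ≅ M × C_p`. -/
theorem exists_mulEquiv_prod_P5b (hcard : Nat.card G = p ^ 4) (hexp : ∀ x : G, x ^ p = 1)
    (M : Subgroup G) (d : G) (hM : Nat.card M = p ^ 3) (hdZ : d ∈ Subgroup.center G)
    (hdM : d ∉ M) : Nonempty (G ≃* M × Multiplicative (ZMod p)) := by
  have hp : p.Prime := Fact.out
  haveI : NeZero p := ⟨hp.ne_zero⟩
  have hdp : d ^ p = 1 := hexp d
  have hdc : ∀ g : G, ∀ k : ℕ, g * d ^ k = d ^ k * g := by
    intro g k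
    have := Subgroup.pow_mem _ hdZ k
    rw [Subgroup.mem_center_iff] at this
    exact this g
  let ψ : M × Multiplicative (ZMod p) →* G :=
    { toFun := fun mk => (mk.1 : G) * d ^ (Multiplicative.toAdd mk.2).val
      map_one' := by simp
      map_mul' := by
        rintro ⟨m1, k1⟩ ⟨m2, k2⟩
        simp only [Prod.mk_mul_mk, Subgroup.coe_mul, toAdd_mul]
        rw [ZMod.val_add, ← pow_eq_pow_mod _ hdp, pow_add]
        have h := hdc (m2 : G) (Multiplicative.toAdd k1).val
        generalize (Multiplicative.toAdd k1).val = a at h ⊢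
        generalize (Multiplicative.toAdd k2).val = b
        rw [show (m1 : G) * m2 * (d ^ a * d ^ b) = m1 * (m2 * d ^ a) * d ^ b by group, h]
        group }
  have hψ : ∀ m : M, ∀ k : Multiplicative (ZMod p),
      ψ (m, k) = (m : G) * d ^ (Multiplicative.toAdd k).val := fun _ _ => rfl
  have hinj : Function.Injective ψ := by
    rw [injective_iff_map_eq_one]
    rintro ⟨m, k⟩ h
    rw [hψ] at h
    have hd : d ^ (Multiplicative.toAdd k).val ∈ M := by
      rw [eq_inv_of_mul_eq_one_right h]
      exact inv_mem m.2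
    by_cases hk : Multiplicative.toAdd k = 0
    · rw [hk, ZMod.val_zero, pow_zero, mul_one] at h
      have hm : m = 1 := Subtype.ext h
      have hk' : k = 1 := by
        rw [← ofAdd_toAdd k, hk, ofAdd_zero]
      rw [hm, hk']; rfl
    · exfalso
      apply hdM
      set κ : ZMod p := Multiplicative.toAdd k with hκ
      have h1 : (κ * κ⁻¹).val = 1 := by
        rw [mul_inv_cancel₀ hk, ZMod.val_one]
      have h2 : d = (d ^ κ.val) ^ (κ⁻¹).val := by
        rw [← pow_mul, pow_eq_pow_mod _ hdp, ← ZMod.val_mul, h1, pow_one]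
      rw [h2]
      exact Subgroup.pow_mem _ hd _
  have hbij : Function.Bijective ψ := by
    rw [Nat.bijective_iff_injective_and_card]
    refine ⟨hinj, ?_⟩
    rw [Nat.card_prod, hM, hcard, Nat.card_congr Multiplicative.toAdd, Nat.card_zmod]
    ring
  exact ⟨(MulEquiv.ofBijective ψ hbij).symm⟩

end main

section lemmaB

/-- Anything `E` with `G ≅ E × C_p` is extraspecial of order `p³` and exponent `p`. -/
theorem extraspecial_of_prod_P5b {G : Type*} [Group G] [Finite G] {p : ℕ} [Fact p.Prime]
    (hcard : Nat.card G = p ^ 4) (hZ : Nat.card (Subgroup.center G) = p ^ 2)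
    (hexp : ∀ x : G, x ^ p = 1) {E : Type*} [Group E] [Finite E]
    (e : G ≃* E × Multiplicative (ZMod p)) :
    Cfsg.IsExtraspecial p E ∧ Nat.card E = p ^ 3 ∧ ∀ x : E, x ^ p = 1 := by
  have hp : p.Prime := Fact.out
  haveI : NeZero p := ⟨hp.ne_zero⟩
  have hC : Nat.card (Multiplicative (ZMod p)) = p := by
    rw [Nat.card_congr Multiplicative.toAdd, Nat.card_zmod]
  have hE : Nat.card E = p ^ 3 := by
    have h := Nat.card_congr e.toEquiv
    rw [Nat.card_prod, hC, hcard] at h
    have : Nat.card E * p = p ^ 3 * p := by rw [← h]; ring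
    exact Nat.eq_of_mul_eq_mul_right hp.pos this
  have hexpE : ∀ x : E, x ^ p = 1 := by
    intro x
    have h := hexp (e.symm (x, 1))
    rw [← map_pow, MulEquiv.map_eq_one_iff] at h
    have := congrArg Prod.fst h
    simpa using this
  have hZE : Nat.card (Subgroup.center E) = p := by
    have h1 := Nat.card_congr (Subgroup.centerCongr e).toEquiv
    rw [hZ, Subgroup.center_prod,
      Nat.card_congr (Subgroup.prodEquiv _ _).toEquiv, Nat.card_prod] at h1
    have hcC : Subgroup.center (Multiplicative (ZMod p)) = ⊤ := by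
      rw [eq_top_iff]
      intro a _
      rw [Subgroup.mem_center_iff]
      intro g
      exact mul_comm g a
    rw [hcC, Subgroup.card_top, hC] at h1
    have : Nat.card (Subgroup.center E) * p = p * p := by rw [← h1]; ring
    exact Nat.eq_of_mul_eq_mul_right hp.pos this
  have hPE : IsPGroup p E := IsPGroup.of_card hE
  have hcomm : commutator E = Subgroup.center E := by
    have hq : Nat.card (E ⧸ Subgroup.center E) = p ^ 2 := by
      have h := Subgroup.card_eq_card_quotient_mul_card_subgroup (Subgroup.center E)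
      rw [hE, hZE] at h
      have : p ^ 2 * p = Nat.card (E ⧸ Subgroup.center E) * p := by rw [← h]; ring
      exact (Nat.eq_of_mul_eq_mul_right hp.pos this).symm
    have hqc := IsPGroup.commutative_of_card_eq_prime_sq hq
    have hle : commutator E ≤ Subgroup.center E := by
      rw [commutator_eq_closure, Subgroup.closure_le]
      rintro _ ⟨a, b, rfl⟩
      rw [SetLike.mem_coe, ← QuotientGroup.eq_one_iff, commutatorElement_def]
      simp only [QuotientGroup.mk_mul, QuotientGroup.mk_inv]
      rw [hqc (a : E ⧸ Subgroup.center E) b]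
      group
    have hne : commutator E ≠ ⊥ := by
      intro h
      rw [commutator_eq_bot_iff_center_eq_top] at h
      rw [h, Subgroup.card_top, hE] at hZE
      have h3 : p ^ 3 = p ^ 1 := by rw [hZE, pow_one]
      have := Nat.pow_right_injective hp.two_le h3
      omega
    apply Subgroup.eq_of_le_of_card_ge hle
    rw [hZE]
    have hdvd : Nat.card (commutator E) ∣ p := hZE ▸ Subgroup.card_dvd_of_le hle
    rcases (Nat.dvd_prime hp).1 hdvd with h1 | h1
    · exfalso
      exact hne (Subgroup.card_eq_one.mp h1)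
    · exact h1.ge
  refine ⟨?_, hE, hexpE⟩
  apply Cfsg.Agent.Lib.H27.isExtraspecial_of_center p hPE hZE hcomm
  intro x
  rw [hexpE x]
  exact one_mem _

end lemmaB

/-- **S5188-P5b** (exponent `p`, `|Z| = p²`): `G ≅ E × C_p`, `E` extraspecial of order `p³`, in `Type`. -/
theorem exists_extraspecial_prod {G : Type*} [Group G] [Finite G] {p : ℕ} [Fact p.Prime]
    (hcard : Nat.card G = p ^ 4) (hZ : Nat.card (Subgroup.center G) = p ^ 2) (hexp : ∀ x : G, x ^ p = 1) :
    ∃ (E : Type) (_ : Group E) (_ : Finite E), Cfsg.IsExtraspecial p E ∧ Nat.card E = p ^ 3 ∧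
      (∀ x : E, x ^ p = 1) ∧ Nonempty (G ≃* E × Multiplicative (ZMod p)) := by
  obtain ⟨M, d, hM, hdZ, hdM⟩ := exists_compl_P5b hcard hZ hexp
  obtain ⟨e₀⟩ := exists_mulEquiv_prod_P5b hcard hexp M d hM hdZ hdM
  let μ : Shrink.{0} M ≃* M := Shrink.mulEquiv
  haveI : Finite (Shrink.{0} M) := Finite.of_equiv M μ.symm.toEquiv
  let e : G ≃* Shrink.{0} M × Multiplicative (ZMod p) :=
    e₀.trans (MulEquiv.prodCongr μ.symm (MulEquiv.refl _))
  obtain ⟨h1, h2, h3⟩ := extraspecial_of_prod_P5b hcard hZ hexp e
  exact ⟨Shrink.{0} M, inferInstance, inferInstance, h1, h2, h3, ⟨e⟩⟩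

end Cfsg.Agent.Lib.H4.Ess
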