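import Mathlib
import Cfsg.Prelude.Def_Characters
import Cfsg.Prelude.Def_Solvable
import Cfsg.Agent.Lib.H26.RODefs
import Cfsg.Agent.Lib.L0.CharOps

/-!
S4581 pieces TOP1 / TOP2 (helper4): the two plain corollaries of `MainAt`.
`irrCongr`: transport of irreducible characters along a group isomorphism; `card_cc_congr`.
-/

set_option autoImplicit false

universe u

namespace Cfsg.Agent.Lib.H4.RO

open Cfsg Cfsg.Agent.Lib.H24.Glaub Cfsg.Agent.Lib.H26.RO

/-- transport of irreducible characters along an isomorphism -/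
noncomputable def irrCongr {A B : Type u} [Group A] [Group B] (e : A ≃* B) :
    IrrCharacter B ≃ IrrCharacter A where
  toFun χ := ⟨(χ : B → ℂ) ∘ e,
    Cfsg.Agent.Lib.L0.isIrrCharacter_comp_of_surjective e.toMonoidHom e.surjective χ.2⟩
  invFun ψ := ⟨(ψ : A → ℂ) ∘ e.symm,
    Cfsg.Agent.Lib.L0.isIrrCharacter_comp_of_surjective e.symm.toMonoidHom e.symm.surjective ψ.2⟩
  left_inv χ := by
    apply Subtype.ext
    funext x
    simp
  right_inv ψ := by
    apply Subtype.ext
    funext x
    simp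

theorem irrCongr_apply {A B : Type u} [Group A] [Group B] (e : A ≃* B) (χ : IrrCharacter B)
    (x : A) : ((irrCongr e χ : IrrCharacter A) : A → ℂ) x = (χ : B → ℂ) (e x) := rfl

theorem mem_cc_congr (ρ : Prop) {A B : Type u} [Group A] [Group B] (e : A ≃* B) (a : A) (ζ : ℂ)
    (χ : IrrCharacter B) : χ ∈ CC ρ B (e a) ζ ↔ irrCongr e χ ∈ CC ρ A a ζ := by
  unfold CC
  simp only [Set.mem_setOf_eq]
  have h1 : charDegree ((irrCongr e χ : IrrCharacter A) : A → ℂ) = charDegree (χ : B → ℂ) := by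
    unfold charDegree
    rw [irrCongr_apply, map_one]
  have h2 : (∀ x : A, (((irrCongr e χ : IrrCharacter A) : A → ℂ) x).im = 0) ↔
      ∀ y : B, ((χ : B → ℂ) y).im = 0 := by
    constructor
    · intro h y
      have := h (e.symm y)
      rwa [irrCongr_apply, e.apply_symm_apply] at this
    · intro h x
      rw [irrCongr_apply]
      exact h _
  have h3 : (∀ k : ℕ, ((irrCongr e χ : IrrCharacter A) : A → ℂ) (a ^ k) =
      ζ ^ k * ((irrCongr e χ : IrrCharacter A) : A → ℂ) 1) ↔
      ∀ k : ℕ, (χ : B → ℂ) (e a ^ k) = ζ ^ k * (χ : B → ℂ) 1 := by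
    constructor
    · intro h k
      have := h k
      rwa [irrCongr_apply, irrCongr_apply, map_pow, map_one] at this
    · intro h k
      rw [irrCongr_apply, irrCongr_apply, map_pow, map_one]
      exact h k
  rw [h1, h2, h3]

theorem card_cc_congr (ρ : Prop) {A B : Type u} [Group A] [Group B] (e : A ≃* B) (a : A) (ζ : ℂ) :
    Nat.card (CC ρ B (e a) ζ) = Nat.card (CC ρ A a ζ) :=
  Nat.card_congr ((irrCongr e).subtypeEquiv (mem_cc_congr ρ e a ζ))

/-- `CC` at the identity with `ζ = 1` -/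
theorem mem_cc_one (ρ : Prop) {A : Type u} [Group A] (χ : IrrCharacter A) :
    χ ∈ CC ρ A 1 1 ↔ Odd (charDegree (χ : A → ℂ)) ∧ (ρ → ∀ x : A, ((χ : A → ℂ) x).im = 0) := by
  unfold CC
  simp only [Set.mem_setOf_eq, one_pow, one_mul, implies_true, and_true]

/-- `MainAt` for `H = ⊤`, `z = 1`, `ζ = 1` -/
theorem card_cc_top (ρ : Prop) (hmain : ∀ n, MainAt.{u} ρ n) {G : Type u} [Group G] [Finite G]
    [Group.IsSolvable G] (P : Sylow 2 G) (N : Subgroup G)
    (hN : N = Subgroup.normalizer ((P : Subgroup G) : Set G)) (hflag : ρ ∨ N = (P : Subgroup G)) :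
    Nat.card (CC ρ G 1 1) = Nat.card (CC ρ ↥N 1 1) := by
  have : Fact (Nat.Prime 2) := ⟨Nat.prime_two⟩
  have hsolv : Group.IsSolvable ↥(⊤ : Subgroup G) := inferInstance
  have hsyl : ¬ 2 ∣ (P : Subgroup G).relIndex ⊤ := by
    rw [Subgroup.relIndex_top_right]
    exact P.not_dvd_index
  have hnorm : IsNormIn (⊤ : Subgroup G) (P : Subgroup G) N := by
    intro g
    rw [hN, Subgroup.mem_normalizer_iff]
    simp
  have h := hmain (Nat.card (⊤ : Subgroup G)) G ⊤ (P : Subgroup G) N le_rfl hsolv le_top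
    P.isPGroup' hsyl hnorm hflag 1 (one_mem _) (one_mem _) (fun h _ => by simp) ⟨0, by simp⟩ 1
  have h2 := card_cc_congr ρ (Subgroup.topEquiv : ↥(⊤ : Subgroup G) ≃* G) 1 1
  rw [map_one] at h2
  rw [h2]
  exact h

/-- TOP1 (first half of S4581). -/
theorem card_real_odd_eq (hmain : ∀ n, MainAt.{u} True n) {G : Type u} [Group G] [Finite G]
    [Group.IsSolvable G] (P : Sylow 2 G) :
    Nat.card {χ : IrrCharacter G // (∀ g : G, ((χ : G → ℂ) g).im = 0) ∧
        Odd (charDegree (χ : G → ℂ))} =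
      Nat.card {ψ : IrrCharacter (Subgroup.normalizer ((P : Subgroup G) : Set G)) //
        (∀ g, ((ψ : Subgroup.normalizer ((P : Subgroup G) : Set G) → ℂ) g).im = 0) ∧
        Odd (charDegree (ψ : Subgroup.normalizer ((P : Subgroup G) : Set G) → ℂ))} := by
  have h := card_cc_top True hmain P _ rfl (Or.inl trivial)
  have e1 : Nat.card {χ : IrrCharacter G // (∀ g : G, ((χ : G → ℂ) g).im = 0) ∧
      Odd (charDegree (χ : G → ℂ))} = Nat.card (CC True G 1 1) := by
    apply Nat.card_congr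
    apply Equiv.subtypeEquivRight
    intro χ
    rw [mem_cc_one]
    constructor
    · rintro ⟨h1, h2⟩
      exact ⟨h2, fun _ => h1⟩
    · rintro ⟨h1, h2⟩
      exact ⟨h2 trivial, h1⟩
  have e2 : Nat.card {ψ : IrrCharacter (Subgroup.normalizer ((P : Subgroup G) : Set G)) //
      (∀ g, ((ψ : Subgroup.normalizer ((P : Subgroup G) : Set G) → ℂ) g).im = 0) ∧
      Odd (charDegree (ψ : Subgroup.normalizer ((P : Subgroup G) : Set G) → ℂ))} =
      Nat.card (CC True ↥(Subgroup.normalizer ((P : Subgroup G) : Set G)) 1 1) := by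
    apply Nat.card_congr
    apply Equiv.subtypeEquivRight
    intro χ
    rw [mem_cc_one]
    constructor
    · rintro ⟨h1, h2⟩
      exact ⟨h2, fun _ => h1⟩
    · rintro ⟨h1, h2⟩
      exact ⟨h2 trivial, h1⟩
  rw [e1, e2, h]

/-- TOP2 (McKay for a self-normalizing Sylow 2-subgroup of a solvable group). -/
theorem card_odd_eq_of_self_normalizing (hmain : ∀ n, MainAt.{u} False n) {G : Type u} [Group G]
    [Finite G] [Group.IsSolvable G] (P : Sylow 2 G)
    (hself : Subgroup.normalizer ((P : Subgroup G) : Set G) = (P : Subgroup G)) :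
    Nat.card {χ : IrrCharacter G // Odd (charDegree (χ : G → ℂ))} =
      Nat.card {ψ : IrrCharacter ↥(P : Subgroup G) //
        Odd (charDegree (ψ : ↥(P : Subgroup G) → ℂ))} := by
  have h := card_cc_top False hmain P (P : Subgroup G) hself.symm (Or.inr rfl)
  have e1 : Nat.card {χ : IrrCharacter G // Odd (charDegree (χ : G → ℂ))} =
      Nat.card (CC False G 1 1) := by
    apply Nat.card_congr
    apply Equiv.subtypeEquivRight
    intro χ
    rw [mem_cc_one]
    constructor
    · intro h1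
      exact ⟨h1, fun hf => hf.elim⟩
    · rintro ⟨h1, -⟩
      exact h1
  have e2 : Nat.card {ψ : IrrCharacter ↥(P : Subgroup G) //
      Odd (charDegree (ψ : ↥(P : Subgroup G) → ℂ))} =
      Nat.card (CC False ↥(P : Subgroup G) 1 1) := by
    apply Nat.card_congr
    apply Equiv.subtypeEquivRight
    intro χ
    rw [mem_cc_one]
    constructor
    · intro h1
      exact ⟨h1, fun hf => hf.elim⟩
    · rintro ⟨h1, -⟩
      exact h1
  rw [e1, e2, h]

end Cfsg.Agent.Lib.H4.RO
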