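import Mathlib
import Cfsg.Prelude.Def_Characters
import Cfsg.Prelude.Def_Solvable
import Cfsg.Agent.Lib.H26.RODefs
import Cfsg.Agent.Lib.L0.RealPDegA

/-!
S4581 piece KAMB, parametric core (helper4): `cc_trivial_on_of_kreal` takes the statement of the
piece KREAL as a hypothesis.
-/

set_option autoImplicit false

universe u

namespace Cfsg.Agent.Lib.H4.RO

open Cfsg Cfsg.Agent.Lib.H24.Glaub Cfsg.Agent.Lib.H26.RO

/-- the statement of the piece KREAL -/
def KRealStmt : Prop :=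
  ∀ {A : Type u} [Group A] [Finite A] (M : Subgroup A) [M.Normal]
    (_ : Odd (Nat.card M)) (χ : IrrCharacter A) (_ : Odd (charDegree (χ : A → ℂ)))
    (_ : ∀ x : A, ((χ : A → ℂ) x).im = 0),
    ∀ m ∈ M, (χ : A → ℂ) m = (χ : A → ℂ) 1

section amb

variable {Γ : Type u} [Group Γ] [Finite Γ]

omit [Finite Γ] in
theorem kamb_eq_one_of_odd_two (P M : Subgroup Γ) (hP : IsPGroup 2 P) (hMo : Odd (Nat.card M))
    {g : Γ} (hgP : g ∈ P) (hgM : g ∈ M) : g = 1 := by
  obtain ⟨k, hk⟩ := hP ⟨g, hgP⟩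
  have hk' : g ^ 2 ^ k = 1 := by
    have := congrArg Subtype.val hk
    simpa using this
  have h1 : orderOf g ∣ 2 ^ k := orderOf_dvd_of_pow_eq_one hk'
  have h2 : orderOf g ∣ Nat.card M := by
    have h3 : orderOf (⟨g, hgM⟩ : M) ∣ Nat.card M := orderOf_dvd_natCard _
    rwa [Subgroup.orderOf_mk] at h3
  have h4 : (Nat.card M).Coprime (2 ^ k) := (Nat.Coprime.pow_right k hMo.coprime_two_right)
  have h5 : orderOf g ∣ 1 := by
    have := Nat.dvd_gcd h2 h1
    rwa [h4] at this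
  exact orderOf_eq_one_iff.1 (Nat.dvd_one.1 h5)

/-- KAMB from KREAL. -/
theorem cc_trivial_on_of_kreal (hk : KRealStmt.{u}) (ρ : Prop) (H P N M : Subgroup Γ) (hPH : P ≤ H)
    (hP : IsPGroup 2 P)
    (hN : IsNormIn H P N) (hflag : ρ ∨ N = P) (hMH : M ≤ H)
    (hMn : ∀ h ∈ H, ∀ m ∈ M, h * m * h⁻¹ ∈ M) (hMo : Odd (Nat.card M))
    (z : Γ) (hzH : z ∈ H) (ζ : ℂ) (χ : IrrCharacter ↥H) (hχ : χ ∈ CC ρ ↥H ⟨z, hzH⟩ ζ) :
    ∀ m : ↥H, (m : Γ) ∈ M → (χ : ↥H → ℂ) m = (χ : ↥H → ℂ) 1 := by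
  have hnorm : (M.subgroupOf H).Normal := by
    constructor
    intro n hn g
    rw [Subgroup.mem_subgroupOf] at hn ⊢
    exact hMn g g.2 n hn
  have hcard : Nat.card (M.subgroupOf H) = Nat.card M :=
    Nat.card_congr (Subgroup.subgroupOfEquivOfLe hMH).toEquiv
  have hodd' : Odd (Nat.card (M.subgroupOf H)) := by rw [hcard]; exact hMo
  obtain ⟨hdeg, hreal, -⟩ := hχ
  rcases hflag with hρ | hNP
  · intro m hm
    exact hk (M.subgroupOf H) hodd' χ hdeg (hreal hρ) m (Subgroup.mem_subgroupOf.2 hm)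
  · have : Fact (Nat.Prime 2) := ⟨Nat.prime_two⟩
    have : Fintype ↥H := Fintype.ofFinite _
    have hP' : IsPGroup 2 (P.subgroupOf H) :=
      hP.comap_of_injective H.subtype (Subgroup.subtype_injective H)
    have hfix : M.subgroupOf H ⊓ Subgroup.centralizer ((P.subgroupOf H : Subgroup ↥H) : Set ↥H) = ⊥ := by
      rw [eq_bot_iff]
      intro m hm
      have hmM : (m : Γ) ∈ M := Subgroup.mem_subgroupOf.1 hm.1
      have hmC := Subgroup.mem_centralizer_iff.1 hm.2
      -- `m` centralizes `P`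
      have hcomm : ∀ x ∈ P, x * (m : Γ) = (m : Γ) * x := by
        intro x hx
        have := hmC ⟨x, hPH hx⟩ (Subgroup.mem_subgroupOf.2 hx)
        exact congrArg Subtype.val this
      have hmN : (m : Γ) ∈ N := by
        rw [hN]
        refine ⟨m.2, fun x => ⟨fun hx => ?_, fun hx => ?_⟩⟩
        · have : (m : Γ) * x * (m : Γ)⁻¹ = x := by
            rw [← hcomm x hx, mul_inv_cancel_right]
          rw [this]; exact hx
        · have h1 := hcomm _ hx
          have : x = (m : Γ) * x * (m : Γ)⁻¹ := by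
            have h2 : (m : Γ) * x * (m : Γ)⁻¹ * (m : Γ) = (m : Γ) * ((m : Γ) * x * (m : Γ)⁻¹) := h1
            rw [inv_mul_cancel_right] at h2
            have h3 := mul_left_cancel h2
            exact h3
          rw [this]; exact hx
      rw [hNP] at hmN
      have := kamb_eq_one_of_odd_two P M hP hMo hmN hmM
      rw [Subgroup.mem_bot]
      exact Subtype.ext this
    have hdeg' : ¬ 2 ∣ charDegree (χ : ↥H → ℂ) := by
      intro h2
      exact (Nat.not_even_iff_odd.2 hdeg) (even_iff_two_dvd.2 h2)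
    intro m hm
    have := hnorm
    exact Cfsg.Agent.Lib.L0.RealPDeg.trivial_on_of_no_fixed 2 (M.subgroupOf H) (P.subgroupOf H) hP'
      hfix χ hdeg' m (Subgroup.mem_subgroupOf.2 hm)

end amb

end Cfsg.Agent.Lib.H4.RO
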