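import Mathlib
import Cfsg.Prelude.Def_Characters
import Cfsg.Prelude.Def_Solvable
import Cfsg.Agent.Lib.H26.RODefs
import Cfsg.Agent.Lib.H4.ROKAMBa
import Cfsg.Agent.Lib.H22.ROKREAL

/-!
S4581 piece KAMB (helper4): `cc_trivial_on`.
-/

set_option autoImplicit false

universe u

namespace Cfsg.Agent.Lib.H4.RO

open Cfsg Cfsg.Agent.Lib.H24.Glaub Cfsg.Agent.Lib.H26.RO

section amb

variable {Γ : Type u} [Group Γ] [Finite Γ]

/-- KAMB.  In the situation of `MainAt` every `χ ∈ CC ρ H z ζ` is trivial on every odd-order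
subgroup `M ≤ H` normalized by `H`. -/
theorem cc_trivial_on (ρ : Prop) (H P N M : Subgroup Γ) (hPH : P ≤ H) (hP : IsPGroup 2 P)
    (hN : IsNormIn H P N) (hflag : ρ ∨ N = P) (hMH : M ≤ H)
    (hMn : ∀ h ∈ H, ∀ m ∈ M, h * m * h⁻¹ ∈ M) (hMo : Odd (Nat.card M))
    (z : Γ) (hzH : z ∈ H) (ζ : ℂ) (χ : IrrCharacter ↥H) (hχ : χ ∈ CC ρ ↥H ⟨z, hzH⟩ ζ) :
    ∀ m : ↥H, (m : Γ) ∈ M → (χ : ↥H → ℂ) m = (χ : ↥H → ℂ) 1 :=
  cc_trivial_on_of_kreal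
    (fun M _ hM χ hodd hreal => Cfsg.Agent.Lib.H22.RO.trivial_on_of_real_odd M hM χ hodd hreal)
    ρ H P N M hPH hP hN hflag hMH hMn hMo z hzH ζ χ hχ

end amb

end Cfsg.Agent.Lib.H4.RO
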