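import Mathlib
import Cfsg.Agent.Lib.H26.TMXDefs

/-! # S4383, piece ONECLASS (helper26's farm-out): one class of maximal subgroups => `p`-group. -/

set_option autoImplicit false
set_option linter.unusedSectionVars false
open Pointwise

namespace Cfsg.Agent.Lib.H4.TMX

open Cfsg.Agent.Lib.H26.TMX

universe u
variable {G : Type u} [Group G] [Finite G]

omit [Finite G] in
theorem index_conj_smul (g : G) (M : Subgroup G) : (MulAut.conj g • M).index = M.index := by
  rw [Subgroup.pointwise_smul_def]
  exact Subgroup.index_map_equiv M (MulAut.conj g)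

/-- ONECLASS: a finite group with a single conjugacy class of maximal subgroups is a `p`-group. -/
theorem exists_isPGroup_of_one_class (M : Subgroup G) (hM : IsCoatom M)
    (hall : ∀ K : Subgroup G, IsCoatom K → ∃ g : G, K = MulAut.conj g • M) :
    ∃ p : ℕ, p.Prime ∧ IsPGroup p G := by
  by_contra hcon
  push Not at hcon
  apply hM.1
  rw [← Subgroup.index_eq_one]
  rw [Nat.eq_one_iff_not_exists_prime_dvd]
  intro p hp hpd
  haveI : Fact p.Prime := ⟨hp⟩
  obtain ⟨P⟩ : Nonempty (Sylow p G) := inferInstance
  have hPtop : (P : Subgroup G) ≠ ⊤ := by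
    intro h
    apply hcon p hp
    have hP := P.2
    rw [h] at hP
    exact IsPGroup.of_equiv hP Subgroup.topEquiv
  obtain ⟨K, hK, hPK⟩ := (eq_top_or_exists_le_coatom (P : Subgroup G)).resolve_left hPtop
  obtain ⟨g, rfl⟩ := hall K hK
  have h1 : (MulAut.conj g • M).index ∣ (P : Subgroup G).index := Subgroup.index_dvd_of_le hPK
  rw [index_conj_smul] at h1
  exact P.not_dvd_index (hpd.trans h1)

end Cfsg.Agent.Lib.H4.TMX
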