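import Mathlib
import Cfsg.Agent.Lib.H26.TMXDefs

/-! # S4383, piece PGRP (helper26's farm-out): a finite `p`-group does not have exactly two
maximal subgroups. -/

set_option autoImplicit false
set_option linter.unusedSectionVars false
set_option linter.style.haveILetI false
open Pointwise

namespace Cfsg.Agent.Lib.H4.TMX

open Cfsg.Agent.Lib.H26.TMX

universe u
variable {G : Type u} [Group G] [Finite G]

/-- In a group generated by an element `z` of order `p ^ n`, every proper subgroup lies in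
`zpowers (z ^ p)`. -/
theorem le_zpowers_pow_of_ne_top {p n : ℕ} (hp : p.Prime) {z : G}
    (hz : Subgroup.zpowers z = ⊤) (ho : orderOf z = p ^ n) (hn : n ≠ 0) (H : Subgroup G)
    (hH : H ≠ ⊤) : H ≤ Subgroup.zpowers (z ^ p) := by
  intro h hh
  have hmem : h ∈ Subgroup.zpowers z := by rw [hz]; exact Subgroup.mem_top h
  rw [← mem_powers_iff_mem_zpowers] at hmem
  obtain ⟨k, hk⟩ := hmem
  change z ^ k = h at hk
  subst hk
  by_cases hpk : p ∣ k
  · obtain ⟨j, rfl⟩ := hpk
    rw [pow_mul]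
    exact Subgroup.pow_mem _ (Subgroup.mem_zpowers _) j
  · exfalso
    apply hH
    have hcop : Nat.Coprime k (p ^ n) :=
      Nat.Coprime.pow_right n ((Nat.Prime.coprime_iff_not_dvd hp).mpr hpk).symm
    have h1 : 1 < p ^ n := Nat.one_lt_pow hn hp.one_lt
    obtain ⟨m, -, hm⟩ := Nat.exists_mul_mod_eq_one_of_coprime hcop h1
    have hzH : z ∈ H := by
      have h2 : (z ^ k) ^ m = z := by
        rw [← pow_mul, ← pow_mod_orderOf, ho, hm, pow_one]
      rw [← h2]
      exact H.pow_mem hh m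
    rw [eq_top_iff, ← hz, Subgroup.zpowers_le]
    exact hzH

theorem zpowers_pow_ne_top {p n : ℕ} (hp : p.Prime) {z : G} (ho : orderOf z = p ^ n)
    (hn : n ≠ 0) : Subgroup.zpowers (z ^ p) ≠ ⊤ := by
  intro h
  have hmem : z ∈ Subgroup.zpowers (z ^ p) := by rw [h]; exact Subgroup.mem_top z
  rw [← mem_powers_iff_mem_zpowers] at hmem
  obtain ⟨j, hj⟩ := hmem
  change (z ^ p) ^ j = z at hj
  rw [← pow_mul] at hj
  have h1 : z ^ (p * j) = z ^ 1 := by rw [hj, pow_one]
  rw [pow_eq_pow_iff_modEq, ho] at h1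
  have h2 : p * j ≡ 1 [MOD p] := Nat.ModEq.of_dvd (dvd_pow_self p hn) h1
  rw [Nat.ModEq, Nat.mul_mod_right, Nat.mod_eq_of_lt hp.one_lt] at h2
  exact zero_ne_one h2

/-- PGRP: a finite `p`-group does not have exactly two maximal subgroups. -/
theorem pgroup_false (p : ℕ) [Fact p.Prime] (hG : IsPGroup p G) (M₁ M₂ : Subgroup G)
    (h1 : IsCoatom M₁) (h2 : IsCoatom M₂) (hne : M₁ ≠ M₂)
    (hall : ∀ M : Subgroup G, IsCoatom M →
      ∃ g : G, M = MulAut.conj g • M₁ ∨ M = MulAut.conj g • M₂) : False := by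
  have hp : p.Prime := Fact.out
  haveI : Group.IsNilpotent G := hG.isNilpotent
  have hnc : NormalizerCondition G := Group.normalizerCondition_of_isNilpotent
  haveI n1 : M₁.Normal := Subgroup.NormalizerCondition.normal_of_coatom M₁ hnc h1
  haveI n2 : M₂.Normal := Subgroup.NormalizerCondition.normal_of_coatom M₂ hnc h2
  have hall' : ∀ M : Subgroup G, IsCoatom M → M = M₁ ∨ M = M₂ := by
    intro M hM
    obtain ⟨g, hg | hg⟩ := hall M hM
    · left; rw [hg, Subgroup.Normal.conj_smul_eq_self]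
    · right; rw [hg, Subgroup.Normal.conj_smul_eq_self]
  -- elements outside
  have hx : ∃ x ∈ M₁, x ∉ M₂ := by
    by_contra hcon
    push Not at hcon
    have hle : M₁ ≤ M₂ := hcon
    exact h2.1 (h1.2 _ (lt_of_le_of_ne hle hne))
  have hy : ∃ y ∈ M₂, y ∉ M₁ := by
    by_contra hcon
    push Not at hcon
    have hle : M₂ ≤ M₁ := hcon
    exact h1.1 (h2.2 _ (lt_of_le_of_ne hle hne.symm))
  obtain ⟨x, hx1, hx2⟩ := hx
  obtain ⟨y, hy2, hy1⟩ := hy
  set z := x * y with hzdef
  have hz1 : z ∉ M₁ := by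
    intro h
    apply hy1
    have : y = x⁻¹ * z := by rw [hzdef]; group
    rw [this]
    exact M₁.mul_mem (M₁.inv_mem hx1) h
  have hz2 : z ∉ M₂ := by
    intro h
    apply hx2
    have : x = z * y⁻¹ := by rw [hzdef]; group
    rw [this]
    exact M₂.mul_mem h (M₂.inv_mem hy2)
  have hztop : Subgroup.zpowers z = ⊤ := by
    by_contra hcon
    obtain ⟨K, hK, hzK⟩ := (eq_top_or_exists_le_coatom (Subgroup.zpowers z)).resolve_left hcon
    have hzmem : z ∈ K := hzK (Subgroup.mem_zpowers z)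
    rcases hall' K hK with rfl | rfl
    · exact hz1 hzmem
    · exact hz2 hzmem
  obtain ⟨n, hn⟩ := (IsPGroup.iff_orderOf.mp hG) z
  have hn0 : n ≠ 0 := by
    rintro rfl
    rw [pow_zero, orderOf_eq_one_iff] at hn
    apply hz1
    rw [hn]
    exact M₁.one_mem
  have hZ := zpowers_pow_ne_top hp hn hn0
  have hM1 := le_zpowers_pow_of_ne_top hp hztop hn hn0 M₁ h1.1
  have hM2 := le_zpowers_pow_of_ne_top hp hztop hn hn0 M₂ h2.1
  have e1 : M₁ = Subgroup.zpowers (z ^ p) := by
    by_contra hcon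
    exact hZ (h1.2 _ (lt_of_le_of_ne hM1 hcon))
  have e2 : M₂ = Subgroup.zpowers (z ^ p) := by
    by_contra hcon
    exact hZ (h2.2 _ (lt_of_le_of_ne hM2 hcon))
  exact hne (e1.trans e2.symm)

end Cfsg.Agent.Lib.H4.TMX
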