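import Mathlib
import Cfsg.Agent.Lib.H26.TMXDefs

/-! # S4383, piece QUOT (helper26's farm-out): maximal subgroups and quotients. -/

set_option autoImplicit false
set_option linter.unusedSectionVars false
set_option linter.unusedSimpArgs false
open Pointwise

namespace Cfsg.Agent.Lib.H4.TMX

open Cfsg.Agent.Lib.H26.TMX

universe u
variable {G : Type u} [Group G] [Finite G]

omit [Finite G] in
theorem comap_map_mk_eq (N : Subgroup G) [N.Normal] (M : Subgroup G) (hNM : N ≤ M) :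
    (M.map (QuotientGroup.mk' N)).comap (QuotientGroup.mk' N) = M := by
  apply Subgroup.comap_map_eq_self
  rw [QuotientGroup.ker_mk']
  exact hNM

omit [Finite G] in
theorem map_comap_mk_eq (N : Subgroup G) [N.Normal] (K : Subgroup (G ⧸ N)) :
    (K.comap (QuotientGroup.mk' N)).map (QuotientGroup.mk' N) = K :=
  Subgroup.map_comap_eq_self_of_surjective (QuotientGroup.mk'_surjective N) K

omit [Finite G] in
theorem le_comap_mk (N : Subgroup G) [N.Normal] (K : Subgroup (G ⧸ N)) :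
    N ≤ K.comap (QuotientGroup.mk' N) := by
  intro x hx
  rw [Subgroup.mem_comap]
  have : QuotientGroup.mk' N x = 1 := (QuotientGroup.eq_one_iff x).mpr hx
  rw [this]
  exact K.one_mem

omit [Finite G] in
theorem map_mk_top (N : Subgroup G) [N.Normal] :
    (⊤ : Subgroup G).map (QuotientGroup.mk' N) = ⊤ := by
  rw [← MonoidHom.range_eq_map]
  exact MonoidHom.range_eq_top.mpr (QuotientGroup.mk'_surjective N)

/-- QUOT1 -/
theorem isCoatom_map_mk (N : Subgroup G) [N.Normal] (M : Subgroup G) (hNM : N ≤ M)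
    (hM : IsCoatom M) : IsCoatom (M.map (QuotientGroup.mk' N)) := by
  refine ⟨?_, ?_⟩
  · intro h
    apply hM.1
    rw [← comap_map_mk_eq N M hNM, h, Subgroup.comap_top]
  · intro K hK
    have h1 : M ≤ K.comap (QuotientGroup.mk' N) := by
      rw [← comap_map_mk_eq N M hNM]
      exact Subgroup.comap_mono hK.le
    have h2 : M ≠ K.comap (QuotientGroup.mk' N) := by
      intro h
      apply hK.ne
      rw [h, map_comap_mk_eq]
    have h3 := hM.2 _ (lt_of_le_of_ne h1 h2)
    rw [← map_comap_mk_eq N K, h3, map_mk_top]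

/-- QUOT2 -/
theorem isCoatom_comap_mk (N : Subgroup G) [N.Normal] (K : Subgroup (G ⧸ N)) (hK : IsCoatom K) :
    IsCoatom (K.comap (QuotientGroup.mk' N)) := by
  refine ⟨?_, ?_⟩
  · intro h
    apply hK.1
    rw [← map_comap_mk_eq N K, h, map_mk_top]
  · intro L hL
    have hNL : N ≤ L := (le_comap_mk N K).trans hL.le
    have h1 : K ≤ L.map (QuotientGroup.mk' N) := by
      rw [← map_comap_mk_eq N K]
      exact Subgroup.map_mono hL.le
    have h2 : K ≠ L.map (QuotientGroup.mk' N) := by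
      intro h
      apply hL.ne
      rw [h, comap_map_mk_eq N L hNL]
    have h3 := hK.2 _ (lt_of_le_of_ne h1 h2)
    rw [← comap_map_mk_eq N L hNL, h3, Subgroup.comap_top]

/-- QUOT3 -/
theorem map_conj_smul (N : Subgroup G) [N.Normal] (g : G) (M : Subgroup G) :
    (MulAut.conj g • M).map (QuotientGroup.mk' N) =
      MulAut.conj (QuotientGroup.mk' N g) • M.map (QuotientGroup.mk' N) := by
  ext x
  constructor
  · rintro ⟨y, hy, rfl⟩
    rw [SetLike.mem_coe, Subgroup.mem_pointwise_smul_iff_inv_smul_mem] at hy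
    rw [Subgroup.mem_pointwise_smul_iff_inv_smul_mem]
    refine ⟨(MulAut.conj g)⁻¹ • y, hy, ?_⟩
    simp only [MulAut.smul_def, MulAut.conj_inv_apply, map_mul, map_inv, MulAut.conj_apply,
      inv_inv]
  · intro hx
    rw [Subgroup.mem_pointwise_smul_iff_inv_smul_mem] at hx
    obtain ⟨y, hy, hyx⟩ := hx
    refine ⟨MulAut.conj g • y, Subgroup.smul_mem_pointwise_smul _ _ _ hy, ?_⟩
    simp only [MulAut.smul_def, MulAut.conj_apply, map_mul, map_inv] at hyx ⊢
    rw [hyx]
    simp only [MulAut.conj_inv_apply, inv_inv]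
    group

omit [Finite G] in
theorem le_conj_smul_iff (N : Subgroup G) [N.Normal] (g : G) (M : Subgroup G) :
    N ≤ MulAut.conj g • M ↔ N ≤ M := by
  constructor
  · intro h
    have h1 : MulAut.conj g⁻¹ • N ≤ MulAut.conj g⁻¹ • (MulAut.conj g • M) :=
      Subgroup.pointwise_smul_le_pointwise_smul_iff.mpr h
    rw [Subgroup.Normal.conj_smul_eq_self, ← mul_smul, ← map_mul, inv_mul_cancel, map_one,
      one_smul] at h1
    exact h1
  · intro h
    have h1 : MulAut.conj g • N ≤ MulAut.conj g • M :=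
      Subgroup.pointwise_smul_le_pointwise_smul_iff.mpr h
    rwa [Subgroup.Normal.conj_smul_eq_self] at h1

/-- QUOT4: two classes pass to `G ⧸ N` when `N` lies in both. -/
theorem quot_two_class (N : Subgroup G) [N.Normal] (M₁ M₂ : Subgroup G) (hN1 : N ≤ M₁) (hN2 : N ≤ M₂)
    (h1 : IsCoatom M₁) (h2 : IsCoatom M₂) (hne : ∀ g : G, M₂ ≠ MulAut.conj g • M₁)
    (hall : ∀ M : Subgroup G, IsCoatom M →
      ∃ g : G, M = MulAut.conj g • M₁ ∨ M = MulAut.conj g • M₂) :
    IsCoatom (M₁.map (QuotientGroup.mk' N)) ∧ IsCoatom (M₂.map (QuotientGroup.mk' N)) ∧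
      (∀ q : G ⧸ N, M₂.map (QuotientGroup.mk' N) ≠ MulAut.conj q • M₁.map (QuotientGroup.mk' N)) ∧
      ∀ K : Subgroup (G ⧸ N), IsCoatom K →
        ∃ q : G ⧸ N, K = MulAut.conj q • M₁.map (QuotientGroup.mk' N) ∨
          K = MulAut.conj q • M₂.map (QuotientGroup.mk' N) := by
  refine ⟨isCoatom_map_mk N M₁ hN1 h1, isCoatom_map_mk N M₂ hN2 h2, ?_, ?_⟩
  · intro q hq
    obtain ⟨g, rfl⟩ := QuotientGroup.mk'_surjective N q
    rw [← map_conj_smul] at hq
    apply hne g
    rw [← comap_map_mk_eq N M₂ hN2, hq,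
      comap_map_mk_eq N _ ((le_conj_smul_iff N g M₁).mpr hN1)]
  · intro K hK
    obtain ⟨g, hg | hg⟩ := hall _ (isCoatom_comap_mk N K hK)
    · refine ⟨QuotientGroup.mk' N g, Or.inl ?_⟩
      rw [← map_conj_smul, ← hg, map_comap_mk_eq]
    · refine ⟨QuotientGroup.mk' N g, Or.inr ?_⟩
      rw [← map_conj_smul, ← hg, map_comap_mk_eq]

/-- QUOT5: one class in `G ⧸ N` when `N ≤ M₁`, `N ≰ M₂`. -/
theorem quot_one_class (N : Subgroup G) [N.Normal] (M₁ M₂ : Subgroup G) (hN1 : N ≤ M₁)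
    (hN2 : ¬ N ≤ M₂) (h1 : IsCoatom M₁)
    (hall : ∀ M : Subgroup G, IsCoatom M →
      ∃ g : G, M = MulAut.conj g • M₁ ∨ M = MulAut.conj g • M₂) :
    IsCoatom (M₁.map (QuotientGroup.mk' N)) ∧
      ∀ K : Subgroup (G ⧸ N), IsCoatom K →
        ∃ q : G ⧸ N, K = MulAut.conj q • M₁.map (QuotientGroup.mk' N) := by
  refine ⟨isCoatom_map_mk N M₁ hN1 h1, ?_⟩
  intro K hK
  obtain ⟨g, hg | hg⟩ := hall _ (isCoatom_comap_mk N K hK)
  · refine ⟨QuotientGroup.mk' N g, ?_⟩
    rw [← map_conj_smul, ← hg, map_comap_mk_eq]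
  · exfalso
    apply hN2
    rw [← le_conj_smul_iff N g M₂, ← hg]
    exact le_comap_mk N K

end Cfsg.Agent.Lib.H4.TMX
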