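import Mathlib
import Cfsg.Agent.Lib.H16.S3814AutCyc
import Cfsg.Agent.Lib.H4.S3814NSyl
import Cfsg.Agent.Lib.H27.S3814C1Defs

/-!
S3814, shape (I), block Case 1, piece (18) A11: `O_{t'}(X1) = 1`.
-/

set_option autoImplicit false

namespace Cfsg.Agent.Lib.H4.S3814C1A11

universe u

open Cfsg.Agent.H7.S3814Defs Cfsg.Agent.H27.S3814C1

theorem a11 : A11Stmt.{u} := by
  intro G _ σ p V K c M X t t' u0 h hA7 hdvd Y hYX1 hYn hYp
  have hfin : Finite G := h.c1.c0.cex.fin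
  have ht : t.Prime := h.c1.c0.cex.prime t h.c1.oth.ht
  have ht' : t'.Prime := h.c1.c0.cex.prime t' h.c1.oth.ht'
  have hc : c.Prime := h.c1.c0.hc
  have : Fact t'.Prime := ⟨ht'⟩
  have hXK : X ≤ K := h.c1.compl.le
  by_contra hY1
  -- membership in X1
  have hX1mem : ∀ y : G, y ∈ X1 X u0 ↔ y ∈ X ∧ y * u0 = u0 * y := by
    intro y
    unfold X1
    rw [Subgroup.mem_inf, Subgroup.mem_centralizer_singleton_iff]
  have hYX : ∀ y ∈ Y, y ∈ X := fun y hy => ((hX1mem y).1 (hYX1 hy)).1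
  have hYu : ∀ y ∈ Y, y * u0 = u0 * y := fun y hy => ((hX1mem y).1 (hYX1 hy)).2
  -- elements of order t' of Y are fixed-point-free on M
  have hYfpf : ∀ w ∈ Y, orderOf w = t' → Fpf w M := by
    intro w hw hwo
    exact (h.mix u0 h.hu0 w (hYX w hw) (hYu w hw).symm h.ou0 hwo).2
  -- a central element of order t'
  obtain ⟨y1, hy1⟩ := Subgroup.ne_bot_iff_exists_ne_one.1 hY1
  have : Nontrivial ↥Y := ⟨⟨y1, 1, hy1⟩⟩
  have : Nontrivial (Subgroup.center ↥Y) := hYp.center_nontrivial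
  have hcpg : IsPGroup t' (Subgroup.center ↥Y) := hYp.to_subgroup _
  obtain ⟨n, hn⟩ := hcpg.exists_card_eq
  have hn0 : n ≠ 0 := by
    rintro rfl
    rw [pow_zero] at hn
    have : 1 < Nat.card (Subgroup.center ↥Y) := Finite.one_lt_card
    omega
  have hrdvd : t' ∣ Nat.card (Subgroup.center ↥Y) := by
    rw [hn]; exact dvd_pow_self t' hn0
  obtain ⟨z0, hz0⟩ := exists_prime_orderOf_dvd_card' t' hrdvd
  set e7 : G := ((z0 : ↥Y) : G) with he7def
  have he7o : orderOf e7 = t' := by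
    rw [he7def, Subgroup.orderOf_coe, Subgroup.orderOf_coe, hz0]
  have he7Y : e7 ∈ Y := (z0 : ↥Y).2
  have he7c : ∀ y ∈ Y, y * e7 = e7 * y := by
    intro y hy
    have h1 := Subgroup.mem_center_iff.mp z0.2 ⟨y, hy⟩
    exact congrArg Subtype.val h1
  -- M is a nontrivial c-group, normalised by X
  have hM1 : M ≠ ⊥ := by
    intro hM
    have h2 := h.c1.c0.hM2
    rw [hM, Subgroup.card_bot] at h2
    have := Nat.le_of_dvd Nat.one_pos h2
    have hc2 : 2 ≤ c := hc.two_le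
    nlinarith
  have hMp : IsPGroup c M := by
    intro m
    refine ⟨1, ?_⟩
    apply Subtype.ext
    rw [pow_one]
    exact h.c1.c0.hMe.2 m m.2
  have : Fact c.Prime := ⟨hc⟩
  obtain ⟨l, hl⟩ := IsPGroup.iff_card.mp hMp
  have hcopM : (Nat.card M).Coprime t' := by
    rw [hl]
    exact Nat.Coprime.pow_left l ((Nat.coprime_primes hc ht').2 (Ne.symm h.c1.oth.t'c))
  have hXnM : ∀ x ∈ X, x ∈ Subgroup.normalizer (M : Set G) := fun x hx =>
    h.c1.c0.hMn (hXK hx)
  -- uniqueness of the subgroup of order t' of Y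
  have huniq : ∀ y ∈ Y, orderOf y = t' → y ∈ Subgroup.zpowers e7 := by
    intro y hy hyo
    by_contra hni
    obtain ⟨x, hxA, hxo, m, hmM, hm1, hmx⟩ := Cfsg.Agent.Lib.H4.S3814NSyl.rank2_fixed ht' M hM1
      hcopM e7 y he7o hyo (he7c y hy).symm hni (hXnM e7 (hYX e7 he7Y)) (hXnM y (hYX y hy))
    have hxY : x ∈ Y := by
      have hle : Subgroup.closure ({y, e7} : Set G) ≤ Y := by
        rw [Subgroup.closure_le]
        intro z hz
        rcases hz with rfl | hz
        · exact hy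
        · rw [Set.mem_singleton_iff] at hz
          subst hz
          exact he7Y
      exact hle hxA
    exact hm1 (hYfpf x hxY hxo m hmM hmx.symm)
  -- X1 normalises ⟨e7⟩
  have hnorm7 : ∀ x ∈ X1 X u0, x * e7 * x⁻¹ ∈ Subgroup.zpowers e7 := by
    intro x hx
    have h1 : x * e7 * x⁻¹ ∈ Y := (Subgroup.mem_normalizer_iff.1 (hYn hx) e7).1 he7Y
    apply huniq _ h1
    rw [Cfsg.Agent.Lib.H4.S3814NSyl.orderOf_conj_eq, he7o]
  -- the C_t × C_t of X
  obtain ⟨e₁, he₁, e₂, he₂, ho1, ho2, hc12, hni12⟩ := h.c1.xr2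
  have ht1 : 0 < t - 1 := by have := ht.two_le; omega
  have hcop_t : t.Coprime (t - 1) := by
    rw [Nat.Prime.coprime_iff_not_dvd ht]
    intro hd
    have := Nat.le_of_dvd ht1 hd
    omega
  have ht'le : t' ≤ t - 1 := Nat.le_of_dvd ht1 hdvd
  have hcop_t' : t.Coprime (t' - 1) := by
    rw [Nat.Prime.coprime_iff_not_dvd ht]
    intro hd
    have h2 : 0 < t' - 1 := by have := ht'.two_le; omega
    have := Nat.le_of_dvd h2 hd
    omega
  have hfinord : ∀ g : G, IsOfFinOrder g := fun g => isOfFinOrder_of_finite g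
  have hinX1 : ∀ e ∈ X, orderOf e = t → e ∈ X1 X u0 := by
    intro e he heo
    rw [hX1mem]
    refine ⟨he, ?_⟩
    have := Cfsg.Agent.Lib.H16.S3814AutCyc.commute_of_coprime_pred ht u0 e h.ou0
      (hA7 e (hXK he)) (hfinord e) (by rw [heo]; exact hcop_t)
    exact this.eq
  have hcomm7 : ∀ e ∈ X, orderOf e = t → e7 * e = e * e7 := by
    intro e he heo
    have := Cfsg.Agent.Lib.H16.S3814AutCyc.commute_of_coprime_pred ht' e7 e he7o
      (hnorm7 e (hinX1 e he heo)) (hfinord e) (by rw [heo]; exact hcop_t')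
    exact this.eq.symm
  -- e7 is bad by (F4) and good by (D3)
  have he7X : e7 ∈ X := hYX e7 he7Y
  have hbad : Fpf e7 V := by
    refine h.f4 e7 (hXK he7X) e₁ (hXK he₁) e₂ (hXK he₂) (by rw [he7o]; exact ht')
      (by rw [ho1]; exact ht) (by rw [ho1, ho2]) (by rw [he7o, ho1]; exact Ne.symm h.c1.oth.tt')
      hc12 hni12 (hcomm7 e₁ he₁ ho1) (hcomm7 e₂ he₂ ho2)
  exact h.tpgood e7 he7X he7o hbad

example : A11Stmt.{0} := a11

end Cfsg.Agent.Lib.H4.S3814C1A11
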