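/-
S2937 (architect helper3; helper4): rank one criteria for `R1At` (the normalizer of `U` is a maximal subgroup) without a
(B,N)-pair: from coset transitivity (Suzuki, S1163) and from a rank one Bruhat covering (Ree).
-/
import Mathlib
import Cfsg.Agent.Lib.H3.PMinTransport

set_option autoImplicit false
set_option linter.unusedSectionVars false
set_option linter.unusedVariables false

namespace Cfsg.Agent.Lib.H4.PM

open Cfsg Cfsg.Agent.Lib.H3.PMin

variable {G : Type*} [Group G]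

/-- a proper subgroup `B` with `G ∖ B ⊆ V n₀ B` for some `V ≤ B` is maximal -/
theorem isCoatom_of_cover (V B : Subgroup G) (n₀ : G) (hVB : V ≤ B) (hB : B ≠ ⊤)
    (hcov : ∀ g : G, g ∉ B → ∃ u ∈ V, ∃ b ∈ B, g = u * n₀ * b) : IsCoatom B := by
  refine ⟨hB, ?_⟩
  intro H hBH
  obtain ⟨g, hgH, hgB⟩ := SetLike.exists_of_lt hBH
  obtain ⟨u, hu, b, hb, rfl⟩ := hcov g hgB
  have hn : n₀ ∈ H := by
    have e : n₀ = u⁻¹ * (u * n₀ * b) * b⁻¹ := by group
    rw [e]
    exact H.mul_mem (H.mul_mem (H.inv_mem (hBH.le (hVB hu))) hgH) (H.inv_mem (hBH.le hb))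
  rw [eq_top_iff]
  intro x _
  by_cases hx : x ∈ B
  · exact hBH.le hx
  · obtain ⟨u', hu', b', hb', rfl⟩ := hcov x hx
    exact H.mul_mem (H.mul_mem (hBH.le (hVB hu')) hn) (hBH.le hb')

/-- rank one: `U ≤ B ≤ N(U)`, `G ∖ B ⊆ U n₀ B`, `N(U) ≠ G`: then `N(U) = B` is a maximal subgroup -/
theorem r1At_of_cover (U B : Subgroup G) (n₀ : G) (hUB : U ≤ B) (hBU : ∀ b ∈ B, ∀ u ∈ U, b * u * b⁻¹ ∈ U)
    (hcov : ∀ g : G, g ∉ B → ∃ u ∈ U, ∃ b ∈ B, g = u * n₀ * b)
    (hN : Subgroup.normalizer (U : Set G) ≠ ⊤) : R1At G U := by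
  have hBN : B ≤ Subgroup.normalizer (U : Set G) := by
    intro b hb
    rw [Subgroup.mem_normalizer_iff]
    intro u
    constructor
    · intro hu
      exact hBU b hb u hu
    · intro hu
      have := hBU b⁻¹ (B.inv_mem hb) _ hu
      have e : b⁻¹ * (b * u * b⁻¹) * b⁻¹⁻¹ = u := by group
      rwa [e] at this
  have hNB : Subgroup.normalizer (U : Set G) = B := by
    apply le_antisymm _ hBN
    intro g hg
    by_contra hgB
    apply hN
    obtain ⟨u, hu, b, hb, rfl⟩ := hcov g hgB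
    have hn : n₀ ∈ Subgroup.normalizer (U : Set G) := by
      have e : n₀ = u⁻¹ * (u * n₀ * b) * b⁻¹ := by group
      rw [e]
      exact Subgroup.mul_mem _ (Subgroup.mul_mem _ (Subgroup.inv_mem _ (hBN (hUB hu))) hg)
        (Subgroup.inv_mem _ (hBN hb))
    rw [eq_top_iff]
    intro x _
    by_cases hx : x ∈ B
    · exact hBN hx
    · obtain ⟨u', hu', b', hb', rfl⟩ := hcov x hx
      exact Subgroup.mul_mem _ (Subgroup.mul_mem _ (hBN (hUB hu')) hn) (hBN hb')
  unfold R1At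
  rw [hNB]
  exact isCoatom_of_cover U B n₀ hUB (hNB ▸ hN) hcov

/-- rank one in coset form: `U` transitive on the cosets of `N(U)` other than the base coset -/
theorem r1At_of_coset_trans (U : Subgroup G) (hN : Subgroup.normalizer (U : Set G) ≠ ⊤)
    (htr : ∀ x y : G ⧸ Subgroup.normalizer (U : Set G),
      x ≠ QuotientGroup.mk 1 → y ≠ QuotientGroup.mk 1 → ∃ s ∈ U, s • x = y) : R1At G U := by
  obtain ⟨n₀, hn₀⟩ : ∃ n₀ : G, n₀ ∉ Subgroup.normalizer (U : Set G) := by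
    by_contra hcon
    push Not at hcon
    exact hN (eq_top_iff.mpr fun x _ => hcon x)
  have hq : ∀ g : G, g ∉ Subgroup.normalizer (U : Set G) →
      ((g : G) : G ⧸ Subgroup.normalizer (U : Set G)) ≠ QuotientGroup.mk 1 := by
    intro g hg e
    apply hg
    have h1 : (1 : G)⁻¹ * g ∈ Subgroup.normalizer (U : Set G) := QuotientGroup.eq.mp e.symm
    rwa [inv_one, one_mul] at h1
  unfold R1At
  refine isCoatom_of_cover U _ n₀ Subgroup.le_normalizer hN ?_
  intro g hg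
  obtain ⟨s, hs, hsx⟩ := htr _ _ (hq n₀ hn₀) (hq g hg)
  have h1 : (((s * n₀ : G)) : G ⧸ Subgroup.normalizer (U : Set G)) = (g : G) := hsx
  have h2 : (s * n₀)⁻¹ * g ∈ Subgroup.normalizer (U : Set G) := QuotientGroup.eq.mp h1
  refine ⟨s, hs, (s * n₀)⁻¹ * g, h2, ?_⟩
  group

end Cfsg.Agent.Lib.H4.PM
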