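/-
S2937 piece REE (architect helper3; helper4): the Sylow 3-normalizers of the Ree groups `²G₂(3^(2m+1))` are maximal subgroups,
from the rank one Bruhat covering of helper29's Ree tower (same data as helper28's `Lib/H28/OGREE`).
-/
import Mathlib
import Cfsg.Prelude.Def_LieTypeChar
import Cfsg.Agent.Lib.H29.ChevRee26
import Cfsg.Agent.Lib.H29.ChevRee21
import Cfsg.Agent.Lib.H4.PMR1

set_option autoImplicit false
set_option linter.unusedSectionVars false
set_option linter.unusedVariables false

namespace Cfsg.Agent.Lib.H4.PM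

open Cfsg Cfsg.Lie Cfsg.Agent.Lib.H29.Chev Cfsg.Agent.Lib.H3.PMin

/-- REE -/
theorem pm_Ree (K : Type*) [Field K] [Fintype K] (m : ℕ) (hm : 1 ≤ m)
    (hK : Fintype.card K = 3 ^ (2 * m + 1)) : PMinR1 3 ↥(Lie.twistedG2 K (3 ^ m)) := by
  have : CharP K 3 := charP_of_card_pow 3 (2 * m + 1) (by norm_num) hK
  have hsimple : IsSimpleGroup ↥(twistedG2 K (3 ^ m)) := (tw_simple_G2 m hK hm).1
  have : Fact (Nat.Prime 3) := ⟨Nat.prime_three⟩
  have hUB : chevG2.posUnipotent K ≤ chevG2.borelSubgroup K := le_sup_left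
  have hHB : chevG2.diagonalSubgroup K ≤ chevG2.borelSubgroup K := le_sup_right
  have hUleB : reeU K m ≤ reeB K m := by
    intro x hx
    rw [mem_reeU] at hx
    rw [mem_reeB]
    exact hUB hx
  have hn0 : reeN0 K m ∉ reeB K m := by
    rw [mem_reeB]
    exact n0R_not_mem_borel m
  have hUne : reeU K m ≠ ⊥ := by
    intro h
    have h1 := card_reeU m hK
    rw [h, Subgroup.card_bot] at h1
    have : 1 < (3 ^ (2 * m + 1)) ^ 3 := by
      apply Nat.one_lt_pow (by norm_num)
      exact Nat.one_lt_pow (by omega) (by norm_num)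
    omega
  apply pminR1_of_one 3 (reeSylow m hK)
  show R1At _ (reeU K m)
  refine r1At_of_cover (reeU K m) (reeB K m) (reeN0 K m) hUleB ?_ ?_ ?_
  · intro b hb s hs
    rw [mem_reeB] at hb
    rw [mem_reeU] at hs ⊢
    exact borel_conj_pos _ _ hb hs
  · intro g hg
    rw [mem_reeB] at hg
    rcases fix_decomp m hK g (twistedG2_le_fix m hK g.2) with ⟨t, u, v, z, e⟩ | ⟨t, u, v, z, t', u', v', e⟩
    · exfalso
      apply hg
      rw [e]
      exact mul_mem (hUB (uR_mem_pos m _ _ _)) (hHB (hR_mem_diag m z))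
    · refine ⟨reeUel m t u v, ?_, reeHel m hK z * reeUel m t' u' v', ?_, ?_⟩
      · rw [mem_reeU]; exact uR_mem_pos m _ _ _
      · rw [mem_reeB]
        exact mul_mem (hHB (hR_mem_diag m z)) (hUB (uR_mem_pos m _ _ _))
      · apply Subtype.ext
        rw [e]
        show uR m t u v * (n0R K * hR K m z) * uR m t' u' v' =
          uR m t u v * n0R K * (hR K m z * uR m t' u' v')
        group
  · -- `U` is not normal
    intro htop
    have hnorm : (reeU K m).Normal := Subgroup.normalizer_eq_top_iff.mp htop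
    rcases hnorm.eq_bot_or_eq_top with h | h
    · exact hUne h
    · apply hn0
      apply hUleB
      rw [h]
      trivial

end Cfsg.Agent.Lib.H4.PM
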