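/-
S2937 piece SZ (architect helper3; helper4): the Sylow 2-normalizers of the Suzuki groups are maximal subgroups, from the
landed S1163 (a Sylow 2-subgroup is transitive on the other cosets of its normalizer).
-/
import Mathlib
import Cfsg.Prelude.Def_LieTypeChar
import Cfsg.Agent.S1163
import Cfsg.Agent.Lib.H4.PMR1

set_option autoImplicit false
set_option linter.unusedSectionVars false
set_option linter.unusedVariables false

namespace Cfsg.Agent.Lib.H4.PM

open Cfsg Cfsg.Agent.Lib.H3.PMin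

/-- SZ -/
theorem pm_Sz (F : Type*) [Field F] [Fintype F] (m : ℕ) (hm : 1 ≤ m)
    (hF : Fintype.card F = 2 ^ (2 * m + 1)) : PMinR1 2 ↥(Lie.Sz F (2 ^ (m + 1))) := by
  have hp : Fact (Nat.Prime 2) := ⟨Nat.prime_two⟩
  obtain ⟨hcardG, S, hcardN, hidx, -, hsharp⟩ := Cfsg.Agent.S1163.result hm hF
  have hfin : Finite ↥(Lie.Sz F (2 ^ (m + 1))) := by
    apply Nat.finite_of_card_ne_zero
    rw [hcardG]
    have : 2 ≤ 2 ^ (2 * m + 1) := by
      calc 2 = 2 ^ 1 := by norm_num
        _ ≤ 2 ^ (2 * m + 1) := Nat.pow_le_pow_right (by norm_num) (by omega)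
    have h2 : 0 < 2 ^ (2 * m + 1) - 1 := by omega
    positivity
  apply pminR1_of_one 2 S
  apply r1At_of_coset_trans
  · intro htop
    rw [htop, Subgroup.index_top] at hidx
    have : 0 < (2 ^ (2 * m + 1)) ^ 2 := by positivity
    omega
  · intro x y hx hy
    obtain ⟨s, hs1, -⟩ := hsharp x y hx hy
    exact ⟨s, s.2, hs1⟩

end Cfsg.Agent.Lib.H4.PM
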