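import Cfsg.Agent.Lib.H24.BrauerP1

/-!
# S3341 farm-out, task C1 (helper4): sums over the relevant characters of the normalizer of an
abelian T.I. subgroup with Frobenius normalizer
-/

set_option autoImplicit false
set_option linter.unusedSectionVars false

namespace Cfsg.Agent.Lib.H4.A6

open Cfsg Cfsg.Agent.Lib.L0 Cfsg.Agent.Lib.L0.FrobTI Cfsg.Agent.Lib.H8 Cfsg.Agent.Lib.H4.Feit
open scoped ComplexConjugate Classical

section chars

variable {G : Type*} [Group G] [Fintype G] {K : Subgroup G} [Fintype (nz K)]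

theorem index_ne_zero' : ((K.subgroupOf (nz K)).index : ℂ) ≠ 0 := by
  have : (K.subgroupOf (nz K)).index ≠ 0 := Subgroup.index_ne_zero_of_finite
  exact_mod_cast this

/-- `∑ η(1)²` over the irreducible characters of `N` constant on `K` is `e = |N : K|` -/
theorem sum_nonrel_sq [Fintype (IrrCharacter (nz K))] :
    ∑ η ∈ Finset.univ.filter (fun η : IrrCharacter (nz K) => ¬ Rel K (η : nz K → ℂ)),
      (η : nz K → ℂ) 1 ^ 2 = ((K.subgroupOf (nz K)).index : ℂ) := by
  have hall := Cfsg.Agent.Lib.H24.sum_irr_one_sq (G := nz K)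
  have hsq := sum_rel_sq (K := K)
  rw [← Finset.sum_filter_add_sum_filter_not Finset.univ
    (fun η : IrrCharacter (nz K) => Rel K (η : nz K → ℂ))] at hall
  linear_combination hall - hsq

/-- TASK C1: `∑_ζ ζ(k) = -1` on `K ∖ 1`. -/
theorem sum_rel_apply (h : FrobTI K) (hab : ∀ a ∈ K, ∀ b ∈ K, a * b = b * a) [Fintype (RelT K)]
    (k : nz K) (hk : (k : G) ∈ K) (hk1 : k ≠ 1) :
    ∑ ζ : RelT K, (ζ.1 : nz K → ℂ) k = -1 := by
  have : Fintype (IrrCharacter (nz K)) := Fintype.ofFinite _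
  have hcol := Cfsg.Agent.Lib.H24.sum_irr_one_mul (G := nz K) k
  rw [if_neg hk1, ← Finset.sum_filter_add_sum_filter_not Finset.univ
    (fun η : IrrCharacter (nz K) => Rel K (η : nz K → ℂ))] at hcol
  have hrel : ∑ η ∈ Finset.univ.filter (fun η : IrrCharacter (nz K) => Rel K (η : nz K → ℂ)),
      (η : nz K → ℂ) 1 * (η : nz K → ℂ) k =
      ((K.subgroupOf (nz K)).index : ℂ) * ∑ ζ : RelT K, (ζ.1 : nz K → ℂ) k := by
    rw [sum_rel_eq (fun η : IrrCharacter (nz K) => (η : nz K → ℂ) 1 * (η : nz K → ℂ) k), Finset.mul_sum]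
    refine Finset.sum_congr rfl fun ζ _ => ?_
    rw [h.rel_degree hab ζ.1.2 ζ.2]
  have hnon : ∑ η ∈ Finset.univ.filter (fun η : IrrCharacter (nz K) => ¬ Rel K (η : nz K → ℂ)),
      (η : nz K → ℂ) 1 * (η : nz K → ℂ) k = ((K.subgroupOf (nz K)).index : ℂ) := by
    rw [← sum_nonrel_sq]
    refine Finset.sum_congr rfl fun η hη => ?_
    rw [not_rel_apply (Finset.mem_filter.mp hη).2 k hk]
    ring
  rw [hrel, hnon] at hcol
  have he := index_ne_zero' (K := K)
  have h2 : ((K.subgroupOf (nz K)).index : ℂ) * (∑ ζ : RelT K, (ζ.1 : nz K → ℂ) k + 1) = 0 := by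
    linear_combination hcol
  rcases mul_eq_zero.1 h2 with h3 | h3
  · exact absurd h3 he
  · linear_combination h3

/-- TASK C1: the class-multiplication sum of `N` on `K`. -/
theorem sum_irr_nz (h : FrobTI K) (hab : ∀ a ∈ K, ∀ b ∈ K, a * b = b * a)
    [Fintype (IrrCharacter (nz K))] [Fintype (RelT K)] (x y u : nz K)
    (hx : (x : G) ∈ K) (hy : (y : G) ∈ K) (hu : (u : G) ∈ K) :
    ∑ η : IrrCharacter (nz K), (η : nz K → ℂ) x * (η : nz K → ℂ) y * (η : nz K → ℂ) u /
        (η : nz K → ℂ) 1 =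
      ((K.subgroupOf (nz K)).index : ℂ) +
        (∑ ζ : RelT K, (ζ.1 : nz K → ℂ) x * (ζ.1 : nz K → ℂ) y * (ζ.1 : nz K → ℂ) u) /
          ((K.subgroupOf (nz K)).index : ℂ) := by
  rw [← Finset.sum_filter_add_sum_filter_not Finset.univ
    (fun η : IrrCharacter (nz K) => Rel K (η : nz K → ℂ))]
  have hrel : ∑ η ∈ Finset.univ.filter (fun η : IrrCharacter (nz K) => Rel K (η : nz K → ℂ)),
      (η : nz K → ℂ) x * (η : nz K → ℂ) y * (η : nz K → ℂ) u / (η : nz K → ℂ) 1 =
      (∑ ζ : RelT K, (ζ.1 : nz K → ℂ) x * (ζ.1 : nz K → ℂ) y * (ζ.1 : nz K → ℂ) u) /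
          ((K.subgroupOf (nz K)).index : ℂ) := by
    rw [sum_rel_eq (fun η : IrrCharacter (nz K) => (η : nz K → ℂ) x * (η : nz K → ℂ) y * (η : nz K → ℂ) u /
      (η : nz K → ℂ) 1), Finset.sum_div]
    refine Finset.sum_congr rfl fun ζ _ => ?_
    rw [h.rel_degree hab ζ.1.2 ζ.2]
  have hnon : ∑ η ∈ Finset.univ.filter (fun η : IrrCharacter (nz K) => ¬ Rel K (η : nz K → ℂ)),
      (η : nz K → ℂ) x * (η : nz K → ℂ) y * (η : nz K → ℂ) u / (η : nz K → ℂ) 1 =
      ((K.subgroupOf (nz K)).index : ℂ) := by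
    rw [← sum_nonrel_sq]
    refine Finset.sum_congr rfl fun η hη => ?_
    have hnr := (Finset.mem_filter.mp hη).2
    rw [not_rel_apply hnr x hx, not_rel_apply hnr y hy, not_rel_apply hnr u hu]
    have h1 := Cfsg.Agent.Lib.H24.irr_one_ne_zero η
    field_simp
  rw [hrel, hnon]
  ring

/-- the value of a character of `N` at an element of `K` -/
theorem char_expand_at (h : FrobTI K) (F : nz K → ℂ) (hF : IsCharacter (nz K) F)
    [Fintype (IrrCharacter (nz K))] [Fintype (RelT K)] (k : nz K) (hk : (k : G) ∈ K) :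
    F k = classInner (piFun K) F +
      ∑ ζ : RelT K, classInner (ζ.1 : nz K → ℂ) F * (ζ.1 : nz K → ℂ) k := by
  have hcf := isClassFunction_of_isCharacter hF
  have hexp := Cfsg.Agent.Lib.H24.classFunction_expansion F hcf
  choose c hc using fun η : IrrCharacter (nz K) => classInner_char_irr_nat hF η.2
  have hc' : ∀ η : IrrCharacter (nz K), classInner (η : nz K → ℂ) F = c η := by
    intro η
    rw [← classInner_conj_symm, hc, Complex.conj_natCast]
  have h1 : F k = ∑ η : IrrCharacter (nz K), (c η : ℂ) * (η : nz K → ℂ) k := by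
    have := congrFun hexp k
    rw [Finset.sum_apply] at this
    rw [this]
    refine Finset.sum_congr rfl fun η _ => ?_
    rw [Pi.smul_apply, smul_eq_mul, hc]
  have h2 : classInner (piFun K) F =
      ∑ η : IrrCharacter (nz K), (c η : ℂ) * classInner (piFun K) (η : nz K → ℂ) := by
    conv_lhs => rw [hexp]
    rw [classInner_sum_right]
    refine Finset.sum_congr rfl fun η _ => ?_
    rw [classInner_smul_right, hc, Complex.conj_natCast]
  rw [h1, h2, ← Finset.sum_filter_add_sum_filter_not Finset.univ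
    (fun η : IrrCharacter (nz K) => Rel K (η : nz K → ℂ)),
    ← Finset.sum_filter_add_sum_filter_not Finset.univ
    (fun η : IrrCharacter (nz K) => Rel K (η : nz K → ℂ))
    (f := fun η : IrrCharacter (nz K) => (c η : ℂ) * classInner (piFun K) (η : nz K → ℂ))]
  have h3 : ∑ η ∈ Finset.univ.filter (fun η : IrrCharacter (nz K) => Rel K (η : nz K → ℂ)),
      (c η : ℂ) * classInner (piFun K) (η : nz K → ℂ) = 0 := by
    apply Finset.sum_eq_zero
    intro η hη
    rw [piFun_inner_rel h η.2 (Finset.mem_filter.mp hη).2, mul_zero]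
  have h4 : ∑ η ∈ Finset.univ.filter (fun η : IrrCharacter (nz K) => ¬ Rel K (η : nz K → ℂ)),
      (c η : ℂ) * classInner (piFun K) (η : nz K → ℂ) =
      ∑ η ∈ Finset.univ.filter (fun η : IrrCharacter (nz K) => ¬ Rel K (η : nz K → ℂ)),
      (c η : ℂ) * (η : nz K → ℂ) k := by
    refine Finset.sum_congr rfl fun η hη => ?_
    rw [pi_inner_nonrel η.2 (Finset.mem_filter.mp hη).2,
      not_rel_apply (Finset.mem_filter.mp hη).2 k hk]
  have h5 : ∑ η ∈ Finset.univ.filter (fun η : IrrCharacter (nz K) => Rel K (η : nz K → ℂ)),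
      (c η : ℂ) * (η : nz K → ℂ) k =
      ∑ ζ : RelT K, classInner (ζ.1 : nz K → ℂ) F * (ζ.1 : nz K → ℂ) k := by
    rw [sum_rel_eq (fun η : IrrCharacter (nz K) => (c η : ℂ) * (η : nz K → ℂ) k)]
    refine Finset.sum_congr rfl fun ζ _ => ?_
    rw [hc']
  rw [h3, h4, h5]
  ring

end chars

end Cfsg.Agent.Lib.H4.A6
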