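import Cfsg.Agent.Lib.H4.A6C1

/-!
# S3341 farm-out, task C2 (helper4): the integer data of the exceptional characters together with
the VALUES of the irreducible characters on `K ∖ 1`
(`K` abelian T.I. with Frobenius normalizer, at least two relevant characters).
-/

set_option autoImplicit false
set_option linter.unusedSectionVars false

namespace Cfsg.Agent.Lib.H4.A6

open Cfsg Cfsg.Agent.Lib.L0 Cfsg.Agent.Lib.L0.FrobTI Cfsg.Agent.Lib.H8 Cfsg.Agent.Lib.H4.Feit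
open scoped ComplexConjugate Classical

section chars

variable {G : Type*} [Group G] [Fintype G] {K : Subgroup G} [Fintype (nz K)]

/-- the value of an irreducible character of `G` on `K ∖ 1` -/
theorem value_formula (h : FrobTI K) (hab : ∀ a ∈ K, ∀ b ∈ K, a * b = b * a) (D : Exc K)
    [Fintype (RelT K)] (ζ₀ : RelT K) (ψ : IrrCharacter G) (k : nz K) (hk : (k : G) ∈ K)
    (hk1 : k ≠ 1) :
    (ψ : G → ℂ) k = classInner (D.Psi ζ₀) (ψ : G → ℂ) +
      D.ε * ∑ ζ : RelT K, (if D.f ζ = ψ then (ζ.1 : nz K → ℂ) k else 0) := by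
  have : Fintype (IrrCharacter (nz K)) := Fintype.ofFinite _
  have hFchar : IsCharacter (nz K) (fun x : nz K => (ψ : G → ℂ) x) :=
    isCharacter_restrict _ (isCharacter_of_irr ψ.2)
  obtain ⟨p, hp⟩ := classInner_char_char_nat (piFun_isCharacter K) hFchar
  have hm : ∀ ξ : RelT K, classInner (ξ.1 : nz K → ℂ) (fun x : nz K => (ψ : G → ℂ) x) =
      ((p : ℂ) - classInner (D.Psi ζ₀) (ψ : G → ℂ)) + D.ε * (if D.f ξ = ψ then 1 else 0) := by
    intro ξ
    have := D.Psi_inner_irr ζ₀ ξ ψ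
    rw [hp] at this
    linear_combination this
  have hval := char_expand_at h _ hFchar k hk
  change (ψ : G → ℂ) k = _ at hval
  rw [hp, Finset.sum_congr rfl fun ξ _ => by rw [hm ξ]] at hval
  have hsum := sum_rel_apply h hab k hk hk1
  have h1 : ∑ ξ : RelT K, (((p : ℂ) - classInner (D.Psi ζ₀) (ψ : G → ℂ)) +
      D.ε * (if D.f ξ = ψ then 1 else 0)) * (ξ.1 : nz K → ℂ) k =
      ((p : ℂ) - classInner (D.Psi ζ₀) (ψ : G → ℂ)) * ∑ ξ : RelT K, (ξ.1 : nz K → ℂ) k +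
      D.ε * ∑ ξ : RelT K, (if D.f ξ = ψ then (ξ.1 : nz K → ℂ) k else 0) := by
    rw [Finset.mul_sum, Finset.mul_sum, ← Finset.sum_add_distrib]
    refine Finset.sum_congr rfl fun ξ _ => ?_
    split_ifs <;> ring
  rw [hval, h1, hsum]
  ring

/-- TASK C2 (main): `H24.BrP.exists_data` + the VALUES of the irreducible characters on
`K ∖ 1`. -/
theorem exists_values (h : FrobTI K) (hab : ∀ a ∈ K, ∀ b ∈ K, a * b = b * a)
    (ht : 2 ≤ Nat.card (RelT K)) [Fintype (IrrCharacter G)] [Fintype (RelT K)] :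
    ∃ (εz c : ℤ) (x : ℕ) (b : IrrCharacter G → ℤ) (d : IrrCharacter G → ℕ)
      (f : RelT K → IrrCharacter G),
      (εz = 1 ∨ εz = -1) ∧ Function.Injective f ∧
      (∀ ψ : IrrCharacter G, (ψ : G → ℂ) 1 = d ψ) ∧
      (∀ ζ : RelT K, b (f ζ) = c ∧ d (f ζ) = x) ∧
      (∀ ψ : IrrCharacter G, (ψ : G → ℂ) = 1 → (∀ ζ : RelT K, f ζ ≠ ψ) ∧ b ψ = 1) ∧
      (∑ ψ, b ψ ^ 2 = ((K.subgroupOf (nz K)).index : ℤ) + 2 * εz * c) ∧
      (∑ ψ, b ψ * (d ψ : ℤ) = εz * x) ∧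
      (∀ ψ : IrrCharacter G, (∀ ζ : RelT K, f ζ ≠ ψ) →
        ∃ m : ℤ, (d ψ : ℤ) = b ψ + m * (Nat.card K : ℤ)) ∧
      (∃ m : ℤ, (x : ℤ) = c + εz * ((K.subgroupOf (nz K)).index : ℤ) +
        m * (Nat.card K : ℤ)) ∧
      (∀ ψ : IrrCharacter G, (∀ ζ : RelT K, f ζ ≠ ψ) → ∀ k ∈ K, k ≠ 1 →
        (ψ : G → ℂ) k = (b ψ : ℂ)) ∧
      (∀ ζ : RelT K, ∀ k : nz K, (k : G) ∈ K → k ≠ 1 →
        (f ζ : G → ℂ) k = (c : ℂ) + (εz : ℂ) * (ζ.1 : nz K → ℂ) k) := by
  obtain ⟨D⟩ := exc_nonempty h hab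
  have hne : Nonempty (RelT K) := by
    rw [← Finite.card_pos_iff]
    omega
  obtain ⟨ζ₀⟩ := hne
  have hgen := D.Psi_genChar ζ₀
  choose b hb using fun ψ : IrrCharacter G => genChar_classInner_irr_int hgen ψ.2
  choose d hdpos hd using fun ψ : IrrCharacter G => Cfsg.Agent.Lib.H24.irr_one_eq ψ
  obtain ⟨εz, hεz, hεzc⟩ := D.exists_epsZ
  have hK := card_K_eq h hab
  rw [Nat.card_eq_fintype_card (α := RelT K)] at hK
  have hc : classInner (D.Psi ζ₀) (D.f ζ₀ : G → ℂ) = (b (D.f ζ₀) : ℤ) := hb (D.f ζ₀)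
  have hbf : ∀ ζ : RelT K, b (D.f ζ) = b (D.f ζ₀) := by
    intro ζ
    have := hb (D.f ζ)
    rw [D.Psi_f h hab ζ₀ ζ, hc] at this
    exact_mod_cast this.symm
  -- the congruences
  have hcong : ∀ ψ : IrrCharacter G, ∃ m : ℤ, (d ψ : ℤ) = b ψ + m * (Nat.card K : ℤ) +
      εz * ((K.subgroupOf (nz K)).index : ℤ) *
        ((Finset.univ.filter (fun ζ : RelT K => D.f ζ = ψ)).card : ℤ) := by
    intro ψ
    have hFchar : IsCharacter (nz K) (fun x : nz K => (ψ : G → ℂ) x) :=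
      isCharacter_restrict _ (isCharacter_of_irr ψ.2)
    obtain ⟨p, hp⟩ := classInner_char_char_nat (piFun_isCharacter K) hFchar
    have hdf := Cfsg.Agent.Lib.H24.BrP.degree_formula h hab D ζ₀ ψ p hp
    rw [hd, hb, ← hεzc] at hdf
    refine ⟨(p : ℤ) - b ψ, ?_⟩
    have h2 : ((d ψ : ℤ) : ℂ) = (((b ψ + ((p : ℤ) - b ψ) * (Nat.card K : ℤ) +
      εz * ((K.subgroupOf (nz K)).index : ℤ) *
        ((Finset.univ.filter (fun ζ : RelT K => D.f ζ = ψ)).card : ℤ) : ℤ)) : ℂ) := by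
      push_cast
      rw [hdf, ← hK]
      push_cast
      ring
    exact_mod_cast h2
  refine ⟨εz, b (D.f ζ₀), d (D.f ζ₀), b, d, D.f, hεz, D.hinj, hd, ?_, ?_, ?_, ?_, ?_, ?_, ?_, ?_⟩
  · intro ζ
    constructor
    · exact hbf ζ
    · have := D.f_one h hab ζ ζ₀
      rw [hd, hd] at this
      exact_mod_cast this
  · intro ψ hψ
    constructor
    · intro ζ hζ
      rw [← hζ] at hψ
      exact D.f_ne_one ht ζ hψ
    · have := D.Psi_one ht ζ₀
      rw [← hψ, hb] at this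
      exact_mod_cast this
  · have hnorm := D.Psi_norm h hab ζ₀ (b (D.f ζ₀)) hc
    rw [classInner_self_eq_sum _ (isClassFunction_of_isGeneralizedCharacter hgen)] at hnorm
    have : ((∑ ψ : IrrCharacter G, b ψ ^ 2 : ℤ) : ℂ) =
        ((((K.subgroupOf (nz K)).index : ℤ) + 2 * εz * b (D.f ζ₀) : ℤ) : ℂ) := by
      push_cast
      rw [hεzc, ← hnorm]
      refine Finset.sum_congr rfl fun ψ _ => ?_
      rw [hb, map_intCast]
      ring
    exact_mod_cast this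
  · have hexp := Cfsg.Agent.Lib.H24.classFunction_expansion (D.Psi ζ₀)
      (isClassFunction_of_isGeneralizedCharacter hgen)
    have h1 := congrFun hexp 1
    rw [Cfsg.Agent.Lib.H24.BrP.Psi_apply_one h hab D ζ₀, Finset.sum_apply] at h1
    have : ((∑ ψ : IrrCharacter G, b ψ * (d ψ : ℤ) : ℤ) : ℂ) =
        ((εz * (d (D.f ζ₀) : ℤ) : ℤ) : ℂ) := by
      push_cast
      rw [hεzc, ← hd, h1]
      refine Finset.sum_congr rfl fun ψ _ => ?_
      rw [Pi.smul_apply, smul_eq_mul, hb, hd]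
    exact_mod_cast this
  · intro ψ hψ
    obtain ⟨m, hm⟩ := hcong ψ
    refine ⟨m, ?_⟩
    have hempty : Finset.univ.filter (fun ζ : RelT K => D.f ζ = ψ) = ∅ := by
      rw [Finset.filter_eq_empty_iff]
      intro ζ _ hζ
      exact hψ ζ hζ
    rw [hempty] at hm
    simpa using hm
  · obtain ⟨m, hm⟩ := hcong (D.f ζ₀)
    refine ⟨m, ?_⟩
    have hsing : Finset.univ.filter (fun ζ : RelT K => D.f ζ = D.f ζ₀) = {ζ₀} := by
      ext ζ
      simp only [Finset.mem_filter, Finset.mem_univ, true_and, Finset.mem_singleton]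
      exact ⟨fun h => D.hinj h, fun h => by rw [h]⟩
    rw [hsing] at hm
    rw [hm]
    simp
    ring
  · intro ψ hψ k hk hk1
    have hkn : k ∈ nz K := Subgroup.le_normalizer hk
    have hk1' : (⟨k, hkn⟩ : nz K) ≠ 1 := fun h1 => hk1 (congrArg Subtype.val h1)
    have hv := value_formula h hab D ζ₀ ψ ⟨k, hkn⟩ hk hk1'
    rw [hb] at hv
    have hz : ∑ ζ : RelT K, (if D.f ζ = ψ then (ζ.1 : nz K → ℂ) ⟨k, hkn⟩ else 0) = 0 := by
      apply Finset.sum_eq_zero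
      intro ζ _
      rw [if_neg (hψ ζ)]
    rw [hz, mul_zero, add_zero] at hv
    exact hv
  · intro ζ k hk hk1
    have hv := value_formula h hab D ζ₀ (D.f ζ) k hk hk1
    rw [hb, hbf ζ] at hv
    have hz : ∑ ζ' : RelT K, (if D.f ζ' = D.f ζ then (ζ'.1 : nz K → ℂ) k else 0) =
        (ζ.1 : nz K → ℂ) k := by
      rw [Finset.sum_eq_single ζ]
      · rw [if_pos rfl]
      · intro ζ' _ hne
        rw [if_neg (fun h => hne (D.hinj h))]
      · intro hnot
        exact absurd (Finset.mem_univ ζ) hnot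
    rw [hz, ← hεzc] at hv
    exact hv

end chars

end Cfsg.Agent.Lib.H4.A6
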