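import Mathlib
import Cfsg.Prelude.Def_Transfer

/-!
# S1951 glue (helper4): the elements of order `p` form one conjugacy class

`P` a nontrivial elementary abelian Sylow `p`-subgroup of the finite group `G` whose non-identity
elements are all conjugate in `G` (the row's binders `hPe`, `hconj`).  Then for `a ∈ P`, `a ≠ 1`:
`orderOf a = p`, and `orderOf y = p ↔ IsConj a y` for every `y`.
-/

set_option autoImplicit false
open Cfsg

namespace Cfsg.Agent.Lib.H4.AEORD

universe u

variable {G : Type u} [Group G] [Finite G] {p : ℕ} [Fact p.Prime] (P : Sylow p G)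

omit [Finite G] in
theorem orderOf_eq_of_mem (hPe : IsElementaryAbelian p (P : Subgroup G)) {a : G}
    (ha : a ∈ (P : Subgroup G)) (ha1 : a ≠ 1) : orderOf a = p := by
  have hp : p.Prime := Fact.out
  have h1 : orderOf a ∣ p := orderOf_dvd_of_pow_eq_one (hPe.2 a ha)
  rcases (Nat.dvd_prime hp).1 h1 with h | h
  · exact absurd (orderOf_eq_one_iff.1 h) ha1
  · exact h

/-- every element of order `p` has a conjugate in `P` -/
theorem exists_conj_mem_of_orderOf_eq {y : G} (hy : orderOf y = p) :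
    ∃ g : G, g * y * g⁻¹ ∈ (P : Subgroup G) := by
  have hp : p.Prime := Fact.out
  have hQ : IsPGroup p (Subgroup.zpowers y) := by
    apply IsPGroup.of_card (n := 1)
    rw [Nat.card_zpowers, hy, pow_one]
  obtain ⟨P', hP'⟩ := hQ.exists_le_sylow
  obtain ⟨g, hg⟩ := MulAction.exists_smul_eq G P' P
  refine ⟨g, ?_⟩
  have hy' : y ∈ (P' : Subgroup G) := hP' (Subgroup.mem_zpowers y)
  have : g * y * g⁻¹ ∈ ((g • P' : Sylow p G) : Subgroup G) := by
    rw [Sylow.smul_def, Sylow.pointwise_smul_def, Subgroup.mem_smul_pointwise_iff_exists]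
    exact ⟨y, hy', by simp [MulAut.smul_def]⟩
  rwa [hg] at this

theorem orderOf_eq_iff_isConj (hPe : IsElementaryAbelian p (P : Subgroup G))
    (hconj : ∀ x ∈ (P : Subgroup G), ∀ y ∈ (P : Subgroup G), x ≠ 1 → y ≠ 1 →
      ∃ g : G, g * x * g⁻¹ = y)
    {a : G} (ha : a ∈ (P : Subgroup G)) (ha1 : a ≠ 1) (y : G) :
    orderOf y = p ↔ IsConj a y := by
  have hp : p.Prime := Fact.out
  have hoa := orderOf_eq_of_mem P hPe ha ha1
  constructor
  · intro hy
    obtain ⟨g, hg⟩ := exists_conj_mem_of_orderOf_eq P hy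
    have hne : g * y * g⁻¹ ≠ 1 := by
      intro h
      have : y = 1 := by
        have := congrArg (fun z => g⁻¹ * z * g) h
        simpa [mul_assoc] using this
      rw [this, orderOf_one] at hy
      exact hp.one_lt.ne hy
    obtain ⟨k, hk⟩ := hconj a ha _ hg ha1 hne
    -- k a k⁻¹ = g y g⁻¹  ⇒  (g⁻¹ k) a (g⁻¹ k)⁻¹ = y
    rw [isConj_iff]
    refine ⟨g⁻¹ * k, ?_⟩
    have : g⁻¹ * (k * a * k⁻¹) * g = y := by rw [hk]; group
    rw [← this]; group
  · intro h
    rw [isConj_iff] at h
    obtain ⟨c, rfl⟩ := h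
    rw [← hoa, ← MulAut.conj_apply]
    exact MulEquiv.orderOf_eq (MulAut.conj c) a

end Cfsg.Agent.Lib.H4.AEORD
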