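import Mathlib

set_option autoImplicit false

namespace Cfsg.Agent.Lib.H4.AG

open Equiv Equiv.Perm Subgroup

/-- the six normalised value tuples. -/
theorem h7_tuples : ∀ a b c e : Fin 7,
    (∀ i : Fin 7, (![0, 1, 3, a, b, c, e] : Fin 7 → Fin 7)^[5] i = i) →
    (a, b, c, e) ∈ ([(4, 5, 6, 2), (4, 6, 2, 5), (5, 6, 4, 2), (5, 2, 6, 4), (6, 5, 2, 4),
      (6, 2, 4, 5)] : List (Fin 7 × Fin 7 × Fin 7 × Fin 7)) := by
  decide +kernel

/-- a subgroup of `Perm (Fin 7)` containing `finRotate 7` and an element with exactly three moved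
points contains `A_7`. -/
theorem h7_finish (G : Subgroup (Perm (Fin 7))) (hy : finRotate 7 ∈ G) (w : Perm (Fin 7))
    (hw : w ∈ G) (h3 : w.support.card = 3) : alternatingGroup (Fin 7) ≤ G := by
  have hcyc : (finRotate 7).IsCycle := isCycle_finRotate (n := 5)
  have hsupp : (finRotate 7).support = Finset.univ := support_finRotate (n := 5)
  have htr : MulAction.IsPretransitive G (Fin 7) := by
    constructor
    intro u v
    have hu : (finRotate 7) u ≠ u := mem_support.mp (by rw [hsupp]; exact Finset.mem_univ u)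
    have hv : (finRotate 7) v ≠ v := mem_support.mp (by rw [hsupp]; exact Finset.mem_univ v)
    obtain ⟨i, hi⟩ := hcyc.sameCycle hu hv
    exact ⟨⟨finRotate 7 ^ i, zpow_mem hy i⟩, hi⟩
  have hprim : MulAction.IsPreprimitive G (Fin 7) := by
    apply MulAction.IsPreprimitive.of_prime_card
    rw [Nat.card_eq_fintype_card, Fintype.card_fin]
    norm_num
  exact alternatingGroup_le_of_isPreprimitive_of_isThreeCycle_mem hprim
    (card_support_eq_three_iff.mp h3) hw

theorem h7_eq_of_vals (x z : Perm (Fin 7)) (h0 : x 0 = z 0) (h1 : x 1 = z 1) (h2 : x 2 = z 2)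
    (h3 : x 3 = z 3) (h4 : x 4 = z 4) (h5 : x 5 = z 5) (h6 : x 6 = z 6) : x = z := by
  apply Equiv.ext
  intro i
  fin_cases i
  · exact h0
  · exact h1
  · exact h2
  · exact h3
  · exact h4
  · exact h5
  · exact h6

/-- (H7) the 6 normalised 5-cycles in degree 7. -/
theorem normalized7 : ∀ x : Perm (Fin 7), x 0 = 0 → x 1 = 1 → x 2 = 3 → x.cycleType = {5} →
    alternatingGroup (Fin 7) ≤ closure ({x, finRotate 7} : Set (Perm (Fin 7))) := by
  intro x h0 h1 h2 hct
  have h5 : x ^ 5 = 1 := by
    have : orderOf x = 5 := by rw [← lcm_cycleType, hct]; simp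
    rw [← this]; exact pow_orderOf_eq_one x
  have hfun : ∀ i : Fin 7, ![0, 1, 3, x 3, x 4, x 5, x 6] i = x i := by
    intro i
    fin_cases i
    · exact h0.symm
    · exact h1.symm
    · exact h2.symm
    · rfl
    · rfl
    · rfl
    · rfl
  have hit : ∀ i : Fin 7, (![0, 1, 3, x 3, x 4, x 5, x 6] : Fin 7 → Fin 7)^[5] i = i := by
    have hfe : (![0, 1, 3, x 3, x 4, x 5, x 6] : Fin 7 → Fin 7) = ⇑x := funext hfun
    intro i
    rw [hfe, Equiv.Perm.iterate_eq_pow, h5]
    rfl
  have hmem := h7_tuples _ _ _ _ hit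
  have hxG : x ∈ closure ({x, finRotate 7} : Set (Perm (Fin 7))) := subset_closure (by simp)
  have hyG : finRotate 7 ∈ closure ({x, finRotate 7} : Set (Perm (Fin 7))) :=
    subset_closure (by simp)
  have hword : ∀ a b k : ℕ,
      (x ^ a * finRotate 7 ^ b) ^ k ∈ closure ({x, finRotate 7} : Set (Perm (Fin 7))) :=
    fun a b k => pow_mem (mul_mem (pow_mem hxG a) (pow_mem hyG b)) k
  simp only [List.mem_cons, Prod.mk.injEq, List.not_mem_nil, or_false] at hmem
  rcases hmem with ⟨h3, h4, h5', h6⟩ | ⟨h3, h4, h5', h6⟩ | ⟨h3, h4, h5', h6⟩ | ⟨h3, h4, h5', h6⟩ |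
    ⟨h3, h4, h5', h6⟩ | ⟨h3, h4, h5', h6⟩
  · have hx : x = List.formPerm [2, 3, 4, 5, 6] :=
      h7_eq_of_vals _ _ (h0.trans (by decide)) (h1.trans (by decide)) (h2.trans (by decide))
        (h3.trans (by decide)) (h4.trans (by decide)) (h5'.trans (by decide))
        (h6.trans (by decide))
    refine h7_finish _ hyG _ (hword 1 6 1) ?_
    rw [hx]
    decide +kernel
  · have hx : x = List.formPerm [2, 3, 4, 6, 5] :=
      h7_eq_of_vals _ _ (h0.trans (by decide)) (h1.trans (by decide)) (h2.trans (by decide))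
        (h3.trans (by decide)) (h4.trans (by decide)) (h5'.trans (by decide))
        (h6.trans (by decide))
    refine h7_finish _ hyG _ (hword 2 3 2) ?_
    rw [hx]
    decide +kernel
  · have hx : x = List.formPerm [2, 3, 5, 4, 6] :=
      h7_eq_of_vals _ _ (h0.trans (by decide)) (h1.trans (by decide)) (h2.trans (by decide))
        (h3.trans (by decide)) (h4.trans (by decide)) (h5'.trans (by decide))
        (h6.trans (by decide))
    refine h7_finish _ hyG _ (hword 2 5 2) ?_
    rw [hx]
    decide +kernel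
  · have hx : x = List.formPerm [2, 3, 5, 6, 4] :=
      h7_eq_of_vals _ _ (h0.trans (by decide)) (h1.trans (by decide)) (h2.trans (by decide))
        (h3.trans (by decide)) (h4.trans (by decide)) (h5'.trans (by decide))
        (h6.trans (by decide))
    refine h7_finish _ hyG _ (hword 2 2 2) ?_
    rw [hx]
    decide +kernel
  · have hx : x = List.formPerm [2, 3, 6, 4, 5] :=
      h7_eq_of_vals _ _ (h0.trans (by decide)) (h1.trans (by decide)) (h2.trans (by decide))
        (h3.trans (by decide)) (h4.trans (by decide)) (h5'.trans (by decide))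
        (h6.trans (by decide))
    refine h7_finish _ hyG _ (hword 1 5 2) ?_
    rw [hx]
    decide +kernel
  · have hx : x = List.formPerm [2, 3, 6, 5, 4] :=
      h7_eq_of_vals _ _ (h0.trans (by decide)) (h1.trans (by decide)) (h2.trans (by decide))
        (h3.trans (by decide)) (h4.trans (by decide)) (h5'.trans (by decide))
        (h6.trans (by decide))
    refine h7_finish _ hyG _ (hword 2 4 2) ?_
    rw [hx]
    decide +kernel

end Cfsg.Agent.Lib.H4.AG
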