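import Mathlib
import Cfsg.Prelude.Def_Blocks
import Cfsg.Prelude.Def_CharExt
import Cfsg.Agent.Lib.H21.AD.Defs
import Cfsg.Agent.Lib.H28.NT.Defs
import Cfsg.Agent.Lib.H21.AP.Defs
import Cfsg.Agent.Lib.H21.AP.Copies
import Cfsg.Agent.Lib.H8.APGOODC

/-!
# S4551 pieces 4 (GCUNIQ) `goodC_unique` and 5 (GCEX) `exists_goodC` (helper4)

Exact signatures of `tools/blueprints/S4551_sigs.lean`; wrappers over helper8's landed
hypothesis forms `H8.AP.goodC_uniq`, `H8.AP.goodC_ex` and helper21's `keyF'`, `exists_goodA'`,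
`goodA_zpowers'`.
-/

set_option autoImplicit false
open Cfsg.Agent.Lib.H21.AD Cfsg.Agent.Lib.H28.NT Cfsg.Agent.Lib.H21.AP

namespace Cfsg.Agent.Lib.H4.AP

variable {G : Type*} [Group G] [Finite G] {p : ℕ} {M : Ideal Cfsg.AlgInt} {N Q : Subgroup G} {θ : G → ℂ}

/-- (GCUNIQ) -/
theorem goodC_unique [N.Normal] (h : HypA p M N Q θ) (hidx : ¬ p ∣ N.index) (H : Subgroup G) (hNH : N ≤ H)
    (f₁ f₂ : G → ℂ) (h₁ : GoodC p N θ H f₁) (h₂ : GoodC p N θ H f₂) : ∀ g ∈ H, f₁ g = f₂ g :=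
  Cfsg.Agent.Lib.H8.AP.goodC_uniq h.hirr hidx
    (fun J₁ J₂ hN1 h12 hp2 f₁ f₂ h₁ h₂ => keyF' h J₁ J₂ hN1 h12 hp2 f₁ f₂ h₁ h₂)
    H f₁ f₂ hNH h₁ h₂

/-- (GCEX) -/
theorem exists_goodC [N.Normal] (h : HypA p M N Q θ) (hidx : ¬ p ∣ N.index) (E : Subgroup G)
    (hE : Group.IsNilpotent E) : ∃ f : G → ℂ, GoodC p N θ (E ⊔ N) f := by
  obtain ⟨f, hf⟩ := Cfsg.Agent.Lib.H8.AP.goodC_ex (p := p) (N := N) (θ := θ) hidx
    (fun J hNJ hpJ hsol => exists_goodA' h J hNJ hpJ hsol)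
    (fun J hNJ hpJ f hf c hc => goodA_zpowers' h J hNJ hpJ f hf c hc) E hE
  exact ⟨f, hf⟩

end Cfsg.Agent.Lib.H4.AP
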