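import Mathlib
import Cfsg.Agent.Lib.H29.Orth
import Cfsg.Agent.Lib.H13.OES4

set_option autoImplicit false
set_option maxHeartbeats 800000
set_option linter.unusedSectionVars false
set_option linter.unusedVariables false

/-! # EO2-T: an isometric orthogonal decomposition with `4 ∣ t`, or `t` even and (`k` even or `-1` a
square), or with blocks of plus type, forces plus type -/

namespace Cfsg.Agent.Lib.H4.EOP2

open Module
open Cfsg.Agent.Lib.H24.Elus
open Cfsg.Agent.Lib.H13
open Cfsg.Agent.Lib.H13.OES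
open Cfsg.Agent.Lib.H13.OSS
open Cfsg.Agent.Lib.H10.OrtNd (PB TS PlusOn PB_apply PB_symm PB_self TS_mono)

section images

variable {F : Type*} [Field F] [Fintype F] {V : Type*} [AddCommGroup V] [Module F V]
  [FiniteDimensional F V] {W : Type*} [AddCommGroup W] [Module F W] [FiniteDimensional F W]

/-- two orthogonal isometric images of an even-dimensional space span a space of plus type -/
theorem plus_sup_of_images_even (Q : QuadraticForm F V) (q : QuadraticForm F W) (f f' : W →ₗ[F] V)
    (hf : ∀ w, Q (f w) = q w) (hf' : ∀ w, Q (f' w) = q w) (hinj : Function.Injective f)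
    (hinj' : Function.Injective f') (hnd : NDon (PB Q) (LinearMap.range f))
    (hnd' : NDon (PB Q) (LinearMap.range f'))
    (horth : ∀ u ∈ LinearMap.range f, ∀ v ∈ LinearMap.range f', PB Q u v = 0)
    (hev : Even (finrank F W)) : PlusOn Q (LinearMap.range f ⊔ LinearMap.range f') := by
  have h1 := PlusOn_range_iff Q q f hf hinj
  have h2 := PlusOn_range_iff Q q f' hf' hinj'
  have hr : finrank F (LinearMap.range f) = finrank F W := LinearMap.finrank_range_of_inj hinj
  have hr' : finrank F (LinearMap.range f') = finrank F W := LinearMap.finrank_range_of_inj hinj'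
  by_cases hp : PlusOn q ⊤
  · exact PlusOn_sup Q _ _ hnd horth (h1.2 hp) (h2.2 hp)
  · exact PlusOn_sup_of_not Q _ _ _ rfl hnd hnd' horth (by rw [hr]; exact hev)
      (by rw [hr']; exact hev) (fun h => hp (h1.1 h)) (fun h => hp (h2.1 h))

/-- two orthogonal isometric images span a space of plus type when `-1` is a square -/
theorem plus_sup_of_images_sq (Q : QuadraticForm F V) (q : QuadraticForm F W) (f f' : W →ₗ[F] V)
    (hf : ∀ w, Q (f w) = q w) (hf' : ∀ w, Q (f' w) = q w) (hinj : Function.Injective f)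
    (hinj' : Function.Injective f') (hnd : NDon (PB Q) (LinearMap.range f))
    (horth : ∀ u ∈ LinearMap.range f, ∀ v ∈ LinearMap.range f', PB Q u v = 0)
    (c : F) (hc : c * c = -1) : PlusOn Q (LinearMap.range f ⊔ LinearMap.range f') := by
  have hrefl := PB_refl Q
  have hinf := inf_eq_bot_of_orthR (PB Q) hrefl _ _ hnd horth
  have hr : finrank F (LinearMap.range f) = finrank F W := LinearMap.finrank_range_of_inj hinj
  have hr' : finrank F (LinearMap.range f') = finrank F W := LinearMap.finrank_range_of_inj hinj'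
  set φ : W →ₗ[F] V := f + c • f' with hφ
  have hφapp : ∀ w, φ w = f w + c • f' w := fun w => rfl
  have hφinj : Function.Injective φ := by
    rw [injective_iff_map_eq_zero]
    intro w hw
    rw [hφapp] at hw
    have h1 : f w ∈ LinearMap.range f ⊓ LinearMap.range f' := by
      refine ⟨⟨w, rfl⟩, ?_⟩
      have : f w = f' (-(c • w)) := by
        rw [map_neg, map_smul]
        exact eq_neg_of_add_eq_zero_left hw
      rw [this]
      exact ⟨_, rfl⟩
    rw [hinf, Submodule.mem_bot] at h1
    exact (injective_iff_map_eq_zero f).1 hinj w h1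
  refine ⟨LinearMap.range φ, ?_, ?_, ?_⟩
  · rintro _ ⟨w, rfl⟩
    rw [hφapp]
    exact Submodule.add_mem_sup ⟨w, rfl⟩ ((LinearMap.range f').smul_mem c ⟨w, rfl⟩)
  · rintro _ ⟨w, rfl⟩
    rw [hφapp, Q_add, QuadraticMap.map_smul, hf, hf', map_smul, smul_eq_mul,
      horth (f w) ⟨w, rfl⟩ (f' w) ⟨w, rfl⟩, smul_eq_mul]
    linear_combination (q w) * hc
  · have h := Submodule.finrank_sup_add_finrank_inf_eq (LinearMap.range f) (LinearMap.range f')
    rw [hinf, finrank_bot, add_zero] at h
    rw [h, hr, hr', LinearMap.finrank_range_of_inj hφinj]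
    ring

end images

section family

variable {F : Type*} [Field F] [Fintype F] {V : Type*} [AddCommGroup V] [Module F V]
  [FiniteDimensional F V] {κ : Type*} [DecidableEq κ]

/-- the span of the blocks with index in `S` -/
def ES (D : κ → Submodule F V) (S : Finset κ) : Submodule F V := ⨆ i ∈ S, D i

theorem ES_empty (D : κ → Submodule F V) : ES D ∅ = ⊥ := by
  unfold ES; simp

theorem ES_insert (D : κ → Submodule F V) (a : κ) (S : Finset κ) :
    ES D (insert a S) = D a ⊔ ES D S := by
  unfold ES; rw [Finset.iSup_insert]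

theorem ES_singleton (D : κ → Submodule F V) (a : κ) : ES D {a} = D a := by
  unfold ES; simp

theorem ES_union (D : κ → Submodule F V) (S T : Finset κ) :
    ES D (S ∪ T) = ES D S ⊔ ES D T := by
  unfold ES; rw [Finset.iSup_union]

variable (Q : QuadraticForm F V) (D : κ → Submodule F V)

theorem orth_ES_right (horth : ∀ i j, i ≠ j → ∀ u ∈ D i, ∀ v ∈ D j, PB Q u v = 0)
    (X : Submodule F V) (S : Finset κ) (h : ∀ i ∈ S, ∀ u ∈ X, ∀ v ∈ D i, PB Q u v = 0) :
    ∀ u ∈ X, ∀ v ∈ ES D S, PB Q u v = 0 := by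
  intro u hu
  have hle : ES D S ≤ LinearMap.ker (PB Q u) := by
    unfold ES
    refine iSup₂_le fun i hi v hv => ?_
    rw [LinearMap.mem_ker]
    exact h i hi u hu v hv
  intro v hv
  have := hle hv
  rwa [LinearMap.mem_ker] at this

theorem orth_ES (horth : ∀ i j, i ≠ j → ∀ u ∈ D i, ∀ v ∈ D j, PB Q u v = 0)
    (S T : Finset κ) (hST : Disjoint S T) : ∀ u ∈ ES D S, ∀ v ∈ ES D T, PB Q u v = 0 := by
  apply orth_ES_right Q D horth
  intro j hj u hu v hv
  rw [PB_symm]
  revert u
  apply orth_ES_right Q D horth (D j) S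
  · intro i hi u hu v hv
    exact horth j i (fun h => Finset.disjoint_left.1 hST hi (h ▸ hj)) u hu v hv
  · exact hv

theorem NDon_ES (hnd : ∀ i, NDon (PB Q) (D i))
    (horth : ∀ i j, i ≠ j → ∀ u ∈ D i, ∀ v ∈ D j, PB Q u v = 0) (S : Finset κ) :
    NDon (PB Q) (ES D S) := by
  induction S using Finset.induction_on with
  | empty =>
    rw [ES_empty]
    intro u hu _
    exact (Submodule.mem_bot F).1 hu
  | insert a S ha ih =>
    rw [ES_insert]
    refine NDon_supR (PB Q) (PB_refl Q) _ _ (hnd a) ih ?_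
    have := orth_ES Q D horth {a} S (Finset.disjoint_singleton_left.2 ha)
    rwa [ES_singleton] at this

theorem finrank_ES (hnd : ∀ i, NDon (PB Q) (D i))
    (horth : ∀ i j, i ≠ j → ∀ u ∈ D i, ∀ v ∈ D j, PB Q u v = 0) (k : ℕ)
    (hk : ∀ i, finrank F (D i) = k) (S : Finset κ) : finrank F (ES D S) = S.card * k := by
  induction S using Finset.induction_on with
  | empty => rw [ES_empty, finrank_bot, Finset.card_empty, zero_mul]
  | insert a S ha ih =>
    rw [ES_insert, Finset.card_insert_of_notMem ha]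
    have h := Submodule.finrank_sup_add_finrank_inf_eq (D a) (ES D S)
    have horth' := orth_ES Q D horth {a} S (Finset.disjoint_singleton_left.2 ha)
    rw [ES_singleton] at horth'
    rw [inf_eq_bot_of_orthR (PB Q) (PB_refl Q) _ _ (hnd a) horth', finrank_bot, add_zero] at h
    rw [h, hk, ih]
    ring

theorem plus_ES_union (hnd : ∀ i, NDon (PB Q) (D i))
    (horth : ∀ i j, i ≠ j → ∀ u ∈ D i, ∀ v ∈ D j, PB Q u v = 0) (S T : Finset κ)
    (hST : Disjoint S T) (hS : PlusOn Q (ES D S)) (hT : PlusOn Q (ES D T)) :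
    PlusOn Q (ES D (S ∪ T)) := by
  rw [ES_union]
  exact PlusOn_sup Q _ _ (NDon_ES Q D hnd horth S) (orth_ES Q D horth S T hST) hS hT

/-- gluing groups of `g` blocks -/
theorem plus_ES_of_groups (hnd : ∀ i, NDon (PB Q) (D i))
    (horth : ∀ i j, i ≠ j → ∀ u ∈ D i, ∀ v ∈ D j, PB Q u v = 0) (g : ℕ) (hg : 0 < g)
    (hG : ∀ G : Finset κ, G.card = g → PlusOn Q (ES D G)) :
    ∀ (m : ℕ) (S : Finset κ), S.card = m * g → PlusOn Q (ES D S) := by
  intro m
  induction m with
  | zero =>
    intro S hS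
    rw [zero_mul, Finset.card_eq_zero] at hS
    rw [hS, ES_empty]
    exact ⟨⊥, le_rfl, TS_bot Q, by rw [finrank_bot]⟩
  | succ m ih =>
    intro S hS
    obtain ⟨G, hGS, hGc⟩ := Finset.exists_subset_card_eq (s := S) (n := g) (by rw [hS]; nlinarith)
    have hS' : S = G ∪ (S \ G) := by
      rw [Finset.union_sdiff_of_subset hGS]
    have hc : (S \ G).card = m * g := by
      rw [Finset.card_sdiff_of_subset hGS, hS, hGc]
      rw [Nat.succ_mul, Nat.add_sub_cancel]
    rw [hS']
    exact plus_ES_union Q D hnd horth G (S \ G) Finset.disjoint_sdiff (hG G hGc) (ih _ hc)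

end family

section groups

variable {F : Type*} [Field F] [Fintype F] {V : Type*} [AddCommGroup V] [Module F V]
  [FiniteDimensional F V] {κ : Type*} [DecidableEq κ]

variable (Q : QuadraticForm F V) (D : κ → Submodule F V)

theorem plus_pair (hnd : ∀ i, NDon (PB Q) (D i))
    (horth : ∀ i j, i ≠ j → ∀ u ∈ D i, ∀ v ∈ D j, PB Q u v = 0)
    (hiso : ∀ i j, ∃ e : D i ≃ₗ[F] D j, ∀ w : D i, Q ((e w : D j) : V) = Q (w : V))
    (a b : κ) (hab : a ≠ b) (h : Even (finrank F (D a)) ∨ ∃ c : F, c * c = -1) :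
    PlusOn Q (D a ⊔ D b) := by
  obtain ⟨e, he⟩ := hiso a b
  have hrf : LinearMap.range (D a).subtype = D a := Submodule.range_subtype _
  have hrf' : LinearMap.range ((D b).subtype ∘ₗ e.toLinearMap) = D b := by
    rw [LinearMap.range_comp, LinearEquiv.range, Submodule.map_top, Submodule.range_subtype]
  have hinj : Function.Injective (D a).subtype := Submodule.injective_subtype _
  have hinj' : Function.Injective ((D b).subtype ∘ₗ e.toLinearMap) :=
    (Submodule.injective_subtype _).comp e.injective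
  have hf : ∀ w, Q ((D a).subtype w) = restrQ Q (D a) w := fun w => rfl
  have hf' : ∀ w, Q (((D b).subtype ∘ₗ e.toLinearMap) w) = restrQ Q (D a) w := fun w => he w
  have hnd1 : NDon (PB Q) (LinearMap.range (D a).subtype) := by rw [hrf]; exact hnd a
  have hnd2 : NDon (PB Q) (LinearMap.range ((D b).subtype ∘ₗ e.toLinearMap)) := by
    rw [hrf']; exact hnd b
  have horth' : ∀ u ∈ LinearMap.range (D a).subtype,
      ∀ v ∈ LinearMap.range ((D b).subtype ∘ₗ e.toLinearMap), PB Q u v = 0 := by
    rw [hrf, hrf']; exact horth a b hab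
  rcases h with h | ⟨c, hc⟩
  · have key := plus_sup_of_images_even Q (restrQ Q (D a)) _ _ hf hf' hinj hinj' hnd1 hnd2 horth' h
    rwa [hrf, hrf'] at key
  · have key := plus_sup_of_images_sq Q (restrQ Q (D a)) _ _ hf hf' hinj hinj' hnd1 horth' c hc
    rwa [hrf, hrf'] at key

theorem plus_quad (hnd : ∀ i, NDon (PB Q) (D i))
    (horth : ∀ i j, i ≠ j → ∀ u ∈ D i, ∀ v ∈ D j, PB Q u v = 0)
    (hiso : ∀ i j, ∃ e : D i ≃ₗ[F] D j, ∀ w : D i, Q ((e w : D j) : V) = Q (w : V))
    (k : ℕ) (hk : ∀ i, finrank F (D i) = k)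
    (a b c d : κ) (hab : a ≠ b) (hac : a ≠ c) (had : a ≠ d) (hbc : b ≠ c) (hbd : b ≠ d)
    (hcd : c ≠ d) : PlusOn Q ((D a ⊔ D b) ⊔ (D c ⊔ D d)) := by
  have hrefl := PB_refl Q
  obtain ⟨e, he⟩ := hiso a c
  obtain ⟨e', he'⟩ := hiso b d
  set f : (D a × D b) →ₗ[F] V := (D a).subtype.coprod (D b).subtype with hfdef
  set f' : (D a × D b) →ₗ[F] V :=
    ((D c).subtype ∘ₗ e.toLinearMap).coprod ((D d).subtype ∘ₗ e'.toLinearMap) with hf'def
  have hrc : LinearMap.range ((D c).subtype ∘ₗ e.toLinearMap) = D c := by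
    rw [LinearMap.range_comp, LinearEquiv.range, Submodule.map_top, Submodule.range_subtype]
  have hrd : LinearMap.range ((D d).subtype ∘ₗ e'.toLinearMap) = D d := by
    rw [LinearMap.range_comp, LinearEquiv.range, Submodule.map_top, Submodule.range_subtype]
  have hrf : LinearMap.range f = D a ⊔ D b := by
    rw [hfdef, LinearMap.range_coprod, Submodule.range_subtype, Submodule.range_subtype]
  have hrf' : LinearMap.range f' = D c ⊔ D d := by
    rw [hf'def, LinearMap.range_coprod, hrc, hrd]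
  have hinj : Function.Injective f := by
    rw [← LinearMap.ker_eq_bot, hfdef, LinearMap.ker_coprod_of_disjoint_range]
    · rw [LinearMap.ker_eq_bot.2 (Submodule.injective_subtype _),
        LinearMap.ker_eq_bot.2 (Submodule.injective_subtype _), Submodule.prod_bot]
    · rw [Submodule.range_subtype, Submodule.range_subtype, disjoint_iff]
      exact inf_eq_bot_of_orthR (PB Q) hrefl _ _ (hnd a) (horth a b hab)
  have hinj' : Function.Injective f' := by
    rw [← LinearMap.ker_eq_bot, hf'def, LinearMap.ker_coprod_of_disjoint_range]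
    · have h1 : Function.Injective ((D c).subtype ∘ₗ e.toLinearMap) :=
        (Submodule.injective_subtype (D c)).comp e.injective
      have h2 : Function.Injective ((D d).subtype ∘ₗ e'.toLinearMap) :=
        (Submodule.injective_subtype (D d)).comp e'.injective
      rw [LinearMap.ker_eq_bot.2 h1, LinearMap.ker_eq_bot.2 h2, Submodule.prod_bot]
    · rw [hrc, hrd, disjoint_iff]
      exact inf_eq_bot_of_orthR (PB Q) hrefl _ _ (hnd c) (horth c d hcd)
  have hf : ∀ w, Q (f w) = (Q.comp f) w := fun w => rfl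
  have hf' : ∀ w, Q (f' w) = (Q.comp f) w := by
    rintro ⟨x, y⟩
    show Q (((e x : D c) : V) + ((e' y : D d) : V)) = Q ((x : V) + (y : V))
    rw [Q_add, Q_add, he, he', horth c d hcd _ (e x).2 _ (e' y).2, horth a b hab _ x.2 _ y.2]
  have hnd1 : NDon (PB Q) (LinearMap.range f) := by
    rw [hrf]; exact NDon_supR (PB Q) hrefl _ _ (hnd a) (hnd b) (horth a b hab)
  have hnd2 : NDon (PB Q) (LinearMap.range f') := by
    rw [hrf']; exact NDon_supR (PB Q) hrefl _ _ (hnd c) (hnd d) (horth c d hcd)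
  have horth' : ∀ u ∈ LinearMap.range f, ∀ v ∈ LinearMap.range f', PB Q u v = 0 := by
    rw [hrf, hrf']
    intro u hu v hv
    obtain ⟨u1, hu1, u2, hu2, rfl⟩ := Submodule.mem_sup.1 hu
    obtain ⟨v1, hv1, v2, hv2, rfl⟩ := Submodule.mem_sup.1 hv
    simp only [map_add, LinearMap.add_apply]
    rw [horth a c hac u1 hu1 v1 hv1, horth a d had u1 hu1 v2 hv2, horth b c hbc u2 hu2 v1 hv1,
      horth b d hbd u2 hu2 v2 hv2]
    simp
  have hev : Even (finrank F (D a × D b)) := by
    rw [Module.finrank_prod, hk, hk]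
    exact ⟨k, rfl⟩
  have key := plus_sup_of_images_even Q (Q.comp f) f f' hf hf' hinj hinj' hnd1 hnd2 horth' hev
  rwa [hrf, hrf'] at key

/-- the bundled version of EO2-T -/
theorem plus_of_family [Fintype κ] (hnd : ∀ i, NDon (PB Q) (D i))
    (horth : ∀ i j, i ≠ j → ∀ u ∈ D i, ∀ v ∈ D j, PB Q u v = 0)
    (hiso : ∀ i j, ∃ e : D i ≃ₗ[F] D j, ∀ w : D i, Q ((e w : D j) : V) = Q (w : V))
    (k : ℕ) (hk : ∀ i, finrank F (D i) = k) (htop : ⨆ i, D i = ⊤)
    (h : 4 ∣ Fintype.card κ ∨ (Even (Fintype.card κ) ∧ Even k) ∨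
      (Even (Fintype.card κ) ∧ ∃ c : F, c * c = -1) ∨ (∀ i, PlusOn Q (D i))) :
    PlusOn Q ⊤ := by
  have htop' : ES D Finset.univ = ⊤ := by
    unfold ES
    simpa using htop
  rw [← htop']
  have hpairs : (Even k ∨ ∃ c : F, c * c = -1) →
      ∀ G : Finset κ, G.card = 2 → PlusOn Q (ES D G) := by
    intro h' G hG
    obtain ⟨x, y, hxy, rfl⟩ := Finset.card_eq_two.1 hG
    rw [ES_insert, ES_singleton]
    refine plus_pair Q D hnd horth hiso x y hxy ?_
    rcases h' with h' | h'
    · left; rw [hk]; exact h'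
    · right; exact h'
  rcases h with h | ⟨ht, hk2⟩ | ⟨ht, hc⟩ | h
  · obtain ⟨m, hm⟩ := h
    refine plus_ES_of_groups Q D hnd horth 4 (by norm_num) ?_ m Finset.univ
      (by rw [Finset.card_univ, hm, mul_comm])
    intro G hG
    obtain ⟨a, ha⟩ : G.Nonempty := Finset.card_pos.1 (by rw [hG]; norm_num)
    have h3 : (G.erase a).card = 3 := by rw [Finset.card_erase_of_mem ha, hG]
    obtain ⟨b, c, d, hbc, hbd, hcd, hG'⟩ := Finset.card_eq_three.1 h3
    have hGeq : G = insert a {b, c, d} := by rw [← hG', Finset.insert_erase ha]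
    have hna : a ∉ ({b, c, d} : Finset κ) := by rw [← hG']; exact Finset.notMem_erase a G
    simp only [Finset.mem_insert, Finset.mem_singleton, not_or] at hna
    obtain ⟨hab, hac, had⟩ := hna
    rw [hGeq, ES_insert, ES_insert, ES_insert, ES_singleton, ← sup_assoc]
    exact plus_quad Q D hnd horth hiso k hk a b c d hab hac had hbc hbd hcd
  · obtain ⟨m, hm⟩ := ht
    exact plus_ES_of_groups Q D hnd horth 2 (by norm_num) (hpairs (Or.inl hk2)) m Finset.univ
      (by rw [Finset.card_univ, hm]; ring)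
  · obtain ⟨m, hm⟩ := ht
    exact plus_ES_of_groups Q D hnd horth 2 (by norm_num) (hpairs (Or.inr hc)) m Finset.univ
      (by rw [Finset.card_univ, hm]; ring)
  · refine plus_ES_of_groups Q D hnd horth 1 (by norm_num) ?_ (Fintype.card κ) Finset.univ
      (by rw [Finset.card_univ, mul_one])
    intro G hG
    obtain ⟨a, rfl⟩ := Finset.card_eq_one.1 hG
    rw [ES_singleton]
    exact h a

end groups

section main

open Cfsg Cfsg.Geo Cfsg.Agent.Lib.H29.Orth

variable {F : Type*} [Field F] [Fintype F] {n : ℕ}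

/-- **EO2-T**. -/
theorem plus_of_isometric_decomposition (Q : (Fin n → F) → F)
    (hQ : IsNondegenerateQuadraticForm Q) {t : ℕ} (k : ℕ)
    (D : Fin t → Submodule F (Fin n → F)) (hD : IsOrthogonalMDecomposition Q k D)
    (h : 4 ∣ t ∨ (Even t ∧ Even k) ∨ (Even t ∧ ∃ c : F, c * c = -1) ∨
      (∀ i, IsPlusTypeOn Q (D i))) :
    IsPlusTypeOn Q ⊤ := by
  have hnd : ∀ i, NDon (PB (toQF Q hQ)) (D i) := by
    intro i u hu h0
    by_contra hne
    obtain ⟨-, x, hx, hxu⟩ := hD.decomp.nondegenerate i u hu hne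
    exact hxu (h0 x hx)
  have horth : ∀ i j, i ≠ j → ∀ u ∈ D i, ∀ v ∈ D j, PB (toQF Q hQ) u v = 0 :=
    fun i j hij u hu v hv => hD.decomp.orthogonal i j hij u hu v hv
  have hiso : ∀ i j, ∃ e : D i ≃ₗ[F] D j,
      ∀ w : D i, toQF Q hQ ((e w : D j) : Fin n → F) = toQF Q hQ (w : Fin n → F) :=
    fun i j => hD.isometric i j
  have key := plus_of_family (toQF Q hQ) D hnd horth hiso k hD.decomp.decomp.finrank_eq
    hD.decomp.decomp.iSup_eq_top (by rw [Fintype.card_fin]; exact h)
  exact key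

end main

end Cfsg.Agent.Lib.H4.EOP2
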