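import Mathlib
import Cfsg.Agent.Lib.H4.AschM3b

set_option autoImplicit false

/-! # S5630 / M3x: the commutant of an irreducible set of matrices over a finite field is
commutative -/

namespace Cfsg.Agent.Lib.H4.Asch

open Cfsg Cfsg.Geo
open scoped Matrix

variable {F : Type*} [Field F] [Fintype F]

/-- **M3x**: the commutant of an irreducible set of matrices over a finite field is commutative
(Schur + Wedderburn's little theorem). -/
theorem commutant_comm_of_irreducible {d : ℕ} (S : Set (Matrix (Fin d) (Fin d) F))
    (hS : ActsIrreducibly S) (a b : Matrix (Fin d) (Fin d) F)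
    (ha : ∀ s ∈ S, a * s = s * a) (hb : ∀ s ∈ S, b * s = s * b) : a * b = b * a := by
  apply commute_of_commutant S hS
  · rw [Subalgebra.mem_centralizer_iff F]
    intro s hs
    exact (ha s hs).symm
  · rw [Subalgebra.mem_centralizer_iff F]
    intro s hs
    exact (hb s hs).symm

end Cfsg.Agent.Lib.H4.Asch
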