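import Mathlib
import Cfsg.Agent.Lib.H11.AschSDefs
import Cfsg.Agent.Lib.H11.SpPair3
import Cfsg.Agent.Lib.H13.SpPairs

set_option autoImplicit false
set_option maxHeartbeats 800000

/-! # SP2-S1: `Sp_4(3)`: the stabiliser of a pair of complementary totally singular planes
stabilises a decomposition into two non-degenerate planes -/

namespace Cfsg.Agent.Lib.H4.AschSP2

open Cfsg Cfsg.Geo
open Cfsg.Agent.Lib.H13.SpPairs (U0 W0 mem_U0 mem_W0)
open scoped MatrixGroups Matrix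

section std

variable {F : Type*} [Field F]

theorem symp2_eq (u v : Fin 2 ⊕ Fin 2 → F) :
    sympForm 2 F u v = -(u (.inl 0) * v (.inr 0) + u (.inl 1) * v (.inr 1)) +
      (u (.inr 0) * v (.inl 0) + u (.inr 1) * v (.inl 1)) := by
  rw [Cfsg.Agent.Lib.H13.SpPairs.sympForm_eq_sum, Fin.sum_univ_two, Fin.sum_univ_two]

/-- the involution interchanging the two standard planes -/
def Sl : (Fin 2 ⊕ Fin 2 → F) →ₗ[F] (Fin 2 ⊕ Fin 2 → F) where
  toFun v := Sum.elim ![v (.inr 1), - v (.inr 0)] ![- v (.inl 1), v (.inl 0)]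
  map_add' := by
    intro x y
    funext k
    rcases k with k | k <;> fin_cases k <;> simp [add_comm]
  map_smul' := by
    intro c x
    funext k
    rcases k with k | k <;> fin_cases k <;> simp

@[simp] theorem Sl_inl0 (v : Fin 2 ⊕ Fin 2 → F) : Sl v (.inl 0) = v (.inr 1) := rfl
@[simp] theorem Sl_inl1 (v : Fin 2 ⊕ Fin 2 → F) : Sl v (.inl 1) = - v (.inr 0) := rfl
@[simp] theorem Sl_inr0 (v : Fin 2 ⊕ Fin 2 → F) : Sl v (.inr 0) = - v (.inl 1) := rfl
@[simp] theorem Sl_inr1 (v : Fin 2 ⊕ Fin 2 → F) : Sl v (.inr 1) = v (.inl 0) := rfl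

theorem Sl_Sl (v : Fin 2 ⊕ Fin 2 → F) : Sl (Sl v) = v := by
  funext k
  rcases k with k | k <;> fin_cases k <;> simp

theorem Sl_isom (x y : Fin 2 ⊕ Fin 2 → F) : sympForm 2 F (Sl x) (Sl y) = sympForm 2 F x y := by
  rw [symp2_eq, symp2_eq]
  simp only [Sl_inl0, Sl_inl1, Sl_inr0, Sl_inr1]
  ring

theorem symp_Sl_self (x : Fin 2 ⊕ Fin 2 → F) : sympForm 2 F x (Sl x) = 0 := by
  rw [symp2_eq]
  simp only [Sl_inl0, Sl_inl1, Sl_inr0, Sl_inr1]
  ring

theorem Sl_mem_W0 {v : Fin 2 ⊕ Fin 2 → F} (hv : v ∈ U0 2 F) : Sl v ∈ W0 2 F := by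
  rw [mem_U0] at hv
  rw [mem_W0]
  intro i
  fin_cases i
  · show Sl v (.inl 0) = 0
    rw [Sl_inl0, hv]
  · show Sl v (.inl 1) = 0
    rw [Sl_inl1, hv, neg_zero]

theorem Sl_mem_U0 {v : Fin 2 ⊕ Fin 2 → F} (hv : v ∈ W0 2 F) : Sl v ∈ U0 2 F := by
  rw [mem_W0] at hv
  rw [mem_U0]
  intro i
  fin_cases i
  · show Sl v (.inr 0) = 0
    rw [Sl_inr0, hv, neg_zero]
  · show Sl v (.inr 1) = 0
    rw [Sl_inr1, hv]

/-- the graph of `lam • Sl` on the first standard plane -/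
def iot (lam : F) : (Fin 2 → F) →ₗ[F] (Fin 2 ⊕ Fin 2 → F) where
  toFun y := Sum.elim y ![- (lam * y 1), lam * y 0]
  map_add' := by
    intro x y
    funext k
    rcases k with k | k
    · rfl
    · fin_cases k
      · show -(lam * (x 1 + y 1)) = -(lam * x 1) + -(lam * y 1)
        ring
      · show lam * (x 0 + y 0) = lam * x 0 + lam * y 0
        ring
  map_smul' := by
    intro c x
    funext k
    rcases k with k | k
    · rfl
    · fin_cases k
      · show -(lam * (c * x 1)) = c * -(lam * x 1)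
        ring
      · show lam * (c * x 0) = c * (lam * x 0)
        ring

@[simp] theorem iot_inl (lam : F) (y : Fin 2 → F) (i : Fin 2) : iot lam y (.inl i) = y i := rfl
@[simp] theorem iot_inr0 (lam : F) (y : Fin 2 → F) : iot lam y (.inr 0) = - (lam * y 1) := rfl
@[simp] theorem iot_inr1 (lam : F) (y : Fin 2 → F) : iot lam y (.inr 1) = lam * y 0 := rfl

theorem iot_injective (lam : F) : Function.Injective (iot (F := F) lam) := by
  intro x y hxy
  funext i
  have := congrFun hxy (.inl i)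
  simpa using this

/-- the two non-degenerate planes -/
def Wl (lam : F) : Submodule F (Fin 2 ⊕ Fin 2 → F) := LinearMap.range (iot lam)

theorem finrank_Wl (lam : F) : Module.finrank F (Wl (F := F) lam) = 2 := by
  unfold Wl
  rw [LinearMap.finrank_range_of_inj (iot_injective lam), Module.finrank_fin_fun]

theorem symp_iot (lam mu : F) (y y' : Fin 2 → F) :
    sympForm 2 F (iot lam y) (iot mu y') = (lam + mu) * (y 0 * y' 1 - y 1 * y' 0) := by
  rw [symp2_eq]
  simp only [iot_inl, iot_inr0, iot_inr1]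
  ring

theorem mem_Wl_iff {lam : F} (hl : lam * lam = 1) (x : Fin 2 ⊕ Fin 2 → F) :
    x ∈ Wl lam ↔ Sl x = lam • x := by
  constructor
  · rintro ⟨y, rfl⟩
    funext k
    rcases k with k | k <;> fin_cases k
    · show Sl (iot lam y) (.inl 0) = lam * iot lam y (.inl 0)
      rw [Sl_inl0, iot_inr1, iot_inl]
    · show Sl (iot lam y) (.inl 1) = lam * iot lam y (.inl 1)
      rw [Sl_inl1, iot_inr0, iot_inl, neg_neg]
    · show Sl (iot lam y) (.inr 0) = lam * iot lam y (.inr 0)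
      rw [Sl_inr0, iot_inr0, iot_inl]
      linear_combination (y 1) * hl
    · show Sl (iot lam y) (.inr 1) = lam * iot lam y (.inr 1)
      rw [Sl_inr1, iot_inr1, iot_inl]
      linear_combination (- y 0) * hl
  · intro hx
    refine ⟨fun i => x (.inl i), ?_⟩
    have h0 := congrFun hx (.inl 0)
    have h1 := congrFun hx (.inl 1)
    rw [Sl_inl0, Pi.smul_apply, smul_eq_mul] at h0
    rw [Sl_inl1, Pi.smul_apply, smul_eq_mul] at h1
    funext k
    rcases k with k | k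
    · rfl
    · fin_cases k
      · show - (lam * x (.inl 1)) = x (.inr 0)
        linear_combination h1
      · show lam * x (.inl 0) = x (.inr 1)
        linear_combination - h0

theorem disjoint_Wl (h2 : (2 : F) ≠ 0) : Disjoint (Wl (F := F) 1) (Wl (-1)) := by
  rw [Submodule.disjoint_def]
  intro x h1 h2'
  rw [mem_Wl_iff (by ring)] at h1 h2'
  rw [h1, one_smul] at h2'
  funext k
  have := congrFun h2' k
  rw [Pi.smul_apply, smul_eq_mul] at this
  have h3 : (2 : F) * x k = 0 := by linear_combination this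
  rcases mul_eq_zero.1 h3 with h | h
  · exact absurd h h2
  · exact h

theorem sup_Wl (h2 : (2 : F) ≠ 0) : Wl (F := F) 1 ⊔ Wl (-1) = ⊤ := by
  rw [eq_top_iff]
  intro x _
  have hx : x = (2 : F)⁻¹ • (x + Sl x) + (2 : F)⁻¹ • (x - Sl x) := by
    rw [← smul_add]
    have : x + Sl x + (x - Sl x) = (2 : F) • x := by
      rw [two_smul]; abel
    rw [this, smul_smul, inv_mul_cancel₀ h2, one_smul]
  rw [hx]
  refine Submodule.add_mem_sup ((Wl 1).smul_mem _ ?_) ((Wl (-1)).smul_mem _ ?_)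
  · rw [mem_Wl_iff (by ring), map_add, Sl_Sl, one_smul, add_comm]
  · rw [mem_Wl_iff (by ring), map_sub, Sl_Sl, neg_smul, one_smul, neg_sub]

theorem nondeg_Wl (h2 : (2 : F) ≠ 0) {lam : F} (hl : lam ≠ 0) :
    IsNondegenerateOn (sympForm 2 F) (Wl lam) := by
  have key : ∀ w ∈ Wl lam, w ≠ 0 → ∃ x ∈ Wl lam, sympForm 2 F x w ≠ 0 := by
    rintro _ ⟨y', rfl⟩ hw
    have hll : lam + lam ≠ 0 := by
      intro h
      have : (2 : F) * lam = 0 := by linear_combination h
      rcases mul_eq_zero.1 this with h' | h'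
      · exact h2 h'
      · exact hl h'
    by_cases h1 : y' 1 = 0
    · have h0 : y' 0 ≠ 0 := by
        intro h0
        apply hw
        have : y' = 0 := by
          funext i
          fin_cases i
          · exact h0
          · exact h1
        rw [this, map_zero]
      refine ⟨iot lam ![0, 1], ⟨_, rfl⟩, ?_⟩
      rw [symp_iot]
      simp only [Matrix.cons_val_zero, Matrix.cons_val_one, zero_mul, one_mul, zero_sub]
      exact mul_ne_zero hll (neg_ne_zero.2 h0)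
    · refine ⟨iot lam ![1, 0], ⟨_, rfl⟩, ?_⟩
      rw [symp_iot]
      simp only [Matrix.cons_val_zero, Matrix.cons_val_one, zero_mul, one_mul, sub_zero]
      exact mul_ne_zero hll h1
  intro w hw hw0
  obtain ⟨x, hx, hxw⟩ := key w hw hw0
  refine ⟨⟨x, hx, hxw⟩, ⟨x, hx, ?_⟩⟩
  rw [Cfsg.Agent.Lib.H4.sympForm_swap]
  exact neg_ne_zero.2 hxw

theorem orth_Wl (lam : F) : AreOrthogonalFor (sympForm 2 F) (Wl lam) (Wl (-lam)) := by
  rintro _ ⟨y, rfl⟩ _ ⟨y', rfl⟩
  rw [symp_iot, add_neg_cancel, zero_mul]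

/-- the standard non-degenerate decomposition -/
def Dstd' (F : Type*) [Field F] : Fin 2 → Submodule F (Fin 2 ⊕ Fin 2 → F) := ![Wl 1, Wl (-1)]

theorem isNondeg_Dstd' (h2 : (2 : F) ≠ 0) :
    IsNondegenerateMDecomposition (sympForm 2 F) 2 (Dstd' F) := by
  refine ⟨⟨le_refl 2, by norm_num, ?_, ?_, ?_⟩, ?_, ?_⟩
  · rw [Fin.forall_fin_two]
    exact ⟨finrank_Wl 1, finrank_Wl (-1)⟩
  · rw [iSupIndep_pair (i := (0 : Fin 2)) (j := 1) (by decide) (by decide)]
    exact disjoint_Wl h2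
  · rw [eq_top_iff, ← sup_Wl h2]
    exact sup_le (le_iSup (Dstd' F) 0) (le_iSup (Dstd' F) 1)
  · rw [Fin.forall_fin_two]
    exact ⟨nondeg_Wl h2 one_ne_zero, nondeg_Wl h2 (neg_ne_zero.2 one_ne_zero)⟩
  · intro i j hij
    fin_cases i <;> fin_cases j
    · exact absurd rfl hij
    · exact orth_Wl 1
    · have := orth_Wl (F := F) (-1)
      rw [neg_neg] at this
      exact this
    · exact absurd rfl hij

end std

section key

variable {F : Type*} [Field F]

local notation "MM" => Matrix (Fin 2 ⊕ Fin 2) (Fin 2 ⊕ Fin 2) F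
local notation "BB" => sympForm 2 F

open Cfsg.Agent.Lib.H4 (sympForm_add_left sympForm_add_right sympForm_smul_left
  sympForm_smul_right sympForm_swap)

/-- the first two basis vectors -/
def e0 (F : Type*) [Field F] : Fin 2 ⊕ Fin 2 → F := Pi.single (.inl 0) 1
def e1 (F : Type*) [Field F] : Fin 2 ⊕ Fin 2 → F := Pi.single (.inl 1) 1

theorem e0_mem : e0 F ∈ U0 2 F := by
  rw [mem_U0]; intro i; simp [e0]

theorem e1_mem : e1 F ∈ U0 2 F := by
  rw [mem_U0]; intro i; simp [e1]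

theorem eq_of_mem_U0 {u : Fin 2 ⊕ Fin 2 → F} (hu : u ∈ U0 2 F) :
    u = u (.inl 0) • e0 F + u (.inl 1) • e1 F := by
  rw [mem_U0] at hu
  funext k
  rcases k with k | k <;> fin_cases k <;> simp [e0, e1, hu]

theorem symp_Sl_U0 {u v : Fin 2 ⊕ Fin 2 → F} (hu : u ∈ U0 2 F) :
    BB u (Sl v) = u (.inl 0) * v (.inl 1) - u (.inl 1) * v (.inl 0) := by
  rw [mem_U0] at hu
  rw [symp2_eq]
  simp only [Sl_inl0, Sl_inl1, Sl_inr0, Sl_inr1, hu]
  ring

theorem key_U0 (hq : ∀ c : F, c ≠ 0 → c = 1 ∨ c = -1) (g : GL (Fin 2 ⊕ Fin 2) F)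
    (hg : g ∈ spGL 2 F)
    (H : ∀ v ∈ U0 2 F, ∃ w ∈ W0 2 F, Sl ((g : MM) *ᵥ v) = (g : MM) *ᵥ w) :
    ∃ c : F, (c = 1 ∨ c = -1) ∧
      ∀ v ∈ U0 2 F, Sl ((g : MM) *ᵥ v) = c • ((g : MM) *ᵥ (Sl v)) := by
  have hgB : ∀ x y, BB ((g : MM) *ᵥ x) ((g : MM) *ᵥ y) = BB x y := hg
  set a0 := (g : MM) *ᵥ e0 F with ha0
  set a1 := (g : MM) *ᵥ e1 F with ha1
  set β := BB a0 (Sl a1) with hβ
  have hskew : BB a1 (Sl a0) = -β := by
    rw [← Sl_isom, Sl_Sl, sympForm_swap]
  have hgu : ∀ u ∈ U0 2 F, (g : MM) *ᵥ u = u (.inl 0) • a0 + u (.inl 1) • a1 := by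
    intro u hu
    conv_lhs => rw [eq_of_mem_U0 hu]
    rw [Matrix.mulVec_add, Matrix.mulVec_smul, Matrix.mulVec_smul]
  have hbg : ∀ u ∈ U0 2 F, ∀ v ∈ U0 2 F, BB ((g : MM) *ᵥ u) (Sl ((g : MM) *ᵥ v)) =
      β * (u (.inl 0) * v (.inl 1) - u (.inl 1) * v (.inl 0)) := by
    intro u hu v hv
    rw [hgu u hu, hgu v hv, map_add, map_smul, map_smul, sympForm_add_left, sympForm_add_right,
      sympForm_add_right, sympForm_smul_left, sympForm_smul_left, sympForm_smul_left,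
      sympForm_smul_left, sympForm_smul_right, sympForm_smul_right, sympForm_smul_right,
      sympForm_smul_right, symp_Sl_self a0, symp_Sl_self a1, hskew, ← hβ]
    ring
  have hz : ∀ v ∈ U0 2 F, Sl ((g : MM) *ᵥ v) = β • ((g : MM) *ᵥ (Sl v)) := by
    intro v hv
    obtain ⟨w, hw, hSw⟩ := H v hv
    have hw' : w - β • Sl v ∈ W0 2 F :=
      (W0 2 F).sub_mem hw ((W0 2 F).smul_mem _ (Sl_mem_W0 hv))
    have horth : ∀ u ∈ U0 2 F, BB u (w - β • Sl v) = 0 := by
      intro u hu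
      rw [← hgB, Matrix.mulVec_sub, Matrix.mulVec_smul, ← hSw, sub_eq_add_neg, sympForm_add_right,
        ← neg_smul, sympForm_smul_right, hbg u hu v hv, hgB, symp_Sl_U0 hu]
      ring
    have h0 : w - β • Sl v = 0 := by
      generalize w - β • Sl v = z at hw' horth ⊢
      have hi := (mem_W0 _).1 hw'
      have h00 := horth _ e0_mem
      have h11 := horth _ e1_mem
      rw [symp2_eq] at h00 h11
      simp only [e0, e1, Pi.single_apply, hi] at h00 h11
      funext k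
      rcases k with k | k
      · exact hi k
      · fin_cases k
        · simpa using h00
        · simpa using h11
    rw [hSw, sub_eq_zero.1 h0, Matrix.mulVec_smul]
  have hβ0 : β ≠ 0 := by
    intro h0
    have h1 := hz _ e0_mem
    rw [h0, zero_smul] at h1
    have h2 : (g : MM) *ᵥ e0 F = 0 := by
      rw [← Sl_Sl ((g : MM) *ᵥ e0 F), h1, map_zero]
    have h3 : e0 F = 0 := by
      have := congrArg (fun x => ((g⁻¹ : GL (Fin 2 ⊕ Fin 2) F) : MM) *ᵥ x) h2
      simpa [Matrix.mulVec_mulVec, ← Units.val_mul] using this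
    have h4 := congrFun h3 (.inl 0)
    simp [e0] at h4
  exact ⟨β, hq β hβ0, hz⟩

theorem key_all (hq : ∀ c : F, c ≠ 0 → c = 1 ∨ c = -1) (g : GL (Fin 2 ⊕ Fin 2) F)
    (hg : g ∈ spGL 2 F)
    (H : ∀ v ∈ U0 2 F, ∃ w ∈ W0 2 F, Sl ((g : MM) *ᵥ v) = (g : MM) *ᵥ w) :
    ∃ c : F, (c = 1 ∨ c = -1) ∧ ∀ x, Sl ((g : MM) *ᵥ x) = c • ((g : MM) *ᵥ (Sl x)) := by
  obtain ⟨c, hc, hz⟩ := key_U0 hq g hg H
  have hcc : c * c = 1 := by rcases hc with rfl | rfl <;> ring
  refine ⟨c, hc, ?_⟩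
  have hW : ∀ w ∈ W0 2 F, Sl ((g : MM) *ᵥ w) = c • ((g : MM) *ᵥ (Sl w)) := by
    intro w hw
    have h1 := hz (Sl w) (Sl_mem_U0 hw)
    rw [Sl_Sl] at h1
    have h2 : (g : MM) *ᵥ (Sl w) = c • Sl ((g : MM) *ᵥ w) := by
      rw [← Sl_Sl ((g : MM) *ᵥ (Sl w)), h1, map_smul]
    rw [h2, smul_smul, hcc, one_smul]
  intro x
  have hx : x ∈ U0 2 F ⊔ W0 2 F := by
    rw [Cfsg.Agent.Lib.H13.SpPairs.isCompl_std.sup_eq_top]; trivial
  obtain ⟨u, hu, w, hw, rfl⟩ := Submodule.mem_sup.1 hx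
  rw [Matrix.mulVec_add, map_add, map_add, Matrix.mulVec_add, smul_add, hz u hu, hW w hw]

/-- the standard pair of totally singular planes -/
def Dstd (F : Type*) [Field F] : Fin 2 → Submodule F (Fin 2 ⊕ Fin 2 → F) := ![U0 2 F, W0 2 F]

theorem std_stab (hq : ∀ c : F, c ≠ 0 → c = 1 ∨ c = -1) (g : GL (Fin 2 ⊕ Fin 2) F)
    (hg : g ∈ decompositionStabilizer (Dstd F) ⊓ spGL 2 F) :
    g ∈ decompositionStabilizer (Dstd' F) := by
  obtain ⟨⟨σ, hσ⟩, hgS⟩ := hg
  have hfin : ∀ i : Fin 2, i = 0 ∨ i = 1 := by decide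
  have hmem : ∀ i, ∀ x ∈ Dstd F i, (g : MM) *ᵥ x ∈ Dstd F (σ i) := by
    intro i x hx
    rw [← hσ i]
    exact ⟨x, hx, by rw [Matrix.toLin'_apply]⟩
  have hsurj : ∀ i, ∀ y ∈ Dstd F (σ i), ∃ x ∈ Dstd F i, y = (g : MM) *ᵥ x := by
    intro i y hy
    rw [← hσ i] at hy
    obtain ⟨x, hx, rfl⟩ := hy
    exact ⟨x, hx, by rw [Matrix.toLin'_apply]⟩
  have H : ∀ v ∈ U0 2 F, ∃ w ∈ W0 2 F, Sl ((g : MM) *ᵥ v) = (g : MM) *ᵥ w := by
    intro v hv
    have h0 := hmem 0 v hv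
    rcases hfin (σ 0) with h | h
    · have h1 : σ 1 = 1 := by
        rcases hfin (σ 1) with h1 | h1
        · exact absurd (σ.injective (h.trans h1.symm)) (by decide)
        · exact h1
      rw [h] at h0
      have h2 : Sl ((g : MM) *ᵥ v) ∈ Dstd F (σ 1) := by
        rw [h1]; exact Sl_mem_W0 h0
      exact hsurj 1 _ h2
    · have h1 : σ 1 = 0 := by
        rcases hfin (σ 1) with h1 | h1
        · exact h1
        · exact absurd (σ.injective (h.trans h1.symm)) (by decide)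
      rw [h] at h0
      have h2 : Sl ((g : MM) *ᵥ v) ∈ Dstd F (σ 1) := by
        rw [h1]; exact Sl_mem_U0 h0
      exact hsurj 1 _ h2
  obtain ⟨c, hc, hcg⟩ := key_all hq g hgS H
  have hcc : c * c = 1 := by rcases hc with rfl | rfl <;> ring
  have hmaps : ∀ lam : F, lam * lam = 1 → ∀ x ∈ Wl lam, (g : MM) *ᵥ x ∈ Wl (c * lam) := by
    intro lam hl x hx
    rw [mem_Wl_iff hl] at hx
    rw [mem_Wl_iff (by linear_combination (lam * lam) * hcc + hl), hcg, hx, Matrix.mulVec_smul,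
      smul_smul]
  have hfr : ∀ a b : F, Module.finrank F (Wl a) = Module.finrank F (Wl b) := by
    intro a b; rw [finrank_Wl, finrank_Wl]
  rcases hc with rfl | rfl
  · refine ⟨1, ?_⟩
    rw [Fin.forall_fin_two]
    refine ⟨Cfsg.Agent.Lib.H11.SpPair.map_eq_of_maps g _ _ ?_ (hfr _ _),
      Cfsg.Agent.Lib.H11.SpPair.map_eq_of_maps g _ _ ?_ (hfr _ _)⟩
    · intro x hx
      have := hmaps 1 (by ring) x hx
      rwa [one_mul] at this
    · intro x hx
      have := hmaps (-1) (by ring) x hx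
      rwa [one_mul] at this
  · refine ⟨Equiv.swap 0 1, ?_⟩
    rw [Fin.forall_fin_two]
    refine ⟨Cfsg.Agent.Lib.H11.SpPair.map_eq_of_maps g _ _ ?_ (hfr _ _),
      Cfsg.Agent.Lib.H11.SpPair.map_eq_of_maps g _ _ ?_ (hfr _ _)⟩
    · intro x hx
      have := hmaps 1 (by ring) x hx
      rw [mul_one] at this
      rw [Equiv.swap_apply_left]
      exact this
    · intro x hx
      have := hmaps (-1) (by ring) x hx
      rw [neg_mul_neg, one_mul] at this
      rw [Equiv.swap_apply_right]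
      exact this

end key

section transfer

variable {F : Type*} [Field F] {ι : Type} [Fintype ι] [DecidableEq ι]

/-- the linear automorphism of an invertible matrix -/
noncomputable def glLin (T : GL ι F) : (ι → F) ≃ₗ[F] (ι → F) :=
  LinearEquiv.ofLinearMap (Matrix.toLin' (T : Matrix ι ι F))
    (Matrix.toLin' ((T⁻¹ : GL ι F) : Matrix ι ι F))
    (by rw [← Matrix.toLin'_mul, ← Units.val_mul, mul_inv_cancel, Units.val_one, Matrix.toLin'_one])
    (by rw [← Matrix.toLin'_mul, ← Units.val_mul, inv_mul_cancel, Units.val_one, Matrix.toLin'_one])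

theorem isMDecomposition_map {t k : ℕ} {D : Fin t → Submodule F (ι → F)}
    (hD : IsMDecomposition k D) (T : GL ι F) :
    IsMDecomposition k (fun i => (D i).map (Matrix.toLin' (T : Matrix ι ι F))) := by
  refine ⟨hD.two_le, hD.pos, fun i => ?_, ?_, ?_⟩
  · rw [← hD.finrank_eq i]
    exact (LinearEquiv.finrank_eq ((glLin T).submoduleMap (D i))).symm
  · exact hD.indep.map_orderIso (Submodule.orderIsoMapComap (glLin T))
  · rw [← Submodule.map_iSup, hD.iSup_eq_top, Submodule.map_top]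
    exact LinearMap.range_eq_top.2 (glLin T).surjective

theorem isNondegenerateMDecomposition_map {f : (ι → F) → (ι → F) → F} {t k : ℕ}
    {D : Fin t → Submodule F (ι → F)} (hD : IsNondegenerateMDecomposition f k D) (T : GL ι F)
    (hT : ∀ u v, f ((T : Matrix ι ι F) *ᵥ u) ((T : Matrix ι ι F) *ᵥ v) = f u v) :
    IsNondegenerateMDecomposition f k
      (fun i => (D i).map (Matrix.toLin' (T : Matrix ι ι F))) := by
  refine ⟨isMDecomposition_map hD.decomp T, ?_, ?_⟩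
  · rintro i _ ⟨w₀, hw₀, rfl⟩ hw0
    have hw₀0 : w₀ ≠ 0 := by
      rintro rfl
      exact hw0 (map_zero _)
    obtain ⟨⟨x, hx, hxw⟩, ⟨y, hy, hwy⟩⟩ := hD.nondegenerate i w₀ hw₀ hw₀0
    refine ⟨⟨_, ⟨x, hx, rfl⟩, ?_⟩, ⟨_, ⟨y, hy, rfl⟩, ?_⟩⟩
    · rw [Matrix.toLin'_apply, Matrix.toLin'_apply, hT]; exact hxw
    · rw [Matrix.toLin'_apply, Matrix.toLin'_apply, hT]; exact hwy
  · rintro i j hij _ ⟨u₀, hu₀, rfl⟩ _ ⟨v₀, hv₀, rfl⟩
    rw [Matrix.toLin'_apply, Matrix.toLin'_apply, hT]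
    exact hD.orthogonal i j hij u₀ hu₀ v₀ hv₀

theorem conj_mem_decompositionStabilizer {t : ℕ} (D : Fin t → Submodule F (ι → F)) (T g : GL ι F)
    (hg : g ∈ decompositionStabilizer D) :
    T * g * T⁻¹ ∈ decompositionStabilizer
      (fun i => (D i).map (Matrix.toLin' (T : Matrix ι ι F))) := by
  obtain ⟨σ, hσ⟩ := hg
  refine ⟨σ, fun i => ?_⟩
  show ((D i).map (Matrix.toLin' (T : Matrix ι ι F))).map
      (Matrix.toLin' ((T * g * T⁻¹ : GL ι F) : Matrix ι ι F)) =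
    (D (σ i)).map (Matrix.toLin' (T : Matrix ι ι F))
  rw [← hσ i, ← Submodule.map_comp, ← Submodule.map_comp, ← Matrix.toLin'_mul, ← Matrix.toLin'_mul,
    ← Units.val_mul, ← Units.val_mul, inv_mul_cancel_right]

end transfer

section main

variable {F : Type*} [Field F] [Fintype F]

theorem units_of_card_three (hq : Fintype.card F = 3) (c : F) (hc : c ≠ 0) : c = 1 ∨ c = -1 := by
  have h := FiniteField.pow_card_sub_one_eq_one c hc
  rw [hq] at h
  have h' : (c - 1) * (c + 1) = 0 := by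
    have : c ^ 2 = 1 := h
    linear_combination this
  rcases mul_eq_zero.1 h' with h1 | h1
  · left; exact sub_eq_zero.1 h1
  · right; exact eq_neg_of_add_eq_zero_left h1

theorem two_ne_zero_of_card_three (hq : Fintype.card F = 3) : (2 : F) ≠ 0 := by
  intro h2
  have h3 : ringChar F = 2 := CharP.ringChar_of_prime_eq_zero Nat.prime_two (by exact_mod_cast h2)
  have := FiniteField.even_card_of_char_two h3
  rw [hq] at this
  exact absurd this (by decide)

/-- **SP2-S1**. -/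
theorem c2b_q3_m2 (hq : Fintype.card F = 3) (D : Fin 2 → Submodule F (Fin 2 ⊕ Fin 2 → F))
    (hD : IsMDecomposition 2 D) (hts : ∀ i, IsTotallySingularFor (sympForm 2 F) (D i)) :
    ∃ D' : Fin 2 → Submodule F (Fin 2 ⊕ Fin 2 → F),
      IsNondegenerateMDecomposition (sympForm 2 F) 2 D' ∧
      decompositionStabilizer D ⊓ spGL 2 F ≤ decompositionStabilizer D' := by
  have hq' := units_of_card_three hq
  have h2 := two_ne_zero_of_card_three hq
  have hP := Cfsg.Agent.Lib.H11.SpPair.lagPair_of_decomp hD hts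
  have hc : IsCompl (D 0) (D 1) := by
    refine ⟨disjoint_iff.2 hP.disj, codisjoint_iff.2 ?_⟩
    rw [eq_top_iff]
    intro x _
    obtain ⟨x₁, h₁, x₂, h₂, rfl⟩ := hP.span x
    exact Submodule.add_mem_sup h₁ h₂
  obtain ⟨T₀, hT1, hT2⟩ := Cfsg.Agent.Lib.H13.SpPairs.transitive (D 0) (D 1) hc hP.iso₁ hP.iso₂
  obtain ⟨T, hT⟩ : ∃ T : GL (Fin 2 ⊕ Fin 2) F, T = Cfsg.Agent.Lib.H11.SubspMax.spToGL F 2 T₀ :=
    ⟨_, rfl⟩
  have hTS : T ∈ spGL 2 F := by
    rw [hT]; exact Cfsg.Agent.Lib.H11.SubspMax.spToGL_mem _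
  have hTinvS : T⁻¹ ∈ spGL 2 F := (spGL 2 F).inv_mem hTS
  have hDT : D = fun i => (Dstd F i).map
      (Matrix.toLin' (T : Matrix (Fin 2 ⊕ Fin 2) (Fin 2 ⊕ Fin 2) F)) := by
    funext i
    fin_cases i
    · rw [hT]; exact hT1.symm
    · rw [hT]; exact hT2.symm
  refine ⟨fun i => (Dstd' F i).map
      (Matrix.toLin' (T : Matrix (Fin 2 ⊕ Fin 2) (Fin 2 ⊕ Fin 2) F)),
    isNondegenerateMDecomposition_map (isNondeg_Dstd' h2) T hTS, ?_⟩
  rintro g ⟨hgD, hgS⟩
  have h1 := conj_mem_decompositionStabilizer D T⁻¹ g hgD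
  have h2' : (fun i => (D i).map
      (Matrix.toLin' ((T⁻¹ : GL (Fin 2 ⊕ Fin 2) F) : Matrix (Fin 2 ⊕ Fin 2) (Fin 2 ⊕ Fin 2) F))) =
      Dstd F := by
    funext i
    rw [hDT]
    show ((Dstd F i).map _).map _ = _
    rw [← Submodule.map_comp, ← Matrix.toLin'_mul, ← Units.val_mul, inv_mul_cancel, Units.val_one,
      Matrix.toLin'_one, Submodule.map_id]
  rw [h2', inv_inv] at h1
  have h3 : T⁻¹ * g * T ∈ decompositionStabilizer (Dstd F) ⊓ spGL 2 F :=
    ⟨h1, (spGL 2 F).mul_mem ((spGL 2 F).mul_mem hTinvS hgS) hTS⟩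
  have h4 := std_stab hq' _ h3
  have h5 := conj_mem_decompositionStabilizer (Dstd' F) T _ h4
  have h6 : T * (T⁻¹ * g * T) * T⁻¹ = g := by group
  rw [h6] at h5
  exact h5

end main

end Cfsg.Agent.Lib.H4.AschSP2
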