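import Mathlib
import Cfsg.Agent.Lib.H11.AschSDefs
import Cfsg.Agent.Lib.H11.AschST0a
import Cfsg.Agent.Lib.H11.SimMax5
import Cfsg.Agent.Lib.H20.AschP2B4B7

set_option autoImplicit false
set_option maxHeartbeats 800000

/-! # SP2-S3: `Sp_2m(q)`, `q` odd, lies in no tensor-wreath subgroup with `k, t ≥ 2` -/

namespace Cfsg.Agent.Lib.H4.AschSP2

open Cfsg Cfsg.Geo Cfsg.Agent.Lib.Lead.Asch Cfsg.Agent.Lib.H11.AschS Cfsg.Agent.Lib.H20.AschP2
  Cfsg.Agent.Lib.H11.SubspMax
open scoped MatrixGroups Matrix Kronecker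

section pure

variable {F : Type*} [Field F]

/-- every element of the standard tensor-wreath group maps pure vectors to pure vectors -/
theorem pureVec_of_mem_standard [Fintype F] {k t : ℕ} (g : GL (Fin t → Fin k) F)
    (hg : g ∈ tensorWreathStandard k t F) (v : (Fin t → Fin k) → F) (hv : PureVec k t v) :
    PureVec k t ((g : Matrix (Fin t → Fin k) (Fin t → Fin k) F) *ᵥ v) := by
  revert v
  unfold tensorWreathStandard at hg
  induction hg using Subgroup.closure_induction with
  | mem g hg =>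
    rcases hg with hg | hg
    · exact pureVec_of_isPureTensor g hg
    · exact pureVec_of_isFactorPermutation g hg
  | one => intro v hv; simpa using hv
  | mul a b _ _ iha ihb =>
    intro v hv
    rw [Units.val_mul, ← Matrix.mulVec_mulVec]
    exact iha _ (ihb v hv)
  | inv a _ iha =>
    intro v hv
    have hpow : ∀ j : ℕ, PureVec k t (((a ^ j : GL (Fin t → Fin k) F) :
        Matrix (Fin t → Fin k) (Fin t → Fin k) F) *ᵥ v) := by
      intro j
      induction j with
      | zero => simpa using hv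
      | succ j ih =>
        rw [pow_succ', Units.val_mul, ← Matrix.mulVec_mulVec]
        exact iha _ ih
    have hinv : a⁻¹ = a ^ (orderOf a - 1) := by
      have hpos : 0 < orderOf a := orderOf_pos a
      rw [eq_comm, ← mul_eq_one_iff_eq_inv', ← pow_succ', Nat.sub_add_cancel hpos,
        pow_orderOf_eq_one]
    rw [hinv]
    exact hpow _

/-- basis tensors are pure -/
theorem pureVec_single {k t : ℕ} (y₀ : Fin t → Fin k) :
    PureVec k t ((Pi.single y₀ (1 : F) : (Fin t → Fin k) → F)) := by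
  classical
  refine ⟨fun i => (Pi.single (y₀ i) (1 : F) : Fin k → F), fun x => ?_⟩
  by_cases hx : x = y₀
  · subst hx; simp
  · rw [Pi.single_apply, if_neg hx]
    obtain ⟨i, hi'⟩ : ∃ i, x i ≠ y₀ i := by
      by_contra hcon
      push Not at hcon
      exact hx (funext hcon)
    symm
    apply Finset.prod_eq_zero (Finset.mem_univ i)
    show (Pi.single (y₀ i) (1 : F) : Fin k → F) (x i) = 0
    rw [Pi.single_apply, if_neg hi']

/-- the exchange identity for pure vectors -/
theorem pureVec_swap {k t : ℕ} (v : (Fin t → Fin k) → F) (hv : PureVec k t v)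
    (x y : Fin t → Fin k) (i₀ : Fin t) :
    v x * v y = v (Function.update x i₀ (y i₀)) * v (Function.update y i₀ (x i₀)) := by
  classical
  obtain ⟨w, hw⟩ := hv
  rw [hw, hw, hw, hw, ← Finset.prod_mul_distrib, ← Finset.prod_mul_distrib]
  refine Finset.prod_congr rfl fun i _ => ?_
  by_cases hii : i = i₀
  · subst hii; simp [mul_comm]
  · simp [hii]

end pure

section basis

variable {F : Type*} [Field F] {ι κ : Type} [Fintype ι] [DecidableEq ι] [Fintype κ] [DecidableEq κ]

theorem form_sum_left {f : (ι → F) → (ι → F) → F} (hf : IsBilinearForm f) (s : Finset κ) (c : κ → F)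
    (x : κ → ι → F) (w : ι → F) : f (∑ a ∈ s, c a • x a) w = ∑ a ∈ s, c a * f (x a) w := by
  classical
  induction s using Finset.induction_on with
  | empty =>
    rw [Finset.sum_empty, Finset.sum_empty]
    have := hf.smul_left 0 0 w
    rwa [zero_smul, zero_mul] at this
  | insert a s ha ih =>
    rw [Finset.sum_insert ha, Finset.sum_insert ha, hf.add_left, hf.smul_left, ih]

/-- a vector not orthogonal to `u` exists among the vectors of any basis `P (E γ ∘ e)` -/
theorem exists_basis_ne {f : (ι → F) → (ι → F) → F} (hf : IsBilinearForm f) (P : GL ι F) (e : ι ≃ κ)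
    (u y : ι → F) (hy : f y u ≠ 0) :
    ∃ γ : κ, f ((P : Matrix ι ι F) *ᵥ ((Pi.single γ (1 : F) : κ → F) ∘ e)) u ≠ 0 := by
  by_contra hcon
  push Not at hcon
  apply hy
  set y' := ((P⁻¹ : GL ι F) : Matrix ι ι F) *ᵥ y with hy'
  have h1 : y' = ∑ γ : κ, y' (e.symm γ) • ((Pi.single γ (1 : F) : κ → F) ∘ e) := by
    funext j
    rw [Finset.sum_apply]
    simp only [Pi.smul_apply, Function.comp_apply, Pi.single_apply, smul_eq_mul, mul_ite, mul_one,
      mul_zero]
    rw [Finset.sum_eq_single (e j)]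
    · simp
    · intro b _ hb
      rw [if_neg (Ne.symm hb)]
    · intro h; exact absurd (Finset.mem_univ _) h
  have h2 : y = ∑ γ : κ, y' (e.symm γ) • ((P : Matrix ι ι F) *ᵥ ((Pi.single γ (1 : F) : κ → F) ∘ e)) := by
    have h3 : y = (P : Matrix ι ι F) *ᵥ y' := by
      rw [hy', Matrix.mulVec_mulVec, ← Units.val_mul, mul_inv_cancel, Units.val_one, Matrix.one_mulVec]
    conv_lhs => rw [h3, h1]
    rw [Matrix.mulVec_sum]
    refine Finset.sum_congr rfl fun γ _ => ?_
    rw [Matrix.mulVec_smul]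
  rw [h2, form_sum_left hf]
  refine Finset.sum_eq_zero fun γ _ => ?_
  rw [hcon γ, mul_zero]

end basis

/-- **SP2-S3**. -/
theorem not_sp_le_tensorWreathSubgroup {F : Type*} [Field F] [Fintype F] {m : ℕ} (hm : 1 ≤ m)
    (hodd : Odd (Fintype.card F)) (k t : ℕ)
    (e : Fin m ⊕ Fin m ≃ (Fin t → Fin k)) (P : GL (Fin m ⊕ Fin m) F) (hk : 2 ≤ k) (ht : 2 ≤ t) :
    ¬ spGL m F ≤ tensorWreathSubgroup k t e P := by
  classical
  intro h
  have h2 : (2 : F) ≠ 0 := by
    intro h2
    have h3 : ringChar F = 2 := CharP.ringChar_of_prime_eq_zero Nat.prime_two (by exact_mod_cast h2)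
    have := FiniteField.even_card_of_char_two h3
    rw [← Nat.not_even_iff_odd, Nat.even_iff] at hodd
    exact hodd this
  set c0 : Fin k := ⟨0, by omega⟩ with hc0
  set c1 : Fin k := ⟨1, by omega⟩ with hc1
  set i₀ : Fin t := ⟨0, by omega⟩ with hi0
  set i₁ : Fin t := ⟨1, by omega⟩ with hi1
  have hc : c0 ≠ c1 := by simp [hc0, hc1, Fin.ext_iff]
  have hi : i₀ ≠ i₁ := by simp [hi0, hi1, Fin.ext_iff]
  set α : Fin t → Fin k := fun _ => c0 with hα
  set β : Fin t → Fin k := fun _ => c1 with hβ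
  have hαβ : α ≠ β := fun h' => hc (congrFun h' i₀)
  let E : (Fin t → Fin k) → ((Fin t → Fin k) → F) := fun γ => Pi.single γ 1
  set u : Fin m ⊕ Fin m → F := (P : Matrix (Fin m ⊕ Fin m) (Fin m ⊕ Fin m) F) *ᵥ ((E α + E β) ∘ e)
    with hu
  -- injectivity of the coordinates
  have hPinj : ∀ a b : (Fin t → Fin k) → F,
      (P : Matrix (Fin m ⊕ Fin m) (Fin m ⊕ Fin m) F) *ᵥ (a ∘ e) =
        (P : Matrix (Fin m ⊕ Fin m) (Fin m ⊕ Fin m) F) *ᵥ (b ∘ e) → a = b := by
    intro a b hab
    have h1 := congrArg (fun w => ((P⁻¹ : GL (Fin m ⊕ Fin m) F) :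
      Matrix (Fin m ⊕ Fin m) (Fin m ⊕ Fin m) F) *ᵥ w) hab
    simp only [Matrix.mulVec_mulVec, ← Units.val_mul, inv_mul_cancel, Units.val_one,
      Matrix.one_mulVec] at h1
    funext γ
    have := congrFun h1 (e.symm γ)
    simpa using this
  have hu0 : u ≠ 0 := by
    intro h0
    have h1 : (P : Matrix (Fin m ⊕ Fin m) (Fin m ⊕ Fin m) F) *ᵥ ((E α + E β) ∘ e) =
        (P : Matrix (Fin m ⊕ Fin m) (Fin m ⊕ Fin m) F) *ᵥ ((0 : (Fin t → Fin k) → F) ∘ e) := by
      rw [← hu, h0]
      have : ((0 : (Fin t → Fin k) → F) ∘ e) = 0 := rfl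
      rw [this, Matrix.mulVec_zero]
    have h3 := congrFun (hPinj _ _ h1) α
    simp [E, Pi.single_apply, hαβ] at h3
  obtain ⟨y, hy⟩ := exists_sympForm_ne u hu0
  have hy' : sympForm m F y u ≠ 0 := sympForm_ne_swap hy
  have hbil : IsBilinearForm (sympForm m F) :=
    (Cfsg.Agent.Lib.H11.SimMax.sympForm_isSymplectic F m).bilinear
  obtain ⟨γ, hγ⟩ := exists_basis_ne hbil P e u y hy'
  set x : Fin m ⊕ Fin m → F := (P : Matrix (Fin m ⊕ Fin m) (Fin m ⊕ Fin m) F) *ᵥ (E γ ∘ e) with hx
  set c : F := (sympForm m F x u)⁻¹ with hcdef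
  have hg : stv u c ∈ spGL m F := stv_mem_spGL u c
  obtain ⟨g', ⟨T, hT, rfl⟩, hg'⟩ := h hg
  have hgx : ((stv u c : GL (Fin m ⊕ Fin m) F) : Matrix (Fin m ⊕ Fin m) (Fin m ⊕ Fin m) F) *ᵥ x =
      (P : Matrix (Fin m ⊕ Fin m) (Fin m ⊕ Fin m) F) *ᵥ ((E γ + E α + E β) ∘ e) := by
    rw [stv_mulVec, hcdef, inv_mul_cancel₀ hγ, one_smul, hx, hu, ← Matrix.mulVec_add]
    congr 1
    funext j
    simp [add_assoc]
  have hgx' : ((stv u c : GL (Fin m ⊕ Fin m) F) : Matrix (Fin m ⊕ Fin m) (Fin m ⊕ Fin m) F) *ᵥ x =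
      (P : Matrix (Fin m ⊕ Fin m) (Fin m ⊕ Fin m) F) *ᵥ
        (((T : Matrix (Fin t → Fin k) (Fin t → Fin k) F) *ᵥ E γ) ∘ e) := by
    rw [← hg']
    show ((P * (glReindex e.symm T) * P⁻¹ : GL (Fin m ⊕ Fin m) F) :
      Matrix (Fin m ⊕ Fin m) (Fin m ⊕ Fin m) F) *ᵥ x = _
    rw [Units.val_mul, Units.val_mul, hx, Matrix.mulVec_mulVec, mul_assoc, mul_assoc,
      ← Units.val_mul, inv_mul_cancel, Units.val_one, mul_one, ← Matrix.mulVec_mulVec,
      glReindex_mulVec' e.symm T]
    rw [comp_comp_symm', Equiv.symm_symm]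
  have hTE : (T : Matrix (Fin t → Fin k) (Fin t → Fin k) F) *ᵥ E γ = E γ + E α + E β :=
    hPinj _ _ (hgx'.symm.trans hgx)
  have hpure : PureVec k t (E γ + E α + E β) := by
    rw [← hTE]
    exact pureVec_of_mem_standard T hT _ (pureVec_single γ)
  -- the exchange identity fails
  have hsw := pureVec_swap _ hpure α β i₀
  set z : Fin t → Fin k := Function.update α i₀ (β i₀) with hz
  set z' : Fin t → Fin k := Function.update β i₀ (α i₀) with hz'
  have hzα : z ≠ α := by
    intro h'; have := congrFun h' i₀; simp [hz, hα, hβ] at this; exact hc this.symm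
  have hzβ : z ≠ β := by
    intro h'; have := congrFun h' i₁; simp [hz, hα, hβ, hi.symm] at this; exact hc this
  have hz'α : z' ≠ α := by
    intro h'; have := congrFun h' i₁; simp [hz', hα, hβ, hi.symm] at this; exact hc this.symm
  have hz'β : z' ≠ β := by
    intro h'; have := congrFun h' i₀; simp [hz', hα, hβ] at this; exact hc this
  have hzz' : z ≠ z' := by
    intro h'; have := congrFun h' i₀; simp [hz, hz', hα, hβ] at this; exact hc this.symm
  have hR : (E γ + E α + E β) z * (E γ + E α + E β) z' = 0 := by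
    simp only [E, Pi.add_apply, Pi.single_apply, if_neg hzα, if_neg hzβ, if_neg hz'α, if_neg hz'β,
      add_zero]
    by_cases h1 : z = γ
    · have h3 : z' ≠ γ := fun h4 => hzz' (h1.trans h4.symm)
      rw [if_neg h3, mul_zero]
    · rw [if_neg h1, zero_mul]
  have hL : (E γ + E α + E β) α * (E γ + E α + E β) β ≠ 0 := by
    have hEαα : E α α = 1 := by simp [E]
    have hEββ : E β β = 1 := by simp [E]
    have hEαβ : E α β = 0 := by
      show (Pi.single α (1 : F) : (Fin t → Fin k) → F) β = 0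
      rw [Pi.single_apply, if_neg (Ne.symm hαβ)]
    have hEβα : E β α = 0 := by
      show (Pi.single β (1 : F) : (Fin t → Fin k) → F) α = 0
      rw [Pi.single_apply, if_neg hαβ]
    have hEγ : ∀ w, E γ w = if w = γ then 1 else 0 := by
      intro w
      show (Pi.single γ (1 : F) : (Fin t → Fin k) → F) w = _
      rw [Pi.single_apply]
    rw [Pi.add_apply, Pi.add_apply, Pi.add_apply, Pi.add_apply, hEαα, hEββ, hEαβ, hEβα, add_zero,
      hEγ, hEγ]
    by_cases h1 : α = γ
    · have h3 : β ≠ γ := fun h4 => hαβ (h1.trans h4.symm)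
      rw [if_pos h1, if_neg h3, zero_add, zero_add, mul_one]
      intro h5; apply h2; rw [← h5]; norm_num
    · rw [if_neg h1, zero_add]
      by_cases h3 : β = γ
      · rw [if_pos h3, one_mul, add_zero]
        intro h5; apply h2; rw [← h5]; norm_num
      · rw [if_neg h3, zero_add, zero_add, one_mul]
        exact one_ne_zero
  exact hL (hsw.trans hR)

end Cfsg.Agent.Lib.H4.AschSP2
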