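import Mathlib
import Cfsg.Agent.Lib.Lead.AschU9Defs
import Cfsg.Agent.Lib.H4.AschU91
import Cfsg.Agent.Lib.H22.AschUM4E
import Cfsg.Agent.Lib.H20.AschUT4

set_option autoImplicit false
set_option maxHeartbeats 800000

/-! # U9-2: `U3Data` for an arbitrary unitary form on `F^3`, `|F| = 4` -/

namespace Cfsg.Agent.Lib.H4.Asch

open Cfsg Cfsg.Geo Cfsg.Agent.Lib.Lead.Asch
open scoped MatrixGroups Matrix

section

variable {F : Type*} [Field F]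

/-- transport of `U3Data` along an isometry `T` from `f₁` to `f₂` -/
theorem u3Data_conj {f₁ f₂ : (Fin 3 → F) → (Fin 3 → F) → F} {R : Subgroup (GL (Fin 3) F)}
    {u : GL (Fin 3) F} (D : U3Data f₁ R u) (T : GL (Fin 3) F)
    (hT : ∀ x y : Fin 3 → F,
      f₂ ((T : Matrix (Fin 3) (Fin 3) F) *ᵥ x) ((T : Matrix (Fin 3) (Fin 3) F) *ᵥ y) = f₁ x y) :
    U3Data f₂ (R.map (MulAut.conj T).toMonoidHom) (T * u * T⁻¹) := by
  -- isometries of `f₁` conjugate to isometries of `f₂` and back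
  have hmv : ∀ (g : GL (Fin 3) F) (x : Fin 3 → F),
      ((T * g * T⁻¹ : GL (Fin 3) F) : Matrix (Fin 3) (Fin 3) F) *ᵥ x =
        (T : Matrix (Fin 3) (Fin 3) F) *ᵥ ((g : Matrix (Fin 3) (Fin 3) F) *ᵥ
          (((T⁻¹ : GL (Fin 3) F) : Matrix (Fin 3) (Fin 3) F) *ᵥ x)) := by
    intro g x
    rw [Units.val_mul, Units.val_mul, Matrix.mulVec_mulVec, Matrix.mulVec_mulVec, mul_assoc]
  have hTT : ∀ x : Fin 3 → F, (T : Matrix (Fin 3) (Fin 3) F) *ᵥ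
      (((T⁻¹ : GL (Fin 3) F) : Matrix (Fin 3) (Fin 3) F) *ᵥ x) = x := by
    intro x
    rw [Matrix.mulVec_mulVec, ← Units.val_mul, mul_inv_cancel, Units.val_one, Matrix.one_mulVec]
  have hfw : ∀ g : GL (Fin 3) F, (∀ x y : Fin 3 → F,
      f₁ ((g : Matrix (Fin 3) (Fin 3) F) *ᵥ x) ((g : Matrix (Fin 3) (Fin 3) F) *ᵥ y) = f₁ x y) →
      ∀ x y : Fin 3 → F, f₂ (((T * g * T⁻¹ : GL (Fin 3) F) : Matrix (Fin 3) (Fin 3) F) *ᵥ x)
        (((T * g * T⁻¹ : GL (Fin 3) F) : Matrix (Fin 3) (Fin 3) F) *ᵥ y) = f₂ x y := by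
    intro g hg x y
    rw [hmv, hmv, hT, hg, ← hT, hTT, hTT]
  have hbw : ∀ a : GL (Fin 3) F, (∀ x y : Fin 3 → F,
      f₂ ((a : Matrix (Fin 3) (Fin 3) F) *ᵥ x) ((a : Matrix (Fin 3) (Fin 3) F) *ᵥ y) = f₂ x y) →
      ∀ x y : Fin 3 → F, f₁ (((T⁻¹ * a * T : GL (Fin 3) F) : Matrix (Fin 3) (Fin 3) F) *ᵥ x)
        (((T⁻¹ * a * T : GL (Fin 3) F) : Matrix (Fin 3) (Fin 3) F) *ᵥ y) = f₁ x y := by
    intro a ha x y
    have h1 : ∀ z : Fin 3 → F, (T : Matrix (Fin 3) (Fin 3) F) *ᵥ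
        (((T⁻¹ * a * T : GL (Fin 3) F) : Matrix (Fin 3) (Fin 3) F) *ᵥ z) =
        (a : Matrix (Fin 3) (Fin 3) F) *ᵥ ((T : Matrix (Fin 3) (Fin 3) F) *ᵥ z) := by
      intro z
      rw [Matrix.mulVec_mulVec, Matrix.mulVec_mulVec, ← Units.val_mul, ← Units.val_mul]
      congr 2
      group
    rw [← hT, h1, h1, ha, hT]
  have hmem : ∀ g : GL (Fin 3) F, g ∈ R.map (MulAut.conj T).toMonoidHom ↔
      ∃ r ∈ R, T * r * T⁻¹ = g := by
    intro g
    rw [Subgroup.mem_map]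
    rfl
  refine ⟨?_, ?_, ?_, ?_, ?_, ?_, ?_⟩
  · -- fix
    intro g hg x y
    obtain ⟨r, hr, rfl⟩ := (hmem g).mp hg
    exact hfw r (D.fix r hr) x y
  · -- norm
    intro a ha g hg
    obtain ⟨r, hr, rfl⟩ := (hmem g).mp hg
    have h1 := D.norm (T⁻¹ * a * T) (hbw a ha) r hr
    refine (hmem _).mpr ⟨_, h1, ?_⟩
    group
  · -- comm
    intro g hg g' hg'
    obtain ⟨r, hr, rfl⟩ := (hmem g).mp hg
    obtain ⟨s, hs, rfl⟩ := (hmem g').mp hg'
    have h1 := D.comm r hr s hs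
    have h2 : T * r * T⁻¹ * (T * s * T⁻¹) * (T * r * T⁻¹)⁻¹ * (T * s * T⁻¹)⁻¹ =
        T * (r * s * r⁻¹ * s⁻¹) * T⁻¹ := by group
    rw [h2]
    exact (scalars_normal (ι := Fin 3) (F := F)).conj_mem _ h1 T
  · -- pow
    intro g hg
    obtain ⟨r, hr, rfl⟩ := (hmem g).mp hg
    have h1 := D.pow r hr
    have h2 : (T * r * T⁻¹) ^ 3 = T * r ^ 3 * T⁻¹ := conj_pow
    rw [h2, h1]
    group
  · -- span
    rw [eq_top_iff]
    intro M _
    have h1 : ((T⁻¹ : GL (Fin 3) F) : Matrix (Fin 3) (Fin 3) F) * M * (T : Matrix (Fin 3) (Fin 3) F) ∈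
        Submodule.span F (matrixSet R) := by
      rw [D.span]; trivial
    let L : Matrix (Fin 3) (Fin 3) F →ₗ[F] Matrix (Fin 3) (Fin 3) F :=
      { toFun := fun Y => (T : Matrix (Fin 3) (Fin 3) F) * Y *
          ((T⁻¹ : GL (Fin 3) F) : Matrix (Fin 3) (Fin 3) F)
        map_add' := fun a b => by rw [mul_add, add_mul]
        map_smul' := fun c a => by
          rw [Matrix.mul_smul, Matrix.smul_mul]
          rfl }
    have h2 : L (((T⁻¹ : GL (Fin 3) F) : Matrix (Fin 3) (Fin 3) F) * M *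
        (T : Matrix (Fin 3) (Fin 3) F)) = M := by
      show (T : Matrix (Fin 3) (Fin 3) F) * (((T⁻¹ : GL (Fin 3) F) : Matrix (Fin 3) (Fin 3) F) * M *
        (T : Matrix (Fin 3) (Fin 3) F)) * ((T⁻¹ : GL (Fin 3) F) : Matrix (Fin 3) (Fin 3) F) = M
      simp [mul_assoc]
    rw [← h2]
    have h3 : Submodule.map L (Submodule.span F (matrixSet R)) ≤
        Submodule.span F (matrixSet (R.map (MulAut.conj T).toMonoidHom)) := by
      rw [Submodule.map_span]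
      apply Submodule.span_mono
      rintro _ ⟨_, ⟨r, hr, rfl⟩, rfl⟩
      refine ⟨T * r * T⁻¹, (hmem _).mpr ⟨r, hr, rfl⟩, ?_⟩
      show ((T * r * T⁻¹ : GL (Fin 3) F) : Matrix (Fin 3) (Fin 3) F) = _
      rw [Units.val_mul, Units.val_mul]
      rfl
    exact h3 (Submodule.mem_map_of_mem h1)
  · -- ufix
    exact hfw u D.ufix
  · -- unc
    intro g hg hns
    obtain ⟨r, hr, rfl⟩ := (hmem g).mp hg
    have hrns : r ∉ scalars (Fin 3) F := by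
      intro hrs
      exact hns ((scalars_normal (ι := Fin 3) (F := F)).conj_mem _ hrs T)
    have h1 := D.unc r hr hrns
    intro h2
    apply h1
    have h3 : T * u * T⁻¹ * (T * r * T⁻¹) * (T * u * T⁻¹)⁻¹ * (T * r * T⁻¹) =
        T * (u * r * u⁻¹ * r) * T⁻¹ := by group
    have h4 : T * r * T⁻¹ * (T * u * T⁻¹ * (T * r * T⁻¹) * (T * u * T⁻¹)⁻¹) =
        T * (r * (u * r * u⁻¹)) * T⁻¹ := by group
    rw [h3, h4] at h2
    exact mul_left_cancel (mul_right_cancel h2)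

end

/-- **U9-2**. -/
theorem exists_u3Data {F : Type*} [Field F] [Fintype F] (hF : Fintype.card F = 4)
    (f₁ : (Fin 3 → F) → (Fin 3 → F) → F) (h₁ : IsUnitaryFormPow 2 f₁) :
    ∃ (R₁ : Subgroup (GL (Fin 3) F)) (u : GL (Fin 3) F), U3Data f₁ R₁ u := by
  have hF' : Fintype.card F = 2 ^ 2 := by rw [hF]; norm_num
  obtain ⟨R, u, D⟩ := exists_u3Data_std hF
  obtain ⟨T, hT⟩ := Cfsg.Agent.Lib.H22.Asch.exists_isometry_unitary hF' (hermForm 3 F 2) f₁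
    (Cfsg.Agent.Lib.H20.Asch.isUnitaryFormPow_hermForm hF' 3) h₁
  exact ⟨_, _, u3Data_conj D T hT⟩

end Cfsg.Agent.Lib.H4.Asch
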