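import Mathlib
import Cfsg.Agent.Lib.H8.BQ0
import Cfsg.Agent.Lib.H4.BQG5
import Cfsg.Agent.Lib.H6.BQG7

/-!
S4719 Part II piece CASE B `card_le_of_nonabelian` in the exact signature of
`tools/blueprints/S4719_Q_sigs.lean` (sub-architect helper8): if the normal closure `X` is not abelian then
`v₂ |C_G(X)| ≤ a` and the induction hypothesis applies to `C_G(X)`.
-/
set_option autoImplicit false

universe u

namespace Cfsg.Agent.Lib.H4.BQ

open Subgroup Cfsg.Agent.Lib.H8.BQ

/-- `|N| |K : N| = |K|` for `N ≤ K`. -/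
theorem card_mul_relIndex' {Γ : Type u} [Group Γ] {N K : Subgroup Γ} (h : N ≤ K) :
    Nat.card N * N.relIndex K = Nat.card K := by
  have h1 := Subgroup.card_mul_index (N.subgroupOf K)
  rw [Nat.card_congr (Subgroup.subgroupOfEquivOfLe h).toEquiv] at h1
  exact h1

/-- The product formula for `H ⊔ N` when `H` normalizes `N`. -/
theorem card_sup_mul_card_inf' {Γ : Type u} [Group Γ] {H N : Subgroup Γ}
    (h : H ≤ normalizer (N : Set Γ)) :
    Nat.card (H ⊔ N : Subgroup Γ) * Nat.card (H ⊓ N : Subgroup Γ) = Nat.card H * Nat.card N := by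
  have := Subgroup.normal_subgroupOf_of_le_normalizer h
  have := Subgroup.normal_subgroupOf_sup_of_le_normalizer h
  have h0 : N.relIndex (H ⊔ N) = N.relIndex H := by
    unfold Subgroup.relIndex Subgroup.index
    exact (Nat.card_congr (QuotientGroup.quotientInfEquivProdNormalizerQuotient H N h).toEquiv).symm
  have h1 : Nat.card N * N.relIndex (H ⊔ N) = Nat.card (H ⊔ N : Subgroup Γ) :=
    card_mul_relIndex' le_sup_right
  have h2 : Nat.card (H ⊓ N : Subgroup Γ) * (H ⊓ N).relIndex H = Nat.card H :=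
    card_mul_relIndex' inf_le_left
  have h3 : (H ⊓ N).relIndex H = N.relIndex H := by
    rw [inf_comm]; exact Subgroup.inf_relIndex_right N H
  rw [← h1, ← h2, h0, h3]
  ring

/-- The hypothesis `QHyp` passes to `C_G(X)`, with a given bound on the 2-part. -/
theorem qHyp_inf_centralizer {Γ : Type u} [Group Γ] [Finite Γ] (G V X : Subgroup Γ) (a b n : ℕ)
    (h : QHyp G V a n) (hVX : V ≤ normalizer (X : Set Γ))
    (hb : (Nat.card ↥(G ⊓ centralizer (X : Set Γ))).factorization 2 ≤ b) :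
    QHyp (G ⊓ centralizer (X : Set Γ)) V b n where
  norm := le_normalizer_inf_centralizer G X V h.norm hVX
  card4 := h.card4
  exp2 := h.exp2
  val := hb
  cent := by
    intro v hv hv1
    refine le_trans ?_ (h.cent v hv hv1)
    exact Subgroup.card_le_of_le (inf_le_inf_right _ inf_le_left)

theorem card_le_of_nonabelian {Γ : Type u} [Group Γ] [Finite Γ] (G V X : Subgroup Γ)
    (a n F C : ℕ) (hIH : QStmt.{u} a n F) (h : QHyp G V (a + 1) n) (hfree : OddFree G V)
    (hXG : X ≤ G) (hGX : G ≤ normalizer (X : Set Γ)) (hVX : V ≤ normalizer (X : Set Γ))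
    (hnab : ¬ X ≤ centralizer (X : Set Γ))
    (hC : Nat.card G ≤ C * Nat.card ↥(G ⊓ centralizer (X : Set Γ))) :
    Nat.card G ≤ C * F := by
  have hp2 : Fact (Nat.Prime 2) := ⟨Nat.prime_two⟩
  set N : Subgroup Γ := G ⊓ centralizer (X : Set Γ) with hN
  have hNG : N ≤ G := inf_le_left
  have hNC : N ≤ centralizer (X : Set Γ) := inf_le_right
  -- the 2-part of `|N|`
  have hval : (Nat.card N).factorization 2 ≤ a := by
    by_contra hcon
    push Not at hcon
    have hNpos : Nat.card N ≠ 0 := Nat.card_pos.ne'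
    have hGpos : Nat.card G ≠ 0 := Nat.card_pos.ne'
    have hdvdN : 2 ^ (a + 1) ∣ Nat.card N :=
      (Nat.Prime.pow_dvd_iff_le_factorization Nat.prime_two hNpos).mpr hcon
    -- a subgroup of order `2 ^ (a + 1)` of `N`
    obtain ⟨K, hK⟩ := Sylow.exists_subgroup_card_pow_prime 2 hdvdN
    set T₀ : Subgroup Γ := K.map N.subtype with hT₀
    have hT₀card : Nat.card T₀ = 2 ^ (a + 1) := by
      rw [hT₀, Subgroup.card_map_of_injective (Subgroup.subtype_injective _)]; exact hK
    have hT₀N : T₀ ≤ N := Subgroup.map_subtype_le _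
    have hT₀pg : IsPGroup 2 T₀ := IsPGroup.of_card hT₀card
    -- `|G| / 2 ^ (a + 1)` is odd
    have hNdvdG : Nat.card N ∣ Nat.card G := Subgroup.card_dvd_of_le hNG
    have hnot : ¬ 2 ^ (a + 2) ∣ Nat.card G := by
      intro hd
      have := (Nat.Prime.pow_dvd_iff_le_factorization Nat.prime_two hGpos).mp hd
      have := h.val
      omega
    -- the product formula
    have hnorm : T₀ ≤ normalizer (X : Set Γ) := hT₀N.trans (hNG.trans hGX)
    have hprod := card_sup_mul_card_inf' hnorm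
    have hsupG : T₀ ⊔ X ≤ G := sup_le (hT₀N.trans hNG) hXG
    obtain ⟨r, hr⟩ := Subgroup.card_dvd_of_le hsupG
    obtain ⟨q, hq⟩ := Subgroup.card_dvd_of_le (le_sup_left : T₀ ≤ T₀ ⊔ X)
    have hipos : 0 < Nat.card (T₀ ⊓ X : Subgroup Γ) := Nat.card_pos
    have hxq : Nat.card X = q * Nat.card (T₀ ⊓ X : Subgroup Γ) := by
      have h1 : Nat.card T₀ * (q * Nat.card (T₀ ⊓ X : Subgroup Γ)) = Nat.card T₀ * Nat.card X := by
        rw [← hprod, hq]; ring
      have hT₀pos : 0 < Nat.card T₀ := Nat.card_pos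
      exact (Nat.eq_of_mul_eq_mul_left hT₀pos h1).symm
    have hqodd : ¬ 2 ∣ q := by
      intro hd
      apply hnot
      obtain ⟨q', rfl⟩ := hd
      rw [hr, hq, hT₀card]
      exact ⟨q' * r, by ring⟩
    have hidx : ¬ 2 ∣ Nat.card X / Nat.card (T₀ ⊓ X : Subgroup Γ) := by
      rw [hxq, Nat.mul_div_cancel _ hipos]
      exact hqodd
    have hXT := Cfsg.Agent.Lib.H6.BQ.eq_of_central_sylow G V X (T₀ ⊓ X) hfree hXG hGX hVX
      inf_le_right (hT₀pg.to_le inf_le_left) hidx ((inf_le_left.trans hT₀N).trans hNC)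
    apply hnab
    calc X = T₀ ⊓ X := hXT
      _ ≤ centralizer (X : Set Γ) := (inf_le_left.trans hT₀N).trans hNC
  have hQ : QHyp N V a n := qHyp_inf_centralizer G V X (a + 1) a n h hVX hval
  have hNF : Nat.card N ≤ F := hIH Γ N V hQ
  calc Nat.card G ≤ C * Nat.card N := hC
    _ ≤ C * F := Nat.mul_le_mul_left _ hNF

end Cfsg.Agent.Lib.H4.BQ
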