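import Mathlib
import Cfsg.Agent.Lib.H8.BQ0
import Cfsg.Agent.Lib.H4.BQG5
import Cfsg.Agent.Lib.H4.BQCASEB
import Cfsg.Agent.Lib.H6.BQG7
import Cfsg.Agent.Lib.H16.BQQUOT

/-!
S4719 Part II piece CASE A `card_le_of_abelian` in the exact signature of
`tools/blueprints/S4719_Q_sigs.lean` (sub-architect helper8): if the normal closure `X` is abelian then it is a
nontrivial 2-group, central in `N = C_G(X)`; either `N ≤ C_G(v)` for some `v ≠ 1` of `V`, or the induction
hypothesis applies to `N / X`.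
-/
set_option autoImplicit false

universe u

namespace Cfsg.Agent.Lib.H4.BQ

open Subgroup Cfsg.Agent.Lib.H8.BQ

theorem card_le_of_abelian {Γ : Type u} [Group Γ] [Finite Γ] (G V X : Subgroup Γ) (a n F C : ℕ)
    (hIH : QStmt.{u} a n F) (h : QHyp G V (a + 1) n) (hfree : OddFree G V)
    (hXG : X ≤ G) (hX1 : X ≠ ⊥) (hGX : G ≤ normalizer (X : Set Γ))
    (hVX : V ≤ normalizer (X : Set Γ)) (hab : X ≤ centralizer (X : Set Γ))
    (hC : Nat.card G ≤ C * Nat.card ↥(G ⊓ centralizer (X : Set Γ))) :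
    Nat.card G ≤ max (C * n) (C * 2 ^ (a + 1) * F) := by
  have hp2 : Fact (Nat.Prime 2) := ⟨Nat.prime_two⟩
  set N : Subgroup Γ := G ⊓ centralizer (X : Set Γ) with hN
  have hNG : N ≤ G := inf_le_left
  have hNC : N ≤ centralizer (X : Set Γ) := inf_le_right
  have hXN : X ≤ N := le_inf hXG hab
  have hXpos : Nat.card X ≠ 0 := Nat.card_pos.ne'
  have hGpos : Nat.card G ≠ 0 := Nat.card_pos.ne'
  have hNpos : Nat.card N ≠ 0 := Nat.card_pos.ne'
  -- `X` is a 2-group
  set e := (Nat.card X).factorization 2 with he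
  have hXcard : Nat.card X = 2 ^ e := by
    obtain ⟨K, hK⟩ := Sylow.exists_subgroup_card_pow_prime 2 (Nat.ordProj_dvd (Nat.card X) 2)
    set T : Subgroup Γ := K.map X.subtype with hT
    have hTcard : Nat.card T = 2 ^ e := by
      rw [hT, Subgroup.card_map_of_injective (Subgroup.subtype_injective _)]; exact hK
    have hTX : T ≤ X := Subgroup.map_subtype_le _
    have hidx : ¬ 2 ∣ Nat.card X / Nat.card T := by
      rw [hTcard]
      exact Nat.not_dvd_ordCompl Nat.prime_two hXpos
    have hXT := Cfsg.Agent.Lib.H6.BQ.eq_of_central_sylow G V X T hfree hXG hGX hVX hTX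
      (IsPGroup.of_card hTcard) hidx (hTX.trans hab)
    rw [← hTcard]
    exact congrArg (fun S : Subgroup Γ => Nat.card S) hXT
  have he1 : 1 ≤ e := by
    by_contra hcon
    have he0 : e = 0 := by omega
    rw [he0, pow_zero] at hXcard
    exact hX1 (Subgroup.card_eq_one.mp hXcard)
  have hXdvdG : Nat.card X ∣ Nat.card G := Subgroup.card_dvd_of_le hXG
  have heG : e ≤ a + 1 := by
    have h1 : 2 ^ e ∣ Nat.card G := hXcard ▸ hXdvdG
    have h2 := (Nat.Prime.pow_dvd_iff_le_factorization Nat.prime_two hGpos).mp h1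
    exact h2.trans h.val
  have hXle : Nat.card X ≤ 2 ^ (a + 1) := by
    rw [hXcard]; exact Nat.pow_le_pow_right (by norm_num) heG
  -- the two cases
  by_cases hv : ∃ v ∈ V, v ≠ 1 ∧ v ∈ X
  · obtain ⟨v, hvV, hv1, hvX⟩ := hv
    have hNle : N ≤ G ⊓ centralizer {v} := by
      refine le_inf hNG ?_
      intro x hx
      have hxc := hNC hx
      rw [mem_centralizer_iff] at hxc
      rw [mem_centralizer_singleton_iff]
      exact (hxc v hvX).symm
    have hNn : Nat.card N ≤ n := (Subgroup.card_le_of_le hNle).trans (h.cent v hvV hv1)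
    calc Nat.card G ≤ C * Nat.card N := hC
      _ ≤ C * n := Nat.mul_le_mul_left _ hNn
      _ ≤ max (C * n) (C * 2 ^ (a + 1) * F) := le_max_left _ _
  · push Not at hv
    have hdisj : V ⊓ X = ⊥ := by
      rw [eq_bot_iff]
      rintro v ⟨hvV, hvX⟩
      rw [Subgroup.mem_bot]
      by_contra hv1
      exact hv v hvV hv1 hvX
    have hvalN : (Nat.card N).factorization 2 ≤ a + 1 := by
      have hd : Nat.card N ∣ Nat.card G := Subgroup.card_dvd_of_le hNG
      exact ((Nat.factorization_le_iff_dvd hNpos hGpos).mpr hd 2).trans h.val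
    have hQN : QHyp N V (a + 1) n := qHyp_inf_centralizer G V X (a + 1) (a + 1) n h hVX hvalN
    obtain ⟨Γ', _, _, G', V', hQ', hcard, -⟩ :=
      Cfsg.Agent.Lib.H16.BQ.exists_quotient N V X (a + 1) n hQN hXN (hNG.trans hGX) hVX hdisj
    have hG'pos : Nat.card G' ≠ 0 := Nat.card_pos.ne'
    have hval' : (Nat.card G').factorization 2 ≤ a := by
      have h1 : (Nat.card N).factorization 2 =
          (Nat.card G').factorization 2 + (Nat.card X).factorization 2 := by
        rw [← hcard, Nat.factorization_mul hG'pos hXpos, Finsupp.add_apply]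
      omega
    have hQ'' : QHyp G' V' a n :=
      { norm := hQ'.norm, card4 := hQ'.card4, exp2 := hQ'.exp2, val := hval', cent := hQ'.cent }
    have hG'F : Nat.card G' ≤ F := hIH Γ' G' V' hQ''
    have hNle : Nat.card N ≤ 2 ^ (a + 1) * F := by
      rw [← hcard, mul_comm]
      exact Nat.mul_le_mul hXle hG'F
    calc Nat.card G ≤ C * Nat.card N := hC
      _ ≤ C * (2 ^ (a + 1) * F) := Nat.mul_le_mul_left _ hNle
      _ = C * 2 ^ (a + 1) * F := by ring
      _ ≤ max (C * n) (C * 2 ^ (a + 1) * F) := le_max_right _ _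

end Cfsg.Agent.Lib.H4.BQ
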