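import Mathlib

set_option autoImplicit false

/-! # S5886-T422, model computations: `GL₂(4) < GL₄(2)`

4 × 4 matrices over the field of two elements as four rows of four booleans. `w0` is the standard
structure (`w0 * w0 = w0 + 1`); every structure is conjugate to `w0` (`tab1`); the centraliser of `w0`
has four orbits on the other 110 structures (`tab2`); for each representative `R` the elementary
matrices are words in the centralisers of `w0` and `R` (`certs`). -/

namespace Cfsg.Agent.Lib.H4.C3Max

/-- a row: four booleans -/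
structure V4 where
  a : Bool
  b : Bool
  c : Bool
  d : Bool

/-- a 4 × 4 matrix over the field of two elements: four rows -/
structure M4 where
  r0 : V4
  r1 : V4
  r2 : V4
  r3 : V4

namespace V4

def zero : V4 := ⟨false, false, false, false⟩

def add (u v : V4) : V4 := ⟨xor u.a v.a, xor u.b v.b, xor u.c v.c, xor u.d v.d⟩

/-- `t • v` -/
def sel (t : Bool) (v : V4) : V4 := ⟨t && v.a, t && v.b, t && v.c, t && v.d⟩

def beq (u v : V4) : Bool := (u.a == v.a) && (u.b == v.b) && (u.c == v.c) && (u.d == v.d)

theorem beq_iff (u v : V4) : u.beq v = true ↔ u = v := by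
  rcases u with ⟨a, b, c, d⟩
  rcases v with ⟨a', b', c', d'⟩
  simp [beq, and_assoc]

def get (v : V4) : Fin 4 → Bool := ![v.a, v.b, v.c, v.d]

def ofN (n : Nat) : V4 := ⟨n.testBit 0, n.testBit 1, n.testBit 2, n.testBit 3⟩

end V4

namespace M4

def one : M4 := ⟨⟨true, false, false, false⟩, ⟨false, true, false, false⟩, ⟨false, false, true, false⟩,
  ⟨false, false, false, true⟩⟩

def add (m n : M4) : M4 := ⟨m.r0.add n.r0, m.r1.add n.r1, m.r2.add n.r2, m.r3.add n.r3⟩

/-- the row vector `r * B` -/
def rowMul (r : V4) (B : M4) : V4 :=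
  ((V4.sel r.a B.r0).add (V4.sel r.b B.r1)).add ((V4.sel r.c B.r2).add (V4.sel r.d B.r3))

def mul (A B : M4) : M4 := ⟨rowMul A.r0 B, rowMul A.r1 B, rowMul A.r2 B, rowMul A.r3 B⟩

def beq (m n : M4) : Bool := m.r0.beq n.r0 && m.r1.beq n.r1 && m.r2.beq n.r2 && m.r3.beq n.r3

theorem beq_iff (m n : M4) : m.beq n = true ↔ m = n := by
  rcases m with ⟨a, b, c, d⟩
  rcases n with ⟨a', b', c', d'⟩
  simp [beq, V4.beq_iff, and_assoc]

def get (m : M4) (i j : Fin 4) : Bool := (![m.r0, m.r1, m.r2, m.r3] i).get j

def ofFn (f : Fin 4 → Fin 4 → Bool) : M4 :=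
  ⟨⟨f 0 0, f 0 1, f 0 2, f 0 3⟩, ⟨f 1 0, f 1 1, f 1 2, f 1 3⟩, ⟨f 2 0, f 2 1, f 2 2, f 2 3⟩,
    ⟨f 3 0, f 3 1, f 3 2, f 3 3⟩⟩

theorem get_ofFn (f : Fin 4 → Fin 4 → Bool) (i j : Fin 4) : (ofFn f).get i j = f i j := by
  fin_cases i <;> fin_cases j <;> rfl

theorem ofFn_get (m : M4) : ofFn m.get = m := rfl

theorem ext_get {m n : M4} (h : ∀ i j, m.get i j = n.get i j) : m = n := by
  rw [← ofFn_get m, ← ofFn_get n]
  congr 1
  funext i j
  exact h i j

/-- decoding a matrix from a number below `2 ^ 16` -/
def ofN (n : Nat) : M4 := ⟨V4.ofN n, V4.ofN (n >>> 4), V4.ofN (n >>> 8), V4.ofN (n >>> 12)⟩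

end M4

open M4

/-- the standard structure -/
def w0 : M4 := ⟨⟨false, true, false, false⟩, ⟨true, true, false, false⟩, ⟨false, false, false, true⟩,
  ⟨false, false, true, true⟩⟩

/-- `w * w = w + 1` -/
def isStr (w : M4) : Bool := (w.mul w).beq (w.add one)

/-- the elementary matrix `1 + E i j` -/
def Emat (i j : Fin 4) : M4 := ofFn fun a b => (a == b) || ((a == i) && (b == j))

def allB : List Bool := [false, true]

theorem mem_allB (b : Bool) : b ∈ allB := by cases b <;> decide

def allV4 : List V4 :=
  allB.flatMap fun a => allB.flatMap fun b => allB.flatMap fun c => allB.map fun d => ⟨a, b, c, d⟩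

theorem mem_allV4 (v : V4) : v ∈ allV4 := by
  rcases v with ⟨a, b, c, d⟩
  simp only [allV4, List.mem_flatMap, List.mem_map]
  exact ⟨a, mem_allB a, b, mem_allB b, c, mem_allB c, d, mem_allB d, rfl⟩

/-- a boolean property holds for all matrices -/
def allM4 (f : M4 → Bool) : Bool :=
  allV4.all fun r0 => allV4.all fun r1 => allV4.all fun r2 => allV4.all fun r3 => f ⟨r0, r1, r2, r3⟩

theorem allM4_iff (f : M4 → Bool) : allM4 f = true ↔ ∀ m, f m = true := by
  constructor
  · intro h m
    rcases m with ⟨r0, r1, r2, r3⟩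
    simp only [allM4, List.all_eq_true] at h
    exact h r0 (mem_allV4 _) r1 (mem_allV4 _) r2 (mem_allV4 _) r3 (mem_allV4 _)
  · intro h
    simp only [allM4, List.all_eq_true]
    intro r0 _ r1 _ r2 _ r3 _
    exact h _

def allFin4 : List (Fin 4) := [0, 1, 2, 3]

theorem mem_allFin4 (i : Fin 4) : i ∈ allFin4 := by fin_cases i <;> decide

/-- table for the normal form of a structure: `(w, p, q)` with `w p = p w0`, `p q = 1` -/
def tab1 : List (Nat × Nat × Nat) :=
  [(51250, 8648, 4996), (63794, 41705, 51789), (55858, 10473, 20101), (60210, 35561, 34505), (19506, 9160, 5004), (27954, 33513, 36425),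
   (32306, 43241, 19141), (24370, 10985, 50829), (51219, 8520, 4740), (59667, 33387, 34381), (64019, 43115, 20169), (56083, 10859, 51845),
   (19475, 9032, 4748), (32019, 41579, 50761), (24083, 10347, 19085), (28435, 35435, 36549), (42372, 33345, 33345), (62868, 41569, 50753),
   (9636, 33473, 35393), (26036, 33505, 36417), (46532, 41537, 49729), (58836, 33377, 34369), (30180, 41665, 52801), (13812, 41697, 51777),
   (41349, 33347, 33349), (57749, 33379, 34373), (8613, 33475, 35397), (29109, 41699, 51781), (61893, 41539, 49733), (45525, 41571, 50757),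
   (12773, 41667, 52805), (25077, 33507, 36421), (44934, 35401, 33481), (56982, 10345, 19077), (11686, 33481, 35401), (19638, 9162, 39820),
   (23494, 10825, 49805), (15062, 43113, 20165), (47590, 41673, 52813), (51446, 8682, 37764), (43399, 33355, 33357), (51351, 8522, 37508),
   (11175, 35531, 35525), (23223, 10475, 20109), (15815, 41547, 49737), (19671, 9066, 39564), (57319, 10955, 52869), (48887, 43243, 19145),
   (38472, 10305, 17025), (40792, 10849, 51841), (37480, 10433, 18049), (39544, 10465, 20097), (38856, 10817, 49793), (40664, 10337, 19073),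
   (39912, 10945, 52865), (37880, 10977, 50817), (5705, 10307, 17033), (7769, 10339, 19081), (4713, 10435, 18057), (7033, 10979, 50825),
   (8137, 10819, 49801), (6105, 10851, 51849), (5097, 10947, 52873), (6905, 10467, 20105), (63050, 43081, 17093), (60762, 33385, 34377),
   (53866, 10441, 18053), (51322, 8680, 7044), (31178, 41545, 49741), (25562, 35433, 36553), (22506, 10953, 52877), (19706, 9192, 7052),
   (22091, 10315, 17037), (19547, 9064, 6796), (29291, 43211, 18121), (27003, 33515, 36429), (54219, 10827, 49797), (51419, 8552, 6788),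
   (65003, 41675, 52809), (59387, 35563, 34501), (46668, 43073, 17089), (27484, 35425, 36545), (62060, 43201, 18113), (15996, 43233, 19137),
   (42892, 35393, 33473), (31388, 43105, 20161), (12204, 35521, 35521), (58300, 35553, 34497), (30285, 43075, 17101), (47709, 43107, 20173),
   (12909, 43203, 18125), (61309, 35555, 34509), (43917, 35395, 33485), (26525, 35427, 36557), (9133, 35523, 35533), (65213, 43235, 19149),
   (54862, 10313, 17029), (14686, 41577, 50765), (45678, 43209, 18117), (19582, 9194, 37772), (44430, 33353, 33353), (21406, 10857, 51853),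
   (10158, 35529, 35529), (51390, 8650, 39812), (13903, 43083, 17097), (51295, 8554, 39556), (21103, 10443, 18061), (48511, 41707, 51785),
   (41871, 35403, 33477), (19615, 9034, 37516), (10671, 33483, 35405), (55231, 10987, 50821)]

/-- the four representatives of the orbits of the centraliser of `w0` on the other structures -/
def repCode : Nat → Nat
  | 0 => 63794
  | 1 => 19506
  | 2 => 32019
  | _ => 62868

/-- table: `(A, c, d, k)` with `c d = 1`, `c w0 = w0 c`, `d A c = rep k` -/
def tab2 : List (Nat × Nat × Nat × Nat) :=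
  [(63794, 33825, 33825, 0), (55858, 19489, 51233, 0), (60210, 51233, 19489, 0), (30180, 59780, 8630, 0), (45525, 28036, 8599, 0),
   (51446, 8580, 8580, 0), (15815, 42372, 8613, 0), (37480, 38788, 8698, 0), (7769, 56196, 8667, 0), (51322, 4996, 8648, 0),
   (22091, 24452, 8681, 0), (12204, 32388, 8574, 0), (26525, 46724, 8543, 0), (51390, 12932, 8524, 0), (41871, 64132, 8557, 0),
   (19506, 33825, 33825, 1), (27954, 42273, 42273, 1), (32306, 46625, 46625, 1), (24370, 38689, 38689, 1), (51219, 8580, 8580, 1),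
   (59667, 42372, 8613, 1), (64019, 59780, 8630, 1), (56083, 28036, 8599, 1), (42372, 32421, 46743, 1), (8613, 56229, 38838, 1),
   (19638, 33957, 33957, 1), (51351, 8613, 42372, 1), (38856, 59813, 64219, 1), (5097, 46757, 56314, 1), (19706, 19621, 51433, 1),
   (51419, 5029, 59848, 1), (46668, 38821, 32351, 1), (12909, 28069, 24446, 1), (19582, 51365, 19565, 1), (51295, 12965, 27980, 1),
   (32019, 33825, 33825, 2), (24083, 19489, 51233, 2), (28435, 51233, 19489, 2), (13812, 28036, 8599, 2), (61893, 59780, 8630, 2),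
   (47590, 42372, 8613, 2), (19671, 8580, 8580, 2), (39544, 56196, 8667, 2), (5705, 38788, 8698, 2), (53866, 24452, 8681, 2),
   (19547, 4996, 8648, 2), (58300, 46724, 8543, 2), (43917, 32388, 8574, 2), (10158, 64132, 8557, 2), (19615, 12932, 8524, 2),
   (62868, 33825, 33825, 3), (9636, 59698, 32275, 3), (26036, 27923, 56114, 3), (46532, 42372, 8613, 3), (58836, 8613, 42372, 3),
   (41349, 56114, 27923, 3), (57749, 32275, 59698, 3), (29109, 42273, 42273, 3), (12773, 33957, 33957, 3), (25077, 8580, 8580, 3),
   (44934, 19475, 51250, 3), (56982, 64050, 24339, 3), (11686, 46625, 46625, 3), (23494, 56229, 38838, 3), (15062, 28036, 8599, 3),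
   (43399, 38689, 38689, 3), (11175, 24339, 64050, 3), (23223, 51250, 19475, 3), (57319, 59780, 8630, 3), (48887, 32421, 46743, 3),
   (38472, 24452, 8681, 3), (40792, 5029, 59848, 3), (40664, 19489, 51233, 3), (39912, 38706, 46611, 3), (37880, 56083, 24370, 3),
   (4713, 19621, 51433, 3), (7033, 4996, 8648, 3), (8137, 46642, 42259, 3), (6105, 59667, 27954, 3), (6905, 24353, 59681, 3),
   (63050, 46757, 56314, 3), (60762, 56196, 8667, 3), (31178, 51219, 19506, 3), (25562, 42290, 38675, 3), (22506, 27937, 64033, 3),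
   (29291, 38788, 8698, 3), (27003, 59813, 64219, 3), (54219, 32289, 56097, 3), (65003, 64019, 32306, 3), (59387, 33842, 33811, 3),
   (27484, 51233, 19489, 3), (62060, 32306, 64019, 3), (15996, 46611, 38706, 3), (42892, 64132, 8557, 3), (31388, 12965, 27980, 3),
   (30285, 27954, 59667, 3), (47709, 38675, 42290, 3), (61309, 64033, 27937, 3), (9133, 51365, 19565, 3), (65213, 12932, 8524, 3),
   (54862, 33811, 33842, 3), (14686, 24370, 56083, 3), (45678, 56097, 32289, 3), (44430, 28069, 24446, 3), (21406, 46724, 8543, 3),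
   (13903, 59681, 24353, 3), (21103, 42259, 46642, 3), (48511, 19506, 51219, 3), (10671, 32388, 8574, 3), (55231, 38821, 32351, 3)]

/-- certificates: `(k, i, j, word)`: the elementary matrix `E i j` as a product of elements (with inverses) centralising `w0` or `rep k` -/
def certs : List (Nat × Nat × Nat × List (Nat × Nat)) :=
  [(0, 0, 1, [(56264, 5114), (56555, 49004), (33974, 33887), (17791, 14444)]),
   (0, 0, 2, [(12909, 46668), (28179, 52018), (38788, 8698)]),
   (0, 0, 3, [(12909, 46668), (55346, 20243), (28104, 5046)]),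
   (0, 1, 0, [(12909, 46668), (39078, 18284), (5029, 59848), (47751, 11116)]),
   (0, 1, 2, [(4940, 13000), (28179, 52018), (4940, 13000)]),
   (0, 1, 3, [(12909, 46668), (28179, 52018), (56196, 8667)]),
   (0, 2, 0, [(28179, 52018), (56114, 27923)]),
   (0, 2, 1, [(46611, 38706), (38194, 46867)]),
   (0, 2, 3, [(56264, 5114), (25479, 9689), (59743, 56297), (21612, 21612)]),
   (0, 3, 0, [(28179, 52018), (42290, 38675), (64289, 31777)]),
   (0, 3, 1, [(28179, 52018), (59698, 32275)]),
   (0, 3, 2, [(12909, 46668), (31467, 63157), (46757, 56314), (39078, 18284)]),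
   (1, 0, 1, [(56264, 5114), (24136, 4730), (59898, 59898), (28538, 28538), (46718, 24502)]),
   (1, 0, 2, [(33918, 34011), (33951, 33914)]),
   (1, 0, 3, [(51429, 19629), (19621, 51433)]),
   (1, 1, 0, [(56264, 5114), (24136, 4730), (59898, 59898), (28538, 28538), (38751, 24429)]),
   (1, 1, 2, [(33974, 33887), (33883, 34038)]),
   (1, 1, 3, [(34011, 33918), (34038, 33883)]),
   (1, 2, 0, [(46611, 38706), (38450, 46355)]),
   (1, 2, 1, [(32050, 55827), (64019, 32306)]),
   (1, 2, 3, [(56264, 5114), (24136, 4730), (59898, 59898), (60333, 56054), (46825, 28055)]),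
   (1, 3, 0, [(27937, 64033), (60193, 32033)]),
   (1, 3, 1, [(63763, 28466), (27954, 59667)]),
   (1, 3, 2, [(56264, 5114), (24136, 4730), (59898, 59898), (60333, 56054), (64109, 56215)]),
   (2, 0, 1, [(56264, 5114), (56555, 49004), (33974, 33887), (17791, 14444)]),
   (2, 0, 2, [(12909, 46668), (28179, 52018), (38788, 8698)]),
   (2, 0, 3, [(12909, 46668), (55346, 20243), (28104, 5046)]),
   (2, 1, 0, [(12909, 46668), (39078, 18284), (5029, 59848), (47751, 11116)]),
   (2, 1, 2, [(4940, 13000), (28179, 52018), (4940, 13000)]),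
   (2, 1, 3, [(12909, 46668), (28179, 52018), (56196, 8667)]),
   (2, 2, 0, [(28179, 52018), (56114, 27923)]),
   (2, 2, 1, [(46611, 38706), (38194, 46867)]),
   (2, 2, 3, [(56264, 5114), (25479, 9689), (59743, 56297), (21612, 21612)]),
   (2, 3, 0, [(28179, 52018), (42290, 38675), (64289, 31777)]),
   (2, 3, 1, [(28179, 52018), (59698, 32275)]),
   (2, 3, 2, [(12909, 46668), (31467, 63157), (46757, 56314), (39078, 18284)]),
   (3, 0, 1, [(8698, 38788), (46468, 8693)]),
   (3, 0, 2, [(56264, 5114), (42831, 21211), (56196, 8667)]),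
   (3, 0, 3, [(4811, 57160), (56114, 27923), (14988, 9070)]),
   (3, 1, 0, [(38751, 24429), (24189, 38831)]),
   (3, 1, 2, [(24376, 6111), (5083, 24520)]),
   (3, 1, 3, [(4811, 57160), (28030, 38906), (23401, 59231)]),
   (3, 2, 0, [(7789, 28632), (32456, 4973)]),
   (3, 2, 1, [(24539, 42349), (42831, 21211)]),
   (3, 2, 3, [(59743, 56297), (23401, 59231)]),
   (3, 3, 0, [(56264, 5114), (24376, 6111), (46743, 32421)]),
   (3, 3, 1, [(7789, 28632), (28154, 32365)]),
   (3, 3, 2, [(38751, 24429), (23401, 59231)])]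

def rep (k : Nat) : M4 := ofN (repCode k)

/-- the check for `tab1` -/
def chk1 (w : M4) : Bool :=
  tab1.any fun t =>
    (ofN t.1).beq w && ((w.mul (ofN t.2.1)).beq ((ofN t.2.1).mul w0) &&
      (((ofN t.2.1).mul (ofN t.2.2)).beq one && ((ofN t.2.2).mul (ofN t.2.1)).beq one))

/-- the check for `tab2` -/
def chk2 (A : M4) : Bool :=
  A.beq w0 || (A.beq (w0.add one) || tab2.any fun t =>
    (ofN t.1).beq A && (((ofN t.2.1).mul (ofN t.2.2.1)).beq one &&
      (((ofN t.2.2.1).mul (ofN t.2.1)).beq one && (((ofN t.2.1).mul w0).beq (w0.mul (ofN t.2.1)) &&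
        ((((ofN t.2.2.1).mul A).mul (ofN t.2.1)).beq (rep t.2.2.2) && decide (t.2.2.2 < 4))))))

/-- both checks, for structures -/
def chk12 (w : M4) : Bool := !(isStr w) || (chk1 w && chk2 w)

/-- an element of a word: invertible, centralising `w0` or `R` -/
def goodEl (R : M4) (t : Nat × Nat) : Bool :=
  ((ofN t.1).mul (ofN t.2)).beq one && (((ofN t.2).mul (ofN t.1)).beq one &&
    (((ofN t.1).mul w0).beq (w0.mul (ofN t.1)) || ((ofN t.1).mul R).beq (R.mul (ofN t.1))))

/-- the product of a word -/
def prodL : List (Nat × Nat) → M4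
  | [] => one
  | t :: l => (ofN t.1).mul (prodL l)

/-- the check for `certs` -/
def chk3 (k : Nat) (i j : Fin 4) : Bool :=
  (i == j) || certs.any fun e =>
    (e.1 == k) && ((e.2.1 == i.val) && ((e.2.2.1 == j.val) &&
      (e.2.2.2.all (goodEl (rep k)) && (prodL e.2.2.2).beq (Emat i j))))

/-! ## the computations -/

theorem w0_isStr : isStr w0 = true := by decide +kernel

set_option maxRecDepth 100000 in
theorem chk12_all : allM4 chk12 = true := by decide +kernel

set_option maxRecDepth 100000 in
theorem chk3_all :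
    ([0, 1, 2, 3] : List Nat).all (fun k => allFin4.all fun i => allFin4.all fun j => chk3 k i j) = true := by
  decide +kernel

/-! ## consequences -/

theorem isStr_iff (w : M4) : isStr w = true ↔ w.mul w = w.add one := beq_iff _ _

theorem w0_mul_w0 : w0.mul w0 = w0.add one := (isStr_iff w0).1 w0_isStr

/-- every structure is conjugate to `w0` -/
theorem m1 (w : M4) (hw : w.mul w = w.add one) :
    ∃ p q : M4, w.mul p = p.mul w0 ∧ p.mul q = one ∧ q.mul p = one := by
  have h := (allM4_iff chk12).1 chk12_all w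
  simp only [chk12, Bool.or_eq_true, Bool.not_eq_true', Bool.and_eq_true] at h
  rcases h with h | ⟨h, -⟩
  · rw [(isStr_iff w).2 hw] at h; exact absurd h (by simp)
  · simp only [chk1, List.any_eq_true, Bool.and_eq_true, beq_iff] at h
    obtain ⟨t, -, -, h1, h2, h3⟩ := h
    exact ⟨_, _, h1, h2, h3⟩

/-- every structure other than `w0`, `w0 + 1` is conjugate under the centraliser of `w0` to one of the four
representatives -/
theorem m2 (A : M4) (hA : A.mul A = A.add one) (h0 : A ≠ w0) (h1 : A ≠ w0.add one) :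
    ∃ (c d : M4) (k : Nat), k < 4 ∧ c.mul d = one ∧ d.mul c = one ∧ c.mul w0 = w0.mul c ∧
      (d.mul A).mul c = rep k := by
  have h := (allM4_iff chk12).1 chk12_all A
  simp only [chk12, Bool.or_eq_true, Bool.not_eq_true', Bool.and_eq_true] at h
  rcases h with h | ⟨-, h⟩
  · rw [(isStr_iff A).2 hA] at h; exact absurd h (by simp)
  · simp only [chk2, Bool.or_eq_true, List.any_eq_true, Bool.and_eq_true, beq_iff, decide_eq_true_eq] at h
    rcases h with h | h | h
    · exact absurd h h0
    · exact absurd h h1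
    · obtain ⟨t, -, -, h1, h2, h3, h4, h5⟩ := h
      exact ⟨_, _, _, h5, h1, h2, h3, h4⟩

/-- the elementary matrices are words in the centralisers of `w0` and of a representative -/
theorem m3 (k : Nat) (hk : k < 4) (i j : Fin 4) (hij : i ≠ j) :
    ∃ L : List (Nat × Nat), (∀ t ∈ L, goodEl (rep k) t = true) ∧ prodL L = Emat i j := by
  have h := chk3_all
  simp only [List.all_eq_true] at h
  have hk' : k ∈ ([0, 1, 2, 3] : List Nat) := by
    simp only [List.mem_cons, List.not_mem_nil, or_false]; omega
  have h' := h k hk' i (mem_allFin4 i) j (mem_allFin4 j)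
  simp only [chk3, Bool.or_eq_true, beq_iff_eq, List.any_eq_true, Bool.and_eq_true, List.all_eq_true,
    beq_iff] at h'
  rcases h' with h' | h'
  · exact absurd h' hij
  · obtain ⟨e, -, -, -, -, h1, h2⟩ := h'
    exact ⟨_, h1, h2⟩

end Cfsg.Agent.Lib.H4.C3Max
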