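import Mathlib
import Cfsg.Prelude.Def_GeometricClasses
import Cfsg.Agent.Lib.H2.SLGen
import Cfsg.Agent.Lib.H4.C3MaxT422a

set_option autoImplicit false

/-! # S5886-T422: `ΓL₂(4)` is maximal in `GL₄(2)` (transfer from the boolean model) -/

namespace Cfsg.Agent.Lib.H4.C3Max

open Matrix
open scoped MatrixGroups

section transfer

variable {F : Type*} [Field F]

/-- booleans to field elements -/
def b2f (b : Bool) : F := if b then 1 else 0

@[simp] theorem b2f_false : (b2f false : F) = 0 := by simp [b2f]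

@[simp] theorem b2f_true : (b2f true : F) = 1 := by simp [b2f]

theorem b2f_and (a b : Bool) : (b2f (a && b) : F) = b2f a * b2f b := by
  cases a <;> cases b <;> simp

theorem b2f_xor (h2 : (1 : F) + 1 = 0) (a b : Bool) : (b2f (xor a b) : F) = b2f a + b2f b := by
  cases a <;> cases b <;> simp [h2]

theorem b2f_injective : Function.Injective (b2f : Bool → F) := by
  intro a b h
  cases a <;> cases b <;> simp at h ⊢

/-- the matrix of a model matrix -/
def toMat (m : M4) : Matrix (Fin 4) (Fin 4) F := fun i j => b2f (m.get i j)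

theorem toMat_injective : Function.Injective (toMat : M4 → Matrix (Fin 4) (Fin 4) F) := by
  intro m n h
  apply M4.ext_get
  intro i j
  exact b2f_injective (congrFun (congrFun h i) j)

theorem toMat_one : (toMat M4.one : Matrix (Fin 4) (Fin 4) F) = 1 := by
  ext i j
  fin_cases i <;> fin_cases j <;> simp [toMat, M4.get, V4.get, M4.one]

theorem toMat_add (h2 : (1 : F) + 1 = 0) (m n : M4) :
    (toMat (m.add n) : Matrix (Fin 4) (Fin 4) F) = toMat m + toMat n := by
  ext i j
  fin_cases i <;> fin_cases j <;> simp [toMat, M4.get, V4.get, M4.add, V4.add, b2f_xor h2]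

theorem toMat_mul (h2 : (1 : F) + 1 = 0) (m n : M4) :
    (toMat (m.mul n) : Matrix (Fin 4) (Fin 4) F) = toMat m * toMat n := by
  ext i j
  rw [Matrix.mul_apply, Fin.sum_univ_four]
  fin_cases i <;> fin_cases j <;>
    simp [toMat, M4.get, V4.get, M4.mul, M4.rowMul, V4.add, V4.sel, b2f_xor h2, b2f_and] <;> ring

open Classical in
/-- the model matrix of a matrix -/
noncomputable def ofMat (A : Matrix (Fin 4) (Fin 4) F) : M4 := M4.ofFn fun i j => decide (A i j ≠ 0)

theorem toMat_ofMat (h01 : ∀ x : F, x = 0 ∨ x = 1) (A : Matrix (Fin 4) (Fin 4) F) :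
    toMat (ofMat A) = A := by
  ext i j
  simp only [toMat, ofMat, M4.get_ofFn]
  rcases h01 (A i j) with h | h <;> simp [h]

theorem toMat_Emat {i j : Fin 4} (hij : i ≠ j) :
    (toMat (Emat i j) : Matrix (Fin 4) (Fin 4) F) = Matrix.transvection i j 1 := by
  ext a b
  simp only [toMat, Emat, M4.get_ofFn, Matrix.transvection, Matrix.add_apply, Matrix.one_apply,
    Matrix.single_apply]
  by_cases h1 : a = b
  · subst h1
    have h2 : ¬ (i = a ∧ j = a) := fun h => hij (h.1.trans h.2.symm)
    rw [if_neg h2]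
    simp
  · by_cases h2 : a = i ∧ b = j
    · obtain ⟨rfl, rfl⟩ := h2
      simp [h1]
    · have h3 : ¬ (i = a ∧ j = b) := fun h => h2 ⟨h.1.symm, h.2.symm⟩
      have h4 : (a == b || a == i && b == j) = false := by
        rw [Bool.or_eq_false_iff, Bool.and_eq_false_iff]
        refine ⟨by simpa using h1, ?_⟩
        by_cases h5 : a = i
        · right
          simpa using fun h => h2 ⟨h5, h⟩
        · left
          simpa using h5
      rw [h4, if_neg h1, if_neg h3]
      simp

/-- the element of `GL` with matrix `toMat p` -/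
def mkGL (h2 : (1 : F) + 1 = 0) (p q : M4) (h : p.mul q = M4.one) (h' : q.mul p = M4.one) :
    GL (Fin 4) F :=
  ⟨toMat p, toMat q, by rw [← toMat_mul h2, h, toMat_one], by rw [← toMat_mul h2, h', toMat_one]⟩

theorem mkGL_val (h2 : (1 : F) + 1 = 0) (p q : M4) (h : p.mul q = M4.one) (h' : q.mul p = M4.one) :
    ((mkGL h2 p q h h' : GL (Fin 4) F) : Matrix (Fin 4) (Fin 4) F) = toMat p := rfl

/-- a structure of the model as an element of `GL` -/
theorem exists_strGL (h2 : (1 : F) + 1 = 0) (s : M4) (hs : s.mul s = s.add M4.one) :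
    ∃ g : GL (Fin 4) F, (g : Matrix (Fin 4) (Fin 4) F) = toMat s := by
  have h1 : (toMat s : Matrix (Fin 4) (Fin 4) F) * toMat s = toMat s + 1 := by
    rw [← toMat_mul h2, hs, toMat_add h2, toMat_one]
  have h11 : (1 : Matrix (Fin 4) (Fin 4) F) + 1 = 0 := by
    ext a b
    by_cases hab : a = b
    · simp [hab, h2]
    · simp [hab]
  have h3 : (toMat s : Matrix (Fin 4) (Fin 4) F) + toMat s = 0 := by
    have : (toMat s : Matrix (Fin 4) (Fin 4) F) + toMat s = toMat s * (1 + 1) := by
      rw [mul_add, mul_one]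
    rw [this, h11, mul_zero]
  refine ⟨⟨toMat s, toMat s + 1, ?_, ?_⟩, rfl⟩
  · rw [mul_add, mul_one, h1, add_comm (toMat s) 1, add_assoc, h3, add_zero]
  · rw [add_mul, one_mul, h1, add_comm (toMat s) 1, add_assoc, h3, add_zero]

/-- conjugation and commutation -/
theorem commute_conj {G : Type*} [Group G] (x g W : G) (h : g * (x * W * x⁻¹) = x * W * x⁻¹ * g) :
    x⁻¹ * g * x * W = W * (x⁻¹ * g * x) := by
  calc x⁻¹ * g * x * W = x⁻¹ * (g * (x * W * x⁻¹)) * x := by group
    _ = x⁻¹ * (x * W * x⁻¹ * g) * x := by rw [h]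
    _ = W * (x⁻¹ * g * x) := by group

/-- the core: a subgroup containing the centraliser of the standard structure and an element not
normalising it is everything -/
theorem core (h01 : ∀ x : F, x = 0 ∨ x = 1) (h2 : (1 : F) + 1 = 0) (X : Subgroup (GL (Fin 4) F))
    (W : GL (Fin 4) F) (hW : (W : Matrix (Fin 4) (Fin 4) F) = toMat w0)
    (hC : ∀ g : GL (Fin 4) F, g * W = W * g → g ∈ X)
    (x : GL (Fin 4) F) (hx : x ∈ X)
    (hx0 : x * W * x⁻¹ ≠ W)
    (hx1 : ((x * W * x⁻¹ : GL (Fin 4) F) : Matrix (Fin 4) (Fin 4) F) ≠ toMat w0 + 1) : X = ⊤ := by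
  -- the conjugate structure
  set Ag : GL (Fin 4) F := x * W * x⁻¹ with hAg
  set A : M4 := ofMat (Ag : Matrix (Fin 4) (Fin 4) F) with hAdef
  have hA : (toMat A : Matrix (Fin 4) (Fin 4) F) = Ag := toMat_ofMat h01 _
  have hWW : W * W = W * W := rfl
  have hw0 : (toMat w0 : Matrix (Fin 4) (Fin 4) F) * toMat w0 = toMat w0 + 1 := by
    rw [← toMat_mul h2, w0_mul_w0, toMat_add h2, toMat_one]
  have hAA : A.mul A = A.add M4.one := by
    apply toMat_injective (F := F)
    rw [toMat_mul h2, toMat_add h2, toMat_one, hA]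
    have e1 : ((Ag * Ag : GL (Fin 4) F) : Matrix (Fin 4) (Fin 4) F) = (Ag : Matrix (Fin 4) (Fin 4) F) * Ag :=
      Units.val_mul _ _
    have e2 : Ag * Ag = x * (W * W) * x⁻¹ := by rw [hAg]; group
    rw [← e1, e2, Units.val_mul, Units.val_mul, Units.val_mul, hW, hw0, hAg, Units.val_mul, Units.val_mul, hW,
      mul_add, add_mul, mul_one, ← Units.val_mul, mul_inv_cancel, Units.val_one]
  have hA0 : A ≠ w0 := by
    intro h
    apply hx0
    apply Units.ext
    rw [← hA, h, hW]
  have hA1 : A ≠ w0.add M4.one := by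
    intro h
    apply hx1
    rw [← hA, h, toMat_add h2, toMat_one]
  obtain ⟨c, d, k, hk, hcd, hdc, hcw, hR⟩ := m2 A hAA hA0 hA1
  set cg : GL (Fin 4) F := mkGL h2 c d hcd hdc with hcg
  have hcgX : cg ∈ X := by
    apply hC
    apply Units.ext
    rw [Units.val_mul, Units.val_mul, hW, mkGL_val, ← toMat_mul h2, ← toMat_mul h2, hcw]
  -- the centraliser of `Ag`
  have hCA : ∀ g : GL (Fin 4) F, g * Ag = Ag * g → g ∈ X := by
    intro g hg
    have h1 : x⁻¹ * g * x ∈ X := hC _ (commute_conj x g W hg)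
    have h3 : g = x * (x⁻¹ * g * x) * x⁻¹ := by group
    rw [h3]
    exact X.mul_mem (X.mul_mem hx h1) (X.inv_mem hx)
  -- the representative
  set Rg : GL (Fin 4) F := cg⁻¹ * Ag * cg with hRg
  have hRgval : (Rg : Matrix (Fin 4) (Fin 4) F) = toMat (rep k) := by
    rw [← hR, toMat_mul h2, toMat_mul h2, hA, hRg, Units.val_mul, Units.val_mul]
    rfl
  have hCR : ∀ g : GL (Fin 4) F, g * Rg = Rg * g → g ∈ X := by
    intro g hg
    have h1 : cg * g * cg⁻¹ ∈ X := by
      apply hCA
      have := commute_conj cg⁻¹ g Ag (by rw [inv_inv]; exact hg)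
      rw [inv_inv] at this
      exact this
    have h3 : g = cg⁻¹ * (cg * g * cg⁻¹) * cg := by group
    rw [h3]
    exact X.mul_mem (X.mul_mem (X.inv_mem hcgX) h1) hcgX
  -- words
  have hword : ∀ L : List (Nat × Nat), (∀ t ∈ L, goodEl (rep k) t = true) →
      ∃ g ∈ X, (g : Matrix (Fin 4) (Fin 4) F) = toMat (prodL L) := by
    intro L
    induction L with
    | nil =>
      intro _
      exact ⟨1, X.one_mem, by rw [Units.val_one]; exact toMat_one.symm⟩
    | cons t L ih =>
      intro hL
      obtain ⟨g, hgX, hg⟩ := ih (fun t' ht' => hL t' (List.mem_cons_of_mem _ ht'))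
      have ht := hL t List.mem_cons_self
      simp only [goodEl, Bool.and_eq_true, Bool.or_eq_true, M4.beq_iff] at ht
      obtain ⟨h1, h1', h3⟩ := ht
      set mg : GL (Fin 4) F := mkGL h2 (M4.ofN t.1) (M4.ofN t.2) h1 h1' with hmg
      have hmgX : mg ∈ X := by
        rcases h3 with h3 | h3
        · apply hC
          apply Units.ext
          rw [Units.val_mul, Units.val_mul, hW, mkGL_val, ← toMat_mul h2, ← toMat_mul h2, h3]
        · apply hCR
          apply Units.ext
          rw [Units.val_mul mg Rg, Units.val_mul Rg mg, hRgval, mkGL_val, ← toMat_mul h2, ← toMat_mul h2, h3]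
      refine ⟨mg * g, X.mul_mem hmgX hgX, ?_⟩
      rw [Units.val_mul, hg, mkGL_val]
      show _ = toMat ((M4.ofN t.1).mul (prodL L))
      rw [toMat_mul h2]
  -- transvections
  have htv : ∀ (i j : Fin 4) (hij : i ≠ j) (c : F),
      SpecialLinearGroup.toGL (SpecialLinearGroup.transvection hij c) ∈ X := by
    intro i j hij c
    rcases h01 c with rfl | rfl
    · have : SpecialLinearGroup.toGL (SpecialLinearGroup.transvection hij (0 : F)) = 1 := by
        apply Units.ext
        show (SpecialLinearGroup.transvection hij (0 : F)).1 = 1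
        rw [SpecialLinearGroup.transvection_coe, Matrix.single_zero, add_zero]
      rw [this]
      exact X.one_mem
    · obtain ⟨L, hL, hLp⟩ := m3 k hk i j hij
      obtain ⟨g, hgX, hg⟩ := hword L hL
      have : SpecialLinearGroup.toGL (SpecialLinearGroup.transvection hij (1 : F)) = g := by
        apply Units.ext
        show (SpecialLinearGroup.transvection hij (1 : F)).1 = _
        rw [SpecialLinearGroup.transvection_coe, hg, hLp, toMat_Emat hij]
        rfl
      rw [this]
      exact hgX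
  rw [eq_top_iff]
  intro g _
  have hdet : (g : Matrix (Fin 4) (Fin 4) F).det = 1 := by
    rcases h01 (g : Matrix (Fin 4) (Fin 4) F).det with h | h
    · exact absurd h (Matrix.isUnits_det_units g).ne_zero
    · exact h
  have key : ∀ B : SpecialLinearGroup (Fin 4) F, SpecialLinearGroup.toGL B ∈ X := by
    intro B
    refine Cfsg.Agent.Lib.H2.SL_transvection_induction
      (fun B => SpecialLinearGroup.toGL B ∈ X) htv ?_ B
    intro B C hB hC'
    show SpecialLinearGroup.toGL (B * C) ∈ X
    rw [map_mul]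
    exact X.mul_mem hB hC'
  have h3 : SpecialLinearGroup.toGL (⟨(g : Matrix (Fin 4) (Fin 4) F), hdet⟩ : SpecialLinearGroup (Fin 4) F) = g := by
    apply Units.ext
    rfl
  rw [← h3]
  exact key _

end transfer

section main

open Cfsg Cfsg.Geo

variable {F : Type*} [Field F]

theorem card_two_facts [Fintype F] (hF : Fintype.card F = 2) :
    (∀ x : F, x = 0 ∨ x = 1) ∧ (1 : F) + 1 = 0 := by
  let e := ZMod.ringEquivOfPrime F Nat.prime_two hF
  constructor
  · intro x
    have h : ∀ z : ZMod 2, z = 0 ∨ z = 1 := by decide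
    rcases h (e.symm x) with h | h
    · left; rw [← e.apply_symm_apply x, h, map_zero]
    · right; rw [← e.apply_symm_apply x, h, map_one]
  · have h : (1 : ZMod 2) + 1 = 0 := by decide
    rw [← map_one e, ← map_add, h, map_zero]

/-- the structure of a quadratic field subalgebra over the field of two elements -/
theorem exists_omega (h01 : ∀ x : F, x = 0 ∨ x = 1) (h2 : (1 : F) + 1 = 0)
    (K : Subalgebra F (Matrix (Fin 4) (Fin 4) F)) (hK : IsFieldSubalgebra 2 K) :
    ∃ ω : Matrix (Fin 4) (Fin 4) F, ω ∈ K ∧ ω * ω = ω + 1 ∧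
      ∀ k ∈ K, k = 0 ∨ k = 1 ∨ k = ω ∨ k = ω + 1 := by
  have : Module.Finite F K := Module.finite_of_finrank_pos (by rw [hK.finrank_eq]; norm_num)
  let b : Module.Basis (Fin 2) F K := Module.finBasisOfFinrankEq F K hK.finrank_eq
  have hrep : ∀ k : K, k = 0 ∨ k = b 0 ∨ k = b 1 ∨ k = b 0 + b 1 := by
    intro k
    have h := b.sum_repr k
    rw [Fin.sum_univ_two] at h
    rcases h01 (b.repr k 0) with h0 | h0 <;> rcases h01 (b.repr k 1) with h1 | h1 <;>
      rw [h0, h1] at h <;> simp at h
    · left; exact h.symm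
    · right; right; left; exact h.symm
    · right; left; exact h.symm
    · right; right; right; exact h.symm
  have hb0 : b 0 ≠ 0 := b.ne_zero 0
  have hb1 : b 1 ≠ 0 := b.ne_zero 1
  have hb01 : b 0 ≠ b 1 := fun h => by
    have := b.injective h
    exact absurd this (by decide)
  have hdbl : ∀ k : K, k + k = 0 := by
    intro k
    have : k + k = ((1 : F) + 1) • k := by rw [add_smul, one_smul]
    rw [this, h2, zero_smul]
  have h10 : (1 : K) ≠ 0 := by
    intro h
    have h' := congrArg (fun z : K => (z : Matrix (Fin 4) (Fin 4) F)) h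
    simp at h'
  -- an element other than `0`, `1` with `K = {0, 1, ω, ω + 1}`
  have hex : ∃ w : K, w ≠ 0 ∧ w ≠ 1 ∧ ∀ k : K, k = 0 ∨ k = 1 ∨ k = w ∨ k = w + 1 := by
    rcases hrep 1 with h | h | h | h
    · exact absurd h h10
    · refine ⟨b 1, hb1, fun h' => hb01 (h.symm.trans h'.symm), fun k => ?_⟩
      rcases hrep k with hk | hk | hk | hk
      · left; exact hk
      · right; left; rw [hk, h]
      · right; right; left; exact hk
      · right; right; right; rw [hk, h, add_comm]
    · refine ⟨b 0, hb0, fun h' => hb01 (h'.trans h), fun k => ?_⟩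
      rcases hrep k with hk | hk | hk | hk
      · left; exact hk
      · right; right; left; exact hk
      · right; left; rw [hk, h]
      · right; right; right; rw [hk, h]
    · have hb1' : b 1 = b 0 + 1 := by
        rw [h, ← add_assoc, hdbl, zero_add]
      refine ⟨b 0, hb0, fun h' => ?_, fun k => ?_⟩
      · apply hb1
        rw [hb1', h', hdbl]
      · rcases hrep k with hk | hk | hk | hk
        · left; exact hk
        · right; right; left; exact hk
        · right; right; right; rw [hk, hb1']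
        · right; left; rw [hk, h]
  obtain ⟨w, hw0, hw1, hwK⟩ := hex
  have hw1' : w + 1 ≠ 0 := by
    intro h
    apply hw1
    have : w = w + 1 + 1 := by rw [add_assoc, hdbl, add_zero]
    rw [this, h, zero_add]
  -- inverses
  have hinv : ∀ k : K, k ≠ 0 → ∃ y : K, k * y = 1 := by
    intro k hk
    obtain ⟨y, hy, hky⟩ := hK.inv (k : Matrix (Fin 4) (Fin 4) F) k.2
      (fun h => hk (Subtype.ext h))
    exact ⟨⟨y, hy⟩, Subtype.ext hky⟩
  have hcomm : ∀ a c : K, a * c = c * a := fun a c => Subtype.ext (hK.comm a a.2 c c.2)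
  obtain ⟨y, hy⟩ := hinv w hw0
  obtain ⟨y', hy'⟩ := hinv (w + 1) hw1'
  have hww : w * w = w + 1 := by
    rcases hwK (w * w) with h | h | h | h
    · exfalso
      apply hw0
      calc w = w * (w * y) := by rw [hy, mul_one]
        _ = w * w * y := by rw [mul_assoc]
        _ = 0 := by rw [h, zero_mul]
    · exfalso
      apply hw1'
      have h3 : (w + 1) * (w + 1) = 0 := by
        rw [add_mul, mul_add, mul_one, one_mul, h, add_assoc, ← add_assoc w w 1, hdbl, zero_add, hdbl]
      calc w + 1 = (w + 1) * ((w + 1) * y') := by rw [hy', mul_one]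
        _ = (w + 1) * (w + 1) * y' := by rw [mul_assoc]
        _ = 0 := by rw [h3, zero_mul]
    · exfalso
      apply hw1
      calc w = w * (w * y) := by rw [hy, mul_one]
        _ = w * w * y := by rw [mul_assoc]
        _ = w * y := by rw [h]
        _ = 1 := hy
    · exact h
  refine ⟨(w : Matrix (Fin 4) (Fin 4) F), w.2, ?_, ?_⟩
  · have := congrArg (fun z : K => (z : Matrix (Fin 4) (Fin 4) F)) hww
    simpa using this
  · intro k hk
    rcases hwK ⟨k, hk⟩ with h | h | h | h
    · left
      have := congrArg (fun z : K => (z : Matrix (Fin 4) (Fin 4) F)) h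
      simpa using this
    · right; left
      have := congrArg (fun z : K => (z : Matrix (Fin 4) (Fin 4) F)) h
      simpa using this
    · right; right; left
      have := congrArg (fun z : K => (z : Matrix (Fin 4) (Fin 4) F)) h
      simpa using this
    · right; right; right
      have := congrArg (fun z : K => (z : Matrix (Fin 4) (Fin 4) F)) h
      simpa using this

/-- an element conjugating `ω` to `ω` or `ω + 1` normalises `K = {0, 1, ω, ω + 1}` -/
theorem mem_normalizer_of_conj (h2 : (1 : F) + 1 = 0)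
    (K : Subalgebra F (Matrix (Fin 4) (Fin 4) F)) (ω : Matrix (Fin 4) (Fin 4) F) (hω : ω ∈ K)
    (hKel : ∀ k ∈ K, k = 0 ∨ k = 1 ∨ k = ω ∨ k = ω + 1) (x : GL (Fin 4) F)
    (h : (x : Matrix (Fin 4) (Fin 4) F) * ω * ((x⁻¹ : GL (Fin 4) F) : Matrix (Fin 4) (Fin 4) F) = ω ∨
      (x : Matrix (Fin 4) (Fin 4) F) * ω * ((x⁻¹ : GL (Fin 4) F) : Matrix (Fin 4) (Fin 4) F) = ω + 1) :
    x ∈ subalgebraNormalizer K := by
  set xm : Matrix (Fin 4) (Fin 4) F := (x : Matrix (Fin 4) (Fin 4) F) with hxm
  set xi : Matrix (Fin 4) (Fin 4) F := ((x⁻¹ : GL (Fin 4) F) : Matrix (Fin 4) (Fin 4) F) with hxi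
  have e1 : xm * xi = 1 := by rw [hxm, hxi, ← Units.val_mul, mul_inv_cancel, Units.val_one]
  have e2 : xi * xm = 1 := by rw [hxm, hxi, ← Units.val_mul, inv_mul_cancel, Units.val_one]
  have h11 : (1 : Matrix (Fin 4) (Fin 4) F) + 1 = 0 := by
    ext a b
    by_cases hab : a = b
    · simp [hab, h2]
    · simp [hab]
  have h1K : (1 : Matrix (Fin 4) (Fin 4) F) ∈ K := K.one_mem
  have hω1 : ω + 1 ∈ K := K.add_mem hω h1K
  have hone : xm * 1 * xi = 1 := by rw [mul_one, e1]
  have hone' : xi * 1 * xm = 1 := by rw [mul_one, e2]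
  have hback : ∀ k, xi * (xm * k * xi) * xm = k := by
    intro k
    calc xi * (xm * k * xi) * xm = (xi * xm) * k * (xi * xm) := by simp only [mul_assoc]
      _ = k := by rw [e2, one_mul, mul_one]
  -- the conjugate of `ω` and the inverse conjugate of `ω` lie in `K`
  have hc : xm * ω * xi ∈ K := by
    rcases h with h | h
    · rw [h]; exact hω
    · rw [h]; exact hω1
  have hc' : xi * ω * xm ∈ K := by
    rcases h with h | h
    · have : xi * ω * xm = ω := by
        nth_rewrite 1 [← h]
        exact hback ω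
      rw [this]; exact hω
    · have h3 : xm * (ω + 1) * xi = ω := by
        rw [mul_add, add_mul, h, hone, add_assoc, h11, add_zero]
      have h4 : xi * ω * xm = ω + 1 := by
        nth_rewrite 1 [← h3]
        exact hback (ω + 1)
      rw [h4]; exact hω1
  show ∀ k : Matrix (Fin 4) (Fin 4) F, k ∈ K ↔ xm * k * xi ∈ K
  intro k
  constructor
  · intro hk
    rcases hKel k hk with rfl | rfl | rfl | rfl
    · rw [mul_zero, zero_mul]; exact K.zero_mem
    · rw [hone]; exact h1K
    · exact hc
    · rw [mul_add, add_mul, hone]; exact K.add_mem hc h1K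
  · intro hk
    rw [← hback k]
    rcases hKel _ hk with h' | h' | h' | h'
    · rw [h', mul_zero, zero_mul]; exact K.zero_mem
    · rw [h', hone']; exact h1K
    · rw [h']; exact hc'
    · rw [h', mul_add, add_mul, hone']; exact K.add_mem hc' h1K

/-- **S5886-T422**: `ΓL₂(4)` is maximal in `GL₄(2)`. -/
theorem c3max_422 {F : Type*} [Field F] [Fintype F] (hF : Fintype.card F = 2)
    (K : Subalgebra F (Matrix (Fin 4) (Fin 4) F)) (hK : IsFieldSubalgebra 2 K)
    (X : Subgroup (GL (Fin 4) F))
    (hX : ∀ g : GL (Fin 4) F, (∀ k ∈ K, (g : Matrix (Fin 4) (Fin 4) F) * k = k * g) → g ∈ X)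
    (hXN : ¬ X ≤ subalgebraNormalizer K) : X = ⊤ := by
  obtain ⟨h01, h2⟩ := card_two_facts hF
  obtain ⟨ω, hωK, hωω, hKel⟩ := exists_omega h01 h2 K hK
  -- the model of `ω`
  have hWm : (toMat (ofMat ω) : Matrix (Fin 4) (Fin 4) F) = ω := toMat_ofMat h01 ω
  have hWW : (ofMat ω).mul (ofMat ω) = (ofMat ω).add M4.one := by
    apply toMat_injective (F := F)
    rw [toMat_mul h2, toMat_add h2, toMat_one, hWm, hωω]
  obtain ⟨p, q, hp, hpq, hqp⟩ := m1 (ofMat ω) hWW
  set P : GL (Fin 4) F := mkGL h2 p q hpq hqp with hP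
  obtain ⟨W0, hW0⟩ := exists_strGL (F := F) h2 w0 w0_mul_w0
  obtain ⟨Ω, hΩ'⟩ := exists_strGL (F := F) h2 (ofMat ω) hWW
  have hΩ : (Ω : Matrix (Fin 4) (Fin 4) F) = ω := hΩ'.trans hWm
  have hPW : Ω * P = P * W0 := by
    apply Units.ext
    rw [Units.val_mul, Units.val_mul, hΩ', hW0, mkGL_val, ← toMat_mul h2, ← toMat_mul h2, hp]
  have hΩP : Ω = P * W0 * P⁻¹ := by rw [← hPW]; group
  -- elements commuting with `Ω` lie in `X`
  have hXΩ : ∀ g : GL (Fin 4) F, g * Ω = Ω * g → g ∈ X := by
    intro g hg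
    apply hX
    have hg' : (g : Matrix (Fin 4) (Fin 4) F) * ω = ω * g := by
      rw [← hΩ, ← Units.val_mul, ← Units.val_mul, hg]
    intro k hk
    rcases hKel k hk with rfl | rfl | rfl | rfl
    · rw [mul_zero, zero_mul]
    · rw [mul_one, one_mul]
    · exact hg'
    · rw [mul_add, add_mul, hg', mul_one, one_mul]
  -- the conjugated subgroup
  set X' : Subgroup (GL (Fin 4) F) := X.comap (MulAut.conj P).toMonoidHom with hX'
  have hmem : ∀ g : GL (Fin 4) F, g ∈ X' ↔ P * g * P⁻¹ ∈ X := by
    intro g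
    rw [hX', Subgroup.mem_comap]
    rfl
  have hC' : ∀ g : GL (Fin 4) F, g * W0 = W0 * g → g ∈ X' := by
    intro g hg
    rw [hmem]
    apply hXΩ
    rw [hΩP]
    calc P * g * P⁻¹ * (P * W0 * P⁻¹) = P * (g * W0) * P⁻¹ := by group
      _ = P * (W0 * g) * P⁻¹ := by rw [hg]
      _ = P * W0 * P⁻¹ * (P * g * P⁻¹) := by group
  obtain ⟨x, hxX, hxN⟩ := SetLike.not_le_iff_exists.1 hXN
  have hx' : P⁻¹ * x * P ∈ X' := by
    rw [hmem]
    have : P * (P⁻¹ * x * P) * P⁻¹ = x := by group
    rw [this]
    exact hxX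
  have hconj : x * Ω * x⁻¹ = P * ((P⁻¹ * x * P) * W0 * (P⁻¹ * x * P)⁻¹) * P⁻¹ := by
    rw [hΩP]; group
  have hPval : (P : Matrix (Fin 4) (Fin 4) F) * toMat w0 * ((P⁻¹ : GL (Fin 4) F) : Matrix (Fin 4) (Fin 4) F) = ω := by
    rw [← hW0, ← Units.val_mul, ← Units.val_mul, ← hΩP, hΩ]
  have htop : X' = ⊤ := by
    refine core h01 h2 X' W0 hW0 hC' (P⁻¹ * x * P) hx' ?_ ?_
    · intro h
      apply hxN
      apply mem_normalizer_of_conj h2 K ω hωK hKel x
      left
      rw [← hΩ, ← Units.val_mul, ← Units.val_mul, hconj, h, ← hΩP]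
    · intro h
      apply hxN
      apply mem_normalizer_of_conj h2 K ω hωK hKel x
      right
      rw [← hΩ, ← Units.val_mul, ← Units.val_mul, hconj, Units.val_mul, Units.val_mul, h, mul_add, add_mul,
        hPval, mul_one, ← Units.val_mul, mul_inv_cancel, Units.val_one, hΩ]
  rw [eq_top_iff]
  intro g _
  have h1 : P⁻¹ * g * P ∈ X' := by rw [htop]; exact Subgroup.mem_top _
  rw [hmem] at h1
  have : P * (P⁻¹ * g * P) * P⁻¹ = g := by group
  rw [this] at h1
  exact h1

end main

end Cfsg.Agent.Lib.H4.C3Max
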