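import Mathlib
import Cfsg.Agent.Lib.H5.CS4a

/-!
# S4146, task T3b (helper4): a good element gives situation `G1`
(blueprint `tools/blueprints/S4146.md`).  The structure theorem T3 (`Hyp.good_struct`) enters as
the explicit hypothesis `GoodStruct G`; the final statement `Hyp.exists_G1` is obtained by
feeding T3 into `exists_G1_of_goodStruct`.
-/

set_option autoImplicit false

namespace Cfsg.Agent.Lib.H5.CS4

open Cfsg.Agent.Lib.H20.BHM (cs)
open Subgroup

variable {G : Type*} [Group G]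

/-- the statement of T3 (`Hyp.good_struct`), for all `n m p h` at once -/
def GoodStruct (G : Type*) [Group G] : Prop :=
  ∀ (n m : ℕ) (_ : Hyp G n m) (p : ℕ) (_ : p.Prime) (_ : p ∣ m) (h : G) (_ : cs h = m)
    (_ : PE p h),
    (∀ u ∈ centralizer ({h} : Set G), ∀ v ∈ centralizer ({h} : Set G),
        PE p u → ¬ p ∣ orderOf v → Commute u v) ∧
    (∀ x : G, cs x = n → ¬ PE p x) ∧
    ∃ q : ℕ, q.Prime ∧ (∃ a : ℕ, n = q ^ a) ∧
      (∀ x : G, cs x = n → ∀ t : ℕ, t.Prime → PE t x → t = q) ∧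
      ∃ Q : Subgroup G, Q ≤ centralizer ({h} : Set G) ∧ IsPGroup q Q ∧ ¬ q ∣ Q.index ∧
        ∀ u ∈ centralizer ({h} : Set G), PE q u → u ∈ Q

variable [Finite G] {n m : ℕ}

/-- a prime-power element in `S_n` -/
theorem Hyp.exists_pe_n (H : Hyp G n m) : ∃ t : ℕ, t.Prime ∧ ∃ x : G, cs x = n ∧ PE t x := by
  obtain ⟨x0, hx0⟩ := H.ex_n
  obtain ⟨t, ht, x, hx, hxt, hxZ⟩ := exists_pe_part (center G) _ x0 rfl (H.not_central_n hx0)
  exact ⟨t, ht, x, H.cs_of_mem_zpowers_n hx0 hx hxZ, hxt⟩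

/-- T3b with T3 as a hypothesis. -/
theorem exists_G1_of_goodStruct (gs : GoodStruct G) (H : Hyp G n m) {p : ℕ} (hp : p.Prime)
    (hpm : p ∣ m) {h : G} (hh : cs h = m) (hpe : PE p h) : ∃ q : ℕ, G1 G n m p q := by
  obtain ⟨-, -, q, hq, hnq, hpen, -⟩ := gs n m H p hp hpm h hh hpe
  -- a `q`-element `x` of `S_n`
  obtain ⟨t, ht, x, hx, hxt⟩ := H.exists_pe_n
  obtain rfl : t = q := hpen x hx t ht hxt
  have hqn : t ∣ n := by
    obtain ⟨a, ha⟩ := hnq
    have ha0 : a ≠ 0 := by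
      rintro rfl
      rw [pow_zero] at ha
      exact H.hn.ne' ha
    rw [ha]
    exact dvd_pow_self t ha0
  have hpq : p ≠ t := by
    rintro rfl
    have h1 : p ∣ Nat.gcd n m := Nat.dvd_gcd hqn hpm
    rw [H.cop] at h1
    exact hp.one_lt.ne' (Nat.dvd_one.1 h1)
  -- the symmetric situation
  obtain ⟨-, -, p', hp', hmp', hpem', -⟩ := gs m n H.symm t ht hqn x hx hxt
  obtain rfl : p = p' := hpem' h hh p hp hpe
  refine ⟨t, H, hp, ht, hpq, hnq, hmp', hpen, hpem', ?_, ?_, ?_, ?_⟩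
  · intro h' hh' hpe'
    exact (gs n m H p hp hpm h' hh' hpe').1
  · intro x' hx' hxt'
    exact (gs m n H.symm t ht hqn x' hx' hxt').1
  · intro h' hh' hpe'
    obtain ⟨-, -, q', hq', -, hpen', Q, hQ⟩ := gs n m H p hp hpm h' hh' hpe'
    obtain rfl : t = q' := hpen' x hx t ht hxt
    exact ⟨Q, hQ⟩
  · intro x' hx' hxt'
    obtain ⟨-, -, p'', hp'', -, hpem'', P, hP⟩ := gs m n H.symm t ht hqn x' hx' hxt'
    obtain rfl : p = p'' := hpem'' h hh p hp hpe
    exact ⟨P, hP⟩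

end Cfsg.Agent.Lib.H5.CS4
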