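import Cfsg.Agent.Lib.H4.CS4_T3b
import Cfsg.Agent.Lib.H1.CS4_T3

/-!
# S4146, task T3b, final form (helper4): a good element gives situation `G1`
(`exists_G1_of_goodStruct` fed with helper1's `Hyp.good_struct`).
-/

set_option autoImplicit false

namespace Cfsg.Agent.Lib.H5.CS4

open Cfsg.Agent.Lib.H20.BHM (cs)
open Subgroup

variable {G : Type*} [Group G] [Finite G] {n m : ℕ}

/-- T3b (helper5): a good element gives situation G1. -/
theorem Hyp.exists_G1 (H : Hyp G n m) {p : ℕ} (hp : p.Prime) (hpm : p ∣ m) {h : G}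
    (hh : cs h = m) (hpe : PE p h) : ∃ q : ℕ, G1 G n m p q :=
  exists_G1_of_goodStruct
    (fun _ _ H p hp hpm _ hh hpe => by
      have : Fact p.Prime := ⟨hp⟩
      exact H.good_struct hpm hh hpe) H hp hpm hh hpe

end Cfsg.Agent.Lib.H5.CS4
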