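import Mathlib
import Cfsg.Agent.Lib.H5.CS4a
import Cfsg.Agent.Lib.H7.Coprime

/-!
# S4146, task T7 (helper4): the final contradiction without good elements
(blueprint `tools/blueprints/S4146.md`, section T7 / B4).
-/

set_option autoImplicit false

namespace Cfsg.Agent.Lib.H5.CS4

open Cfsg.Agent.Lib.H20.BHM (cs)
open Subgroup

variable {G : Type*} [Group G]

theorem zpowers_le_centralizer_zpowers {a b : G} (h : Commute a b) :
    zpowers a ≤ centralizer (zpowers b : Set G) := by
  intro x hx
  obtain ⟨i, rfl⟩ := mem_zpowers_iff.1 hx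
  rw [mem_centralizer_iff]
  intro y hy
  obtain ⟨j, rfl⟩ := mem_zpowers_iff.1 (SetLike.mem_coe.1 hy)
  exact (h.zpow_zpow i j).eq.symm

/-- the `t`-elements of an abelian subgroup -/
def tPart (M : Subgroup G) (hM : ∀ a ∈ M, ∀ b ∈ M, Commute a b) (t : ℕ) : Subgroup G where
  carrier := {a | a ∈ M ∧ PE t a}
  one_mem' := ⟨M.one_mem, PE.one t⟩
  mul_mem' := fun ha hb => ⟨M.mul_mem ha.1 hb.1, ha.2.mul hb.2 (hM _ ha.1 _ hb.1)⟩
  inv_mem' := fun ha => ⟨M.inv_mem ha.1, ha.2.inv⟩

theorem mem_tPart {M : Subgroup G} {hM : ∀ a ∈ M, ∀ b ∈ M, Commute a b} {t : ℕ} {a : G} :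
    a ∈ tPart M hM t ↔ a ∈ M ∧ PE t a := Iff.rfl

theorem tPart_normal (M : Subgroup G) [M.Normal] (hM : ∀ a ∈ M, ∀ b ∈ M, Commute a b) (t : ℕ) :
    (tPart M hM t).Normal := by
  constructor
  intro a ha g
  exact ⟨Normal.conj_mem inferInstance a ha.1 g, ha.2.conj g⟩

theorem tPart_isPGroup (M : Subgroup G) (hM : ∀ a ∈ M, ∀ b ∈ M, Commute a b) (t : ℕ) :
    IsPGroup t (tPart M hM t) := by
  intro a
  obtain ⟨k, hk⟩ := a.2.2
  exact ⟨k, Subtype.ext (by simpa using hk)⟩

variable [Finite G] {n m : ℕ}

/-- T7 (B4): the final contradiction without good elements. -/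
theorem Hyp.false_of_commute (H : Hyp G n m) (hnm : m < n) (hng : NoGood G n m)
    (hM : ∀ a ∈ H.M hnm, ∀ b ∈ H.M hnm, Commute a b)
    (hI : ∀ x h : G, cs x = n → cs h = m → Commute x h) : False := by
  classical
  have hnpos : 0 < n := by have := H.hn; omega
  have hmpos : 0 < m := by have := H.hm; omega
  -- a prime `q ∣ m`, an element `h0 ∈ S_m`
  obtain ⟨q, hq, hqm⟩ := Nat.exists_prime_and_dvd H.hm.ne'
  have : Fact q.Prime := ⟨hq⟩
  obtain ⟨h0, hh0⟩ := H.ex_m
  -- a `q`-element `g` not commuting with `h0`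
  obtain ⟨g, hgq, hgh0⟩ : ∃ g : G, PE q g ∧ ¬ Commute g h0 := by
    by_contra hcon
    push Not at hcon
    let S : Sylow q G := default
    have hS : (S : Subgroup G) ≤ centralizer ({h0} : Set G) := by
      intro s hs
      rw [mem_centralizer_singleton_comm]
      exact hcon s (pe_of_mem S.isPGroup' hs)
    have h1 : cs h0 ∣ (S : Subgroup G).index := Subgroup.index_dvd_of_le hS
    rw [hh0] at h1
    exact S.not_dvd_index (hqm.trans h1)
  have hgZ : g ∉ center G := by
    intro hz
    exact hgh0 ((mem_center_iff.1 hz h0).symm)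
  have hgnm : cs g = n * m := by
    rcases H.mem g with h | h | h | h
    · exact absurd ((Cfsg.Agent.Lib.H20.BHM.cs_eq_one_iff g).1 h) hgZ
    · exact absurd (hI g h0 h hh0) hgh0
    · exact absurd hgq (hng.1 q hq hqm g h)
    · exact h
  -- a `t`-element `y` of `S_m` not commuting with `g`
  have hh0g : h0 ∉ centralizer ({g} : Set G) := by
    intro h
    rw [mem_centralizer_singleton_comm] at h
    exact hgh0 h.symm
  obtain ⟨t, ht, y, hy, hyt, hyg⟩ := exists_pe_part (centralizer ({g} : Set G)) _ h0 rfl hh0g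
  have : Fact t.Prime := ⟨ht⟩
  have hyZ : y ∉ center G := fun h => hyg (center_le_centralizer _ h)
  have hym : cs y = m := H.cs_of_mem_zpowers_m hh0 hy hyZ
  have htm : ¬ t ∣ m := fun h => hng.1 t ht h y hym hyt
  have htn : t ∣ n := by
    have h1 : t ∣ n * m := by
      by_contra h
      exact hyZ (H.central_of_pe h hyt)
    rcases (Nat.Prime.dvd_mul ht).1 h1 with h | h
    · exact h
    · exact absurd h htm
  have htq : t ≠ q := by
    rintro rfl
    exact htm hqm
  have hyM : y ∈ H.M hnm := Or.inr hym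
  -- the `t`-part of `M`
  set Mt := tPart (H.M hnm) hM t with hMt
  have hMtn : Mt.Normal := tPart_normal _ hM t
  have hMtp : IsPGroup t Mt := tPart_isPGroup _ hM t
  have hyMt : y ∈ Mt := ⟨hyM, hyt⟩
  -- every `t`-element of `C(g)` lies in `M`
  have claim : ∀ r : G, Commute g r → PE t r → r ∈ Mt := by
    intro r hgr hrt
    refine ⟨?_, hrt⟩
    by_contra hrM
    have hrnm : cs r = n * m := by
      rcases H.mem r with h | h | h | h
      · exact absurd (Or.inl h) hrM
      · exact absurd hrt (hng.2 t ht htn r h)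
      · exact absurd (Or.inr h) hrM
      · exact h
    have hcop : (orderOf g).Coprime (orderOf r) := hgq.coprime_of_ne hrt hq ht htq.symm
    have h1 : centralizer ({g} : Set G) ≤ centralizer ({r} : Set G) :=
      H.centralizer_le_of_nm hgnm hgr hcop
    have h2 : centralizer ({r} : Set G) ≤ centralizer ({g} : Set G) :=
      H.centralizer_le_of_nm hrnm hgr.symm hcop.symm
    have hA : (Nat.card (zpowers g)).Coprime t := by
      rw [Nat.card_zpowers]
      obtain ⟨k, hk⟩ := hgq.orderOf_eq hq
      rw [hk]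
      exact Nat.Coprime.pow_left k ((Nat.coprime_primes hq ht).2 htq.symm)
    have hB : IsPGroup t (zpowers r) := by
      intro b
      obtain ⟨k, hk⟩ := hrt.of_mem_zpowers b.2
      exact ⟨k, Subtype.ext (by simpa using hk)⟩
    have key := Cfsg.Agent.Lib.H7.thompson_AxB' t (A := zpowers g) (B := zpowers r) (Q := Mt)
      hMtp hB hA
      (commutator_eq_bot_iff_le_centralizer.2 (zpowers_le_centralizer_zpowers hgr))
      (by rw [normalizer_eq_top]; exact le_top) (by rw [normalizer_eq_top]; exact le_top)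
      (by
        rw [commutator_eq_bot_iff_le_centralizer, zpowers_le, mem_centralizer_iff]
        intro u hu
        have hu2 : u ∈ centralizer (zpowers r : Set G) := hu.2
        have hur : u ∈ centralizer ({r} : Set G) := by
          rw [mem_centralizer_iff] at hu2
          rw [mem_centralizer_singleton_iff]
          exact (hu2 r (mem_zpowers r)).symm
        have hug := h2 hur
        rw [mem_centralizer_singleton_iff] at hug
        exact hug)
    rw [commutator_eq_bot_iff_le_centralizer] at key
    have h3 := key (mem_zpowers g)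
    rw [mem_centralizer_iff] at h3
    apply hyg
    rw [mem_centralizer_singleton_iff]
    exact h3 y hyMt
  -- counting
  obtain ⟨x, hx⟩ := H.ex_n
  have hMtx : Mt ≤ centralizer ({x} : Set G) := by
    intro a ha
    rw [mem_centralizer_singleton_iff]
    rcases ha.1 with h | h
    · exact (mem_center_iff.1 ((Cfsg.Agent.Lib.H20.BHM.cs_eq_one_iff a).1 h) x).symm
    · exact (hI x a hx h).eq.symm
  have hcx : Nat.card (centralizer ({x} : Set G)) * n = Nat.card G := by
    rw [← hx]; exact card_mul_index _
  have hcg : Nat.card (centralizer ({g} : Set G)) * (n * m) = Nat.card G := by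
    rw [← hgnm]; exact card_mul_index _
  have hcxg : Nat.card (centralizer ({x} : Set G)) = Nat.card (centralizer ({g} : Set G)) * m := by
    apply Nat.eq_of_mul_eq_mul_right hnpos
    rw [hcx, ← hcg]
    ring
  obtain ⟨e, he⟩ := hMtp.exists_card_eq
  have hdvd : t ^ e ∣ Nat.card (centralizer ({g} : Set G)) := by
    have h1 : t ^ e ∣ Nat.card (centralizer ({g} : Set G)) * m := by
      rw [← he, ← hcxg]
      exact card_dvd_of_le hMtx
    exact (Nat.Coprime.pow_left e ((Nat.Prime.coprime_iff_not_dvd ht).2 htm)).dvd_of_dvd_mul_right h1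
  obtain ⟨K, hK⟩ := Sylow.exists_subgroup_card_pow_prime t hdvd
  set T' := K.map (centralizer ({g} : Set G)).subtype with hT'
  have hT'card : Nat.card T' = t ^ e := by
    rw [hT', Subgroup.card_map_of_injective (subtype_injective _), hK]
  have hT'g : T' ≤ centralizer ({g} : Set G) := by
    rw [hT']
    exact map_subtype_le K
  have hT'p : IsPGroup t T' := IsPGroup.of_card hT'card
  have hT'Mt : T' ≤ Mt := by
    intro r hr
    have hrg := hT'g hr
    rw [mem_centralizer_singleton_iff] at hrg
    exact claim r (show g * r = r * g from hrg.symm) (pe_of_mem hT'p hr)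
  have heq : T' = Mt := eq_of_le_of_card_ge hT'Mt (by rw [he, hT'card])
  exact hyg (hT'g (heq ▸ hyMt))

end Cfsg.Agent.Lib.H5.CS4
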