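import Mathlib
import Cfsg.Prelude.Def_Blocks
import Cfsg.Agent.Lib.H12.CYDefs
import Cfsg.Agent.Lib.H4.CYFUS
import Cfsg.Agent.Lib.H23.PPart2

/-!
# S1950, piece COUNT (core): the count over the fusion set, from the pair lemma

`z` of order `p`, `a b c ≠ 0` residues, `g : G`, `E = fusE p z`.  Given the pair lemma (cyclic form, `PAIRC`) for
`x = z ^ a.val` and `y = g * z ^ b.val * g⁻¹` as an explicit hypothesis, the number of `r ∈ E` such that the
`p`-part of `x * y ^ r.val` is conjugate to `z ^ c.val` equals `strN E a b c = #{r ∈ E : (a + b r) c⁻¹ ∈ E}`.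
-/

set_option autoImplicit false
set_option linter.unusedSectionVars false
set_option linter.unusedVariables false

namespace Cfsg.Agent.Lib.H4.CY

open Cfsg Cfsg.Agent.Lib.H12.CY

variable {G : Type*} [Group G] [Finite G] {p : ℕ} [Fact p.Prime]

/-- The `p`-part of a `p`-element is the element itself. -/
theorem isPPart_self {y : G} (hy : ∃ k : ℕ, orderOf y = p ^ k) : IsPPart p y y :=
  ⟨1, mul_one y, Commute.one_right y, hy, by
    rw [orderOf_one]; exact Nat.Prime.not_dvd_one (Fact.out : p.Prime)⟩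

/-- The `p`-part of a `p`-regular element is `1`. -/
theorem isPPart_one {w : G} (hw : ¬ p ∣ orderOf w) : IsPPart p w 1 :=
  ⟨w, one_mul w, Commute.one_left w, ⟨0, by rw [orderOf_one, pow_zero]⟩, hw⟩

/-- Powers of `z ^ a.val` with natural exponents, in residue form. -/
theorem pow_val_pow_nat {z : G} (hz : orderOf z = p) {a : ZMod p} (ha : a ≠ 0) (n : ℕ) :
    (z ^ a.val) ^ n = z ^ (a * (n : ZMod p)).val := by
  rw [← pow_val_mul hz, pow_natCast_val (orderOf_pow_val hz ha)]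

/-- **COUNT, core**: the pair lemma for `x = z ^ a.val`, `y = g * z ^ b.val * g⁻¹` enters as a hypothesis. -/
theorem count_core {z : G} (hz : orderOf z = p) {a b c : ZMod p} (ha : a ≠ 0) (hb : b ≠ 0) (hc' : c ≠ 0)
    (g : G)
    (hpair : ∃ j : ℕ, ¬ p ∣ j ∧ ∀ u v : ℕ,
      (p ∣ u + j * v → ¬ p ∣ orderOf ((z ^ a.val) ^ u * (g * z ^ b.val * g⁻¹) ^ v)) ∧
      (¬ p ∣ u + j * v → ∃ s t : G,
        Cfsg.IsPPart p ((z ^ a.val) ^ u * (g * z ^ b.val * g⁻¹) ^ v) s ∧
          t * (z ^ a.val) ^ (u + j * v) * t⁻¹ = s)) :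
    Nat.card {r : ZMod p // r ∈ fusE p z ∧ ∃ sw t : G,
        Cfsg.IsPPart p (z ^ a.val * (g * z ^ b.val * g⁻¹) ^ r.val) sw ∧ t * z ^ c.val * t⁻¹ = sw} =
      strN (fusE p z) a b c := by
  classical
  have hp : p.Prime := Fact.out
  obtain ⟨j, hj, hpair⟩ := hpair
  set y : G := g * z ^ b.val * g⁻¹ with hy
  have hJ : ((j : ℕ) : ZMod p) ≠ 0 := fun h => hj ((ZMod.natCast_eq_zero_iff j p).1 h)
  -- `y` is its own `p`-part
  have hzb : IsPPart p (z ^ b.val) (z ^ b.val) :=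
    isPPart_self ⟨1, by rw [orderOf_pow_val hz hb, pow_one]⟩
  have hyy : IsPPart p y y := Cfsg.Agent.Lib.H23.IsPPart.conj hzb g
  -- step 1: `s₀ = a j b⁻¹ ∈ E`
  have hs0 : a * (j : ZMod p) * b⁻¹ ∈ fusE p z := by
    have h01 := (hpair 0 1).2 (by rw [zero_add, mul_one]; exact hj)
    obtain ⟨s, t, hs, hts⟩ := h01
    rw [pow_zero, one_mul, pow_one] at hs
    have hsy : s = y := Cfsg.Agent.Lib.H23.IsPPart.unique hp hs hyy
    rw [zero_add, mul_one, pow_val_pow_nat hz ha, hsy] at hts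
    -- `t * z ^ (a j).val * t⁻¹ = g * z ^ b.val * g⁻¹`
    have h1 : IsConj (z ^ (a * (j : ZMod p)).val) y := isConj_iff.2 ⟨t, hts⟩
    have h2 : IsConj (z ^ b.val) y := isConj_iff.2 ⟨g, rfl⟩
    exact (isConj_pow_iff hz (mul_ne_zero ha hJ) hb).1 (h1.trans h2.symm)
  -- step 2: the condition on `r ∈ E`
  have hcond : ∀ r : ZMod p, r ∈ fusE p z →
      ((∃ sw t : G, Cfsg.IsPPart p (z ^ a.val * y ^ r.val) sw ∧ t * z ^ c.val * t⁻¹ = sw) ↔
        (a + b * (a * (j : ZMod p) * b⁻¹ * r)) * c⁻¹ ∈ fusE p z) := by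
    intro r hr
    have hm : a + b * (a * (j : ZMod p) * b⁻¹ * r) = a * (((1 + j * r.val : ℕ)) : ZMod p) := by
      push_cast
      rw [ZMod.natCast_zmod_val]
      field_simp
    rw [hm]
    have h1r := hpair 1 r.val
    rw [pow_one] at h1r
    by_cases hdv : p ∣ 1 + j * r.val
    · -- `p`-regular case: both sides fail
      have hreg := h1r.1 hdv
      have hzero : (((1 + j * r.val : ℕ)) : ZMod p) = 0 := (ZMod.natCast_eq_zero_iff _ p).2 hdv
      constructor
      · rintro ⟨sw, t, hsw, htsw⟩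
        exfalso
        have hsw1 : sw = 1 := Cfsg.Agent.Lib.H23.IsPPart.unique hp hsw (isPPart_one hreg)
        rw [hsw1] at htsw
        have hzc1 : z ^ c.val = 1 := by
          have := congrArg (fun w => t⁻¹ * w * t) htsw
          simpa [mul_assoc] using this
        have ho := orderOf_pow_val hz hc'
        rw [hzc1, orderOf_one] at ho
        exact hp.one_lt.ne ho
      · intro h
        rw [hzero, mul_zero, zero_mul] at h
        exact absurd h (fusE_zero_not_mem z)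
    · -- `p`-singular case
      have hne : (((1 + j * r.val : ℕ)) : ZMod p) ≠ 0 := fun h => hdv ((ZMod.natCast_eq_zero_iff _ p).1 h)
      have hmne : a * (((1 + j * r.val : ℕ)) : ZMod p) ≠ 0 := mul_ne_zero ha hne
      obtain ⟨s, t, hs, hts⟩ := h1r.2 hdv
      rw [pow_val_pow_nat hz ha] at hts
      have hms : IsConj (z ^ (a * (((1 + j * r.val : ℕ)) : ZMod p)).val) s := isConj_iff.2 ⟨t, hts⟩
      rw [← isConj_pow_iff hz hmne hc']
      constructor
      · rintro ⟨sw, t', hsw, htsw⟩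
        have hsws : sw = s := Cfsg.Agent.Lib.H23.IsPPart.unique hp hsw hs
        rw [hsws] at htsw
        have hcs : IsConj (z ^ c.val) s := isConj_iff.2 ⟨t', htsw⟩
        exact hms.trans hcs.symm
      · intro h
        obtain ⟨t', ht'⟩ := isConj_iff.1 (h.symm.trans hms)
        exact ⟨s, t', hs, ht'⟩
  -- step 3: count
  set E := fusE p z with hE
  set s₀ : ZMod p := a * (j : ZMod p) * b⁻¹ with hs₀
  have hs0ne : s₀ ≠ 0 := (mem_fusE.1 hs0).1
  have hcard1 : Nat.card {r : ZMod p // r ∈ E ∧ ∃ sw t : G,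
        Cfsg.IsPPart p (z ^ a.val * y ^ r.val) sw ∧ t * z ^ c.val * t⁻¹ = sw} =
      (E.filter (fun r : ZMod p => (a + b * (s₀ * r)) * c⁻¹ ∈ E)).card := by
    rw [← Nat.card_eq_finsetCard]
    refine Nat.card_congr (Equiv.subtypeEquivRight (fun r => ?_))
    rw [Finset.mem_filter]
    constructor
    · rintro ⟨hr, h⟩
      exact ⟨hr, (hcond r hr).1 h⟩
    · rintro ⟨hr, h⟩
      exact ⟨hr, (hcond r hr).2 h⟩
  rw [hcard1]
  unfold strN
  refine Finset.card_nbij' (fun r => s₀ * r) (fun r => s₀⁻¹ * r) ?_ ?_ ?_ ?_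
  · intro r hr
    rw [Finset.mem_coe, Finset.mem_filter] at hr ⊢
    exact ⟨fusE_mul_mem hz hs0 hr.1, hr.2⟩
  · intro r hr
    rw [Finset.mem_coe, Finset.mem_filter] at hr ⊢
    refine ⟨fusE_mul_mem hz (fusE_inv_mem hz hs0) hr.1, ?_⟩
    have hcancel : s₀ * (s₀⁻¹ * r) = r := by rw [← mul_assoc, mul_inv_cancel₀ hs0ne, one_mul]
    change (a + b * (s₀ * (s₀⁻¹ * r))) * c⁻¹ ∈ E
    rw [hcancel]
    exact hr.2
  · intro r _
    change s₀⁻¹ * (s₀ * r) = r
    rw [← mul_assoc, inv_mul_cancel₀ hs0ne, one_mul]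
  · intro r _
    change s₀ * (s₀⁻¹ * r) = r
    rw [← mul_assoc, mul_inv_cancel₀ hs0ne, one_mul]

end Cfsg.Agent.Lib.H4.CY
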