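import Mathlib
import Cfsg.Prelude.Def_Blocks
import Cfsg.Agent.Lib.H10.PSolvable
import Cfsg.Agent.Lib.H12.CYDefs
import Cfsg.Agent.Lib.H4.CYCOUNT
import Cfsg.Agent.Lib.H22.CYPAIRC

/-!
# S1950, piece COUNT in the architect's exact signature (`count_eq`)

`count_core` (Lib/H4/CYCOUNT) with the pair lemma `pairc` of helper22 (Lib/H22/CYPAIRC) plugged in for
`x = z ^ a.val`, `y = g * z ^ b.val * g⁻¹`.
-/

set_option autoImplicit false
set_option linter.unusedSectionVars false
set_option linter.unusedVariables false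

namespace Cfsg.Agent.Lib.H4.CY

open Cfsg Cfsg.Agent.Lib.H12.CY

variable {G : Type*} [Group G] [Finite G] {p : ℕ} [Fact p.Prime]

/-- Conjugation preserves the order. -/
theorem orderOf_conj_eq (g w : G) : orderOf (g * w * g⁻¹) = orderOf w := by
  have h := orderOf_injective (MulAut.conj g).toMonoidHom (MulAut.conj g).injective w
  simpa [MulAut.conj_apply] using h

/-- COUNT.  For every `g`: the number of `r ∈ E` such that the `p`-part of `z^a · (g z^b g⁻¹)^r` is conjugate to
`z^c` equals `strN E a b c`. -/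
theorem count_eq (P : Sylow p G) (hP : IsCyclic ↥(P : Subgroup G))
    (hc : ∀ x y : G, orderOf x = p → orderOf y = p → Cfsg.IsPSolvable p ↥(Subgroup.closure ({x, y} : Set G)))
    {z : G} (hz : orderOf z = p) {a b c : ZMod p} (ha : a ≠ 0) (hb : b ≠ 0) (hc' : c ≠ 0) (g : G) :
    Nat.card {r : ZMod p // r ∈ fusE p z ∧ ∃ sw t : G,
        Cfsg.IsPPart p (z ^ a.val * (g * z ^ b.val * g⁻¹) ^ r.val) sw ∧ t * z ^ c.val * t⁻¹ = sw} =
      strN (fusE p z) a b c := by
  have hx : orderOf (z ^ a.val) = p := orderOf_pow_val hz ha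
  have hy : orderOf (g * z ^ b.val * g⁻¹) = p := by
    rw [orderOf_conj_eq, orderOf_pow_val hz hb]
  exact count_core hz ha hb hc' g (Cfsg.Agent.Lib.H22.CY.pairc P hP hx hy (hc _ _ hx hy))

end Cfsg.Agent.Lib.H4.CY
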