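import Mathlib
import Cfsg.Prelude.Def_BrauerPairs
import Cfsg.Prelude.Def_BlockLocal
import Cfsg.Prelude.Def_BlockRank
import Cfsg.Agent.Lib.H23.CYE23
import Cfsg.Agent.Lib.L0.BrauerStab
import Cfsg.Agent.Lib.L0.BrauerDefect

/-!
S4645 piece (E2) `heights_zero` (the Brauer-pair glue around helper23's core `H23.CY.height_zero_of_inertial_one`) in the
exact signature of `tools/blueprints/S4645_sigs.lean` (helper22 architect).
-/
set_option autoImplicit false
namespace Cfsg.Agent.Lib.H4.CY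

open Cfsg Cfsg.Agent.Lib.H23 Cfsg.Agent.Lib.L0 Cfsg.Agent.Lib.L0.BrauerNormal
  Cfsg.Agent.Lib.L0.BrauerSubpair Cfsg.Agent.Lib.L0.BrauerDefect Cfsg.Agent.Lib.L0.BrauerStab
  Cfsg.Agent.Lib.L0.BlockAut Cfsg.Agent.Lib.L0.PrincipalBrauerPair

section form
variable {K : Type*} [Group K] [Fintype K]

/-- The wording of "`g` stabilizes `A`" used in S4715 is `Cfsg.StabilizesBlock`. -/
theorem stab_form_iff (C : Subgroup K) [Fintype C] (A : Set (Cfsg.IrrCharacter C)) (g : K)
    (hg : g ∈ Subgroup.normalizer (C : Set K)) :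
    (∀ θ ∈ A, ∀ θ' : Cfsg.IrrCharacter C,
        (∀ h h' : C, (h' : K) = g * h * g⁻¹ → (θ' : C → ℂ) h' = (θ : C → ℂ) h) → θ' ∈ A) ↔
      Cfsg.StabilizesBlock C A g := by
  constructor
  · intro H
    exact ⟨hg, fun χ hχ => ⟨cj (conjAut C g hg) χ, H χ hχ _ (isConjCharOf_cj C g hg χ),
      isConjCharOf_cj C g hg χ⟩⟩
  · rintro ⟨_, h⟩ θ hθ θ' hc
    obtain ⟨χ', hχ', hc'⟩ := h θ hθ
    have e1 : χ' = cj (conjAut C g hg) θ := eq_cj_of_isConjCharOf C g hg hc'
    have e2 : θ' = cj (conjAut C g hg) θ := eq_cj_of_isConjCharOf C g hg hc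
    rw [e2, ← e1]
    exact hχ'

end form

section trivialInertial
variable {K : Type*} [Group K] [Fintype K] {p : ℕ} {M : Ideal Cfsg.AlgInt}

theorem heights_zero_aux [Fact p.Prime] (hM : Cfsg.IsPModular p M) {f : Set (Cfsg.IrrCharacter K)}
    {D : Subgroup K} {e : Set (Cfsg.IrrCharacter (Subgroup.centralizer (D : Set K)))}
    (hmax : Cfsg.IsMaximalBrauerPair p M f D e) (hab : ∀ x ∈ D, ∀ y ∈ D, x * y = y * x)
    (hT : ∀ y : K, y ∈ Subgroup.normalizer (D : Set K) →
      Cfsg.StabilizesBlock (Subgroup.centralizer (D : Set K)) e y →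
      y ∈ Subgroup.centralizer (D : Set K))
    (hH : Subgroup.centralizer (D : Set K) = D ⊔ Subgroup.centralizer (D : Set K)) :
    ∀ χ ∈ f, Cfsg.blockHeight p f (χ : K → ℂ) = 0 := by
  classical
  have hPr := isPrime_of_isPModular hM
  have : Fintype (Subgroup.centralizer (D : Set K)) := Fintype.ofFinite _
  have hf : Cfsg.IsPBlock M f := hmax.1.2.1
  have he : Cfsg.IsPBlock M e := hmax.1.1.2
  have hfD : Cfsg.IsDefectGroup p M f D := isDefectGroup_of_maximal hM hmax
  have hind : Cfsg.IsInducedBlock M (Subgroup.centralizer (D : Set K)) e f :=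
    isInducedBlock_of_pair hM hmax.1
  have hTmem : ∀ g : K, g ∈ stabSub D e ↔ (g ∈ Subgroup.normalizer (D : Set K) ∧ ∀ θ ∈ e,
      ∀ θ' : Cfsg.IrrCharacter (Subgroup.centralizer (D : Set K)),
        (∀ h h' : (Subgroup.centralizer (D : Set K)), (h' : K) = g * h * g⁻¹ →
          (θ' : (Subgroup.centralizer (D : Set K)) → ℂ) h' =
            (θ : (Subgroup.centralizer (D : Set K)) → ℂ) h) → θ' ∈ e) := by
    intro g
    rw [mem_stabSub_iff (M := M) D he g]
    constructor
    · rintro ⟨hgN, hst⟩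
      exact ⟨hgN, (stab_form_iff _ e g (normalizer_le_normalizer_centralizer D hgN)).2 hst⟩
    · rintro ⟨hgN, hform⟩
      exact ⟨hgN, (stab_form_iff _ e g (normalizer_le_normalizer_centralizer D hgN)).1 hform⟩
  have hle : stabSub D e ≤ Subgroup.centralizer (D : Set K) := by
    intro g hg
    obtain ⟨hgN, hst⟩ := (mem_stabSub_iff (M := M) D he g).1 hg
    exact hT g hgN hst
  exact Cfsg.Agent.Lib.H23.CY.height_zero_of_inertial_one p M hM f hf D hfD hab
    (Subgroup.centralizer (D : Set K)) hH e hind (stabSub D e) hTmem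
    (Subgroup.relIndex_eq_one.2 hle)

/-- (E2) ALL HEIGHTS ARE ZERO. -/
theorem heights_zero [Fact p.Prime] (hM : Cfsg.IsPModular p M) {f : Set (Cfsg.IrrCharacter K)}
    {D : Subgroup K} {e : Set (Cfsg.IrrCharacter (Subgroup.centralizer (D : Set K)))}
    (hmax : Cfsg.IsMaximalBrauerPair p M f D e) (hab : ∀ x ∈ D, ∀ y ∈ D, x * y = y * x)
    (hT : ∀ y : K, y ∈ Subgroup.normalizer (D : Set K) →
      Cfsg.StabilizesBlock (Subgroup.centralizer (D : Set K)) e y →
      y ∈ Subgroup.centralizer (D : Set K)) :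
    ∀ χ ∈ f, Cfsg.blockHeight p f (χ : K → ℂ) = 0 := by
  have hDC : D ≤ Subgroup.centralizer (D : Set K) := by
    intro x hx
    rw [Subgroup.mem_centralizer_iff]
    intro y hy
    exact hab y hy x hx
  exact heights_zero_aux hM hmax hab hT (sup_of_le_right hDC).symm

end trivialInertial

end Cfsg.Agent.Lib.H4.CY
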