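import Mathlib
import Cfsg.Prelude.Def_Blocks
import Cfsg.Agent.Lib.H4.PCOMPLcore
import Cfsg.Agent.Lib.H23.PPart

/-!
# S1950, piece PAIR (F2): two elements of order `p` generating a `p`-solvable group with cyclic Sylow `p`-subgroups

`X = ⟨x, y⟩` is `p`-solvable with cyclic Sylow `p`-subgroups, `x`, `y` of order `p`.  Then `X` has a normal
`p'`-subgroup `K` containing all `p`-regular elements with `X / K` cyclic, `y ≡ x ^ j (mod K)` for some
`1 ≤ j < p`, `y` is conjugate in `X` to `x ^ j`, and `x * y` is `p`-regular if `p ∣ 1 + j`, while otherwise its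
`p`-part has order `p` and is conjugate in `X` to `x ^ (1 + j)`.
-/

set_option autoImplicit false

universe u

namespace Cfsg.Agent.Lib.H4.CY

open Cfsg

/-- In a finite cyclic group, an element killed by the prime `p` lies in the subgroup generated by any
element of order `p`. -/
theorem mem_zpowers_of_pow_eq_one {C : Type*} [Group C] [Finite C] [IsCyclic C] {p : ℕ}
    (hp : p.Prime) {a b : C} (ha : orderOf a = p) (hb : b ^ p = 1) : b ∈ Subgroup.zpowers a := by
  classical
  have := Fintype.ofFinite C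
  by_contra hnot
  have hle := IsCyclic.card_pow_eq_one_le (α := C) (n := p) hp.pos
  set T := (Finset.univ.filter fun c : C => c ^ p = 1) with hT
  set U : Finset C := Finset.image (fun i : Fin p => a ^ (i : ℕ)) Finset.univ with hU
  have hinj : Function.Injective (fun i : Fin p => a ^ (i : ℕ)) := by
    intro i j hij
    have h1 : (i : ℕ) ∈ Set.Iio (orderOf a) := by rw [ha]; exact i.2
    have h2 : (j : ℕ) ∈ Set.Iio (orderOf a) := by rw [ha]; exact j.2
    exact Fin.ext (pow_injOn_Iio_orderOf h1 h2 hij)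
  have hUcard : U.card = p := by
    rw [hU, Finset.card_image_of_injective _ hinj, Finset.card_univ, Fintype.card_fin]
  have hbU : b ∉ U := by
    intro h
    rw [hU, Finset.mem_image] at h
    obtain ⟨i, -, hi⟩ := h
    exact hnot ⟨(i : ℕ), by simpa using hi⟩
  have hsub : insert b U ⊆ T := by
    intro c hc
    rw [Finset.mem_insert] at hc
    rw [hT, Finset.mem_filter]
    refine ⟨Finset.mem_univ _, ?_⟩
    rcases hc with rfl | hc
    · exact hb
    · rw [hU, Finset.mem_image] at hc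
      obtain ⟨i, -, rfl⟩ := hc
      have hap : a ^ p = 1 := by rw [← ha]; exact pow_orderOf_eq_one a
      change (a ^ (i : ℕ)) ^ p = 1
      rw [← pow_mul, mul_comm, pow_mul, hap, one_pow]
  have hcard := Finset.card_le_card hsub
  rw [Finset.card_insert_of_notMem hbU, hUcard] at hcard
  omega

/-- **PAIR core** inside `X = ⟨x, y⟩`. -/
theorem pair_core {X : Type u} [Group X] [Finite X] (p : ℕ) [Fact p.Prime]
    (hsol : IsPSolvable p X) (S : Sylow p X) (hS : IsCyclic ↥(S : Subgroup X))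
    {x y : X} (hx : orderOf x = p) (hy : orderOf y = p)
    (hgen : Subgroup.closure ({x, y} : Set X) = ⊤) :
    ∃ j : ℕ, 1 ≤ j ∧ j < p ∧ (∃ h : X, h * y * h⁻¹ = x ^ j) ∧
      (p ∣ 1 + j → ¬ p ∣ orderOf (x * y)) ∧
      (¬ p ∣ 1 + j → ∃ s : X, IsPPart p (x * y) s ∧ orderOf s = p ∧ ∃ h : X, h * s * h⁻¹ = x ^ (1 + j)) := by
  have hp : p.Prime := Fact.out
  have hScomm : ∀ a ∈ (S : Subgroup X), ∀ b ∈ (S : Subgroup X), a * b = b * a := by
    intro a ha b hb
    have hc : IsMulCommutative ↥(S : Subgroup X) := IsCyclic.isMulCommutative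
    exact congrArg Subtype.val (hc.is_comm.comm ⟨a, ha⟩ ⟨b, hb⟩)
  have hT : ∀ t ∈ ({x, y} : Set X), ∃ k : ℕ, orderOf t = p ^ k := by
    rintro t (rfl | ht)
    · exact ⟨1, by rw [hx, pow_one]⟩
    · rw [Set.mem_singleton_iff] at ht
      subst ht
      exact ⟨1, by rw [hy, pow_one]⟩
  obtain ⟨K, hKn, hKc, ⟨m, hKi⟩, hKreg⟩ :=
    Cfsg.Agent.Lib.H4.PC.exists_pprime_normal_of_gen p hsol S hScomm {x, y} hT hgen
  -- the quotient `Q = X / K`
  set f : X →* X ⧸ K := QuotientGroup.mk' K with hf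
  have hfs : Function.Surjective f := QuotientGroup.mk'_surjective K
  have hfK : ∀ t : X, f t = 1 ↔ t ∈ K := fun t => QuotientGroup.eq_one_iff t
  have hQp : IsPGroup p (X ⧸ K) := by
    refine IsPGroup.of_card (n := m) ?_
    rw [← Subgroup.index_eq_card, hKi]
  have hStop : (S : Subgroup X).map f = ⊤ := by
    have h1 := (S.mapSurjective hfs).is_maximal' (hQp.to_subgroup ⊤) le_top
    rw [h1]
    rfl
  have hQcyc : IsCyclic (X ⧸ K) := by
    have := hS
    refine isCyclic_of_surjective (f.comp (S : Subgroup X).subtype) ?_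
    intro q
    have hq : q ∈ (S : Subgroup X).map f := hStop ▸ Subgroup.mem_top q
    obtain ⟨s, hs, rfl⟩ := hq
    exact ⟨⟨s, hs⟩, rfl⟩
  have hQcomm : ∀ a b : X ⧸ K, a * b = b * a := by
    intro a b
    have hc : IsMulCommutative (X ⧸ K) := IsCyclic.isMulCommutative
    exact hc.is_comm.comm a b
  -- `p`-elements of `K` are trivial
  have hKp : ∀ t : X, t ∈ K → (∃ k : ℕ, orderOf t ∣ p ^ k) → t = 1 := by
    intro t htK ⟨k, hk⟩
    have h1 : orderOf t ∣ Nat.card K := by
      have := orderOf_dvd_natCard (⟨t, htK⟩ : K)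
      rwa [Subgroup.orderOf_mk] at this
    have h2 : (p ^ k).Coprime (Nat.card K) := Nat.Coprime.pow_left k hKc.symm
    rw [← orderOf_eq_one_iff]
    exact Nat.eq_one_of_dvd_coprimes h2 hk h1
  have hnotK : ∀ t : X, orderOf t = p → t ∉ K := by
    intro t ht htK
    have := hKp t htK ⟨1, by rw [ht, pow_one]⟩
    rw [this, orderOf_one] at ht
    exact hp.one_lt.ne ht
  have hofx : orderOf (f x) = p := by
    refine orderOf_eq_prime ?_ ?_
    · rw [← map_pow, ← hx, pow_orderOf_eq_one, map_one]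
    · intro h
      exact hnotK x hx ((hfK x).1 h)
  have hfyp : f y ^ p = 1 := by
    rw [← map_pow, ← hy, pow_orderOf_eq_one, map_one]
  have hmem : f y ∈ Subgroup.zpowers (f x) := mem_zpowers_of_pow_eq_one hp hofx hfyp
  obtain ⟨k, hk⟩ := Subgroup.mem_zpowers_iff.mp hmem
  have hp0 : (p : ℤ) ≠ 0 := by exact_mod_cast hp.ne_zero
  have hppos : (0 : ℤ) < p := by exact_mod_cast hp.pos
  set j : ℕ := (k % (p : ℤ)).toNat with hj
  have hjz : (j : ℤ) = k % (p : ℤ) := Int.toNat_of_nonneg (Int.emod_nonneg k hp0)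
  have hjlt : j < p := by
    have := Int.emod_lt_of_pos k hppos
    omega
  have hfy : f y = f x ^ j := by
    rw [← hk, ← zpow_natCast, hjz, ← hofx, zpow_mod_orderOf]
  have hj1 : 1 ≤ j := by
    rcases Nat.eq_zero_or_pos j with h0 | h0
    · exfalso
      rw [h0, pow_zero] at hfy
      exact hnotK y hy ((hfK y).1 hfy)
    · exact h0
  -- conjugacy inside `X`
  have conj_aux : ∀ s : X, orderOf s = p → ∀ i : ℕ, f s = f x ^ i → ∃ h : X, h * s * h⁻¹ = x ^ i := by
    intro s hs i hi
    have hpx : IsPGroup p ↥(Subgroup.zpowers x) :=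
      IsPGroup.of_card (n := 1) (by rw [Nat.card_zpowers, hx, pow_one])
    have hps : IsPGroup p ↥(Subgroup.zpowers s) :=
      IsPGroup.of_card (n := 1) (by rw [Nat.card_zpowers, hs, pow_one])
    obtain ⟨S1, hS1⟩ := hpx.exists_le_sylow
    obtain ⟨S2, hS2⟩ := hps.exists_le_sylow
    obtain ⟨h, hh⟩ := MulAction.exists_smul_eq X S2 S1
    have hxS1 : x ∈ (S1 : Subgroup X) := hS1 (Subgroup.mem_zpowers x)
    have hsS2 : s ∈ (S2 : Subgroup X) := hS2 (Subgroup.mem_zpowers s)
    have hcS1 : h * s * h⁻¹ ∈ (S1 : Subgroup X) := by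
      rw [← hh, Sylow.coe_subgroup_smul]
      exact Subgroup.smul_mem_pointwise_smul s (MulAut.conj h) _ hsS2
    haveI : IsCyclic ↥(S1 : Subgroup X) := by
      have := hS
      exact isCyclic_of_surjective (Sylow.equiv S S1) (Sylow.equiv S S1).surjective
    have hoa : orderOf (⟨x, hxS1⟩ : ↥(S1 : Subgroup X)) = p := by
      rw [Subgroup.orderOf_mk, hx]
    have hbp : (⟨h * s * h⁻¹, hcS1⟩ : ↥(S1 : Subgroup X)) ^ p = 1 := by
      apply Subtype.ext
      simp only [Subgroup.coe_pow, Subgroup.coe_one]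
      rw [conj_pow, ← hs, pow_orderOf_eq_one]
      group
    have hmem2 := mem_zpowers_of_pow_eq_one hp hoa hbp
    obtain ⟨k', hk'⟩ := Subgroup.mem_zpowers_iff.mp hmem2
    have hk'' : x ^ k' = h * s * h⁻¹ := by
      have := congrArg Subtype.val hk'
      simpa using this
    refine ⟨h, ?_⟩
    rw [← hk'']
    -- compare modulo `K`
    have h3 : f (x ^ k') = f x ^ i := by
      rw [hk'', map_mul, map_mul, map_inv, hQcomm (f h) (f s), mul_assoc, mul_inv_cancel, mul_one, hi]
    have h4 : x ^ k' * (x ^ i)⁻¹ ∈ K := by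
      rw [← hfK, map_mul, map_inv, h3, map_pow, mul_inv_cancel]
    have h5 : x ^ k' * (x ^ i)⁻¹ = 1 := by
      refine hKp _ h4 ⟨1, ?_⟩
      rw [pow_one, ← hx]
      apply orderOf_dvd_of_pow_eq_one
      have hxx : x ^ k' * (x ^ i)⁻¹ = x ^ (k' - (i : ℤ)) := by
        rw [zpow_sub, zpow_natCast]
      rw [hxx, ← zpow_natCast, ← zpow_mul, mul_comm, zpow_mul, zpow_natCast, pow_orderOf_eq_one,
        one_zpow]
    exact mul_inv_eq_one.mp h5
  have hfxy : f (x * y) = f x ^ (1 + j) := by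
    rw [map_mul, hfy, pow_add, pow_one]
  refine ⟨j, hj1, hjlt, conj_aux y hy j hfy, ?_, ?_⟩
  · intro hdvd hdiv
    have h1 : f (x * y) = 1 := by
      rw [hfxy]
      exact orderOf_dvd_iff_pow_eq_one.mp (hofx ▸ hdvd)
    have h2 : x * y ∈ K := (hfK _).1 h1
    have h3 : orderOf (x * y) ∣ Nat.card K := by
      have := orderOf_dvd_natCard (⟨x * y, h2⟩ : K)
      rwa [Subgroup.orderOf_mk] at this
    have h4 : p ∣ Nat.card K := hdiv.trans h3
    have := Nat.Coprime.eq_one_of_dvd hKc.symm h4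
    exact hp.one_lt.ne' this
  · intro hndvd
    obtain ⟨s, hs⟩ := Cfsg.Agent.Lib.H23.exists_isPPart hp (x * y) (isOfFinOrder_of_finite _)
    obtain ⟨w, hsw, hcomm, ⟨k2, hk2⟩, hw⟩ := hs
    have hwK : w ∈ K := hKreg w ((Nat.Prime.coprime_iff_not_dvd hp).2 hw).symm
    have hfs' : f s = f x ^ (1 + j) := by
      have h1 : f s * f w = f (x * y) := by rw [← map_mul, hsw]
      rw [(hfK w).2 hwK, mul_one] at h1
      rw [h1, hfxy]
    have hsp : s ^ p = 1 := by
      refine hKp _ ?_ ⟨k2, ?_⟩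
      · rw [← hfK, map_pow, hfs', ← pow_mul, mul_comm, pow_mul, ← hofx, pow_orderOf_eq_one, one_pow]
      · rw [← hk2]
        exact orderOf_pow_dvd p
    have hs1 : s ≠ 1 := by
      intro h
      rw [h, map_one] at hfs'
      have := orderOf_dvd_iff_pow_eq_one.mpr hfs'.symm
      rw [hofx] at this
      exact hndvd this
    have hos : orderOf s = p := orderOf_eq_prime hsp hs1
    exact ⟨s, ⟨w, hsw, hcomm, ⟨k2, hk2⟩, hw⟩, hos, conj_aux s hos (1 + j) hfs'⟩

/-- **PAIR (F2)** in a group `G` with cyclic Sylow `p`-subgroups. -/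
theorem pair {G : Type u} [Group G] [Finite G] {p : ℕ} [Fact p.Prime] (P : Sylow p G)
    (hP : IsCyclic ↥(P : Subgroup G)) {x y : G} (hx : orderOf x = p) (hy : orderOf y = p)
    (hsol : IsPSolvable p ↥(Subgroup.closure ({x, y} : Set G))) :
    ∃ j : ℕ, 1 ≤ j ∧ j < p ∧
      (∃ h ∈ Subgroup.closure ({x, y} : Set G), h * y * h⁻¹ = x ^ j) ∧
      (p ∣ 1 + j → ¬ p ∣ orderOf (x * y)) ∧
      (¬ p ∣ 1 + j → ∃ s : G, IsPPart p (x * y) s ∧ orderOf s = p ∧
        ∃ h ∈ Subgroup.closure ({x, y} : Set G), h * s * h⁻¹ = x ^ (1 + j)) := by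
  set X : Subgroup G := Subgroup.closure ({x, y} : Set G) with hX
  have hxX : x ∈ X := Subgroup.subset_closure (by simp)
  have hyX : y ∈ X := Subgroup.subset_closure (by simp)
  obtain ⟨S⟩ : Nonempty (Sylow p X) := inferInstance
  -- `S` is cyclic
  have hScyc : IsCyclic ↥(S : Subgroup X) := by
    have hQ : IsPGroup p ((S : Subgroup X).map X.subtype) := S.2.map _
    obtain ⟨P', hP'⟩ := hQ.exists_le_sylow
    haveI : IsCyclic ↥(P' : Subgroup G) := by
      have := hP
      exact isCyclic_of_surjective (Sylow.equiv P P') (Sylow.equiv P P').surjective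
    let φ : ↥(S : Subgroup X) →* ↥(P' : Subgroup G) :=
      { toFun := fun s => ⟨((s : X) : G), hP' (Subgroup.mem_map_of_mem _ s.2)⟩
        map_one' := rfl
        map_mul' := fun _ _ => rfl }
    refine isCyclic_of_injective φ ?_
    intro a b hab
    have h1 : (((a : X) : G)) = ((b : X) : G) :=
      congrArg (fun t : ↥(P' : Subgroup G) => (t : G)) hab
    exact Subtype.ext (Subtype.ext h1)
  -- generators
  have hgen : Subgroup.closure ({(⟨x, hxX⟩ : X), ⟨y, hyX⟩} : Set X) = ⊤ := by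
    rw [eq_top_iff]
    rintro ⟨g, hg⟩ -
    have key : ∀ z (hz : z ∈ X), (⟨z, hz⟩ : X) ∈
        Subgroup.closure ({(⟨x, hxX⟩ : X), ⟨y, hyX⟩} : Set X) := by
      intro z hz
      induction hz using Subgroup.closure_induction with
      | mem w hw =>
        apply Subgroup.subset_closure
        rcases hw with h | h
        · left; exact Subtype.ext h
        · right; exact Subtype.ext h
      | one => exact Subgroup.one_mem _
      | mul u v hu hv ihu ihv => exact Subgroup.mul_mem _ ihu ihv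
      | inv u hu ihu => exact Subgroup.inv_mem _ ihu
    exact key g hg
  have hx' : orderOf (⟨x, hxX⟩ : X) = p := by rw [Subgroup.orderOf_mk, hx]
  have hy' : orderOf (⟨y, hyX⟩ : X) = p := by rw [Subgroup.orderOf_mk, hy]
  obtain ⟨j, hj1, hjp, ⟨h, hh⟩, hreg, hsing⟩ := pair_core p hsol S hScyc hx' hy' hgen
  refine ⟨j, hj1, hjp, ⟨(h : G), h.2, ?_⟩, ?_, ?_⟩
  · have := congrArg Subtype.val hh
    simpa using this
  · intro hd
    have := hreg hd
    rwa [← Subgroup.orderOf_coe] at this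
  · intro hnd
    obtain ⟨s, ⟨w, hsw, hcomm, ⟨k, hk⟩, hw⟩, hos, ⟨h', hh'⟩⟩ := hsing hnd
    refine ⟨(s : G), ⟨(w : G), ?_, ?_, ⟨k, ?_⟩, ?_⟩, ?_, ⟨(h' : G), h'.2, ?_⟩⟩
    · have := congrArg Subtype.val hsw
      simpa using this
    · have := congrArg Subtype.val hcomm.eq
      exact this
    · rw [Subgroup.orderOf_coe]; exact hk
    · rw [Subgroup.orderOf_coe]; exact hw
    · rw [Subgroup.orderOf_coe]; exact hos
    · have := congrArg Subtype.val hh'
      simpa using this

end Cfsg.Agent.Lib.H4.CY
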