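import Mathlib
import Cfsg.Agent.Lib.H4.CYPAIR

/-!
# S1950, piece PAIR in `K`-form

For `x`, `y` of order `p` in a group with cyclic Sylow `p`-subgroups, `H = ⟨x, y⟩` `p`-solvable: `H` has a normal
subgroup `K` of order prime to `p` and index `p`, containing all `p`-regular elements of `H`.
-/

set_option autoImplicit false

universe u

namespace Cfsg.Agent.Lib.H4.CY

open Cfsg

/-- abstract form: `X = ⟨x, y⟩`. -/
theorem exists_K_core {X : Type u} [Group X] [Finite X] (p : ℕ) [Fact p.Prime]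
    (hsol : IsPSolvable p X) (S : Sylow p X) (hS : IsCyclic ↥(S : Subgroup X))
    {x y : X} (hx : orderOf x = p) (hy : orderOf y = p)
    (hgen : Subgroup.closure ({x, y} : Set X) = ⊤) :
    ∃ K : Subgroup X, K.Normal ∧ (Nat.card K).Coprime p ∧ K.index = p ∧
      ∀ g : X, (orderOf g).Coprime p → g ∈ K := by
  have hp : p.Prime := Fact.out
  have hScomm : ∀ a ∈ (S : Subgroup X), ∀ b ∈ (S : Subgroup X), a * b = b * a := by
    intro a ha b hb
    have hc : IsMulCommutative ↥(S : Subgroup X) := IsCyclic.isMulCommutative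
    exact congrArg Subtype.val (hc.is_comm.comm ⟨a, ha⟩ ⟨b, hb⟩)
  have hT : ∀ t ∈ ({x, y} : Set X), ∃ k : ℕ, orderOf t = p ^ k := by
    rintro t (rfl | ht)
    · exact ⟨1, by rw [hx, pow_one]⟩
    · rw [Set.mem_singleton_iff] at ht
      subst ht
      exact ⟨1, by rw [hy, pow_one]⟩
  obtain ⟨K, hKn, hKc, ⟨m, hKi⟩, hKreg⟩ :=
    Cfsg.Agent.Lib.H4.PC.exists_pprime_normal_of_gen p hsol S hScomm {x, y} hT hgen
  refine ⟨K, hKn, hKc, ?_, hKreg⟩
  set f : X →* X ⧸ K := QuotientGroup.mk' K with hf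
  have hfs : Function.Surjective f := QuotientGroup.mk'_surjective K
  have hfK : ∀ t : X, f t = 1 ↔ t ∈ K := fun t => QuotientGroup.eq_one_iff t
  have hQp : IsPGroup p (X ⧸ K) := by
    refine IsPGroup.of_card (n := m) ?_
    rw [← Subgroup.index_eq_card, hKi]
  have hStop : (S : Subgroup X).map f = ⊤ := by
    have h1 := (S.mapSurjective hfs).is_maximal' (hQp.to_subgroup ⊤) le_top
    rw [h1]
    rfl
  have hQcyc : IsCyclic (X ⧸ K) := by
    have := hS
    refine isCyclic_of_surjective (f.comp (S : Subgroup X).subtype) ?_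
    intro q
    have hq : q ∈ (S : Subgroup X).map f := hStop ▸ Subgroup.mem_top q
    obtain ⟨s, hs, rfl⟩ := hq
    exact ⟨⟨s, hs⟩, rfl⟩
  have hKp : ∀ t : X, t ∈ K → (∃ k : ℕ, orderOf t ∣ p ^ k) → t = 1 := by
    intro t htK ⟨k, hk⟩
    have h1 : orderOf t ∣ Nat.card K := by
      have := orderOf_dvd_natCard (⟨t, htK⟩ : K)
      rwa [Subgroup.orderOf_mk] at this
    have h2 : (p ^ k).Coprime (Nat.card K) := Nat.Coprime.pow_left k hKc.symm
    rw [← orderOf_eq_one_iff]
    exact Nat.eq_one_of_dvd_coprimes h2 hk h1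
  have hnotK : ∀ t : X, orderOf t = p → t ∉ K := by
    intro t ht htK
    have := hKp t htK ⟨1, by rw [ht, pow_one]⟩
    rw [this, orderOf_one] at ht
    exact hp.one_lt.ne ht
  have hofx : orderOf (f x) = p := by
    refine orderOf_eq_prime ?_ ?_
    · rw [← map_pow, ← hx, pow_orderOf_eq_one, map_one]
    · intro h
      exact hnotK x hx ((hfK x).1 h)
  have hfyp : f y ^ p = 1 := by
    rw [← map_pow, ← hy, pow_orderOf_eq_one, map_one]
  have hmem : f y ∈ Subgroup.zpowers (f x) := mem_zpowers_of_pow_eq_one hp hofx hfyp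
  -- `Q = zpowers (f x)`
  have htop : Subgroup.zpowers (f x) = ⊤ := by
    rw [eq_top_iff]
    intro q _
    obtain ⟨g, rfl⟩ := hfs q
    have hg : g ∈ Subgroup.closure ({x, y} : Set X) := hgen ▸ Subgroup.mem_top g
    have hle : Subgroup.closure ({x, y} : Set X) ≤ (Subgroup.zpowers (f x)).comap f := by
      rw [Subgroup.closure_le]
      rintro t (rfl | ht)
      · exact Subgroup.mem_zpowers (f t)
      · rw [Set.mem_singleton_iff] at ht
        subst ht
        exact hmem
    exact hle hg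
  rw [Subgroup.index_eq_card, ← hofx, ← Nat.card_zpowers, htop]
  exact (Nat.card_congr (Subgroup.topEquiv (G := X ⧸ K)).toEquiv).symm

/-- **PAIR, `K`-form**, inside `G`. -/
theorem pair_K {G : Type u} [Group G] [Finite G] {p : ℕ} [Fact p.Prime] (P : Sylow p G)
    (hP : IsCyclic ↥(P : Subgroup G)) {x y : G} (hx : orderOf x = p) (hy : orderOf y = p)
    (hsol : IsPSolvable p ↥(Subgroup.closure ({x, y} : Set G))) :
    ∃ K : Subgroup G, K ≤ Subgroup.closure ({x, y} : Set G) ∧
      (∀ h ∈ Subgroup.closure ({x, y} : Set G), ∀ k ∈ K, h * k * h⁻¹ ∈ K) ∧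
      (Nat.card K).Coprime p ∧ K.relIndex (Subgroup.closure ({x, y} : Set G)) = p ∧
      ∀ g ∈ Subgroup.closure ({x, y} : Set G), (orderOf g).Coprime p → g ∈ K := by
  set X : Subgroup G := Subgroup.closure ({x, y} : Set G) with hX
  have hxX : x ∈ X := Subgroup.subset_closure (by simp)
  have hyX : y ∈ X := Subgroup.subset_closure (by simp)
  obtain ⟨S⟩ : Nonempty (Sylow p X) := inferInstance
  have hScyc : IsCyclic ↥(S : Subgroup X) := by
    have hQ : IsPGroup p ((S : Subgroup X).map X.subtype) := S.2.map _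
    obtain ⟨P', hP'⟩ := hQ.exists_le_sylow
    haveI : IsCyclic ↥(P' : Subgroup G) := by
      have := hP
      exact isCyclic_of_surjective (Sylow.equiv P P') (Sylow.equiv P P').surjective
    let φ : ↥(S : Subgroup X) →* ↥(P' : Subgroup G) :=
      { toFun := fun s => ⟨((s : X) : G), hP' (Subgroup.mem_map_of_mem _ s.2)⟩
        map_one' := rfl
        map_mul' := fun _ _ => rfl }
    refine isCyclic_of_injective φ ?_
    intro a b hab
    have h1 : (((a : X) : G)) = ((b : X) : G) :=
      congrArg (fun t : ↥(P' : Subgroup G) => (t : G)) hab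
    exact Subtype.ext (Subtype.ext h1)
  have hgen : Subgroup.closure ({(⟨x, hxX⟩ : X), ⟨y, hyX⟩} : Set X) = ⊤ := by
    rw [eq_top_iff]
    rintro ⟨g, hg⟩ -
    have key : ∀ z (hz : z ∈ X), (⟨z, hz⟩ : X) ∈
        Subgroup.closure ({(⟨x, hxX⟩ : X), ⟨y, hyX⟩} : Set X) := by
      intro z hz
      induction hz using Subgroup.closure_induction with
      | mem w hw =>
        apply Subgroup.subset_closure
        rcases hw with h | h
        · left; exact Subtype.ext h
        · right; exact Subtype.ext h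
      | one => exact Subgroup.one_mem _
      | mul u v hu hv ihu ihv => exact Subgroup.mul_mem _ ihu ihv
      | inv u hu ihu => exact Subgroup.inv_mem _ ihu
    exact key g hg
  have hx' : orderOf (⟨x, hxX⟩ : X) = p := by rw [Subgroup.orderOf_mk, hx]
  have hy' : orderOf (⟨y, hyX⟩ : X) = p := by rw [Subgroup.orderOf_mk, hy]
  obtain ⟨K, hKn, hKc, hKi, hKreg⟩ := exists_K_core p hsol S hScyc hx' hy' hgen
  refine ⟨K.map X.subtype, Subgroup.map_subtype_le K, ?_, ?_, ?_, ?_⟩
  · intro h hh k hk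
    obtain ⟨k', hk', rfl⟩ := hk
    exact ⟨⟨h, hh⟩ * k' * ⟨h, hh⟩⁻¹, hKn.conj_mem k' hk' ⟨h, hh⟩, by simp⟩
  · rw [Nat.card_congr (K.equivMapOfInjective X.subtype X.subtype_injective).symm.toEquiv]
    exact hKc
  · rw [Subgroup.relIndex, Subgroup.subgroupOf, Subgroup.comap_map_eq_self_of_injective X.subtype_injective]
    exact hKi
  · intro g hg hcop
    have := hKreg ⟨g, hg⟩ (by rwa [Subgroup.orderOf_mk])
    exact ⟨⟨g, hg⟩, this, rfl⟩

end Cfsg.Agent.Lib.H4.CY
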