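import Mathlib
import Cfsg.Prelude.Def_Characters
import Cfsg.Agent.Lib.H4.CentRingF
import Cfsg.Agent.Lib.H24.CharSchur

/-!
# Centralizer ring of a permutation representation, part G (helper4)

Schur's lemma for matrix representations (`matRep_schur`, `sum_conj_matRep`), intertwiners
`V → ℂΩ` obtained by reshaping invariant vectors of `V* ⊗ ℂΩ`, the averaging operator `avgOp`
onto the centralizer ring and its action on intertwiners.
-/

open scoped Kronecker ComplexConjugate ComplexOrder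

set_option linter.unusedSectionVars false
set_option linter.unusedVariables false

namespace Cfsg.Agent.Lib.H4.CentRing

section Schur

variable {G : Type*} [Group G] [Fintype G] {d : ℕ}

theorem toLin'_matRep (ρ : Representation ℂ G (Fin d → ℂ)) (g : G) :
    Matrix.toLin' (matRep ρ g) = ρ g := by
  rw [matRep_apply, Matrix.toLin'_toMatrix']

theorem matRep_schur (ρ : Representation ℂ G (Fin d → ℂ)) (hρ : ρ.IsIrreducible)
    (N : Matrix (Fin d) (Fin d) ℂ) (hN : ∀ g, N * matRep ρ g = matRep ρ g * N) :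
    N = (N.trace / (d : ℂ)) • (1 : Matrix (Fin d) (Fin d) ℂ) := by
  have h := Cfsg.Agent.Lib.H24.schur_scalar ρ hρ (Matrix.toLin' N) (by
    intro g
    rw [← toLin'_matRep, ← Matrix.toLin'_mul, ← Matrix.toLin'_mul, hN])
  rw [Matrix.trace_toLin'_eq, Module.finrank_fin_fun] at h
  have h2 := congrArg LinearMap.toMatrix' h
  rw [LinearMap.toMatrix'_toLin', map_smul, LinearMap.toMatrix'_id] at h2
  exact h2

theorem sum_conj_matRep (ρ : Representation ℂ G (Fin d → ℂ)) (hρ : ρ.IsIrreducible)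
    (M : Matrix (Fin d) (Fin d) ℂ) :
    ∑ g : G, matRep ρ g * M * matRep ρ g⁻¹ =
      ((Nat.card G : ℂ) * M.trace / (d : ℂ)) • (1 : Matrix (Fin d) (Fin d) ℂ) := by
  have hcomm : ∀ h : G, (∑ g : G, matRep ρ g * M * matRep ρ g⁻¹) * matRep ρ h =
      matRep ρ h * ∑ g : G, matRep ρ g * M * matRep ρ g⁻¹ := by
    intro h
    rw [Finset.sum_mul, Finset.mul_sum]
    refine Fintype.sum_equiv (Equiv.mulLeft h⁻¹) _ _ fun g => ?_
    simp only [Equiv.coe_mulLeft]
    rw [mul_assoc, ← map_mul, ← mul_assoc, ← mul_assoc, ← map_mul]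
    congr 3
    · group
    · group
  have h := matRep_schur ρ hρ _ hcomm
  rw [h]
  congr 2
  rw [Matrix.trace_sum]
  have : ∀ g : G, (matRep ρ g * M * matRep ρ g⁻¹).trace = M.trace := by
    intro g
    rw [Matrix.trace_mul_comm, ← mul_assoc, ← map_mul, inv_mul_cancel, map_one, one_mul]
  simp only [this]
  rw [Finset.sum_const, Finset.card_univ, nsmul_eq_mul, Nat.card_eq_fintype_card]

end Schur

section Inter

variable {G : Type*} [Group G] [Fintype G] {Ω : Type*} [Fintype Ω] [DecidableEq Ω] [MulAction G Ω]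
  {ι : Type*} [Fintype ι] [DecidableEq ι]

/-- Reshape a vector on `ι × Ω` to an `Ω × ι` matrix. -/
def reshape (w : ι × Ω → ℂ) : Matrix Ω ι ℂ := fun x i => w (i, x)

theorem reshape_apply (w : ι × Ω → ℂ) (x : Ω) (i : ι) : reshape w x i = w (i, x) := rfl

theorem reshape_add (w w' : ι × Ω → ℂ) : reshape (w + w') = reshape w + reshape w' := rfl

theorem reshape_smul (c : ℂ) (w : ι × Ω → ℂ) : reshape (c • w) = c • reshape w := rfl

theorem reshape_injective : Function.Injective (reshape : (ι × Ω → ℂ) → Matrix Ω ι ℂ) := by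
  intro w w' h
  funext ⟨i, x⟩
  exact congrFun (congrFun h x) i

theorem sg_mulVec_apply (R : G →* Matrix ι ι ℂ) (g : G) (w : ι × Ω → ℂ) (i : ι) (x : Ω) :
    (sg R g).mulVec w (i, x) = ∑ j, R g⁻¹ j i * w (j, g⁻¹ • x) := by
  rw [Matrix.mulVec, dotProduct, Fintype.sum_prod_type]
  refine Finset.sum_congr rfl fun j _ => ?_
  rw [Finset.sum_eq_single (g⁻¹ • x)]
  · rw [sg, Matrix.kroneckerMap_apply, Matrix.transpose_apply, pm_apply, if_pos (by rw [smul_inv_smul]),
      mul_one]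
  · intro y _ hy
    have : x ≠ g • y := by
      intro h
      apply hy
      rw [h, inv_smul_smul]
    rw [sg, Matrix.kroneckerMap_apply, pm_apply, if_neg this, mul_zero, zero_mul]
  · intro h
    exact absurd (Finset.mem_univ _) h

theorem pm_mul_apply' {κ : Type*} (A : Matrix Ω κ ℂ) (g : G) (x : Ω) (i : κ) :
    ((pm g : Matrix Ω Ω ℂ) * A) x i = A (g⁻¹ • x) i := by
  rw [Matrix.mul_apply, Finset.sum_eq_single (g⁻¹ • x)]
  · simp [pm_apply]
  · intro z _ hz
    have : x ≠ g • z := by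
      intro h
      apply hz
      rw [h, inv_smul_smul]
    simp [pm_apply, this]
  · intro h
    exact absurd (Finset.mem_univ _) h

/-- An invariant vector of `V* ⊗ ℂΩ` is an intertwiner `V → ℂΩ`. -/
theorem reshape_intertwine (R : G →* Matrix ι ι ℂ) (w : ι × Ω → ℂ)
    (hw : ∀ g : G, (sg R g).mulVec w = w) (g : G) :
    (pm g : Matrix Ω Ω ℂ) * reshape w = reshape w * R g := by
  ext x i
  rw [pm_mul_apply', reshape_apply, Matrix.mul_apply]
  have h := congrFun (hw g⁻¹) (i, g⁻¹ • x)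
  rw [sg_mulVec_apply, inv_inv, smul_inv_smul] at h
  rw [← h]
  refine Finset.sum_congr rfl fun j _ => ?_
  rw [reshape_apply, mul_comm]

theorem mem_range_EE_invariant (R : G →* Matrix ι ι ℂ) (w : ι × Ω → ℂ)
    (hw : w ∈ LinearMap.range (Matrix.toLin' (EE R : Matrix (ι × Ω) (ι × Ω) ℂ))) (g : G) :
    (sg R g).mulVec w = w := by
  obtain ⟨v, rfl⟩ := hw
  rw [Matrix.toLin'_apply, Matrix.mulVec_mulVec, sg_mul_EE]

/-- The averaging operator onto the centralizer ring. -/
noncomputable def avgOp (G : Type*) [Group G] [Fintype G] [MulAction G Ω] (N : Matrix Ω Ω ℂ) :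
    Matrix Ω Ω ℂ :=
  ∑ g : G, pm g * N * pm g⁻¹

theorem avgOp_isEqv (N : Matrix Ω Ω ℂ) : IsEqv G (avgOp G N) := by
  apply isEqv_of_comm
  intro h
  rw [avgOp, Finset.sum_mul, Finset.mul_sum]
  refine Fintype.sum_equiv (Equiv.mulLeft h⁻¹) _ _ fun g => ?_
  simp only [Equiv.coe_mulLeft]
  rw [mul_assoc, ← pm_mul, ← mul_assoc, ← mul_assoc, ← pm_mul]
  congr 3
  · group
  · group

/-- The averaged rank-one operators act on intertwiners as rank-one operators. -/
theorem avgOp_mul_intertwiner {d : ℕ} (ρ : Representation ℂ G (Fin d → ℂ)) (hρ : ρ.IsIrreducible)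
    (Φ Φ' Φ'' : Matrix Ω (Fin d) ℂ)
    (hΦ : ∀ g : G, (pm g : Matrix Ω Ω ℂ) * Φ = Φ * matRep ρ g)
    (hΦ'' : ∀ g : G, (pm g : Matrix Ω Ω ℂ) * Φ'' = Φ'' * matRep ρ g) :
    avgOp G (Φ * Φ'.conjTranspose) * Φ'' =
      ((Nat.card G : ℂ) * (Φ'.conjTranspose * Φ'').trace / (d : ℂ)) • Φ := by
  have h1 : ∀ g : G, (pm g : Matrix Ω Ω ℂ) * (Φ * Φ'.conjTranspose) * pm g⁻¹ * Φ'' =
      Φ * (matRep ρ g * (Φ'.conjTranspose * Φ'') * matRep ρ g⁻¹) := by
    intro g
    rw [Matrix.mul_assoc _ (pm g⁻¹ : Matrix Ω Ω ℂ), hΦ'' g⁻¹, ← Matrix.mul_assoc, ← Matrix.mul_assoc,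
      hΦ g]
    simp only [Matrix.mul_assoc]
  rw [avgOp, Matrix.sum_mul, Finset.sum_congr rfl fun g _ => h1 g, ← Matrix.mul_sum,
    sum_conj_matRep ρ hρ, Matrix.mul_smul, Matrix.mul_one]

theorem trace_conjTranspose_mul_reshape (w w' : ι × Ω → ℂ) :
    ((reshape w).conjTranspose * reshape w').trace = star w ⬝ᵥ w' := by
  rw [Matrix.trace, dotProduct, Fintype.sum_prod_type]
  refine Finset.sum_congr rfl fun i _ => ?_
  rw [Matrix.diag_apply, Matrix.mul_apply]
  refine Finset.sum_congr rfl fun x _ => ?_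
  rw [Matrix.conjTranspose_apply, reshape_apply, reshape_apply]
  rfl

end Inter

section Comm

variable {G : Type*} [Group G] [Fintype G] {Ω : Type*} [Fintype Ω] [DecidableEq Ω] [MulAction G Ω]

/-- If the centralizer ring is commutative, every irreducible representation occurs at most once
in the permutation module. -/
theorem finrank_le_one_of_comm {d : ℕ} (ρ : Representation ℂ G (Fin d → ℂ)) (hρ : ρ.IsIrreducible)
    (hcomm : ∀ A B : Matrix Ω Ω ℂ, IsEqv G A → IsEqv G B → A * B = B * A) :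
    Module.finrank ℂ (LinearMap.range (Matrix.toLin' (EE (matRep ρ) :
      Matrix (Fin d × Ω) (Fin d × Ω) ℂ))) ≤ 1 := by
  by_contra hlt
  push Not at hlt
  have hd : (d : ℂ) ≠ 0 := by
    have := Cfsg.Agent.Lib.H24.finrank_ne_zero_of_irreducible ρ hρ
    rwa [Module.finrank_fin_fun] at this
  have hG : (Nat.card G : ℂ) ≠ 0 := by exact_mod_cast (Nat.card_pos (α := G)).ne'
  haveI : Nontrivial (LinearMap.range (Matrix.toLin' (EE (matRep ρ) :
      Matrix (Fin d × Ω) (Fin d × Ω) ℂ))) := by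
    apply Module.nontrivial_of_finrank_pos (R := ℂ)
    omega
  obtain ⟨x, hx⟩ := exists_ne (0 : LinearMap.range (Matrix.toLin' (EE (matRep ρ) :
      Matrix (Fin d × Ω) (Fin d × Ω) ℂ)))
  obtain ⟨y, hy⟩ := exists_linearIndependent_pair_of_one_lt_finrank hlt hx
  rw [LinearIndependent.pair_iff] at hy
  obtain ⟨w, hw⟩ := x
  obtain ⟨w', hw'⟩ := y
  have hw0 : w ≠ 0 := by
    intro h
    apply hx
    exact Subtype.ext h
  have hw'0 : w' ≠ 0 := by
    intro h
    have := hy 0 1 (by rw [zero_smul, one_smul, zero_add]; exact Subtype.ext h)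
    exact one_ne_zero this.2
  have hΦ := reshape_intertwine (matRep ρ) w (mem_range_EE_invariant _ w hw)
  have hΦ' := reshape_intertwine (matRep ρ) w' (mem_range_EE_invariant _ w' hw')
  have hc := hcomm _ _ (avgOp_isEqv (G := G) (reshape w * (reshape w').conjTranspose))
    (avgOp_isEqv (G := G) (reshape w' * (reshape w).conjTranspose))
  have hc2 := congrArg (fun M : Matrix Ω Ω ℂ => M * reshape w) hc
  rw [Matrix.mul_assoc, Matrix.mul_assoc, avgOp_mul_intertwiner ρ hρ _ _ _ hΦ' hΦ,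
    avgOp_mul_intertwiner ρ hρ _ _ _ hΦ hΦ, Matrix.mul_smul, Matrix.mul_smul,
    avgOp_mul_intertwiner ρ hρ _ _ _ hΦ hΦ', avgOp_mul_intertwiner ρ hρ _ _ _ hΦ' hΦ,
    trace_conjTranspose_mul_reshape, trace_conjTranspose_mul_reshape,
    trace_conjTranspose_mul_reshape, smul_smul, smul_smul, ← reshape_smul, ← reshape_smul] at hc2
  have hc3 := reshape_injective hc2
  have hn1 : star w ⬝ᵥ w ≠ 0 := fun h => hw0 (dotProduct_star_self_eq_zero.mp h)
  have hn2 : star w' ⬝ᵥ w' ≠ 0 := fun h => hw'0 (dotProduct_star_self_eq_zero.mp h)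
  have h4 := hy ((Nat.card G : ℂ) * (star w ⬝ᵥ w) / d * ((Nat.card G : ℂ) * (star w' ⬝ᵥ w') / d))
    (-((Nat.card G : ℂ) * (star w' ⬝ᵥ w) / d * ((Nat.card G : ℂ) * (star w ⬝ᵥ w) / d))) (by
      apply Subtype.ext
      simp only [Submodule.coe_add, Submodule.coe_smul, Submodule.coe_zero]
      rw [hc3, neg_smul, add_neg_cancel])
  have h5 := h4.1
  have : (Nat.card G : ℂ) * (star w ⬝ᵥ w) / d * ((Nat.card G : ℂ) * (star w' ⬝ᵥ w') / d) ≠ 0 := by
    apply mul_ne_zero
    · exact div_ne_zero (mul_ne_zero hG hn1) hd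
    · exact div_ne_zero (mul_ne_zero hG hn2) hd
  exact this h5

end Comm

end Cfsg.Agent.Lib.H4.CentRing
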