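import Mathlib
import Cfsg.Prelude.Def_Characters
import Cfsg.Prelude.Def_Perm
import Cfsg.Agent.Lib.H4.CentRingG

/-!
# Centralizer ring of a permutation representation, part H (helper4)

`comm_of_multFree`: a multiplicity-free permutation character has a commutative centralizer ring
(every element is a combination of the `Fm Ω χ`); together with `finrank_le_one_of_comm` of part G
this is the equivalence of S0718.  `mem_invariants_iff` translates the invariants of
`(permRep ℂ G Ω).linHom (permRep ℂ G Ω)` into `IsEqv`.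
-/

open scoped Kronecker ComplexConjugate ComplexOrder

set_option linter.unusedSectionVars false
set_option linter.unusedVariables false

namespace Cfsg.Agent.Lib.H4.CentRing

section MF

variable {G : Type*} [Group G] [Fintype G] {Ω : Type*} [Fintype Ω] [DecidableEq Ω] [MulAction G Ω]

theorem sum_deg_smul_Fm [Fintype (Cfsg.IrrCharacter G)] :
    ∑ χ : Cfsg.IrrCharacter G, ((χ : G → ℂ) 1) • Fm Ω (χ : G → ℂ) =
      (Nat.card G : ℂ) • (1 : Matrix Ω Ω ℂ) := by
  classical
  simp only [Fm, Finset.smul_sum, smul_smul]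
  rw [Finset.sum_comm]
  have h1 : ∀ g : G, ∑ χ : Cfsg.IrrCharacter G, ((χ : G → ℂ) 1 * conj ((χ : G → ℂ) g)) •
      (pm g : Matrix Ω Ω ℂ) = (if g = 1 then (Nat.card G : ℂ) else 0) • (pm g : Matrix Ω Ω ℂ) := by
    intro g
    rw [← Finset.sum_smul]
    congr 1
    have h2 := congrArg conj (Cfsg.Agent.Lib.H24.sum_irr_one_mul (G := G) g)
    rw [map_sum] at h2
    have h3 : conj (if g = 1 then (Nat.card G : ℂ) else 0) = if g = 1 then (Nat.card G : ℂ) else 0 := by
      split_ifs <;> simp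
    rw [h3] at h2
    rw [← h2]
    refine Finset.sum_congr rfl fun χ _ => ?_
    rw [map_mul]
    congr 1
    obtain ⟨n, hn⟩ := Cfsg.Agent.Lib.L0.isCharacter_apply_one (Cfsg.Agent.Lib.L0.isCharacter_of_irr χ.2)
    rw [hn, Complex.conj_natCast]
  rw [Finset.sum_congr rfl fun g _ => h1 g, Finset.sum_eq_single (1 : G)]
  · rw [if_pos rfl, pm_one]
  · intro g _ hg
    rw [if_neg hg, zero_smul]
  · intro h
    exact absurd (Finset.mem_univ _) h

/-- Multiplicity-free permutation characters have commutative centralizer rings. -/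
theorem comm_of_multFree
    (hmf : ∀ χ : G → ℂ, Cfsg.IsIrrCharacter G χ → Cfsg.classInner (permCh G Ω) χ = 0 ∨
      Cfsg.classInner (permCh G Ω) χ = 1)
    {A B : Matrix Ω Ω ℂ} (hA : IsEqv G A) (hB : IsEqv G B) : A * B = B * A := by
  classical
  haveI : Fintype (Cfsg.IrrCharacter G) := Fintype.ofFinite _
  have hG : (Nat.card G : ℂ) ≠ 0 := by exact_mod_cast (Nat.card_pos (α := G)).ne'
  have key : ∀ {A : Matrix Ω Ω ℂ}, IsEqv G A → ∀ χ : Cfsg.IrrCharacter G, ∃ c : ℂ,
      A * Fm Ω (χ : G → ℂ) = c • Fm Ω (χ : G → ℂ) := by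
    intro A hA χ
    rcases hmf χ χ.2 with h | h
    · refine ⟨0, ?_⟩
      rw [Fm_eq_zero (Cfsg.Agent.Lib.L0.isCharacter_of_irr χ.2) h, mul_zero, smul_zero]
    · exact exists_mul_Fm_eq (Cfsg.Agent.Lib.L0.isCharacter_of_irr χ.2) h hA
  choose cA hcA using key hA
  choose cB hcB using key hB
  have hAe : (Nat.card G : ℂ) • A = ∑ χ : Cfsg.IrrCharacter G,
      ((χ : G → ℂ) 1 * cA χ) • Fm Ω (χ : G → ℂ) := by
    rw [← mul_one A, ← Matrix.mul_smul, ← sum_deg_smul_Fm, Finset.mul_sum]
    refine Finset.sum_congr rfl fun χ _ => ?_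
    rw [Matrix.mul_smul, hcA, smul_smul]
  have hBe : (Nat.card G : ℂ) • B = ∑ χ : Cfsg.IrrCharacter G,
      ((χ : G → ℂ) 1 * cB χ) • Fm Ω (χ : G → ℂ) := by
    rw [← mul_one B, ← Matrix.mul_smul, ← sum_deg_smul_Fm, Finset.mul_sum]
    refine Finset.sum_congr rfl fun χ _ => ?_
    rw [Matrix.mul_smul, hcB, smul_smul]
  have h1 : (Nat.card G : ℂ) • (A * B) = (Nat.card G : ℂ) • (B * A) := by
    rw [← Matrix.mul_smul, ← Matrix.mul_smul, hAe, hBe, Finset.mul_sum, Finset.mul_sum]
    refine Finset.sum_congr rfl fun χ _ => ?_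
    rw [Matrix.mul_smul, Matrix.mul_smul, hcA, hcB, smul_smul, smul_smul]
    congr 1
    ring
  have h2 := congrArg (fun M => (Nat.card G : ℂ)⁻¹ • M) h1
  simpa [smul_smul, inv_mul_cancel₀ hG] using h2

end MF

section PermRep

variable {G : Type*} [Group G] [Fintype G] {Ω : Type*} [Fintype Ω] [DecidableEq Ω] [MulAction G Ω]

theorem toMatrix'_permRep (g : G) :
    LinearMap.toMatrix' (Cfsg.permRep ℂ G Ω g) = (pm g : Matrix Ω Ω ℂ) := by
  ext x y
  rw [LinearMap.toMatrix'_apply, pm_apply]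
  show (Pi.single y (1 : ℂ) : Ω → ℂ) (g⁻¹ • x) = _
  rw [Pi.single_apply]
  congr 1
  rw [eq_iff_iff]
  constructor
  · intro h
    rw [← h, smul_inv_smul]
  · intro h
    rw [h, inv_smul_smul]

theorem mem_invariants_iff (S : (Ω → ℂ) →ₗ[ℂ] (Ω → ℂ)) :
    S ∈ ((Cfsg.permRep ℂ G Ω).linHom (Cfsg.permRep ℂ G Ω)).invariants ↔
      IsEqv G (LinearMap.toMatrix' S) := by
  rw [Representation.mem_invariants]
  constructor
  · intro h
    apply isEqv_of_comm
    intro g
    have h1 := h g
    rw [Representation.linHom_apply] at h1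
    have h2 := congrArg LinearMap.toMatrix' h1
    rw [LinearMap.toMatrix'_comp, LinearMap.toMatrix'_comp, toMatrix'_permRep,
      toMatrix'_permRep] at h2
    conv_lhs => rw [← h2]
    rw [Matrix.mul_assoc, Matrix.mul_assoc, ← pm_mul, inv_mul_cancel, pm_one, mul_one]
  · intro h g
    rw [Representation.linHom_apply]
    apply LinearMap.toMatrix'.injective
    rw [LinearMap.toMatrix'_comp, LinearMap.toMatrix'_comp, toMatrix'_permRep,
      toMatrix'_permRep, (h.comm g⁻¹), ← Matrix.mul_assoc, ← pm_mul, mul_inv_cancel, pm_one, one_mul]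

end PermRep

end Cfsg.Agent.Lib.H4.CentRing
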