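import Mathlib
import Cfsg.Prelude.Def_Characters
import Cfsg.Agent.Lib.H4.CentRingH
import Cfsg.Agent.Lib.H24.CharConj
import Cfsg.Agent.Lib.H24.CharComplete
import Cfsg.Agent.Lib.H23.DegreeDvd

/-!
# Centralizer ring of a permutation representation, part I (helper4)

Algebra of the matrices `Fm Ω χ`: they lie in the centralizer ring, `(Fm χ)ᵀ = Fm (conj χ)`,
`tr (Fm χ) = |G| ⟨π, χ⟩`, orthogonality `Fm χ * Fm ψ = 0` (`χ ≠ ψ` irreducible) and
`Fm χ * Fm χ = (|G| / χ 1) • Fm χ`; convolution of distinct irreducible characters vanishes.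
-/

open scoped Kronecker ComplexConjugate ComplexOrder

set_option linter.unusedSectionVars false
set_option linter.unusedVariables false

namespace Cfsg.Agent.Lib.H4.CentRing

section FmAlg

variable {G : Type*} [Group G] [Fintype G] {Ω : Type*} [Fintype Ω] [DecidableEq Ω] [MulAction G Ω]

theorem Fm_isEqv {χ : G → ℂ} (hχ : Cfsg.IsClassFunction G χ) : IsEqv G (Fm Ω χ) := by
  apply isEqv_of_comm
  intro h
  rw [Fm, Finset.sum_mul, Finset.mul_sum]
  refine Fintype.sum_equiv (MulAut.conj h⁻¹).toEquiv _ _ fun g => ?_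
  simp only [MulEquiv.toEquiv_eq_coe, MulEquiv.coe_toEquiv, MulAut.conj_apply, inv_inv]
  rw [smul_mul_assoc, mul_smul_comm, ← pm_mul, ← pm_mul]
  have h1 : χ (h⁻¹ * g * h) = χ g := by
    have := hχ g h⁻¹
    rwa [inv_inv] at this
  rw [h1]
  congr 2
  group

theorem Fm_transpose {χ : G → ℂ} (hχ : Cfsg.IsCharacter G χ) :
    (Fm Ω χ).transpose = Fm Ω (fun g => conj (χ g)) := by
  rw [Fm, Fm, Matrix.transpose_sum]
  refine Fintype.sum_equiv (Equiv.inv G) _ _ fun g => ?_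
  simp only [Equiv.inv_apply]
  rw [Matrix.transpose_smul, pm_transpose, Cfsg.Agent.Lib.L0.isCharacter_apply_inv hχ g,
    Complex.conj_conj]

theorem trace_Fm (χ : G → ℂ) :
    (Fm Ω χ).trace = (Nat.card G : ℂ) * Cfsg.classInner (permCh G Ω) χ := by
  have hG : (Nat.card G : ℂ) ≠ 0 := by exact_mod_cast (Nat.card_pos (α := G)).ne'
  rw [Cfsg.classInner, ← mul_assoc, mul_inv_cancel₀ hG, one_mul, Fm, Matrix.trace_sum]
  refine Finset.sum_congr rfl fun g _ => ?_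
  rw [Matrix.trace_smul, trace_pm, smul_eq_mul, mul_comm]
  rfl

/-- Convolution of distinct irreducible characters vanishes. -/
theorem irr_conv_of_ne {χ ψ : G → ℂ} (hχ : Cfsg.IsIrrCharacter G χ) (hψ : Cfsg.IsIrrCharacter G ψ)
    (hne : χ ≠ ψ) (k : G) : ∑ g : G, χ g * ψ (g⁻¹ * k) = 0 := by
  have hχc := Cfsg.Agent.Lib.L0.isCharacter_of_irr hχ
  obtain ⟨n, ρ, hρ, rfl⟩ := hψ
  have ha : Cfsg.IsClassFunction G (fun g => χ g⁻¹) := by
    intro g h
    show χ (h * g * h⁻¹)⁻¹ = χ g⁻¹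
    have := Cfsg.Agent.Lib.L0.isClassFunction_of_isCharacter hχc g⁻¹ h
    rw [← this]
    congr 1
    group
  have h0 : ∑ g : G, (fun g => χ g⁻¹) g * ρ.character g = 0 := by
    have h1 := Cfsg.Agent.Lib.L0.irr_classInner_ne ⟨n, ρ, hρ, rfl⟩ hχ (Ne.symm hne)
    rw [Cfsg.classInner] at h1
    have hG : (Nat.card G : ℂ) ≠ 0 := by exact_mod_cast (Nat.card_pos (α := G)).ne'
    have h2 := (mul_eq_zero.mp h1).resolve_left (inv_ne_zero hG)
    rw [← h2]
    refine Finset.sum_congr rfl fun g _ => ?_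
    simp only
    rw [Cfsg.Agent.Lib.L0.isCharacter_apply_inv hχc, mul_comm]
  have h3 := Cfsg.Agent.Lib.H24.classOp_eq_zero_of_irreducible _ ha ρ hρ h0
  have h4 : LinearMap.trace ℂ _ (Cfsg.Agent.Lib.H24.classOp (fun g => χ g⁻¹) ρ * ρ k) = 0 := by
    rw [h3, zero_mul, map_zero]
  rw [← h4, Cfsg.Agent.Lib.H24.classOp, Finset.sum_mul, map_sum]
  refine Fintype.sum_equiv (Equiv.inv G) _ _ fun g => ?_
  simp only [Equiv.inv_apply, inv_inv]
  rw [smul_mul_assoc, map_smul, smul_eq_mul, Representation.character, ← map_mul]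

theorem Fm_mul_Fm (χ ψ : G → ℂ) :
    Fm Ω χ * Fm Ω ψ = ∑ k : G, conj (∑ g : G, χ g * ψ (g⁻¹ * k)) • (pm k : Matrix Ω Ω ℂ) := by
  rw [Fm, Fm, Finset.sum_mul]
  have hR : ∑ k : G, conj (∑ g : G, χ g * ψ (g⁻¹ * k)) • (pm k : Matrix Ω Ω ℂ) =
      ∑ g : G, ∑ k : G, conj (χ g * ψ (g⁻¹ * k)) • (pm k : Matrix Ω Ω ℂ) := by
    simp only [map_sum, Finset.sum_smul]
    exact Finset.sum_comm
  rw [hR]
  refine Finset.sum_congr rfl fun g _ => ?_
  rw [Finset.mul_sum]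
  refine Fintype.sum_equiv (Equiv.mulLeft g) _ _ fun h => ?_
  simp only [Equiv.coe_mulLeft]
  rw [smul_mul_assoc, mul_smul_comm, smul_smul, ← pm_mul, inv_mul_cancel_left, map_mul]

theorem Fm_mul_Fm_of_ne {χ ψ : G → ℂ} (hχ : Cfsg.IsIrrCharacter G χ) (hψ : Cfsg.IsIrrCharacter G ψ)
    (hne : χ ≠ ψ) : Fm Ω χ * Fm Ω ψ = 0 := by
  rw [Fm_mul_Fm]
  refine Finset.sum_eq_zero fun k _ => ?_
  rw [irr_conv_of_ne hχ hψ hne, map_zero, zero_smul]

theorem Fm_mul_Fm_self {χ : G → ℂ} (hχ : Cfsg.IsIrrCharacter G χ) :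
    Fm Ω χ * Fm Ω χ = ((Nat.card G : ℂ) / χ 1) • Fm Ω χ := by
  rw [Fm_mul_Fm]
  conv_rhs => rw [Fm, Finset.smul_sum]
  refine Finset.sum_congr rfl fun k _ => ?_
  have h := Cfsg.Agent.Lib.H24.irr_sum_mul ⟨χ, hχ⟩ k
  simp only at h
  rw [h, smul_smul]
  congr 1
  obtain ⟨n, hn⟩ := Cfsg.Agent.Lib.L0.isCharacter_apply_one (Cfsg.Agent.Lib.L0.isCharacter_of_irr hχ)
  rw [map_div₀, map_mul, hn, Complex.conj_natCast, Complex.conj_natCast]
  ring

end FmAlg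

end Cfsg.Agent.Lib.H4.CentRing
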