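import Mathlib
import Cfsg.Prelude.Def_Characters
import Cfsg.Agent.Lib.H4.CentRingI

/-!
# Centralizer ring of a permutation representation, part J (helper4)

`exists_coeff_of_multFree` (multiplicity-free: the centralizer ring is spanned by the `Fm Ω χ`),
`transpose_eq_of_multFree_real`, `multFree_of_comm`, `multFree_of_symmetric`, `real_of_symmetric`.
-/

open scoped Kronecker ComplexConjugate ComplexOrder

set_option linter.unusedSectionVars false
set_option linter.unusedVariables false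

namespace Cfsg.Agent.Lib.H4.CentRing

section Sym

variable {G : Type*} [Group G] [Fintype G] {Ω : Type*} [Fintype Ω] [DecidableEq Ω] [MulAction G Ω]

/-- In the multiplicity-free case every element of the centralizer ring is a combination of the
matrices `Fm Ω χ`. -/
theorem exists_coeff_of_multFree [Fintype (Cfsg.IrrCharacter G)]
    (hmf : ∀ χ : G → ℂ, Cfsg.IsIrrCharacter G χ → Cfsg.classInner (permCh G Ω) χ = 0 ∨
      Cfsg.classInner (permCh G Ω) χ = 1)
    {A : Matrix Ω Ω ℂ} (hA : IsEqv G A) :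
    ∃ c : Cfsg.IrrCharacter G → ℂ,
      (Nat.card G : ℂ) • A = ∑ χ : Cfsg.IrrCharacter G, c χ • Fm Ω (χ : G → ℂ) := by
  classical
  have key : ∀ χ : Cfsg.IrrCharacter G, ∃ c : ℂ,
      A * Fm Ω (χ : G → ℂ) = c • Fm Ω (χ : G → ℂ) := by
    intro χ
    rcases hmf χ χ.2 with h | h
    · refine ⟨0, ?_⟩
      rw [Fm_eq_zero (Cfsg.Agent.Lib.L0.isCharacter_of_irr χ.2) h, mul_zero, smul_zero]
    · exact exists_mul_Fm_eq (Cfsg.Agent.Lib.L0.isCharacter_of_irr χ.2) h hA
  choose cA hcA using key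
  refine ⟨fun χ => (χ : G → ℂ) 1 * cA χ, ?_⟩
  rw [← mul_one A, ← Matrix.mul_smul, ← sum_deg_smul_Fm, Finset.mul_sum]
  refine Finset.sum_congr rfl fun χ _ => ?_
  rw [Matrix.mul_smul, hcA, smul_smul]

/-- Multiplicity-free with real constituents: the centralizer ring consists of symmetric matrices. -/
theorem transpose_eq_of_multFree_real
    (hmf : ∀ χ : G → ℂ, Cfsg.IsIrrCharacter G χ → Cfsg.classInner (permCh G Ω) χ ≠ 0 →
      Cfsg.classInner (permCh G Ω) χ = 1 ∧ ∀ g : G, conj (χ g) = χ g)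
    {A : Matrix Ω Ω ℂ} (hA : IsEqv G A) : A.transpose = A := by
  classical
  haveI : Fintype (Cfsg.IrrCharacter G) := Fintype.ofFinite _
  have hG : (Nat.card G : ℂ) ≠ 0 := by exact_mod_cast (Nat.card_pos (α := G)).ne'
  have hmf' : ∀ χ : G → ℂ, Cfsg.IsIrrCharacter G χ → Cfsg.classInner (permCh G Ω) χ = 0 ∨
      Cfsg.classInner (permCh G Ω) χ = 1 := by
    intro χ hχ
    by_cases h : Cfsg.classInner (permCh G Ω) χ = 0
    · exact Or.inl h
    · exact Or.inr (hmf χ hχ h).1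
  obtain ⟨c, hc⟩ := exists_coeff_of_multFree hmf' hA
  have h1 : (Nat.card G : ℂ) • A.transpose = (Nat.card G : ℂ) • A := by
    rw [← Matrix.transpose_smul, hc, Matrix.transpose_sum]
    refine Finset.sum_congr rfl fun χ _ => ?_
    rw [Matrix.transpose_smul]
    congr 1
    by_cases h : Cfsg.classInner (permCh G Ω) (χ : G → ℂ) = 0
    · rw [Fm_eq_zero (Cfsg.Agent.Lib.L0.isCharacter_of_irr χ.2) h, Matrix.transpose_zero]
    · rw [Fm_transpose (Cfsg.Agent.Lib.L0.isCharacter_of_irr χ.2)]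
      congr 1
      funext g
      exact (hmf χ χ.2 h).2 g
  have h2 := congrArg (fun M => (Nat.card G : ℂ)⁻¹ • M) h1
  simpa [smul_smul, inv_mul_cancel₀ hG] using h2

theorem multFree_of_comm (hc : ∀ A B : Matrix Ω Ω ℂ, IsEqv G A → IsEqv G B → A * B = B * A)
    {χ : G → ℂ} (hχ : Cfsg.IsIrrCharacter G χ) :
    Cfsg.classInner (permCh G Ω) χ = 0 ∨ Cfsg.classInner (permCh G Ω) χ = 1 := by
  obtain ⟨d, ρ, hρ, rfl⟩ := hχ
  have h1 := finrank_le_one_of_comm (Ω := Ω) ρ hρ hc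
  have h2 := finrank_range_of_idem _ (EE_idem (Ω := Ω) (matRep ρ))
  rw [trace_EE_eq] at h2
  rw [← h2]
  have h3 : Module.finrank ℂ (LinearMap.range (Matrix.toLin' (EE
      (matRep ρ) : Matrix (Fin d × Ω) (Fin d × Ω) ℂ))) = 0 ∨
      Module.finrank ℂ (LinearMap.range (Matrix.toLin' (EE
      (matRep ρ) : Matrix (Fin d × Ω) (Fin d × Ω) ℂ))) = 1 := by omega
  rcases h3 with h | h
  · left; rw [h]; simp
  · right; rw [h]; simp

theorem multFree_of_symmetric (hsym : ∀ A : Matrix Ω Ω ℂ, IsEqv G A → A.transpose = A)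
    {χ : G → ℂ} (hχ : Cfsg.IsIrrCharacter G χ) :
    Cfsg.classInner (permCh G Ω) χ = 0 ∨ Cfsg.classInner (permCh G Ω) χ = 1 := by
  refine multFree_of_comm ?_ hχ
  intro A B hA hB
  have h1 := hsym _ (hA.mul hB)
  rw [Matrix.transpose_mul, hsym A hA, hsym B hB] at h1
  exact h1.symm

theorem real_of_symmetric (hsym : ∀ A : Matrix Ω Ω ℂ, IsEqv G A → A.transpose = A)
    {χ : G → ℂ} (hχ : Cfsg.IsIrrCharacter G χ) (he : Cfsg.classInner (permCh G Ω) χ ≠ 0) (g : G) :
    conj (χ g) = χ g := by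
  have hG : (Nat.card G : ℂ) ≠ 0 := by exact_mod_cast (Nat.card_pos (α := G)).ne'
  have hχc := Cfsg.Agent.Lib.L0.isCharacter_of_irr hχ
  by_contra hne
  have hne' : χ ≠ fun g => conj (χ g) := by
    intro h
    apply hne
    exact (congrFun h g).symm
  have h1 := hsym _ (Fm_isEqv (Ω := Ω) (Cfsg.Agent.Lib.L0.isClassFunction_of_isCharacter hχc))
  rw [Fm_transpose hχc] at h1
  have h2 := Fm_mul_Fm_of_ne (Ω := Ω) hχ (Cfsg.Agent.Lib.H24.isIrrCharacter_conj hχ) hne'
  rw [h1, Fm_mul_Fm_self hχ] at h2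
  obtain ⟨n, hn0, hn, _⟩ := Cfsg.Agent.Lib.H23.irr_apply_one_dvd_card χ hχ
  have hχ1 : χ 1 ≠ 0 := by
    rw [hn]
    exact_mod_cast hn0.ne'
  have h3 : Fm Ω χ = 0 := by
    rcases smul_eq_zero.mp h2 with h | h
    · exact absurd h (div_ne_zero hG hχ1)
    · exact h
  have h4 := trace_Fm (Ω := Ω) χ
  rw [h3, Matrix.trace_zero] at h4
  rcases mul_eq_zero.mp h4.symm with h | h
  · exact hG h
  · exact he h

end Sym

end Cfsg.Agent.Lib.H4.CentRing
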