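import Mathlib
import Cfsg.Prelude.Def_Characters
import Cfsg.Agent.Lib.H4.CentRingJ

/-!
# Centralizer ring of a permutation representation, part K (helper4)

The eigenvalue functional `theta A χ = ⟨cA A, χ⟩` (additive, and multiplicative on the centralizer
ring when `χ` has multiplicity one), `theta_allOnes`, a primitivity lemma
(`prim_no_unit_suborbit`) and the Diophantine core `wielandt_arith` of S0719.
-/

open scoped Kronecker ComplexConjugate ComplexOrder

set_option linter.unusedSectionVars false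
set_option linter.unusedVariables false

namespace Cfsg.Agent.Lib.H4.CentRing

section Theta

variable {G : Type*} [Group G] [Fintype G] {Ω : Type*} [Fintype Ω] [DecidableEq Ω] [MulAction G Ω]

/-- The "eigenvalue" of `A` on the `χ`-isotypic component (when `χ` has multiplicity one). -/
noncomputable def theta (A : Matrix Ω Ω ℂ) (χ : G → ℂ) : ℂ := Cfsg.classInner (cA A : G → ℂ) χ

theorem cA_add (A B : Matrix Ω Ω ℂ) : (cA (A + B) : G → ℂ) = cA A + cA B := by
  funext g
  simp [cA, add_mul, Matrix.trace_add]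

theorem cA_smul (c : ℂ) (A : Matrix Ω Ω ℂ) : (cA (c • A) : G → ℂ) = c • cA A := by
  funext g
  simp [cA, Matrix.trace_smul]

theorem theta_add (A B : Matrix Ω Ω ℂ) (χ : G → ℂ) : theta (A + B) χ = theta A χ + theta B χ := by
  rw [theta, cA_add, Cfsg.Agent.Lib.L0.classInner_add_left]
  rfl

theorem theta_smul (c : ℂ) (A : Matrix Ω Ω ℂ) (χ : G → ℂ) : theta (c • A) χ = c * theta A χ := by
  rw [theta, cA_smul, Cfsg.Agent.Lib.L0.classInner_smul_left]
  rfl

theorem theta_one (χ : G → ℂ) : theta (1 : Matrix Ω Ω ℂ) χ = Cfsg.classInner (permCh G Ω) χ := by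
  rw [theta, cA_one_eq]

theorem theta_mul {χ : G → ℂ} (hχ : Cfsg.IsCharacter G χ) (h1 : Cfsg.classInner (permCh G Ω) χ = 1)
    {A B : Matrix Ω Ω ℂ} (hA : IsEqv G A) (hB : IsEqv G B) :
    theta (A * B) χ = theta A χ * theta B χ := by
  obtain ⟨d, ρ, rfl⟩ := hχ
  have htr : (EE (matRep ρ) : Matrix (Fin d × Ω) (Fin d × Ω) ℂ).trace = 1 := by
    rw [trace_EE_eq, h1]
  obtain ⟨a, ha⟩ := exists_smul_of_idem_of_trace_eq_one (EE (matRep ρ)) (XA (Fin d) A) (EE_idem _)
    htr (XA_comm_EE _ hA)
  obtain ⟨b, hb⟩ := exists_smul_of_idem_of_trace_eq_one (EE (matRep ρ)) (XA (Fin d) B) (EE_idem _)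
    htr (XA_comm_EE _ hB)
  have hA' : theta A ρ.character = a := by
    rw [theta, ← trace_XA_mul_EE_eq, ha, Matrix.trace_smul, htr, smul_eq_mul, mul_one]
  have hB' : theta B ρ.character = b := by
    rw [theta, ← trace_XA_mul_EE_eq, hb, Matrix.trace_smul, htr, smul_eq_mul, mul_one]
  rw [hA', hB', theta, ← trace_XA_mul_EE_eq, XA_mul, Matrix.mul_assoc, hb, Matrix.mul_smul, ha,
    smul_smul, Matrix.trace_smul, htr, smul_eq_mul, mul_one, mul_comm]

/-- The all-ones matrix. -/
def allOnes (Ω : Type*) : Matrix Ω Ω ℂ := fun _ _ => 1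

theorem allOnes_isEqv : IsEqv G (allOnes Ω) := fun _ _ _ => rfl

theorem theta_allOnes {χ : G → ℂ} (hχ : Cfsg.IsIrrCharacter G χ) (hne : χ ≠ fun _ => 1) :
    theta (allOnes Ω) χ = 0 := by
  have h1 : (cA (allOnes Ω) : G → ℂ) = (Fintype.card Ω : ℂ) • (fun _ : G => (1 : ℂ)) := by
    funext g
    rw [cA_eq]
    simp [allOnes]
  rw [theta, h1, Cfsg.Agent.Lib.L0.classInner_smul_left,
    Cfsg.Agent.Lib.L0.irr_classInner_ne Cfsg.Agent.Lib.H24.isIrrCharacter_one hχ (Ne.symm hne),
    mul_zero]

theorem theta_eq_zero (A : Matrix Ω Ω ℂ) {χ : G → ℂ} (hχ : Cfsg.IsCharacter G χ)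
    (h0 : Cfsg.classInner (permCh G Ω) χ = 0) : theta A χ = 0 :=
  classInner_cA_eq_zero A hχ h0

theorem theta_triv [MulAction.IsPretransitive G Ω] {A : Matrix Ω Ω ℂ} (hA : IsEqv G A) (a : Ω) :
    theta A (fun _ : G => (1 : ℂ)) = ∑ y, A a y :=
  classInner_cA_one hA a

end Theta

section Prim

variable {G : Type*} [Group G] [Fintype G] {Ω : Type*} [Fintype Ω] [MulAction G Ω]

/-- In a primitive group of degree `2m ≥ 4` a point stabilizer has no second fixed point. -/
theorem prim_no_unit_suborbit (hprim : MulAction.IsPreprimitive G Ω) {m : ℕ}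
    (hm : Fintype.card Ω = 2 * m) (h2 : 2 ≤ m) (a b : Ω) (hab : b ≠ a) :
    Nat.card (MulAction.orbit (MulAction.stabilizer G a) b) ≠ 1 := by
  classical
  intro h1
  haveI : Nontrivial Ω := ⟨⟨b, a, hab⟩⟩
  -- `H` fixes `b`
  have hfix : ∀ h ∈ MulAction.stabilizer G a, h • b = b := by
    intro h hh
    have hsub : Subsingleton (MulAction.orbit (MulAction.stabilizer G a) b) :=
      (Nat.card_eq_one_iff_unique.mp h1).1
    have := @Subsingleton.elim _ hsub
      (⟨(⟨h, hh⟩ : MulAction.stabilizer G a) • b, MulAction.mem_orbit _ _⟩ :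
        MulAction.orbit (MulAction.stabilizer G a) b) ⟨b, MulAction.mem_orbit_self b⟩
    exact congrArg Subtype.val this
  have hle : MulAction.stabilizer G a ≤ MulAction.stabilizer G b := fun h hh => hfix h hh
  have hcard : Nat.card (MulAction.stabilizer G b) = Nat.card (MulAction.stabilizer G a) := by
    have h3 := Subgroup.card_mul_index (MulAction.stabilizer G a)
    have h4 := Subgroup.card_mul_index (MulAction.stabilizer G b)
    rw [MulAction.index_stabilizer_of_transitive] at h3 h4
    have hpos : 0 < Nat.card Ω := Nat.card_pos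
    exact Nat.eq_of_mul_eq_mul_right hpos (h4.trans h3.symm)
  have heq : MulAction.stabilizer G a = MulAction.stabilizer G b :=
    Subgroup.eq_of_le_of_card_ge hle (le_of_eq hcard)
  have hco : IsCoatom (MulAction.stabilizer G a) :=
    MulAction.IsPreprimitive.isCoatom_stabilizer_of_isPreprimitive (G := G) a
  obtain ⟨g, hg⟩ := MulAction.exists_smul_eq G a b
  have hmap : MulAction.stabilizer G a =
      (MulAction.stabilizer G a).map (MulAut.conj g).toMonoidHom := by
    conv_lhs => rw [heq, ← hg]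
    exact MulAction.stabilizer_smul_eq_stabilizer_map_conj g a
  -- `g` normalizes `H`
  have hgN : g ∈ Subgroup.normalizer (MulAction.stabilizer G a : Set G) := by
    rw [Subgroup.mem_normalizer_iff]
    intro h
    constructor
    · intro hh
      rw [hmap]
      exact ⟨h, hh, rfl⟩
    · intro hh
      rw [hmap] at hh
      obtain ⟨h', hh', he⟩ := hh
      have : h' = h := by
        simpa using he
      rw [← this]
      exact hh'
  have hgH : g ∉ MulAction.stabilizer G a := by
    intro h
    apply hab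
    rw [← hg]
    exact h
  have hnorm : Subgroup.normalizer (MulAction.stabilizer G a : Set G) = ⊤ := by
    rcases hco.le_iff.mp (Subgroup.le_normalizer (H := MulAction.stabilizer G a)) with h | h
    · exact h
    · rw [h] at hgN
      exact absurd hgN hgH
  haveI hN : (MulAction.stabilizer G a).Normal := Subgroup.normalizer_eq_top_iff.mp hnorm
  -- the quotient has order `2 m`
  have hq : Nat.card (G ⧸ MulAction.stabilizer G a) = 2 * m := by
    rw [← Subgroup.index_eq_card, MulAction.index_stabilizer_of_transitive,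
      Nat.card_eq_fintype_card, hm]
  haveI : Fact (Nat.Prime 2) := ⟨Nat.prime_two⟩
  obtain ⟨x, hx⟩ := exists_prime_orderOf_dvd_card' (G := G ⧸ MulAction.stabilizer G a) 2
    (by rw [hq]; exact dvd_mul_right 2 m)
  -- the preimage of `⟨x⟩`
  have hK : (Subgroup.zpowers x).comap (QuotientGroup.mk' (MulAction.stabilizer G a)) = ⊤ := by
    rcases hco.le_iff.mp (show MulAction.stabilizer G a ≤
        (Subgroup.zpowers x).comap (QuotientGroup.mk' (MulAction.stabilizer G a)) from by
      intro h hh
      rw [Subgroup.mem_comap, QuotientGroup.mk'_apply, (QuotientGroup.eq_one_iff h).mpr hh]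
      exact Subgroup.one_mem _) with h | h
    · exact h
    · exfalso
      obtain ⟨y, rfl⟩ := QuotientGroup.mk_surjective x
      have hy : y ∈ (Subgroup.zpowers (y : G ⧸ MulAction.stabilizer G a)).comap
          (QuotientGroup.mk' (MulAction.stabilizer G a)) := by
        rw [Subgroup.mem_comap]
        exact Subgroup.mem_zpowers _
      rw [h] at hy
      have h5 : (y : G ⧸ MulAction.stabilizer G a) = 1 := (QuotientGroup.eq_one_iff y).mpr hy
      rw [h5, orderOf_one] at hx
      omega
  have htop : Subgroup.zpowers x = ⊤ := by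
    rw [eq_top_iff]
    intro z _
    obtain ⟨y, rfl⟩ := QuotientGroup.mk_surjective z
    have : y ∈ (Subgroup.zpowers x).comap (QuotientGroup.mk' (MulAction.stabilizer G a)) := by
      rw [hK]; exact Subgroup.mem_top y
    exact this
  have h6 : Nat.card (G ⧸ MulAction.stabilizer G a) = 2 := by
    rw [← hx, ← Nat.card_zpowers, htop, Subgroup.card_top]
  omega

end Prim

/-- The Diophantine core of the rank three parameter computation. -/
theorem wielandt_arith (k l m : ℕ) (s u : ℤ) (h2m : 2 ≤ m) (h2k : 2 ≤ k) (h2l : 2 ≤ l)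
    (hkl : k + l + 1 = 2 * m) (hk : (k : ℤ) = s - m * u)
    (hE2 : (k : ℤ) ^ 2 + ((m : ℤ) - 1) * s ^ 2 + m * (u - s) ^ 2 = 2 * m * k) :
    ∃ a : ℕ, 0 < a ∧ m = 2 * a ^ 2 + 2 * a + 1 ∧
      ((k = a * (2 * a + 1) ∧ l = (a + 1) * (2 * a + 1)) ∨
       (k = (a + 1) * (2 * a + 1) ∧ l = a * (2 * a + 1))) := by
  have hm0 : (m : ℤ) ≠ 0 := by
    have : (2 : ℤ) ≤ m := by exact_mod_cast h2m
    omega
  have hstar : 2 * s ^ 2 - 4 * s * u - 2 * s + ((m : ℤ) + 1) * u ^ 2 + 2 * m * u = 0 := by
    have h : (m : ℤ) * (2 * s ^ 2 - 4 * s * u - 2 * s + ((m : ℤ) + 1) * u ^ 2 + 2 * m * u) = 0 := by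
      rw [hk] at hE2
      linear_combination hE2
    rcases mul_eq_zero.mp h with h | h
    · exact absurd h hm0
    · exact h
  have hsq : (2 * s - 2 * u - 1) ^ 2 = 1 - (2 * (m : ℤ) - 2) * (u * (u + 2)) := by
    linear_combination 2 * hstar
  have hm2 : (2 : ℤ) ≤ m := by exact_mod_cast h2m
  have hu : -2 ≤ u ∧ u ≤ 0 := by
    have hnn := sq_nonneg (2 * s - 2 * u - 1)
    rw [hsq] at hnn
    constructor
    · by_contra hlt
      push Not at hlt
      have h1 : 3 ≤ u * (u + 2) := by nlinarith
      nlinarith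
    · by_contra hlt
      push Not at hlt
      have h1 : 3 ≤ u * (u + 2) := by nlinarith
      nlinarith
  have hl' : (l : ℤ) = 2 * m - 1 - k := by
    have : ((k + l + 1 : ℕ) : ℤ) = ((2 * m : ℕ) : ℤ) := by exact_mod_cast hkl
    push_cast at this
    linarith
  have hk2 : (2 : ℤ) ≤ k := by exact_mod_cast h2k
  have hl2 : (2 : ℤ) ≤ l := by exact_mod_cast h2l
  obtain ⟨hu1, hu2⟩ := hu
  interval_cases u
  · -- u = -2
    exfalso
    have h3' : 2 * ((s + 1) * (s + 2)) = 0 := by linear_combination hstar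
    have h3 : (s + 1) * (s + 2) = 0 := by omega
    rcases mul_eq_zero.mp h3 with h | h
    · have : s = -1 := by linarith
      subst this
      linarith
    · have : s = -2 := by linarith
      subst this
      linarith
  · -- u = -1
    have h3 : (m : ℤ) = 2 * s ^ 2 + 2 * s + 1 := by linear_combination (-1 : ℤ) * hstar
    have h4 : (k : ℤ) = (s + 1) * (2 * s + 1) := by rw [hk, h3]; ring
    have h5 : (l : ℤ) = s * (2 * s + 1) := by rw [hl', h4, h3]; ring
    rcases le_or_gt 0 s with hs | hs
    · obtain ⟨a, rfl⟩ := Int.eq_ofNat_of_zero_le hs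
      refine ⟨a, ?_, ?_, Or.inr ⟨?_, ?_⟩⟩
      · rcases Nat.eq_zero_or_pos a with h | h
        · subst h
          simp at h5
          omega
        · exact h
      · exact_mod_cast h3
      · exact_mod_cast h4
      · exact_mod_cast h5
    · obtain ⟨a, ha⟩ := Int.eq_ofNat_of_zero_le (show 0 ≤ -1 - s by omega)
      have hs' : s = -1 - a := by omega
      subst hs'
      refine ⟨a, ?_, ?_, Or.inl ⟨?_, ?_⟩⟩
      · rcases Nat.eq_zero_or_pos a with h | h
        · subst h
          simp at h4
          omega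
        · exact h
      · have : (m : ℤ) = 2 * (a : ℤ) ^ 2 + 2 * a + 1 := by rw [h3]; ring
        exact_mod_cast this
      · have : (k : ℤ) = (a : ℤ) * (2 * a + 1) := by rw [h4]; ring
        exact_mod_cast this
      · have : (l : ℤ) = ((a : ℤ) + 1) * (2 * a + 1) := by rw [h5]; ring
        exact_mod_cast this
  · -- u = 0
    exfalso
    have h3' : 2 * (s * (s - 1)) = 0 := by linear_combination hstar
    have h3 : s * (s - 1) = 0 := by omega
    rcases mul_eq_zero.mp h3 with h | h
    · subst h
      linarith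
    · have : s = 1 := by linarith
      subst this
      linarith

end Cfsg.Agent.Lib.H4.CentRing
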