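import Mathlib
import Cfsg.Prelude.Def_Characters
import Cfsg.Agent.Lib.H4.CentRingK
import Cfsg.Agent.S0716

/-!
# Centralizer ring of a permutation representation, part L (helper4)

Rank three: `three_orbits` (representatives of the two nontrivial suborbits), `isEqv_ext_row`,
`orbMatC_row_apply`, `decomp3` (an element of the centralizer ring is a combination of `1` and the
two orbital matrices).
-/

open scoped Kronecker ComplexConjugate ComplexOrder

set_option linter.unusedSectionVars false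
set_option linter.unusedVariables false

namespace Cfsg.Agent.Lib.H4.CentRing

section Rank3

variable {G : Type*} [Group G] [Fintype G] {Ω : Type*} [Fintype Ω] [DecidableEq Ω] [MulAction G Ω]

open Classical in
theorem orbMatC_row_apply (a b y : Ω) :
    orbMatC G a b a y = if y ∈ MulAction.orbit (MulAction.stabilizer G a) b then 1 else 0 := by
  classical
  rw [orbMatC_apply]
  congr 1
  rw [eq_iff_iff, MulAction.mem_orbit_iff]
  constructor
  · rintro ⟨g, hg1, hg2⟩
    exact ⟨⟨g, hg1⟩, hg2⟩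
  · rintro ⟨⟨g, hg1⟩, hg2⟩
    exact ⟨g, hg1, hg2⟩

theorem isEqv_ext_row [MulAction.IsPretransitive G Ω] {M N : Matrix Ω Ω ℂ} (hM : IsEqv G M)
    (hN : IsEqv G N) (a₀ : Ω) (h : ∀ y, M a₀ y = N a₀ y) : M = N := by
  ext x y
  obtain ⟨g, rfl⟩ := MulAction.exists_smul_eq G a₀ x
  have h1 := hM g a₀ (g⁻¹ • y)
  have h2 := hN g a₀ (g⁻¹ • y)
  rw [smul_inv_smul] at h1 h2
  rw [h1, h2, h]

theorem three_orbits (a₀ : Ω)
    (hrank : Nat.card (MulAction.orbitRel.Quotient (MulAction.stabilizer G a₀) Ω) = 3) :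
    ∃ b₁ b₂ : Ω, b₁ ≠ a₀ ∧ b₂ ≠ a₀ ∧ b₂ ∉ MulAction.orbit (MulAction.stabilizer G a₀) b₁ ∧
      (∀ y : Ω, y = a₀ ∨ y ∈ MulAction.orbit (MulAction.stabilizer G a₀) b₁ ∨
        y ∈ MulAction.orbit (MulAction.stabilizer G a₀) b₂) ∧
      Fintype.card Ω = 1 + Nat.card (MulAction.orbit (MulAction.stabilizer G a₀) b₁) +
        Nat.card (MulAction.orbit (MulAction.stabilizer G a₀) b₂) := by
  classical
  haveI : Fintype (MulAction.orbitRel.Quotient (MulAction.stabilizer G a₀) Ω) := Fintype.ofFinite _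
  have hso := Cfsg.Agent.S0716.suborbits (G := G) a₀
  obtain ⟨ω₀, hω₀⟩ : ∃ ω₀ : MulAction.orbitRel.Quotient (MulAction.stabilizer G a₀) Ω,
    ω₀ = Quotient.mk'' a₀ := ⟨_, rfl⟩
  rw [← hω₀] at hso
  have hcard : (Finset.univ.erase ω₀).card = 2 := by
    rw [Finset.card_erase_of_mem (Finset.mem_univ _), Finset.card_univ, ← Nat.card_eq_fintype_card,
      hrank]
  obtain ⟨ω₁, ω₂, hne, hpair⟩ := Finset.card_eq_two.mp hcard
  obtain ⟨b₁, rfl⟩ := Quotient.exists_rep ω₁
  obtain ⟨b₂, rfl⟩ := Quotient.exists_rep ω₂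
  have hmem1 : (Quotient.mk'' b₁ : MulAction.orbitRel.Quotient (MulAction.stabilizer G a₀) Ω) ∈
      Finset.univ.erase ω₀ := by rw [hpair]; exact Finset.mem_insert_self _ _
  have hmem2 : (Quotient.mk'' b₂ : MulAction.orbitRel.Quotient (MulAction.stabilizer G a₀) Ω) ∈
      Finset.univ.erase ω₀ := by
    rw [hpair]; exact Finset.mem_insert_of_mem (Finset.mem_singleton_self _)
  have horb0 : MulAction.orbit (MulAction.stabilizer G a₀) a₀ = {a₀} := by
    ext y
    rw [MulAction.mem_orbit_iff, Set.mem_singleton_iff]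
    constructor
    · rintro ⟨⟨g, hg⟩, rfl⟩
      exact hg
    · rintro rfl
      exact ⟨1, one_smul _ _⟩
  refine ⟨b₁, b₂, ?_, ?_, ?_, ?_, ?_⟩
  · rintro rfl
    exact (Finset.mem_erase.mp hmem1).1 hω₀.symm
  · rintro rfl
    exact (Finset.mem_erase.mp hmem2).1 hω₀.symm
  · intro h
    apply hne
    exact (Quotient.sound' (MulAction.orbitRel_apply.mpr h)).symm
  · intro y
    by_cases hy : (Quotient.mk'' y : MulAction.orbitRel.Quotient (MulAction.stabilizer G a₀) Ω) = ω₀
    · left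
      rw [hω₀] at hy
      have h4 : y ∈ MulAction.orbit (MulAction.stabilizer G a₀) a₀ :=
        MulAction.orbitRel_apply.mp (Quotient.exact' hy)
      rw [horb0] at h4
      exact h4
    · right
      have h5 : (Quotient.mk'' y : MulAction.orbitRel.Quotient (MulAction.stabilizer G a₀) Ω) ∈
          Finset.univ.erase ω₀ := Finset.mem_erase.mpr ⟨hy, Finset.mem_univ _⟩
      rw [hpair, Finset.mem_insert, Finset.mem_singleton] at h5
      rcases h5 with h5 | h5
      · left
        exact MulAction.orbitRel_apply.mp (Quotient.exact' h5)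
      · right
        exact MulAction.orbitRel_apply.mp (Quotient.exact' h5)
  · rw [hso, hpair, Finset.sum_pair hne, MulAction.orbitRel.Quotient.orbit_mk,
      MulAction.orbitRel.Quotient.orbit_mk, add_assoc]

/-- In rank three, an element of the centralizer ring is determined by three entries. -/
theorem decomp3 [MulAction.IsPretransitive G Ω] {a₀ b₁ b₂ : Ω} (hb₁ : b₁ ≠ a₀) (hb₂ : b₂ ≠ a₀)
    (hb₁₂ : b₂ ∉ MulAction.orbit (MulAction.stabilizer G a₀) b₁)
    (hcover : ∀ y : Ω, y = a₀ ∨ y ∈ MulAction.orbit (MulAction.stabilizer G a₀) b₁ ∨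
        y ∈ MulAction.orbit (MulAction.stabilizer G a₀) b₂)
    {M : Matrix Ω Ω ℂ} (hM : IsEqv G M) :
    M = M a₀ a₀ • (1 : Matrix Ω Ω ℂ) + M a₀ b₁ • orbMatC G a₀ b₁ + M a₀ b₂ • orbMatC G a₀ b₂ := by
  classical
  refine isEqv_ext_row hM (((isEqv_one).smul _).add ((orbMatC_isEqv a₀ b₁).smul _) |>.add
    ((orbMatC_isEqv a₀ b₂).smul _)) a₀ fun y => ?_
  have hfix : ∀ {b : Ω}, b ≠ a₀ → a₀ ∉ MulAction.orbit (MulAction.stabilizer G a₀) b := by
    rintro b hb ⟨⟨h, hh⟩, hy⟩
    apply hb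
    have : b = h⁻¹ • a₀ := by
      rw [← hy]
      show b = h⁻¹ • (h • b)
      rw [inv_smul_smul]
    rw [this]
    exact (MulAction.stabilizer G a₀).inv_mem hh
  simp only [Matrix.add_apply, Matrix.smul_apply, smul_eq_mul, orbMatC_row_apply]
  rcases hcover y with rfl | hy | hy
  · rw [Matrix.one_apply_eq, if_neg (hfix hb₁), if_neg (hfix hb₂)]
    ring
  · have hya : y ≠ a₀ := by
      rintro rfl
      exact hfix hb₁ hy
    have hy2 : y ∉ MulAction.orbit (MulAction.stabilizer G a₀) b₂ := by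
      intro hy2
      apply hb₁₂
      rw [← MulAction.orbit_eq_iff] at hy hy2
      rw [← hy, hy2]
      exact MulAction.mem_orbit_self _
    rw [Matrix.one_apply_ne hya.symm, if_pos hy, if_neg hy2]
    obtain ⟨⟨h, hh⟩, rfl⟩ := hy
    have := hM h a₀ b₁
    rw [MulAction.mem_stabilizer_iff.mp hh] at this
    show M a₀ (h • b₁) = _
    rw [this]
    ring
  · have hya : y ≠ a₀ := by
      rintro rfl
      exact hfix hb₂ hy
    have hy1 : y ∉ MulAction.orbit (MulAction.stabilizer G a₀) b₁ := by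
      intro hy1
      apply hb₁₂
      rw [← MulAction.orbit_eq_iff] at hy hy1
      rw [← hy1, hy]
      exact MulAction.mem_orbit_self _
    rw [Matrix.one_apply_ne hya.symm, if_neg hy1, if_pos hy]
    obtain ⟨⟨h, hh⟩, rfl⟩ := hy
    have := hM h a₀ b₂
    rw [MulAction.mem_stabilizer_iff.mp hh] at this
    show M a₀ (h • b₂) = _
    rw [this]
    ring

end Rank3

end Cfsg.Agent.Lib.H4.CentRing
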