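import Mathlib
import Cfsg.Prelude.Def_Solvable
import Cfsg.Agent.Lib.H1.Fitting
import Cfsg.Agent.Lib.H7.DihedralLemma2
import Cfsg.Agent.Lib.H4.NF.AbCyc

/-!
S1542 piece GRP (helper4): a finite solvable group of odd order all of whose abelian subgroups
are cyclic has a normal cyclic self-centralizing subgroup (its Fitting subgroup).
-/

set_option autoImplicit false

namespace Cfsg.Agent.Lib.H4.FB

open Cfsg.Agent.Lib.H4.NF

/-- a finite nilpotent group of odd order all of whose abelian subgroups are cyclic is abelian -/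
theorem fb_comm_of_nilpotent_abCyc {F : Type*} [Group F] [Finite F] (hnil : Group.IsNilpotent F)
    (hodd : Odd (Nat.card F)) (hab : AbCyc F) : ∀ a b : F, a * b = b * a := by
  classical
  obtain ⟨e⟩ := ((Group.isNilpotent_of_finite_tfae (G := F)).out 0 4).mp hnil
  intro a b
  obtain ⟨x, rfl⟩ := e.surjective a
  obtain ⟨y, rfl⟩ := e.surjective b
  rw [← map_mul, ← map_mul]
  congr 1
  funext p P
  show x p P * y p P = y p P * x p P
  haveI hp : Fact (p : ℕ).Prime := ⟨Nat.prime_of_mem_primeFactors p.2⟩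
  have hPab : AbCyc (P : Subgroup F) := hab.subgroup _
  rcases cyclic_or_quat hPab P.isPGroup' with hc | ⟨h2, -⟩
  · obtain ⟨g, hg⟩ := hc.exists_generator
    obtain ⟨m, hm⟩ := Subgroup.mem_zpowers_iff.1 (hg (x p P))
    obtain ⟨n, hn⟩ := Subgroup.mem_zpowers_iff.1 (hg (y p P))
    rw [← hm, ← hn, ← zpow_add, ← zpow_add, add_comm]
  · exfalso
    have h2dvd : (p : ℕ) ∣ Nat.card F := Nat.dvd_of_mem_primeFactors p.2
    rw [h2] at h2dvd
    exact (Nat.not_even_iff_odd.2 hodd) (even_iff_two_dvd.2 h2dvd)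

/-- GRP -/
theorem exists_normal_cyclic_self_centralizing {U : Type*} [Group U] [Finite U]
    (hodd : Odd (Nat.card U)) (hsol : Group.IsSolvable U)
    (hcyc : ∀ A : Subgroup U, IsMulCommutative A → IsCyclic A) :
    ∃ F : Subgroup U, F.Normal ∧ IsCyclic F ∧ Subgroup.centralizer (F : Set U) ≤ F := by
  haveI := hsol
  refine ⟨Cfsg.fittingSubgroup U, Cfsg.Agent.Lib.H1.fittingSubgroup_normal U, ?_,
    Cfsg.Agent.Lib.H7.centralizer_fittingSubgroup_le_of_isSolvable U⟩
  apply hcyc
  have hab : AbCyc U := hcyc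
  have hoddF : Odd (Nat.card (Cfsg.fittingSubgroup U)) :=
    Odd.of_dvd_nat hodd (Subgroup.card_subgroup_dvd_card _)
  have hcomm := fb_comm_of_nilpotent_abCyc
    (Cfsg.Agent.Lib.H1.fittingSubgroup_isNilpotent (G := U)) hoddF (hab.subgroup _)
  exact isMulCommutative_iff.2 hcomm

end Cfsg.Agent.Lib.H4.FB
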