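import Cfsg.Agent.Lib.H8.FBNRefl
import Cfsg.Agent.Lib.H1.FBNGENAux

/-!
helper4: S2546 piece R1S (twin): the rank one relation for a short reflection
(`x = xSm a b c`, `a = j`, `b = j + 1`; `y = xSm b a (1/c)`).  On helper1's `xSm_mul_star`, `star_single'`.
-/

set_option autoImplicit false
set_option linter.unusedSimpArgs false

namespace Cfsg.Agent.Lib.H4.FBN

open Matrix Cfsg.Agent.Lib.H12.DCos Cfsg.Agent.Lib.H8.FBN

variable {F : Type*} [Field F] {n : ℕ} (φ : F →+* F)

section short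

variable (j : Fin (n / 2)) (hj : (j : ℕ) + 1 < n / 2)
include hj

theorem Phi_short (k l : Fin n) :
    Phi j k l ↔ (k = lo j ∧ l = nx j) ∨ (k = (nx j).rev ∧ l = (lo j).rev) := by
  have hj2 := j.2
  have hk2 := k.2
  have hl2 := l.2
  rw [Phi_iff, if_pos hj]
  simp only [Fin.ext_iff, Fin.val_rev, lo_val, nx_val]
  omega

theorem short_ne : (lo j : Fin n) ≠ nx j ∧ (lo j : Fin n) ≠ (nx j).rev ∧ (lo j : Fin n) ≠ (lo j).rev ∧
    (nx j : Fin n) ≠ (nx j).rev ∧ (nx j : Fin n) ≠ (lo j).rev ∧ ((nx j).rev : Fin n) ≠ (lo j).rev := by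
  have hj2 := j.2
  simp only [Ne, Fin.ext_iff, Fin.val_rev, lo_val, nx_val]
  omega

theorem short_lt : (lo j : Fin n) < nx j ∧ (nx j : Fin n) < (nx j).rev ∧ ((nx j).rev : Fin n) < (lo j).rev := by
  have hj2 := j.2
  simp only [Fin.lt_def, Fin.val_rev, lo_val, nx_val]
  omega

theorem τ_short_vals : τ j (lo j) = nx j ∧ τ j (nx j) = lo j ∧ τ j (nx j).rev = (lo j).rev ∧
    τ j (lo j).rev = (nx j).rev ∧
    ∀ k : Fin n, k ≠ lo j → k ≠ nx j → k ≠ (nx j).rev → k ≠ (lo j).rev → τ j k = k := by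
  have hj2 := j.2
  have e1 : ((lo j : Fin n) : ℕ) = j := lo_val j
  have e2 : ((nx j : Fin n) : ℕ) = j + 1 := nx_val j
  have e3 : (((nx j).rev : Fin n) : ℕ) = n - ((nx j : Fin n) + 1) := Fin.val_rev _
  have e4 : (((lo j).rev : Fin n) : ℕ) = n - ((lo j : Fin n) + 1) := Fin.val_rev _
  refine ⟨?_, ?_, ?_, ?_, ?_⟩
  · apply Fin.ext
    rw [τ_val]
    split_ifs <;> omega
  · apply Fin.ext
    rw [τ_val]
    split_ifs <;> omega
  · apply Fin.ext
    rw [τ_val]
    split_ifs <;> omega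
  · apply Fin.ext
    rw [τ_val]
    split_ifs <;> omega
  · intro k h1 h2 h3 h4
    have hk2 := k.2
    simp only [Ne, Fin.ext_iff] at h1 h2 h3 h4
    apply Fin.ext
    rw [τ_val]
    split_ifs <;> omega

/-- the elements of `X_j` are the `xSm a b c` -/
theorem eq_xSm_of_mem_X (x : ↥(GS (n := n) φ)) (hx : x ∈ X φ j) :
    (x.1 : Matrix (Fin n) (Fin n) F) =
      xSm φ (lo j) (nx j) ((x.1 : Matrix (Fin n) (Fin n) F) (lo j) (nx j)) := by
  rw [mem_X] at hx
  obtain ⟨hab, hab', haa', hbb', hba', hb'a'⟩ := short_ne j hj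
  set a : Fin n := lo j with ha
  set b : Fin n := nx j with hb
  -- the entry `(rev b, rev a)`
  have he : (x.1 : Matrix (Fin n) (Fin n) F) b.rev a.rev = -φ ((x.1 : Matrix (Fin n) (Fin n) F) a b) := by
    have h1 := congrFun (congrFun (mul_star_self φ x) b.rev) a.rev
    rw [Matrix.one_apply_ne hb'a', Matrix.mul_apply, Finset.sum_eq_add b.rev a.rev hb'a'] at h1
    · rw [Cfsg.Agent.Lib.H8.FBN.star_apply, Cfsg.Agent.Lib.H8.FBN.star_apply, Fin.rev_rev, Fin.rev_rev,
        hx.1 b.rev, hx.1 a, map_one, one_mul, mul_one] at h1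
      exact eq_neg_of_add_eq_zero_right h1
    · intro m _ hm
      obtain ⟨hm1, hm2⟩ := hm
      rw [hx.2 b.rev m (Ne.symm hm1), zero_mul]
      rw [Phi_short j hj]
      rintro (⟨h1, _⟩ | ⟨_, h2⟩)
      · exact hab' h1.symm
      · exact hm2 h2
    · intro h
      exact absurd (Finset.mem_univ _) h
    · intro h
      exact absurd (Finset.mem_univ _) h
  ext k l
  rw [Cfsg.Agent.Lib.H1.FBN.xSm_apply]
  by_cases hkl : k = l
  · subst hkl
    rw [hx.1 k, Matrix.one_apply_eq, if_neg, if_neg]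
    · ring
    · rintro ⟨h1, h2⟩
      exact hb'a' (h1.symm.trans h2)
    · rintro ⟨h1, h2⟩
      exact hab (h1.symm.trans h2)
  · rw [Matrix.one_apply_ne hkl, zero_add]
    by_cases hP : Phi j k l
    · rcases (Phi_short j hj k l).1 hP with ⟨h1, h2⟩ | ⟨h1, h2⟩
      · subst h1
        subst h2
        rw [if_pos ⟨rfl, rfl⟩, if_neg, sub_zero]
        rintro ⟨h1, _⟩
        exact hab' h1
      · subst h1
        subst h2
        rw [if_neg, if_pos ⟨rfl, rfl⟩, zero_sub, he]
        rintro ⟨h1, _⟩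
        exact hab' h1.symm
    · rw [hx.2 k l hkl hP, if_neg, if_neg, sub_zero]
      · rintro ⟨h1, h2⟩
        exact hP ((Phi_short j hj k l).2 (Or.inr ⟨h1, h2⟩))
      · rintro ⟨h1, h2⟩
        exact hP ((Phi_short j hj k l).2 (Or.inl ⟨h1, h2⟩))

theorem rank_one_short_aux (hφ2 : ∀ x, φ (φ x) = x)
    (x : ↥(GS (n := n) φ)) (hx : x ∈ X φ j) :
    x = 1 ∨ ∃ b ∈ Bs φ, ∃ y ∈ Y φ j, sRef φ j * x = b * y := by
  obtain ⟨hab, hab', haa', hbb', hba', hb'a'⟩ := short_ne j hj
  obtain ⟨hltab, hltbb', hltb'a'⟩ := short_lt j hj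
  obtain ⟨hτa, hτb, hτb', hτa', hτo⟩ := τ_short_vals j hj
  have hxm := eq_xSm_of_mem_X φ j hj x hx
  set a : Fin n := lo j with ha
  set b : Fin n := nx j with hb
  set c : F := (x.1 : Matrix (Fin n) (Fin n) F) a b with hc
  by_cases hc0 : c = 0
  · left
    apply ext_val
    rw [hxm, hc0, val_one]
    unfold xSm
    rw [map_zero, Matrix.single_zero, Matrix.single_zero, add_zero, sub_zero]
  · right
    let y : ↥(GS (n := n) φ) := mkGS φ (xSm φ b a c⁻¹)
      (Cfsg.Agent.Lib.H1.FBN.xSm_mul_star φ hφ2 b a (Ne.symm hab) hbb' haa' c⁻¹)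
    have hym : (y.1 : Matrix (Fin n) (Fin n) F) = xSm φ b a c⁻¹ := rfl
    have hyY : y ∈ Y φ j := by
      rw [mem_Y]
      refine ⟨fun k => ?_, fun k l hkl hP => ?_⟩
      · rw [hym, Cfsg.Agent.Lib.H1.FBN.xSm_apply, Matrix.one_apply_eq, if_neg, if_neg]
        · ring
        · rintro ⟨h1, h2⟩
          exact hb'a' (h2.symm.trans h1)
        · rintro ⟨h1, h2⟩
          exact hab (h2.symm.trans h1)
      · rw [hym, Cfsg.Agent.Lib.H1.FBN.xSm_apply, Matrix.one_apply_ne hkl, if_neg, if_neg]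
        · ring
        · rintro ⟨h1, h2⟩
          exact hP ((Phi_short j hj l k).2 (Or.inr ⟨h2, h1⟩))
        · rintro ⟨h1, h2⟩
          exact hP ((Phi_short j hj l k).2 (Or.inl ⟨h2, h1⟩))
    refine ⟨sRef φ j * x * y⁻¹, ?_, y, hyY, ?_⟩
    · rw [mem_Bs]
      intro k l hlk
      rw [mul_assoc, sRef_mul_apply, val_mul, inv_val, hxm, hym]
      have hs : star φ (xSm φ b a c⁻¹) =
          1 + Matrix.single a.rev b.rev (φ c⁻¹) - Matrix.single b a c⁻¹ := by
        unfold xSm
        rw [Cfsg.Agent.Lib.H1.FBN.star_sub', Cfsg.Agent.Lib.H1.FBN.star_add',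
          Cfsg.Agent.Lib.H8.FBN.star_one, Cfsg.Agent.Lib.H1.FBN.star_single',
          Cfsg.Agent.Lib.H1.FBN.star_single', Fin.rev_rev, Fin.rev_rev, hφ2]
      have hM : xSm φ a b c * (1 + Matrix.single a.rev b.rev (φ c⁻¹) - Matrix.single b a c⁻¹) =
          1 + Matrix.single a.rev b.rev (φ c⁻¹) - Matrix.single b a c⁻¹ + Matrix.single a b c -
            Matrix.single a a 1 - Matrix.single b.rev a.rev (φ c) - Matrix.single b.rev b.rev 1 := by
        unfold xSm
        have h1 : Matrix.single a b c * Matrix.single a.rev b.rev (φ c⁻¹) = 0 :=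
          Matrix.single_mul_single_of_ne _ _ _ _ hba' _
        have h2 : Matrix.single a b c * Matrix.single b a c⁻¹ = Matrix.single a a 1 := by
          rw [Matrix.single_mul_single_same, mul_inv_cancel₀ hc0]
        have h3 : Matrix.single b.rev a.rev (φ c) * Matrix.single a.rev b.rev (φ c⁻¹) =
            Matrix.single b.rev b.rev 1 := by
          rw [Matrix.single_mul_single_same, ← map_mul, mul_inv_cancel₀ hc0, map_one]
        have h4 : Matrix.single b.rev a.rev (φ c) * Matrix.single b a c⁻¹ = 0 :=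
          Matrix.single_mul_single_of_ne _ _ _ _ (Ne.symm hba') _
        set A := Matrix.single a b c
        set B := Matrix.single b.rev a.rev (φ c)
        set C := Matrix.single a.rev b.rev (φ c⁻¹)
        set D := Matrix.single b a c⁻¹
        have h5 : (1 + A - B) * (1 + C - D) = 1 + C - D + A + A * C - A * D - B - B * C + B * D := by
          noncomm_ring
        rw [h5, h1, h2, h3, h4]
        abel
      rw [hs, hM]
      simp only [Matrix.add_apply, Matrix.sub_apply, Matrix.one_apply, Matrix.single_apply]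
      by_cases hka : k = a
      · rw [hka] at hlk ⊢
        rw [hτa]
        have e1 : ¬ (b = l) := fun h => by
          rw [← h] at hlk
          exact absurd hlk (not_lt.mpr hltab.le)
        have e2 : ¬ (a = l) := ne_of_gt hlk
        simp [e1, e2, hab, Ne.symm hab, hba', Ne.symm hba', hbb', Ne.symm hbb']
      · by_cases hkb : k = b
        · rw [hkb] at hlk ⊢
          rw [hτb]
          have e1 : ¬ (b = l) := ne_of_gt hlk
          simp [e1, hab, Ne.symm hab, haa', Ne.symm haa', hab', Ne.symm hab']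
        · by_cases hkb' : k = b.rev
          · rw [hkb'] at hlk ⊢
            rw [hτb']
            have e1 : ¬ (a.rev = l) := fun h => by
              rw [← h] at hlk
              exact absurd hlk (not_lt.mpr hltb'a'.le)
            have e2 : ¬ (b.rev = l) := ne_of_gt hlk
            simp [e1, e2, hba', Ne.symm hba', haa', Ne.symm haa', hb'a', Ne.symm hb'a']
          · by_cases hka' : k = a.rev
            · rw [hka'] at hlk ⊢
              rw [hτa']
              have e1 : ¬ (a.rev = l) := ne_of_gt hlk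
              simp [e1, hbb', Ne.symm hbb', hab', Ne.symm hab', hb'a', Ne.symm hb'a']
            · rw [hτo k hka hkb hkb' hka']
              have e1 : ¬ (k = l) := ne_of_gt hlk
              simp [e1, Ne.symm hka, Ne.symm hkb, Ne.symm hkb', Ne.symm hka']
    · rw [inv_mul_cancel_right]

end short

theorem rank_one_short (hφ2 : ∀ x, φ (φ x) = x) (j : Fin (n / 2)) (hj : (j : ℕ) + 1 < n / 2)
    (x : ↥(GS (n := n) φ)) (hx : x ∈ X φ j) :
    x = 1 ∨ ∃ b ∈ Bs φ, ∃ y ∈ Y φ j, sRef φ j * x = b * y :=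
  rank_one_short_aux φ j hj hφ2 x hx

end Cfsg.Agent.Lib.H4.FBN
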