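/-
S4563 + S4564 (architect helper23; helper4): piece FR4.  If `G/N` is cyclic, irreducible characters of `G` restrict
multiplicity-freely to `N`.  (Clifford correspondence to the inertia group `T`, extension over the cyclic `T/N`,
Gallagher, and linearity of the irreducible characters of `T/N`.)
-/
import Mathlib
import Cfsg.Prelude.Def_Blocks
import Cfsg.Prelude.Def_Characters
import Cfsg.Agent.Lib.H23.CliffordCorr
import Cfsg.Agent.Lib.H23.ExtendCyclic
import Cfsg.Agent.Lib.H23.Ito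
import Cfsg.Agent.Lib.H24.CentralExt
import Cfsg.Agent.Lib.H24.CentralMod

set_option autoImplicit false
set_option linter.unusedSectionVars false
set_option linter.unusedVariables false

namespace Cfsg.Agent.Lib.H4.FRS

open Cfsg Cfsg.Agent.Lib.L0 Cfsg.Agent.Lib.H23 Cfsg.Agent.Lib.H24
open scoped ComplexConjugate

/-- the invariant case: `G/N` cyclic, `ζ ∈ Irr(N)` invariant in `G`, `ψ ∈ Irr(G)` over `ζ`: then `ψ_N = ζ` -/
theorem restrict_eq_of_cyclic_invariant {G : Type*} [Group G] [Fintype G] (N : Subgroup G) [hN : N.Normal]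
    [Fintype ↥N] (hcyc : IsCyclic (G ⧸ N)) (ζ : ↥N → ℂ) (hζ : IsIrrCharacter ↥N ζ)
    (hinv : ∀ (g : G) (n : ↥N), ζ ⟨g * n * g⁻¹, hN.conj_mem (n : G) n.2 g⟩ = ζ n)
    (ψ : G → ℂ) (hψ : IsIrrCharacter G ψ) (hcon : classInner (fun n : ↥N => ψ n) ζ ≠ 0) :
    ∀ n : ↥N, ψ n = ζ n := by
  classical
  obtain ⟨ξ, hξ, hξζ⟩ := exists_extension_of_cyclic N hcyc ζ hζ hinv
  have hξres : (fun y : ↥N => ξ y) = ζ := funext hξζ
  have hcon' : classInner (fun y : ↥N => ψ y) (fun y : ↥N => ξ y) ≠ 0 := by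
    rw [hξres]; exact hcon
  obtain ⟨β, hβ, hβ1, hψeq⟩ := gallagher_exists N ξ hξ (by rw [hξres]; exact hζ) ψ hψ hcon'
  have hβcf := isClassFunction_of_isCharacter (isCharacter_of_irr hβ)
  rw [frobenius_reciprocity N _ β hβcf] at hβ1
  have hone : IsIrrCharacter ↥N (1 : ↥N → ℂ) := Cfsg.Agent.Lib.L0.isIrrCharacter_one
  have hβ2 : classInner (fun n : ↥N => β n) (1 : ↥N → ℂ) ≠ 0 := by
    intro h0
    apply hβ1
    rw [← classInner_conj_symm]
    have : (fun _ : ↥N => (1 : ℂ)) = (1 : ↥N → ℂ) := rfl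
    rw [this, h0, map_zero]
  have hsm := restrict_eq_smul_of_invariant N β hβ (1 : ↥N → ℂ) hone hβ2 (fun _ _ => rfl)
  have hβtriv : ∀ x : G, x ∈ N → β x = β 1 := by
    intro x hx
    have h3 := congrFun hsm ⟨x, hx⟩
    have h4 := congrFun hsm 1
    simp only [Pi.smul_apply, Pi.one_apply, smul_eq_mul, mul_one] at h3 h4
    rw [h3]
    exact h4.symm
  -- `β` is linear
  have hcomm : ∀ a b : G, a * b * a⁻¹ * b⁻¹ ∈ N := by
    intro a b
    have hc : ∀ x y : G ⧸ N, x * y = y * x := by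
      have := hcyc
      intro x y
      exact IsCyclic.commGroup.mul_comm x y
    have h1 : ((a * b * a⁻¹ * b⁻¹ : G) : G ⧸ N) = 1 := by
      have h2 := hc (a : G ⧸ N) (b : G ⧸ N)
      rw [QuotientGroup.mk_mul, QuotientGroup.mk_mul, QuotientGroup.mk_mul, QuotientGroup.mk_inv,
        QuotientGroup.mk_inv, h2]
      group
    exact (QuotientGroup.eq_one_iff _).mp h1
  have hβone : β 1 = 1 := linear_of_commutator_ker hβ (fun a b => hβtriv _ (hcomm a b))
  intro n
  rw [hψeq, Pi.mul_apply, hβtriv _ n.2, hβone, one_mul]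
  exact hξζ n

/-- FR4 -/
theorem mult_le_one_of_cyclic {G : Type*} [Group G] [Fintype G] (N : Subgroup G) [hN : N.Normal]
    [Fintype ↥N] (hcyc : IsCyclic (G ⧸ N)) (χ : IrrCharacter G) (ζ : IrrCharacter ↥N) :
    classInner (fun n : ↥N => (χ : G → ℂ) n) (ζ : ↥N → ℂ) = 0 ∨
      classInner (fun n : ↥N => (χ : G → ℂ) n) (ζ : ↥N → ℂ) = 1 := by
  classical
  by_cases hcon : classInner (fun n : ↥N => (χ : G → ℂ) n) (ζ : ↥N → ℂ) = 0
  · exact Or.inl hcon
  right
  set T : Subgroup G := inertia N (ζ : ↥N → ℂ) with hTdef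
  have hNT : N ≤ T := le_inertia N (isClassFunction_of_isCharacter (isCharacter_of_irr ζ.2))
  have : Fintype ↥T := Fintype.ofFinite _
  have hT : ∀ g : G, g ∈ T ↔ ∀ n : ↥N, (ζ : ↥N → ℂ) ⟨g * n * g⁻¹, hN.conj_mem (n : G) n.2 g⟩ = (ζ : ↥N → ℂ) n :=
    fun g => mem_inertia N _ g
  obtain ⟨ψ, hψ, -, hψζ⟩ := clifford_correspondence N T hNT (ζ : ↥N → ℂ) ζ.2 hT (χ : G → ℂ) χ.2 hcon
  rw [← hψζ]
  have hcon2 : classInner (resTo N T hNT ψ) (ζ : ↥N → ℂ) ≠ 0 := by rw [hψζ]; exact hcon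
  -- inside `T`
  have : Fintype ↥(N.subgroupOf T) := Fintype.ofFinite _
  have hN' : (N.subgroupOf T).Normal := Subgroup.normal_subgroupOf
  set ι : ↥(N.subgroupOf T) ≃* ↥N := Subgroup.subgroupOfEquivOfLe hNT with hι
  have hζ' : IsIrrCharacter ↥(N.subgroupOf T) ((ζ : ↥N → ℂ) ∘ ι) :=
    isIrrCharacter_comp_of_surjective ι.toMonoidHom ι.surjective ζ.2
  have hres : (fun n : ↥(N.subgroupOf T) => ψ (n : ↥T)) = (resTo N T hNT ψ) ∘ ι := by
    funext n
    simp only [Function.comp_apply, resTo]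
    congr 1
  have hcon' : classInner (fun n : ↥(N.subgroupOf T) => ψ (n : ↥T)) ((ζ : ↥N → ℂ) ∘ ι) ≠ 0 := by
    rw [hres, classInner_comp_equiv]
    exact hcon2
  have hinv' : ∀ (t : ↥T) (n : ↥(N.subgroupOf T)),
      ((ζ : ↥N → ℂ) ∘ ι) ⟨t * n * t⁻¹, hN'.conj_mem (n : ↥T) n.2 t⟩ = ((ζ : ↥N → ℂ) ∘ ι) n := by
    intro t n
    simp only [Function.comp_apply]
    have := (hT (t : G)).mp t.2 (ι n)
    rw [← this]
    congr 1
  -- `T / N` is cyclic
  have hcyc' : IsCyclic (↥T ⧸ N.subgroupOf T) := by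
    let f : ↥T ⧸ N.subgroupOf T →* G ⧸ N := QuotientGroup.map (N.subgroupOf T) N T.subtype (fun x hx => hx)
    have hf : Function.Injective f := by
      rw [injective_iff_map_eq_one]
      intro x
      induction x using QuotientGroup.induction_on with
      | H t =>
        intro h
        change ((T.subtype t : G) : G ⧸ N) = 1 at h
        have h1 : (t : G) ∈ N := (QuotientGroup.eq_one_iff _).mp h
        exact (QuotientGroup.eq_one_iff _).mpr (Subgroup.mem_subgroupOf.mpr h1)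
    have := hcyc
    exact isCyclic_of_injective f hf
  have key := restrict_eq_of_cyclic_invariant (G := ↥T) (N.subgroupOf T) hcyc' ((ζ : ↥N → ℂ) ∘ ι) hζ' hinv' ψ hψ hcon'
  have hresζ : resTo N T hNT ψ = (ζ : ↥N → ℂ) := by
    funext n
    have h1 := key (ι.symm n)
    simp only [Function.comp_apply, MulEquiv.apply_symm_apply] at h1
    rw [← h1]
    simp only [resTo]
    congr 1
  rw [hresζ]
  exact irr_classInner_self ζ.2

end Cfsg.Agent.Lib.H4.FRS
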