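/-
S4563 + S4564 (architect helper23; helper4): piece AMBCYC = the transport of FR4 to subgroups `W₀ ⊴ W₁ = ⟨x⟩ W₀` of an
ambient group `H`.
-/
import Mathlib
import Cfsg.Prelude.Def_Blocks
import Cfsg.Prelude.Def_Characters
import Cfsg.Agent.Lib.H4.FRSFR4

set_option autoImplicit false
set_option linter.unusedSectionVars false
set_option linter.unusedVariables false

namespace Cfsg.Agent.Lib.H4.FRS

open Cfsg Cfsg.Agent.Lib.L0 Cfsg.Agent.Lib.H23 Cfsg.Agent.Lib.H24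

/-- AMBCYC (transport of FR4): `W₀ ⊴ W₁ ≤ H` with `W₁ = ⟨x⟩ W₀`; restriction from `W₁` to `W₀` is multiplicity free. -/
theorem mult_le_one_of_cyclic_sub {H : Type*} [Group H] [Finite H] (W₀ W₁ : Subgroup H)
    [Fintype ↥W₀] [Fintype ↥W₁] (hW : W₀ ≤ W₁)
    (hnorm : W₁ ≤ Subgroup.normalizer (W₀ : Set H))
    (x : H) (hx : x ∈ W₁) (hgen : ∀ w ∈ W₁, ∃ k : ℕ, (x ^ k)⁻¹ * w ∈ W₀)
    (ζ₁ : IrrCharacter ↥W₁) (ζ₀ : IrrCharacter ↥W₀) :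
    classInner (fun w : ↥W₀ => (ζ₁ : ↥W₁ → ℂ) ⟨w, hW w.2⟩) (ζ₀ : ↥W₀ → ℂ) = 0 ∨
      classInner (fun w : ↥W₀ => (ζ₁ : ↥W₁ → ℂ) ⟨w, hW w.2⟩) (ζ₀ : ↥W₀ → ℂ) = 1 := by
  classical
  have hN' : (W₀.subgroupOf W₁).Normal := by
    constructor
    intro n hn g
    rw [Subgroup.mem_subgroupOf] at hn ⊢
    have h1 := (Subgroup.mem_normalizer_iff.mp (hnorm g.2) (n : H)).mp hn
    exact h1
  have : Fintype ↥(W₀.subgroupOf W₁) := Fintype.ofFinite _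
  set ι : ↥(W₀.subgroupOf W₁) ≃* ↥W₀ := Subgroup.subgroupOfEquivOfLe hW with hι
  have hcyc : IsCyclic (↥W₁ ⧸ W₀.subgroupOf W₁) := by
    refine ⟨⟨((⟨x, hx⟩ : ↥W₁) : ↥W₁ ⧸ W₀.subgroupOf W₁), ?_⟩⟩
    intro y
    induction y using QuotientGroup.induction_on with
    | H w =>
      obtain ⟨k, hk⟩ := hgen (w : H) w.2
      refine ⟨(k : ℤ), ?_⟩
      show ((⟨x, hx⟩ : ↥W₁) : ↥W₁ ⧸ W₀.subgroupOf W₁) ^ (k : ℤ) = (w : ↥W₁ ⧸ W₀.subgroupOf W₁)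
      rw [zpow_natCast, ← QuotientGroup.mk_pow]
      apply QuotientGroup.eq.mpr
      rw [Subgroup.mem_subgroupOf]
      exact hk
  let ζ : IrrCharacter ↥(W₀.subgroupOf W₁) :=
    ⟨(ζ₀ : ↥W₀ → ℂ) ∘ ι, isIrrCharacter_comp_of_surjective ι.toMonoidHom ι.surjective ζ₀.2⟩
  have key := mult_le_one_of_cyclic (G := ↥W₁) (W₀.subgroupOf W₁) hcyc ζ₁ ζ
  have hres : (fun n : ↥(W₀.subgroupOf W₁) => (ζ₁ : ↥W₁ → ℂ) n) =
      (fun w : ↥W₀ => (ζ₁ : ↥W₁ → ℂ) ⟨w, hW w.2⟩) ∘ ι := by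
    funext n
    simp only [Function.comp_apply]
    congr 1
  have e : classInner (fun n : ↥(W₀.subgroupOf W₁) => (ζ₁ : ↥W₁ → ℂ) n) (ζ : ↥(W₀.subgroupOf W₁) → ℂ) =
      classInner (fun w : ↥W₀ => (ζ₁ : ↥W₁ → ℂ) ⟨w, hW w.2⟩) (ζ₀ : ↥W₀ → ℂ) := by
    rw [hres]
    exact classInner_comp_equiv ι _ _
  rw [e] at key
  exact key

end Cfsg.Agent.Lib.H4.FRS
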