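import Mathlib
import Cfsg.Prelude.Def_CaseTheorems
import Cfsg.Agent.Lib.H2.SimsR3

/-!
# S4385, case `(q,t) = (3,4)`: the abstract group-theoretic core

A finite group `K` generated by five involutions `a, e1, e2, e3, b` (the `x_(-4), ..., x_0` of the
chain), with the commutation pattern of distance `3`, is `S4 x Z2` modulo its odd core.
-/

set_option autoImplicit false
set_option linter.unusedSimpArgs false
set_option linter.unusedSectionVars false
set_option linter.style.haveILetI false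

namespace Cfsg.Agent.Lib.H4.G85

variable {K : Type*} [Group K]

/-- an element commuting with a generating set commutes with the closure -/
theorem comm_closure {s : Set K} {u : K} (h : ∀ y ∈ s, u * y = y * u) :
    ∀ y ∈ Subgroup.closure s, u * y = y * u := by
  intro y hy
  have hle : Subgroup.closure s ≤ Subgroup.centralizer ({u} : Set K) := by
    rw [Subgroup.closure_le]
    intro z hz
    rw [SetLike.mem_coe, Subgroup.mem_centralizer_iff]
    intro w hw
    rw [Set.mem_singleton_iff] at hw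
    subst hw
    exact h z hz
  exact Subgroup.mem_centralizer_iff.1 (hle hy) u rfl

/-- adjoining an involution that centralizes `closure s` -/
theorem mem_closure_insert_invol (s : Set K) (u : K) (hu : u * u = 1)
    (hc : ∀ y ∈ Subgroup.closure s, u * y = y * u) :
    ∀ x ∈ Subgroup.closure (insert u s), ∃ y ∈ Subgroup.closure s, x = y ∨ x = u * y := by
  have huinv : u⁻¹ = u := inv_eq_of_mul_eq_one_left hu
  let B : Subgroup K :=
    { carrier := {x | x ∈ Subgroup.closure s ∨ u * x ∈ Subgroup.closure s}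
      one_mem' := Or.inl (Subgroup.one_mem _)
      mul_mem' := by
        rintro x y (hx | hx) (hy | hy)
        · exact Or.inl (Subgroup.mul_mem _ hx hy)
        · right
          have e : u * (x * y) = x * (u * y) := by rw [← mul_assoc, hc x hx, mul_assoc]
          rw [e]; exact Subgroup.mul_mem _ hx hy
        · right
          rw [← mul_assoc]; exact Subgroup.mul_mem _ hx hy
        · left
          have e : x * y = (u * x) * (u * y) := by
            calc x * y = (u * u) * x * y := by rw [hu, one_mul]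
              _ = (u * (u * x)) * y := by rw [mul_assoc u u x]
              _ = ((u * x) * u) * y := by rw [hc (u * x) hx]
              _ = (u * x) * (u * y) := by rw [mul_assoc]
          rw [e]; exact Subgroup.mul_mem _ hx hy
      inv_mem' := by
        rintro x (hx | hx)
        · exact Or.inl (Subgroup.inv_mem _ hx)
        · right
          have hux : u * x = x * u := by
            calc u * x = u * ((u * u) * x) := by rw [hu, one_mul]
              _ = u * (u * (u * x)) := by rw [mul_assoc u u x]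
              _ = u * ((u * x) * u) := by rw [hc (u * x) hx]
              _ = (u * u) * x * u := by simp only [mul_assoc]
              _ = x * u := by rw [hu, one_mul]
          have hcm : Commute u x := hux
          have e : u * x⁻¹ = (u * x)⁻¹ := by
            rw [mul_inv_rev, huinv]; exact hcm.inv_right.eq
          rw [e]; exact Subgroup.inv_mem _ hx }
  have hle : Subgroup.closure (insert u s) ≤ B := by
    rw [Subgroup.closure_le]
    intro z hz
    rcases hz with rfl | hz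
    · exact Or.inr (by rw [hu]; exact Subgroup.one_mem _)
    · exact Or.inl (Subgroup.subset_closure hz)
  intro x hx
  rcases hle hx with h | h
  · exact ⟨x, h, Or.inl rfl⟩
  · exact ⟨u * x, h, Or.inr (by rw [← mul_assoc, hu, one_mul])⟩

/-- the closure of one involution -/
theorem mem_closure_one {u : K} (hu : u * u = 1) :
    ∀ x ∈ Subgroup.closure ({u} : Set K), x = 1 ∨ x = u := by
  intro x hx
  have hx' : x ∈ Subgroup.closure (insert u (∅ : Set K)) := by
    rwa [insert_empty_eq]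
  obtain ⟨y, hy, h⟩ := mem_closure_insert_invol ∅ u hu
    (by intro y hy; rw [Subgroup.closure_empty, Subgroup.mem_bot] at hy; rw [hy, mul_one, one_mul]) x hx'
  rw [Subgroup.closure_empty, Subgroup.mem_bot] at hy
  subst hy
  rcases h with h | h
  · exact Or.inl h
  · exact Or.inr (by rw [h, mul_one])

/-- the closure of two commuting involutions -/
theorem mem_closure_two {u v : K} (hu : u * u = 1) (hv : v * v = 1) (huv : u * v = v * u) :
    ∀ x ∈ Subgroup.closure ({u, v} : Set K), x = 1 ∨ x = v ∨ x = u ∨ x = u * v := by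
  intro x hx
  obtain ⟨y, hy, h⟩ := mem_closure_insert_invol {v} u hu
    (comm_closure (by intro y hy; rw [Set.mem_singleton_iff] at hy; rw [hy, huv])) x hx
  rcases mem_closure_one hv y hy with rfl | rfl
  · rcases h with h | h
    · exact Or.inl h
    · exact Or.inr (Or.inr (Or.inl (by rw [h, mul_one])))
  · rcases h with h | h
    · exact Or.inr (Or.inl h)
    · exact Or.inr (Or.inr (Or.inr h))

/-- the closure of three commuting involutions -/
theorem mem_closure_three {e1 e2 e3 : K} (h1 : e1 * e1 = 1) (h2 : e2 * e2 = 1) (h3 : e3 * e3 = 1)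
    (h12 : e1 * e2 = e2 * e1) (h13 : e1 * e3 = e3 * e1) (h23 : e2 * e3 = e3 * e2) :
    ∀ x ∈ Subgroup.closure ({e1, e2, e3} : Set K),
      x = 1 ∨ x = e3 ∨ x = e2 ∨ x = e2 * e3 ∨ x = e1 ∨ x = e1 * e3 ∨ x = e1 * e2 ∨
        x = e1 * (e2 * e3) := by
  intro x hx
  obtain ⟨y, hy, h⟩ := mem_closure_insert_invol {e2, e3} e1 h1
    (comm_closure (by
      intro y hy
      rcases hy with rfl | hy
      · exact h12
      · rw [Set.mem_singleton_iff] at hy; rw [hy, h13])) x hx
  rcases mem_closure_two h2 h3 h23 y hy with rfl | rfl | rfl | rfl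
  · rcases h with h | h
    · exact Or.inl h
    · right; right; right; right; left; rw [h, mul_one]
  · rcases h with h | h
    · right; left; exact h
    · right; right; right; right; right; left; exact h
  · rcases h with h | h
    · right; right; left; exact h
    · right; right; right; right; right; right; left; exact h
  · rcases h with h | h
    · right; right; right; left; exact h
    · right; right; right; right; right; right; right; exact h


/-- a closure normalized by involutions generating the group is normal -/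
theorem normal_of_gens (gens T : Set K) (hgen : Subgroup.closure gens = ⊤)
    (hinv : ∀ g ∈ gens, g * g = 1)
    (h : ∀ g ∈ gens, ∀ t ∈ T, g * t * g⁻¹ ∈ Subgroup.closure T) : (Subgroup.closure T).Normal := by
  have hconj : ∀ g ∈ gens, ∀ n ∈ Subgroup.closure T, g * n * g⁻¹ ∈ Subgroup.closure T := by
    intro g hg n hn
    induction hn using Subgroup.closure_induction with
    | mem x hx => exact h g hg x hx
    | one => simp
    | mul x y _ _ hx hy =>
      have e : g * (x * y) * g⁻¹ = (g * x * g⁻¹) * (g * y * g⁻¹) := by group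
      rw [e]; exact Subgroup.mul_mem _ hx hy
    | inv x _ hx =>
      have e : g * x⁻¹ * g⁻¹ = (g * x * g⁻¹)⁻¹ := by group
      rw [e]; exact Subgroup.inv_mem _ hx
  rw [← Subgroup.normalizer_eq_top_iff, eq_top_iff, ← hgen, Subgroup.closure_le]
  intro g hg
  rw [SetLike.mem_coe, Subgroup.mem_normalizer_iff]
  intro n
  constructor
  · exact hconj g hg n
  · intro hn
    have h1 := hconj g hg _ hn
    have hginv : g⁻¹ = g := inv_eq_of_mul_eq_one_left (hinv g hg)
    have e : g * (g * n * g⁻¹) * g⁻¹ = n := by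
      rw [hginv]
      calc g * (g * n * g) * g = (g * g) * n * (g * g) := by simp only [mul_assoc]
        _ = n := by rw [hinv g hg, one_mul, mul_one]
    rwa [e] at h1

theorem conj_eq_of_comm {g t : K} (h : g * t = t * g) : g * t * g⁻¹ = t := by
  rw [h, mul_inv_cancel_right]

theorem conj_mem_of_comm {N : Subgroup K} {g t : K} (hc : g * t = t * g) (ht : t ∈ N) :
    g * t * g⁻¹ ∈ N := by
  rw [hc, mul_inv_cancel_right]; exact ht

/-- no element acts with order exactly four when the index is twice an odd number -/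
theorem no4 {r v z : K} {m : ℕ} (hm : ¬ 2 ∣ m) (h2 : SemiconjBy (r * r) v (z * v))
    (hz : SemiconjBy (r * r) z z) (hzz : z * z = 1) (hz1 : z ≠ 1)
    (hc : Commute (r ^ (2 * m)) v) : False := by
  have h4 : SemiconjBy ((r * r) * (r * r)) v (z * (z * v)) := (hz.mul_right h2).mul_left h2
  have h4' : Commute ((r * r) * (r * r)) v := by
    have e : z * (z * v) = v := by rw [← mul_assoc, hzz, one_mul]
    rw [e] at h4; exact h4
  obtain ⟨k, hk⟩ : ∃ k, m = 2 * k + 1 := ⟨m / 2, by omega⟩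
  have e : r ^ (2 * m) = ((r * r) * (r * r)) ^ k * (r * r) := by
    have e4 : (r * r) * (r * r) = r ^ 4 := by simp only [pow_succ, pow_zero, one_mul, mul_assoc]
    rw [hk, e4, ← pow_mul, ← pow_two, ← pow_add]
    congr 1; ring
  have h2' : Commute (r * r) v := by
    have h5 : Commute (((r * r) * (r * r)) ^ k) v := h4'.pow_left k
    have e2 : r * r = ((((r * r) * (r * r)) ^ k)⁻¹) * r ^ (2 * m) := by rw [e]; group
    rw [e2]
    exact (h5.inv_left).mul_left hc
  have h6 : z * v * (r * r) = v * (r * r) := by rw [← h2.eq, h2'.eq]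
  have h7 : z * v = v := mul_right_cancel h6
  exact hz1 (by simpa using h7)

/-- the configuration of the case `(q,t) = (3,4)` -/
structure Cfg (K : Type*) [Group K] where
  a : K
  e1 : K
  e2 : K
  e3 : K
  b : K
  hgen : Subgroup.closure ({a, e1, e2, e3, b} : Set K) = ⊤
  ha : a * a = 1
  h1 : e1 * e1 = 1
  h2 : e2 * e2 = 1
  h3 : e3 * e3 = 1
  hb : b * b = 1
  h12 : e1 * e2 = e2 * e1
  h13 : e1 * e3 = e3 * e1
  h23 : e2 * e3 = e3 * e2
  ha1 : a * e1 = e1 * a
  ha2 : a * e2 = e2 * a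
  hb2 : b * e2 = e2 * b
  hb3 : b * e3 = e3 * b
  ha3 : a * e3 ≠ e3 * a
  hb1 : b * e1 ≠ e1 * b
  he2 : e2 ≠ 1
  Q : Subgroup K
  P : Subgroup K
  hQ : Q = Subgroup.closure ({e1, e2, e3} : Set K)
  hQcard : Nat.card Q = 8
  haQ : a * e3 * a⁻¹ ∈ Q
  hbQ : b * e1 * b⁻¹ ∈ Q
  hQP : Q ≤ P
  hbP : b ∈ P
  hPcard : Nat.card P = 16
  hPodd : ¬ 2 ∣ P.index
  hcc : ∃ c c' : K, ((c = e1 ∧ c' = e2) ∨ (c = e2 ∧ c' = e3) ∨ (c = e1 * e2 ∧ c' = e2 * e3)) ∧
    a * e3 * a⁻¹ = e3 * c ∧ b * e1 * b⁻¹ = e1 * c'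

namespace Cfg

variable (D : Cfg K)

theorem c21 : D.e2 * D.e1 = D.e1 * D.e2 := D.h12.symm
theorem c31 : D.e3 * D.e1 = D.e1 * D.e3 := D.h13.symm
theorem c32 : D.e3 * D.e2 = D.e2 * D.e3 := D.h23.symm
theorem c21' (x : K) : D.e2 * (D.e1 * x) = D.e1 * (D.e2 * x) := by
  rw [← mul_assoc, D.c21, mul_assoc]
theorem c31' (x : K) : D.e3 * (D.e1 * x) = D.e1 * (D.e3 * x) := by
  rw [← mul_assoc, D.c31, mul_assoc]
theorem c32' (x : K) : D.e3 * (D.e2 * x) = D.e2 * (D.e3 * x) := by
  rw [← mul_assoc, D.c32, mul_assoc]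
theorem s1' (x : K) : D.e1 * (D.e1 * x) = x := by rw [← mul_assoc, D.h1, one_mul]
theorem s2' (x : K) : D.e2 * (D.e2 * x) = x := by rw [← mul_assoc, D.h2, one_mul]
theorem s3' (x : K) : D.e3 * (D.e3 * x) = x := by rw [← mul_assoc, D.h3, one_mul]

theorem e1_ne_e3 : D.e1 ≠ D.e3 := by
  intro h
  apply D.hb1
  rw [h]; exact D.hb3

theorem e1_ne_e2 : D.e1 ≠ D.e2 := by
  intro h
  apply D.hb1
  rw [h]; exact D.hb2

theorem e2_ne_e3 : D.e2 ≠ D.e3 := by
  intro h
  apply D.ha3
  rw [← h]; exact D.ha2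

theorem e1_ne_one : D.e1 ≠ 1 := by
  intro h
  apply D.hb1
  rw [h, mul_one, one_mul]

theorem e3_ne_one : D.e3 ≠ 1 := by
  intro h
  apply D.ha3
  rw [h, mul_one, one_mul]

theorem e2_ne_e1e3 : D.e2 ≠ D.e1 * D.e3 := by
  intro h
  apply D.ha3
  have e : D.e3 = D.e1 * D.e2 := by rw [h, ← mul_assoc, D.h1, one_mul]
  rw [e]
  exact (Commute.mul_right (show Commute D.a D.e1 from D.ha1)
    (show Commute D.a D.e2 from D.ha2)).eq

theorem hs1 (h : D.a * D.e3 * D.a⁻¹ * D.e3⁻¹ = D.e1) : D.b * D.e1 * D.b⁻¹ * D.e1⁻¹ = D.e2 := by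
  obtain ⟨c, c', hcase, hac, hbc⟩ := D.hcc
  rw [hac] at h
  rw [hbc]
  rcases hcase with ⟨rfl, rfl⟩ | ⟨rfl, rfl⟩ | ⟨rfl, rfl⟩
  · exact conj_eq_of_comm D.h12
  · exfalso
    rw [conj_eq_of_comm D.c32] at h
    exact D.e1_ne_e2 h.symm
  · exfalso
    rw [conj_eq_of_comm (Commute.mul_right (show Commute D.e3 D.e1 from D.c31)
      (show Commute D.e3 D.e2 from D.c32)).eq] at h
    exact D.he2 (mul_left_cancel (h.trans (mul_one _).symm))

theorem hs2 (h : D.a * D.e3 * D.a⁻¹ * D.e3⁻¹ = D.e2) : D.b * D.e1 * D.b⁻¹ * D.e1⁻¹ = D.e3 := by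
  obtain ⟨c, c', hcase, hac, hbc⟩ := D.hcc
  rw [hac] at h
  rw [hbc]
  rcases hcase with ⟨rfl, rfl⟩ | ⟨rfl, rfl⟩ | ⟨rfl, rfl⟩
  · exfalso
    rw [conj_eq_of_comm D.c31] at h
    exact D.e1_ne_e2 h
  · exact conj_eq_of_comm D.h13
  · exfalso
    rw [conj_eq_of_comm (Commute.mul_right (show Commute D.e3 D.e1 from D.c31)
      (show Commute D.e3 D.e2 from D.c32)).eq] at h
    exact D.e1_ne_one (mul_right_cancel (h.trans (one_mul _).symm))

theorem hs3 (h : D.a * D.e3 * D.a⁻¹ * D.e3⁻¹ = D.e1 * D.e2) :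
    D.b * D.e1 * D.b⁻¹ * D.e1⁻¹ = D.e2 * D.e3 := by
  obtain ⟨c, c', hcase, hac, hbc⟩ := D.hcc
  rw [hac] at h
  rw [hbc]
  rcases hcase with ⟨rfl, rfl⟩ | ⟨rfl, rfl⟩ | ⟨rfl, rfl⟩
  · exfalso
    rw [conj_eq_of_comm D.c31] at h
    exact D.he2 (mul_left_cancel (h.symm.trans (mul_one _).symm))
  · exfalso
    rw [conj_eq_of_comm D.c32] at h
    exact D.e1_ne_one (mul_right_cancel (h.symm.trans (one_mul _).symm))
  · exact conj_eq_of_comm (Commute.mul_right (show Commute D.e1 D.e2 from D.h12)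
      (show Commute D.e1 D.e3 from D.h13)).eq

theorem e1_mem : D.e1 ∈ D.Q := by rw [D.hQ]; exact Subgroup.subset_closure (by simp)
theorem e2_mem : D.e2 ∈ D.Q := by rw [D.hQ]; exact Subgroup.subset_closure (by simp)
theorem e3_mem : D.e3 ∈ D.Q := by rw [D.hQ]; exact Subgroup.subset_closure (by simp)

/-- `Q` is abelian -/
theorem comm_Q : ∀ x ∈ D.Q, ∀ y ∈ D.Q, x * y = y * x := by
  have hgen : ∀ g ∈ ({D.e1, D.e2, D.e3} : Set K), ∀ y ∈ D.Q, g * y = y * g := by
    intro g hg y hy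
    rw [D.hQ] at hy
    refine comm_closure ?_ y hy
    intro w hw
    rcases hg with rfl | rfl | hg
    · rcases hw with rfl | rfl | hw
      · rfl
      · exact D.h12
      · rw [Set.mem_singleton_iff] at hw; rw [hw]; exact D.h13
    · rcases hw with rfl | rfl | hw
      · exact D.h12.symm
      · rfl
      · rw [Set.mem_singleton_iff] at hw; rw [hw]; exact D.h23
    · rw [Set.mem_singleton_iff] at hg; subst hg
      rcases hw with rfl | rfl | hw
      · exact D.h13.symm
      · exact D.h23.symm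
      · rw [Set.mem_singleton_iff] at hw; rw [hw]
  intro x hx y hy
  rw [D.hQ] at hx
  exact (comm_closure (fun g hg => (hgen g hg y hy).symm) x hx).symm

/-- the three possibilities for `a e3 a⁻¹` -/
theorem t_cases : D.a * D.e3 * D.a⁻¹ = D.e1 * D.e3 ∨ D.a * D.e3 * D.a⁻¹ = D.e2 * D.e3 ∨
    D.a * D.e3 * D.a⁻¹ = D.e1 * (D.e2 * D.e3) := by
  have key : ∀ t, D.a * t = t * D.a → D.a * D.e3 * D.a⁻¹ = t → False := by
    intro t ht h
    apply D.ha3
    have h' : D.a * D.e3 = t * D.a := mul_inv_eq_iff_eq_mul.1 h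
    rw [← ht] at h'
    have h3 : D.e3 = t := mul_left_cancel h'
    rw [h3]; exact ht
  have hmem := D.haQ
  rw [D.hQ] at hmem
  rcases mem_closure_three D.h1 D.h2 D.h3 D.h12 D.h13 D.h23 _ hmem with
    h | h | h | h | h | h | h | h
  · exact (key 1 (by simp) h).elim
  · exact (D.ha3 (mul_inv_eq_iff_eq_mul.1 h)).elim
  · exact (key _ D.ha2 h).elim
  · right; left; exact h
  · exact (key _ D.ha1 h).elim
  · left; exact h
  · exact (key _ (Commute.mul_right (show Commute D.a D.e1 from D.ha1)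
      (show Commute D.a D.e2 from D.ha2)).eq h).elim
  · right; right; exact h

/-- `Q` is normal in `K` -/
theorem Q_normal : D.Q.Normal := by
  rw [D.hQ]
  refine normal_of_gens _ _ D.hgen ?_ ?_
  · intro g hg
    rcases hg with rfl | rfl | rfl | rfl | hg
    · exact D.ha
    · exact D.h1
    · exact D.h2
    · exact D.h3
    · rw [Set.mem_singleton_iff] at hg; rw [hg]; exact D.hb
  · have m1 := D.e1_mem
    have m2 := D.e2_mem
    have m3 := D.e3_mem
    have hA := D.haQ
    have hB := D.hbQ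
    rw [D.hQ] at m1 m2 m3 hA hB
    intro g hg t ht
    rcases hg with rfl | rfl | rfl | rfl | hg
    · rcases ht with rfl | rfl | ht
      · exact conj_mem_of_comm D.ha1 m1
      · exact conj_mem_of_comm D.ha2 m2
      · rw [Set.mem_singleton_iff] at ht; rw [ht]; exact hA
    · rcases ht with rfl | rfl | ht
      · exact conj_mem_of_comm rfl m1
      · exact conj_mem_of_comm D.h12 m2
      · rw [Set.mem_singleton_iff] at ht; rw [ht]; exact conj_mem_of_comm D.h13 m3
    · rcases ht with rfl | rfl | ht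
      · exact conj_mem_of_comm D.h12.symm m1
      · exact conj_mem_of_comm rfl m2
      · rw [Set.mem_singleton_iff] at ht; rw [ht]; exact conj_mem_of_comm D.h23 m3
    · rcases ht with rfl | rfl | ht
      · exact conj_mem_of_comm D.h13.symm m1
      · exact conj_mem_of_comm D.h23.symm m2
      · rw [Set.mem_singleton_iff] at ht; rw [ht]; exact conj_mem_of_comm rfl m3
    · rw [Set.mem_singleton_iff] at hg; subst hg
      rcases ht with rfl | rfl | ht
      · exact hB
      · exact conj_mem_of_comm D.hb2 m2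
      · rw [Set.mem_singleton_iff] at ht; rw [ht]; exact conj_mem_of_comm D.hb3 m3

variable [Finite K]

theorem index_Q : D.Q.index = 2 * D.P.index := by
  have h1 := D.Q.card_mul_index
  have h2 := D.P.card_mul_index
  rw [D.hQcard] at h1; rw [D.hPcard] at h2
  omega

theorem pow_mem_Q (g : K) : g ^ (2 * D.P.index) ∈ D.Q := by
  haveI := D.Q_normal
  rw [← D.index_Q, Subgroup.index_eq_card, ← QuotientGroup.eq_one_iff, QuotientGroup.mk_pow]
  exact pow_card_eq_one'

theorem not_case1 (hA : D.a * D.e3 * D.a⁻¹ = D.e1 * D.e3) : False := by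
  have hc : D.a * D.e3 * D.a⁻¹ * D.e3⁻¹ = D.e1 := by rw [hA, mul_inv_cancel_right]
  have hB : D.b * D.e1 * D.b⁻¹ = D.e2 * D.e1 := eq_mul_of_mul_inv_eq (D.hs1 hc)
  have sa1 : SemiconjBy D.a D.e1 D.e1 := D.ha1
  have sa2 : SemiconjBy D.a D.e2 D.e2 := D.ha2
  have sa3 : SemiconjBy D.a D.e3 (D.e1 * D.e3) := mul_inv_eq_iff_eq_mul.1 hA
  have sb1 : SemiconjBy D.b D.e1 (D.e2 * D.e1) := mul_inv_eq_iff_eq_mul.1 hB
  have sb2 : SemiconjBy D.b D.e2 D.e2 := D.hb2
  have sb3 : SemiconjBy D.b D.e3 D.e3 := D.hb3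
  have sr1 : SemiconjBy (D.a * D.b) D.e1 (D.e2 * D.e1) := (sa2.mul_right sa1).mul_left sb1
  have sr2 : SemiconjBy (D.a * D.b) D.e2 D.e2 := sa2.mul_left sb2
  have sr3 : SemiconjBy (D.a * D.b) D.e3 (D.e1 * D.e3) := sa3.mul_left sb3
  have srr3 : SemiconjBy ((D.a * D.b) * (D.a * D.b)) D.e3 ((D.e2 * D.e1) * (D.e1 * D.e3)) :=
    (sr1.mul_right sr3).mul_left sr3
  have e : (D.e2 * D.e1) * (D.e1 * D.e3) = D.e2 * D.e3 := by
    simp only [mul_assoc, D.c21, D.c31, D.c32, D.c21', D.c31', D.c32', D.h1, D.h2, D.h3,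
      D.s1', D.s2', D.s3', mul_one, one_mul]
  rw [e] at srr3
  refine no4 D.hPodd srr3 (sr2.mul_left sr2) D.h2 D.he2 ?_
  exact D.comm_Q _ (D.pow_mem_Q _) _ D.e3_mem

theorem not_case2 (hA : D.a * D.e3 * D.a⁻¹ = D.e2 * D.e3) : False := by
  have hc : D.a * D.e3 * D.a⁻¹ * D.e3⁻¹ = D.e2 := by rw [hA, mul_inv_cancel_right]
  have hB : D.b * D.e1 * D.b⁻¹ = D.e3 * D.e1 := eq_mul_of_mul_inv_eq (D.hs2 hc)
  have sa1 : SemiconjBy D.a D.e1 D.e1 := D.ha1
  have sa2 : SemiconjBy D.a D.e2 D.e2 := D.ha2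
  have sa3 : SemiconjBy D.a D.e3 (D.e2 * D.e3) := mul_inv_eq_iff_eq_mul.1 hA
  have sb1 : SemiconjBy D.b D.e1 (D.e3 * D.e1) := mul_inv_eq_iff_eq_mul.1 hB
  have sb2 : SemiconjBy D.b D.e2 D.e2 := D.hb2
  have sb3 : SemiconjBy D.b D.e3 D.e3 := D.hb3
  have sr1 : SemiconjBy (D.a * D.b) D.e1 ((D.e2 * D.e3) * D.e1) := (sa3.mul_right sa1).mul_left sb1
  have sr2 : SemiconjBy (D.a * D.b) D.e2 D.e2 := sa2.mul_left sb2
  have sr3 : SemiconjBy (D.a * D.b) D.e3 (D.e2 * D.e3) := sa3.mul_left sb3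
  have srr1 : SemiconjBy ((D.a * D.b) * (D.a * D.b)) D.e1
      (((D.e2 * (D.e2 * D.e3)) * ((D.e2 * D.e3) * D.e1))) :=
    ((sr2.mul_right sr3).mul_right sr1).mul_left sr1
  have e : ((D.e2 * (D.e2 * D.e3)) * ((D.e2 * D.e3) * D.e1)) = D.e2 * D.e1 := by
    simp only [mul_assoc, D.c21, D.c31, D.c32, D.c21', D.c31', D.c32', D.h1, D.h2, D.h3,
      D.s1', D.s2', D.s3', mul_one, one_mul]
  rw [e] at srr1
  refine no4 D.hPodd srr1 (sr2.mul_left sr2) D.h2 D.he2 ?_
  exact D.comm_Q _ (D.pow_mem_Q _) _ D.e1_mem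


theorem hA3 : D.a * D.e3 * D.a⁻¹ = D.e1 * (D.e2 * D.e3) := by
  rcases D.t_cases with h | h | h
  · exact (D.not_case1 h).elim
  · exact (D.not_case2 h).elim
  · exact h

theorem hB3 : D.b * D.e1 * D.b⁻¹ = D.e2 * D.e3 * D.e1 := by
  have hc : D.a * D.e3 * D.a⁻¹ * D.e3⁻¹ = D.e1 * D.e2 := by
    rw [D.hA3, ← mul_assoc, mul_inv_cancel_right]
  exact eq_mul_of_mul_inv_eq (D.hs3 hc)

theorem sa3 : SemiconjBy D.a D.e3 (D.e1 * (D.e2 * D.e3)) := mul_inv_eq_iff_eq_mul.1 D.hA3

theorem sb1 : SemiconjBy D.b D.e1 (D.e2 * D.e3 * D.e1) := mul_inv_eq_iff_eq_mul.1 D.hB3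

theorem sr1 : SemiconjBy (D.a * D.b) D.e1 D.e3 := by
  have sa1 : SemiconjBy D.a D.e1 D.e1 := D.ha1
  have sa2 : SemiconjBy D.a D.e2 D.e2 := D.ha2
  have h : SemiconjBy (D.a * D.b) D.e1 (D.e2 * (D.e1 * (D.e2 * D.e3)) * D.e1) :=
    ((sa2.mul_right D.sa3).mul_right sa1).mul_left D.sb1
  have e : D.e2 * (D.e1 * (D.e2 * D.e3)) * D.e1 = D.e3 := by
    simp only [mul_assoc, D.c21, D.c31, D.c32, D.c21', D.c31', D.c32', D.h1, D.h2, D.h3,
      D.s1', D.s2', D.s3', mul_one, one_mul]
  rwa [e] at h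

theorem sr2 : SemiconjBy (D.a * D.b) D.e2 D.e2 :=
  SemiconjBy.mul_left (show SemiconjBy D.a D.e2 D.e2 from D.ha2)
    (show SemiconjBy D.b D.e2 D.e2 from D.hb2)

theorem sr3 : SemiconjBy (D.a * D.b) D.e3 (D.e1 * (D.e2 * D.e3)) :=
  D.sa3.mul_left (show SemiconjBy D.b D.e3 D.e3 from D.hb3)

theorem srr1 : SemiconjBy ((D.a * D.b) * (D.a * D.b)) D.e1 (D.e1 * (D.e2 * D.e3)) :=
  D.sr3.mul_left D.sr1

theorem srr3 : SemiconjBy ((D.a * D.b) * (D.a * D.b)) D.e3 D.e1 := by
  have h : SemiconjBy ((D.a * D.b) * (D.a * D.b)) D.e3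
      (D.e3 * (D.e2 * (D.e1 * (D.e2 * D.e3)))) :=
    (D.sr1.mul_right (D.sr2.mul_right D.sr3)).mul_left D.sr3
  have e : D.e3 * (D.e2 * (D.e1 * (D.e2 * D.e3))) = D.e1 := by
    simp only [mul_assoc, D.c21, D.c31, D.c32, D.c21', D.c31', D.c32', D.h1, D.h2, D.h3,
      D.s1', D.s2', D.s3', mul_one, one_mul]
  rwa [e] at h

theorem srrr1 : Commute ((D.a * D.b) * (D.a * D.b) * (D.a * D.b)) D.e1 :=
  D.srr3.mul_left D.sr1

theorem srrr2 : Commute ((D.a * D.b) * (D.a * D.b) * (D.a * D.b)) D.e2 :=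
  (D.sr2.mul_left D.sr2).mul_left D.sr2

theorem srrr3 : Commute ((D.a * D.b) * (D.a * D.b) * (D.a * D.b)) D.e3 := by
  have h : SemiconjBy ((D.a * D.b) * (D.a * D.b) * (D.a * D.b)) D.e3
      (D.e1 * (D.e2 * D.e3) * (D.e2 * D.e1)) :=
    (D.srr1.mul_right ((D.sr2.mul_left D.sr2).mul_right D.srr3)).mul_left D.sr3
  have e : D.e1 * (D.e2 * D.e3) * (D.e2 * D.e1) = D.e3 := by
    simp only [mul_assoc, D.c21, D.c31, D.c32, D.c21', D.c31', D.c32', D.h1, D.h2, D.h3,
      D.s1', D.s2', D.s3', mul_one, one_mul]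
  rwa [e] at h

/-- the centralizer of `Q` -/
def C : Subgroup K := Subgroup.centralizer (D.Q : Set K)

theorem Q_le_C : D.Q ≤ D.C := by
  intro x hx
  rw [C, Subgroup.mem_centralizer_iff]
  intro y hy
  exact D.comm_Q y hy x hx

theorem mem_C_iff {g : K} : g ∈ D.C ↔ g * D.e1 = D.e1 * g ∧ g * D.e2 = D.e2 * g ∧ g * D.e3 = D.e3 * g := by
  rw [C, D.hQ, Subgroup.centralizer_closure, Subgroup.mem_centralizer_iff]
  constructor
  · intro h
    exact ⟨(h _ (by simp)).symm, (h _ (by simp)).symm, (h _ (by simp)).symm⟩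
  · rintro ⟨h1, h2, h3⟩ y hy
    rcases hy with rfl | rfl | hy
    · exact h1.symm
    · exact h2.symm
    · rw [Set.mem_singleton_iff] at hy; rw [hy]; exact h3.symm

theorem a_not_mem_C : D.a ∉ D.C := fun h => D.ha3 (D.mem_C_iff.1 h).2.2

theorem b_not_mem_C : D.b ∉ D.C := fun h => D.hb1 (D.mem_C_iff.1 h).1

theorem r_not_mem_C : D.a * D.b ∉ D.C := by
  intro h
  have h1 := (D.mem_C_iff.1 h).1
  have h2 : D.e1 * (D.a * D.b) = D.e3 * (D.a * D.b) := by rw [← h1]; exact D.sr1.eq
  exact D.e1_ne_e3 (mul_right_cancel h2)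

theorem r3_mem_C : (D.a * D.b) * (D.a * D.b) * (D.a * D.b) ∈ D.C :=
  D.mem_C_iff.2 ⟨D.srrr1.eq, D.srrr2.eq, D.srrr3.eq⟩

theorem C_normal : D.C.Normal := by
  haveI := D.Q_normal
  exact Subgroup.normal_centralizer

end Cfg

/-- a group generated by two involutions whose product has order dividing 3 has at most 6 elements -/
theorem list_six {M : Type*} [Group M] (x y : M) (hx : x * x = 1) (hy : y * y = 1)
    (h3 : (x * y) * (x * y) * (x * y) = 1) (hgen : Subgroup.closure ({x, y} : Set M) = ⊤) :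
    ∀ t : M, t = 1 ∨ t = x ∨ t = y ∨ t = x * y ∨ t = y * x ∨ t = x * y * x := by
  have hxi : x⁻¹ = x := inv_eq_of_mul_eq_one_left hx
  have hyi : y⁻¹ = y := inv_eq_of_mul_eq_one_left hy
  have braid : y * x * y = x * y * x := by
    have e : (x * y * x) * (y * x * y) = 1 := by
      rw [← h3]; simp only [mul_assoc]
    have e2 := eq_inv_of_mul_eq_one_right e
    rw [e2]; simp only [mul_inv_rev, hxi, hyi, mul_assoc]
  let p : M → Prop := fun t => t = 1 ∨ t = x ∨ t = y ∨ t = x * y ∨ t = y * x ∨ t = x * y * x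
  have px : ∀ t, p t → p (x * t) := by
    rintro t (rfl | rfl | rfl | rfl | rfl | rfl)
    · right; left; rw [mul_one]
    · left; exact hx
    · right; right; right; left; rfl
    · right; right; left; rw [← mul_assoc, hx, one_mul]
    · right; right; right; right; right; rw [← mul_assoc]
    · right; right; right; right; left
      rw [← mul_assoc, ← mul_assoc, hx, one_mul]
  have py : ∀ t, p t → p (y * t) := by
    rintro t (rfl | rfl | rfl | rfl | rfl | rfl)
    · right; right; left; rw [mul_one]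
    · right; right; right; right; left; rfl
    · left; exact hy
    · right; right; right; right; right; rw [← mul_assoc, braid]
    · right; left; rw [← mul_assoc, hy, one_mul]
    · right; right; right; left
      rw [← mul_assoc, ← mul_assoc, braid, mul_assoc, hx, mul_one]
  have hall : ∀ g ∈ Subgroup.closure ({x, y} : Set M), ∀ t, p t → p (g * t) := by
    intro g hg
    induction hg using Subgroup.closure_induction'' with
    | mem g hg =>
      rcases hg with rfl | hg
      · exact px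
      · rw [Set.mem_singleton_iff] at hg; rw [hg]; exact py
    | inv_mem g hg =>
      rcases hg with rfl | hg
      · rw [hxi]; exact px
      · rw [Set.mem_singleton_iff] at hg; rw [hg, hyi]; exact py
    | one => intro t ht; rwa [one_mul]
    | mul g h _ _ ihg ihh =>
      intro t ht
      rw [mul_assoc]
      exact ihg _ (ihh _ ht)
  intro t
  have := hall t (by rw [hgen]; exact Subgroup.mem_top t) 1 (Or.inl rfl)
  rwa [mul_one] at this

theorem card_le_six {M : Type*} [Group M] (x y : M)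
    (h : ∀ t : M, t = 1 ∨ t = x ∨ t = y ∨ t = x * y ∨ t = y * x ∨ t = x * y * x) :
    Nat.card M ≤ 6 := by
  have hs : Function.Surjective (![1, x, y, x * y, y * x, x * y * x] : Fin 6 → M) := by
    intro t
    rcases h t with rfl | rfl | rfl | rfl | rfl | rfl
    · exact ⟨0, rfl⟩
    · exact ⟨1, rfl⟩
    · exact ⟨2, rfl⟩
    · exact ⟨3, rfl⟩
    · exact ⟨4, rfl⟩
    · exact ⟨5, rfl⟩
  have := Nat.card_le_card_of_surjective _ hs
  simpa using this

namespace Cfg

variable (D : Cfg K) [Finite K]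

theorem index_C : D.C.index = 6 := by
  haveI := D.C_normal
  rw [Subgroup.index_eq_card]
  set x : K ⧸ D.C := QuotientGroup.mk D.a with hx
  set y : K ⧸ D.C := QuotientGroup.mk D.b with hy
  have hxx : x * x = 1 := by
    rw [hx, ← QuotientGroup.mk_mul, D.ha]; rfl
  have hyy : y * y = 1 := by
    rw [hy, ← QuotientGroup.mk_mul, D.hb]; rfl
  have h3 : (x * y) * (x * y) * (x * y) = 1 := by
    rw [hx, hy]
    simp only [← QuotientGroup.mk_mul]
    exact (QuotientGroup.eq_one_iff _).2 D.r3_mem_C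
  have hx1 : x ≠ 1 := fun h => D.a_not_mem_C ((QuotientGroup.eq_one_iff _).1 h)
  have hr1 : x * y ≠ 1 := by
    intro h
    rw [hx, hy, ← QuotientGroup.mk_mul] at h
    exact D.r_not_mem_C ((QuotientGroup.eq_one_iff _).1 h)
  have he : ∀ g ∈ D.Q, (QuotientGroup.mk g : K ⧸ D.C) = 1 :=
    fun g hg => (QuotientGroup.eq_one_iff _).2 (D.Q_le_C hg)
  have hgen : Subgroup.closure ({x, y} : Set (K ⧸ D.C)) = ⊤ := by
    rw [eq_top_iff, ← Subgroup.map_top_of_surjective (QuotientGroup.mk' D.C)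
      (QuotientGroup.mk'_surjective _), ← D.hgen, MonoidHom.map_closure, Subgroup.closure_le]
    rintro _ ⟨g, hg, rfl⟩
    rcases hg with rfl | rfl | rfl | rfl | hg
    · exact Subgroup.subset_closure (by simp [hx])
    · rw [QuotientGroup.mk'_apply, he _ D.e1_mem]; exact Subgroup.one_mem _
    · rw [QuotientGroup.mk'_apply, he _ D.e2_mem]; exact Subgroup.one_mem _
    · rw [QuotientGroup.mk'_apply, he _ D.e3_mem]; exact Subgroup.one_mem _
    · rw [Set.mem_singleton_iff] at hg; rw [hg]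
      exact Subgroup.subset_closure (by simp [hy])
  have hle := card_le_six x y (list_six x y hxx hyy h3 hgen)
  have h2 : 2 ∣ Nat.card (K ⧸ D.C) := by
    haveI : Fact (Nat.Prime 2) := ⟨Nat.prime_two⟩
    have ho : orderOf x = 2 := orderOf_eq_prime (by rw [pow_two]; exact hxx) hx1
    rw [← ho]; exact orderOf_dvd_natCard x
  have h3' : 3 ∣ Nat.card (K ⧸ D.C) := by
    haveI : Fact (Nat.Prime 3) := ⟨Nat.prime_three⟩
    have ho : orderOf (x * y) = 3 :=
      orderOf_eq_prime (by rw [pow_succ, pow_two]; exact h3) hr1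
    rw [← ho]; exact orderOf_dvd_natCard _
  have h6 : 2 * 3 ∣ Nat.card (K ⧸ D.C) :=
    Nat.Coprime.mul_dvd_of_dvd_of_dvd (by norm_num) h2 h3'
  have hpos : 0 < Nat.card (K ⧸ D.C) := Nat.card_pos
  obtain ⟨k, hk⟩ := h6
  omega

/-- the hypothesis of the abstract quotient lemma -/
theorem cent_inf_P_le : Subgroup.centralizer (D.Q : Set K) ⊓ D.P ≤ D.Q := by
  have hle1 : D.Q ≤ Subgroup.centralizer (D.Q : Set K) ⊓ D.P := le_inf D.Q_le_C D.hQP
  have hle2 : Subgroup.centralizer (D.Q : Set K) ⊓ D.P ≤ D.P := inf_le_right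
  have hb : D.b ∉ Subgroup.centralizer (D.Q : Set K) ⊓ D.P := fun h => D.b_not_mem_C h.1
  have d1 := Subgroup.card_dvd_of_le hle1
  have d2 := Subgroup.card_dvd_of_le hle2
  rw [D.hQcard] at d1
  rw [D.hPcard] at d2
  obtain ⟨k, hk⟩ := d1
  obtain ⟨l, hl⟩ := d2
  have hkl : k * l = 2 := by
    rw [hk] at hl
    have : 8 * 2 = 8 * (k * l) := by rw [← mul_assoc]; omega
    omega
  have hk2 : k = 1 ∨ k = 2 := (Nat.dvd_prime Nat.prime_two).1 ⟨l, hkl.symm⟩
  rcases hk2 with rfl | rfl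
  · have := Subgroup.eq_of_le_of_card_ge hle1 (by rw [hk, D.hQcard])
    rw [← this]
  · exfalso
    have := Subgroup.eq_of_le_of_card_ge hle2 (by rw [hk, D.hPcard])
    exact hb (by rw [this]; exact D.hbP)

theorem isPGroup_P : IsPGroup 2 D.P := IsPGroup.of_card (n := 4) (by rw [D.hPcard]; norm_num)

end Cfg


namespace Cfg

variable (D : Cfg K)

/-- the normal four-group `W = ⟨e1 e2, e2 e3⟩` -/
def W : Subgroup K := Subgroup.closure ({D.e1 * D.e2, D.e2 * D.e3} : Set K)

theorem W_list : ∀ x ∈ D.W, x = 1 ∨ x = D.e2 * D.e3 ∨ x = D.e1 * D.e2 ∨ x = D.e1 * D.e3 := by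
  intro x hx
  have hu : (D.e1 * D.e2) * (D.e1 * D.e2) = 1 := by
    simp only [mul_assoc, D.c21, D.c31, D.c32, D.c21', D.c31', D.c32', D.h1, D.h2, D.h3,
      D.s1', D.s2', D.s3', mul_one, one_mul]
  have hv : (D.e2 * D.e3) * (D.e2 * D.e3) = 1 := by
    simp only [mul_assoc, D.c21, D.c31, D.c32, D.c21', D.c31', D.c32', D.h1, D.h2, D.h3,
      D.s1', D.s2', D.s3', mul_one, one_mul]
  have huv : (D.e1 * D.e2) * (D.e2 * D.e3) = (D.e2 * D.e3) * (D.e1 * D.e2) := by
    simp only [mul_assoc, D.c21, D.c31, D.c32, D.c21', D.c31', D.c32', D.h1, D.h2, D.h3,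
      D.s1', D.s2', D.s3', mul_one, one_mul]
  have e : (D.e1 * D.e2) * (D.e2 * D.e3) = D.e1 * D.e3 := by
    simp only [mul_assoc, D.c21, D.c31, D.c32, D.c21', D.c31', D.c32', D.h1, D.h2, D.h3,
      D.s1', D.s2', D.s3', mul_one, one_mul]
  rcases mem_closure_two hu hv huv x hx with h | h | h | h
  · exact Or.inl h
  · exact Or.inr (Or.inl h)
  · exact Or.inr (Or.inr (Or.inl h))
  · exact Or.inr (Or.inr (Or.inr (by rw [h, e])))

theorem u_mem_W : D.e1 * D.e2 ∈ D.W := Subgroup.subset_closure (by simp)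

theorem v_mem_W : D.e2 * D.e3 ∈ D.W := Subgroup.subset_closure (by simp)

theorem uv_mem_W : D.e1 * D.e3 ∈ D.W := by
  have e : (D.e1 * D.e2) * (D.e2 * D.e3) = D.e1 * D.e3 := by
    simp only [mul_assoc, D.c21, D.c31, D.c32, D.c21', D.c31', D.c32', D.h1, D.h2, D.h3,
      D.s1', D.s2', D.s3', mul_one, one_mul]
  rw [← e]; exact D.W.mul_mem D.u_mem_W D.v_mem_W

theorem W_le_Q : D.W ≤ D.Q := by
  rw [W, Subgroup.closure_le]
  rintro x (rfl | hx)
  · exact D.Q.mul_mem D.e1_mem D.e2_mem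
  · rw [Set.mem_singleton_iff] at hx; rw [hx]; exact D.Q.mul_mem D.e2_mem D.e3_mem

theorem W_sq : ∀ x ∈ D.W, x * x = 1 := by
  intro x hx
  rcases D.W_list x hx with rfl | rfl | rfl | rfl
  · rw [mul_one]
  · simp only [mul_assoc, D.c21, D.c31, D.c32, D.c21', D.c31', D.c32', D.h1, D.h2, D.h3,
      D.s1', D.s2', D.s3', mul_one, one_mul]
  · simp only [mul_assoc, D.c21, D.c31, D.c32, D.c21', D.c31', D.c32', D.h1, D.h2, D.h3,
      D.s1', D.s2', D.s3', mul_one, one_mul]
  · simp only [mul_assoc, D.c21, D.c31, D.c32, D.c21', D.c31', D.c32', D.h1, D.h2, D.h3,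
      D.s1', D.s2', D.s3', mul_one, one_mul]

theorem e2_not_mem_W [Finite K] : D.e2 ∉ D.W := by
  intro h
  rcases D.W_list _ h with h | h | h | h
  · exact D.he2 h
  · apply D.e3_ne_one
    have h' : D.e2 * 1 = D.e2 * D.e3 := by rw [mul_one]; exact h
    exact (mul_left_cancel h').symm
  · apply D.e1_ne_one
    have h' : 1 * D.e2 = D.e1 * D.e2 := by rw [one_mul]; exact h
    exact (mul_right_cancel h').symm
  · exact D.e2_ne_e1e3 h

theorem W_sup_Z : D.W ⊔ Subgroup.zpowers D.e2 = D.Q := by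
  apply le_antisymm
  · exact sup_le D.W_le_Q (Subgroup.zpowers_le.2 D.e2_mem)
  · have m2 : D.e2 ∈ D.W ⊔ Subgroup.zpowers D.e2 :=
      Subgroup.mem_sup_right (Subgroup.mem_zpowers _)
    have m1 : D.e1 ∈ D.W ⊔ Subgroup.zpowers D.e2 := by
      have h := Subgroup.mul_mem _ (Subgroup.mem_sup_left (T := Subgroup.zpowers D.e2) D.u_mem_W) m2
      rwa [mul_assoc, D.h2, mul_one] at h
    have m3 : D.e3 ∈ D.W ⊔ Subgroup.zpowers D.e2 := by
      have h := Subgroup.mul_mem _ m2 (Subgroup.mem_sup_left (T := Subgroup.zpowers D.e2) D.v_mem_W)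
      rwa [D.s2'] at h
    rw [D.hQ, Subgroup.closure_le]
    rintro x (rfl | rfl | hx)
    · exact m1
    · exact m2
    · rw [Set.mem_singleton_iff] at hx; rw [hx]; exact m3

theorem e2_central : ∀ k : K, D.e2 * k = k * D.e2 := by
  intro k
  refine comm_closure ?_ k (by rw [D.hgen]; exact Subgroup.mem_top k)
  intro g hg
  rcases hg with rfl | rfl | rfl | rfl | hg
  · exact D.ha2.symm
  · exact D.h12.symm
  · rfl
  · exact D.h23
  · rw [Set.mem_singleton_iff] at hg; rw [hg]; exact D.hb2.symm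

variable [Finite K]

theorem W_normal : D.W.Normal := by
  have sa2 : SemiconjBy D.a D.e2 D.e2 := D.ha2
  have sb2 : SemiconjBy D.b D.e2 D.e2 := D.hb2
  have hcomm : ∀ q ∈ D.Q, ∀ w ∈ D.W, q * w * q⁻¹ ∈ D.W := fun q hq w hw =>
    conj_mem_of_comm (D.comm_Q q hq w (D.W_le_Q hw)) hw
  unfold W
  refine normal_of_gens _ _ D.hgen ?_ ?_
  · intro g hg
    rcases hg with rfl | rfl | rfl | rfl | hg
    · exact D.ha
    · exact D.h1
    · exact D.h2
    · exact D.h3
    · rw [Set.mem_singleton_iff] at hg; rw [hg]; exact D.hb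
  · intro g hg t ht
    have htW : t ∈ D.W := Subgroup.subset_closure ht
    rcases hg with rfl | rfl | rfl | rfl | hg
    · rcases ht with rfl | ht
      · exact conj_mem_of_comm (Commute.mul_right (show Commute D.a D.e1 from D.ha1)
          (show Commute D.a D.e2 from D.ha2)).eq D.u_mem_W
      · rw [Set.mem_singleton_iff] at ht; rw [ht]
        have h : SemiconjBy D.a (D.e2 * D.e3) (D.e2 * (D.e1 * (D.e2 * D.e3))) :=
          sa2.mul_right D.sa3
        have e : D.e2 * (D.e1 * (D.e2 * D.e3)) = D.e1 * D.e3 := by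
          simp only [mul_assoc, D.c21, D.c31, D.c32, D.c21', D.c31', D.c32', D.h1, D.h2, D.h3,
      D.s1', D.s2', D.s3', mul_one, one_mul]
        rw [e] at h
        rw [mul_inv_eq_iff_eq_mul.2 h.eq]; exact D.uv_mem_W
    · exact hcomm _ D.e1_mem _ htW
    · exact hcomm _ D.e2_mem _ htW
    · exact hcomm _ D.e3_mem _ htW
    · rw [Set.mem_singleton_iff] at hg; subst hg
      rcases ht with rfl | ht
      · have h : SemiconjBy D.b (D.e1 * D.e2) (D.e2 * D.e3 * D.e1 * D.e2) :=
          D.sb1.mul_right sb2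
        have e : D.e2 * D.e3 * D.e1 * D.e2 = D.e1 * D.e3 := by
          simp only [mul_assoc, D.c21, D.c31, D.c32, D.c21', D.c31', D.c32', D.h1, D.h2, D.h3,
      D.s1', D.s2', D.s3', mul_one, one_mul]
        rw [e] at h
        rw [mul_inv_eq_iff_eq_mul.2 h.eq]; exact D.uv_mem_W
      · rw [Set.mem_singleton_iff] at ht; rw [ht]
        exact conj_mem_of_comm (Commute.mul_right (show Commute D.b D.e2 from D.hb2)
          (show Commute D.b D.e3 from D.hb3)).eq D.v_mem_W

theorem card_W : Nat.card D.W = 4 := by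
  have hset : (D.W : Set K) = {1, D.e2 * D.e3, D.e1 * D.e2, D.e1 * D.e3} := by
    ext x
    constructor
    · intro hx
      rcases D.W_list x hx with h | h | h | h
      · left; exact h
      · right; left; exact h
      · right; right; left; exact h
      · right; right; right; exact h
    · rintro (rfl | rfl | rfl | hx)
      · exact D.W.one_mem
      · exact D.v_mem_W
      · exact D.u_mem_W
      · rw [Set.mem_singleton_iff] at hx; rw [hx]; exact D.uv_mem_W
  have hc : Nat.card D.W = (D.W : Set K).ncard := Nat.card_coe_set_eq _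
  rw [hc, hset]
  have n1 : (1 : K) ∉ ({D.e2 * D.e3, D.e1 * D.e2, D.e1 * D.e3} : Set K) := by
    simp only [Set.mem_insert_iff, Set.mem_singleton_iff, not_or]
    refine ⟨?_, ?_, ?_⟩
    · intro h
      apply D.e2_ne_e3
      calc D.e2 = D.e2 * 1 := (mul_one _).symm
        _ = D.e2 * (D.e2 * D.e3) := by rw [← h]
        _ = D.e3 := D.s2' _
    · intro h
      apply D.e1_ne_e2
      calc D.e1 = D.e1 * 1 := (mul_one _).symm
        _ = D.e1 * (D.e1 * D.e2) := by rw [← h]
        _ = D.e2 := D.s1' _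
    · intro h
      apply D.e1_ne_e3
      calc D.e1 = D.e1 * 1 := (mul_one _).symm
        _ = D.e1 * (D.e1 * D.e3) := by rw [← h]
        _ = D.e3 := D.s1' _
  have n2 : D.e2 * D.e3 ∉ ({D.e1 * D.e2, D.e1 * D.e3} : Set K) := by
    simp only [Set.mem_insert_iff, Set.mem_singleton_iff, not_or]
    refine ⟨?_, ?_⟩
    · intro h
      apply D.e1_ne_e3
      have h' : D.e2 * (D.e2 * D.e3) = D.e2 * (D.e1 * D.e2) := by rw [h]
      rw [D.s2', D.c21', D.h2, mul_one] at h'
      exact h'.symm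
    · intro h
      exact D.e1_ne_e2 (mul_right_cancel h).symm
  have n3 : D.e1 * D.e2 ∉ ({D.e1 * D.e3} : Set K) := by
    rw [Set.mem_singleton_iff]
    intro h
    exact D.e2_ne_e3 (mul_left_cancel h)
  rw [Set.ncard_insert_of_notMem n1, Set.ncard_insert_of_notMem n2,
    Set.ncard_insert_of_notMem n3, Set.ncard_singleton]

/-- the case `(3,4)`, given the conclusions of the abstract quotient lemma for `Q ≤ P` -/
theorem final
    (hcard : Nat.card (K ⧸ Cfsg.oddCore K) =
      (Subgroup.centralizer (D.Q : Set K)).index * Nat.card D.Q)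
    (hcent : Subgroup.centralizer
        ((D.Q.map (QuotientGroup.mk' (Cfsg.oddCore K)) : Subgroup (K ⧸ Cfsg.oddCore K)) :
          Set (K ⧸ Cfsg.oddCore K)) ≤ D.Q.map (QuotientGroup.mk' (Cfsg.oddCore K)))
    (hinj : ∀ g ∈ D.P, (QuotientGroup.mk' (Cfsg.oddCore K)) g = 1 → g = 1) :
    Nonempty (K ⧸ Cfsg.oddCore K ≃* Equiv.Perm (Fin 4) × Multiplicative (ZMod 2)) := by
  have hK : Nat.card (K ⧸ Cfsg.oddCore K) = 48 := by
    have := D.index_C
    rw [C] at this
    rw [hcard, this, D.hQcard]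
  have hinj2 : ∀ g ∈ D.P, ∀ g' ∈ D.P, (QuotientGroup.mk' (Cfsg.oddCore K)) g =
      (QuotientGroup.mk' (Cfsg.oddCore K)) g' → g = g' := by
    intro g hg g' hg' h
    have h1 : (QuotientGroup.mk' (Cfsg.oddCore K)) (g * g'⁻¹) = 1 := by
      rw [map_mul, map_inv, h, mul_inv_cancel]
    exact mul_inv_eq_one.1 (hinj _ (D.P.mul_mem hg (D.P.inv_mem hg')) h1)
  have hWP : D.W ≤ D.P := D.W_le_Q.trans D.hQP
  haveI : (D.W.map (QuotientGroup.mk' (Cfsg.oddCore K))).Normal :=
    D.W_normal.map _ (QuotientGroup.mk'_surjective _)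
  have hsup : D.W.map (QuotientGroup.mk' (Cfsg.oddCore K)) ⊔
      (Subgroup.zpowers D.e2).map (QuotientGroup.mk' (Cfsg.oddCore K)) =
      D.Q.map (QuotientGroup.mk' (Cfsg.oddCore K)) := by
    rw [← Subgroup.map_sup, D.W_sup_Z]
  have he2 : (QuotientGroup.mk' (Cfsg.oddCore K)) D.e2 ≠ 1 := fun h =>
    D.he2 (hinj _ (D.hQP D.e2_mem) h)
  refine Cfsg.Agent.Lib.H2.Sims.s4z2_of_card_48 hK
    (D.W.map (QuotientGroup.mk' (Cfsg.oddCore K)))
    ((Subgroup.zpowers D.e2).map (QuotientGroup.mk' (Cfsg.oddCore K))) ?_ ?_ ?_ ?_ ?_ ?_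
    ((QuotientGroup.mk' (Cfsg.oddCore K)) D.b) ?_ ?_
  · -- card of the image of W
    let f : D.W →* K ⧸ Cfsg.oddCore K := (QuotientGroup.mk' (Cfsg.oddCore K)).comp D.W.subtype
    have hf : Function.Injective f := by
      rw [injective_iff_map_eq_one]
      intro w hw
      exact Subtype.ext (hinj _ (hWP w.2) hw)
    have hrange : f.range = D.W.map (QuotientGroup.mk' (Cfsg.oddCore K)) := by
      rw [MonoidHom.range_comp, Subgroup.range_subtype]
    rw [← hrange, ← Nat.card_congr (MonoidHom.ofInjective hf).toEquiv, D.card_W]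
  · -- exponent two
    rintro x ⟨w, hw, rfl⟩
    rw [← map_pow, pow_two, D.W_sq w hw, map_one]
  · -- card of the image of Z
    rw [MonoidHom.map_zpowers, Nat.card_zpowers]
    haveI : Fact (Nat.Prime 2) := ⟨Nat.prime_two⟩
    exact orderOf_eq_prime (by rw [← map_pow, pow_two, D.h2, map_one]) he2
  · -- central
    rw [MonoidHom.map_zpowers, Subgroup.zpowers_le, Subgroup.mem_center_iff]
    intro g
    obtain ⟨k, rfl⟩ := QuotientGroup.mk'_surjective (Cfsg.oddCore K) g
    rw [← map_mul, ← map_mul, D.e2_central k]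
  · -- disjoint
    rw [eq_bot_iff]
    rintro x ⟨⟨z, hz, rfl⟩, ⟨w, hw, hwz⟩⟩
    rw [Subgroup.mem_bot]
    have hzQ : z ∈ D.Q := (Subgroup.zpowers_le.2 D.e2_mem) hz
    have hzw : w = z := hinj2 _ (hWP hw) _ (D.hQP hzQ) hwz
    rw [Subgroup.zpowers_eq_closure] at hz
    rcases mem_closure_one D.h2 z hz with rfl | rfl
    · exact map_one _
    · exfalso
      rw [hzw] at hw
      exact D.e2_not_mem_W hw
  · rw [hsup]; exact hcent
  · rw [← map_pow, pow_two, D.hb, map_one]
  · rw [hsup]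
    rintro ⟨q, hq, hqb⟩
    have hqb' : q = D.b := hinj2 _ (D.hQP hq) _ D.hbP hqb
    rw [hqb'] at hq
    exact D.hb1 (D.comm_Q _ hq _ D.e1_mem)

end Cfg

end Cfsg.Agent.Lib.H4.G85
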