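import Cfsg.Agent.Lib.H4.G85Abs34
import Cfsg.Agent.Lib.H19.G85ABS
import Cfsg.Agent.Lib.H26.G85CH34
import Cfsg.Agent.Lib.H10.G85CH23

/-!
# S4385, case `(q,t) = (3,4)`: `H_0 / O(H_0) ≅ S4 x Z2`

Glue: the chain facts (helper26's `chain34`), the abstract quotient lemma (helper19's `quot_facts`)
and the abstract core `Cfg.final` of `Lib/H4/G85Abs34`.
-/

set_option autoImplicit false
set_option linter.unusedSimpArgs false
set_option linter.unusedSectionVars false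
set_option linter.style.haveILetI false

open scoped Pointwise
open Cfsg.Agent.Lib.H5.Glaub Cfsg.Agent.Lib.H5.Glaub.Setup Cfsg.Agent.Lib.H1.G85

namespace Cfsg.Agent.Lib.H4.G85

variable {G : Type*} [Group G] [Finite G]

/-- (C34) `(q,t) = (3,4)`. -/
theorem case34 (S : Setup G) (hp2 : S.p = 2) (hU : S.Uni 4) (hI : S.Ivl 4) (hD : S.Dist 4 3) (hC : S.Cen 4 3)
    (x : ℤ → G) (hx : Gen S 4 x) (hodd : ¬ 2 ∣ (S.Pj 0).relIndex (H0 S)) :
    Nonempty (↥(H0 S) ⧸ Cfsg.oddCore ↥(H0 S) ≃* Equiv.Perm (Fin 4) × Multiplicative (ZMod 2)) := by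
  obtain ⟨hmem, ⟨hq1, hq2, hq3⟩, hQle, hQcard, hnorm, hgen, hcomm, ⟨c, c', hcase, hac, hbc⟩, -⟩ :=
    Cfsg.Agent.Lib.H26.G85.chain34 S hp2 hU hI hD hC x hx hodd
  have hQGle : S.Pj (-1) ⊓ S.Pj 0 ≤ H0 S := inf_le_right.trans (Pj_zero_le_H0 S)
  have habs : ∀ i j : ℤ, -3 < i - j → i - j < 3 → |i - j| < 3 := fun i j h1 h2 => abs_lt.2 ⟨h1, h2⟩
  -- the five generators as elements of `H_0`
  obtain ⟨a, ha⟩ : ∃ a : ↥(H0 S), (a : G) = x (-4) := ⟨⟨_, hmem (-4) (by norm_num) (by norm_num)⟩, rfl⟩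
  obtain ⟨e1, he1⟩ : ∃ a : ↥(H0 S), (a : G) = x (-3) := ⟨⟨_, hmem (-3) (by norm_num) (by norm_num)⟩, rfl⟩
  obtain ⟨e2, he2⟩ : ∃ a : ↥(H0 S), (a : G) = x (-2) := ⟨⟨_, hmem (-2) (by norm_num) (by norm_num)⟩, rfl⟩
  obtain ⟨e3, he3⟩ : ∃ a : ↥(H0 S), (a : G) = x (-1) := ⟨⟨_, hmem (-1) (by norm_num) (by norm_num)⟩, rfl⟩
  obtain ⟨b, hb⟩ : ∃ a : ↥(H0 S), (a : G) = x 0 := ⟨⟨_, hmem 0 (by norm_num) (by norm_num)⟩, rfl⟩
  have hcc : ∃ c c' : ↥(H0 S), ((c = e1 ∧ c' = e2) ∨ (c = e2 ∧ c' = e3) ∨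
      (c = e1 * e2 ∧ c' = e2 * e3)) ∧ a * e3 * a⁻¹ = e3 * c ∧ b * e1 * b⁻¹ = e1 * c' := by
    rcases hcase with ⟨rfl, rfl⟩ | ⟨rfl, rfl⟩ | ⟨rfl, rfl⟩
    · refine ⟨e1, e2, Or.inl ⟨rfl, rfl⟩, Subtype.ext ?_, Subtype.ext ?_⟩
      · simp only [Subgroup.coe_mul, Subgroup.coe_inv, ha, he1, he2, he3, hb]; exact hac
      · simp only [Subgroup.coe_mul, Subgroup.coe_inv, ha, he1, he2, he3, hb]; exact hbc
    · refine ⟨e2, e3, Or.inr (Or.inl ⟨rfl, rfl⟩), Subtype.ext ?_, Subtype.ext ?_⟩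
      · simp only [Subgroup.coe_mul, Subgroup.coe_inv, ha, he1, he2, he3, hb]; exact hac
      · simp only [Subgroup.coe_mul, Subgroup.coe_inv, ha, he1, he2, he3, hb]; exact hbc
    · refine ⟨e1 * e2, e2 * e3, Or.inr (Or.inr ⟨rfl, rfl⟩), Subtype.ext ?_, Subtype.ext ?_⟩
      · simp only [Subgroup.coe_mul, Subgroup.coe_inv, ha, he1, he2, he3, hb]; exact hac
      · simp only [Subgroup.coe_mul, Subgroup.coe_inv, ha, he1, he2, he3, hb]; exact hbc
  have hsq : ∀ (g : ↥(H0 S)) (k : ℤ), (g : G) = x k → g * g = 1 := by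
    intro g k hg
    apply Subtype.ext
    rw [Subgroup.coe_mul, hg, hx.sq k]; rfl
  have hcm : ∀ (g g' : ↥(H0 S)) (i j : ℤ), (g : G) = x i → (g' : G) = x j → -3 < i - j → i - j < 3 →
      g * g' = g' * g := by
    intro g g' i j hg hg' h1 h2
    apply Subtype.ext
    rw [Subgroup.coe_mul, Subgroup.coe_mul, hg, hg']
    exact hcomm i j (habs i j h1 h2)
  have hgenK : Subgroup.closure ({a, e1, e2, e3, b} : Set ↥(H0 S)) = ⊤ := by
    rw [eq_top_iff]
    intro k _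
    have hN : H0 S ≤ (Subgroup.closure ({a, e1, e2, e3, b} : Set ↥(H0 S))).map (H0 S).subtype := by
      refine hgen _ ⟨a, Subgroup.subset_closure (by simp), ha⟩
        ⟨b, Subgroup.subset_closure (by simp), hb⟩ (hQle _ ?_ ?_ ?_)
      · exact ⟨e3, Subgroup.subset_closure (by simp), he3⟩
      · exact ⟨e2, Subgroup.subset_closure (by simp), he2⟩
      · exact ⟨e1, Subgroup.subset_closure (by simp), he1⟩
    obtain ⟨k', hk', hkk⟩ := hN k.2
    have e : k' = k := Subtype.ext hkk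
    rw [← e]; exact hk'
  have hQeq : (S.Pj (-1) ⊓ S.Pj 0).subgroupOf (H0 S) =
      Subgroup.closure ({e1, e2, e3} : Set ↥(H0 S)) := by
    apply le_antisymm
    · intro q hq
      have hN : S.Pj (-1) ⊓ S.Pj 0 ≤
          (Subgroup.closure ({e1, e2, e3} : Set ↥(H0 S))).map (H0 S).subtype := by
        refine hQle _ ?_ ?_ ?_
        · exact ⟨e3, Subgroup.subset_closure (by simp), he3⟩
        · exact ⟨e2, Subgroup.subset_closure (by simp), he2⟩
        · exact ⟨e1, Subgroup.subset_closure (by simp), he1⟩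
      obtain ⟨q', hq', hqq⟩ := hN (Subgroup.mem_subgroupOf.1 hq)
      have e : q' = q := Subtype.ext hqq
      rw [← e]; exact hq'
    · rw [Subgroup.closure_le]
      rintro g (rfl | rfl | hg)
      · exact Subgroup.mem_subgroupOf.2 (by rw [he1]; exact hq3)
      · exact Subgroup.mem_subgroupOf.2 (by rw [he2]; exact hq2)
      · rw [Set.mem_singleton_iff] at hg; rw [hg]
        exact Subgroup.mem_subgroupOf.2 (by rw [he3]; exact hq1)
  have hx0P : x 0 ∈ S.Pj 0 := by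
    have h1 : x 0 ∈ S.X 4 0 := Cfsg.Agent.Lib.H10.G85.gen_mem_X hx 0
    exact S.J_le_Pj le_rfl (by norm_num) h1
  have hPcard : Nat.card ↥(S.Pj 0) = 16 := by
    have h := hU.card 0 0 (Nat.zero_le _)
    rw [S.J_unfold_zero, hp2] at h
    rw [h]; norm_num
  let D : Cfg ↥(H0 S) :=
    { a := a, e1 := e1, e2 := e2, e3 := e3, b := b
      hgen := hgenK
      ha := hsq a _ ha
      h1 := hsq e1 _ he1
      h2 := hsq e2 _ he2
      h3 := hsq e3 _ he3
      hb := hsq b _ hb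
      h12 := hcm e1 e2 _ _ he1 he2 (by norm_num) (by norm_num)
      h13 := hcm e1 e3 _ _ he1 he3 (by norm_num) (by norm_num)
      h23 := hcm e2 e3 _ _ he2 he3 (by norm_num) (by norm_num)
      ha1 := hcm a e1 _ _ ha he1 (by norm_num) (by norm_num)
      ha2 := hcm a e2 _ _ ha he2 (by norm_num) (by norm_num)
      hb2 := hcm b e2 _ _ hb he2 (by norm_num) (by norm_num)
      hb3 := hcm b e3 _ _ hb he3 (by norm_num) (by norm_num)
      ha3 := by
        intro h
        have h' := congrArg Subtype.val h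
        rw [Subgroup.coe_mul, Subgroup.coe_mul, ha, he3] at h'
        exact Cfsg.Agent.Lib.H10.G85.gen_ncomm hx hD (-4) (-1) (by norm_num) h'
      hb1 := by
        intro h
        have h' := congrArg Subtype.val h
        rw [Subgroup.coe_mul, Subgroup.coe_mul, hb, he1] at h'
        exact Cfsg.Agent.Lib.H10.G85.gen_ncomm hx hD (-3) 0 (by norm_num) h'.symm
      he2 := by
        intro h
        have h' := congrArg Subtype.val h
        rw [he2] at h'
        exact hx.ne_one (-2) h'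
      Q := (S.Pj (-1) ⊓ S.Pj 0).subgroupOf (H0 S)
      P := (S.Pj 0).subgroupOf (H0 S)
      hQ := hQeq
      hQcard := by
        rw [Nat.card_congr (Subgroup.subgroupOfEquivOfLe hQGle).toEquiv]; exact hQcard
      haQ := by
        rw [Subgroup.mem_subgroupOf]
        simp only [Subgroup.coe_mul, Subgroup.coe_inv, ha, he3]
        exact (Subgroup.mem_normalizer_iff.1 (hnorm (hmem (-4) (by norm_num) (by norm_num))) _).1 hq1
      hbQ := by
        rw [Subgroup.mem_subgroupOf]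
        simp only [Subgroup.coe_mul, Subgroup.coe_inv, hb, he1]
        exact (Subgroup.mem_normalizer_iff.1 (hnorm (hmem 0 (by norm_num) (by norm_num))) _).1 hq3
      hQP := fun q hq =>
        Subgroup.mem_subgroupOf.2 (Subgroup.mem_inf.1 (Subgroup.mem_subgroupOf.1 hq)).2
      hbP := by
        rw [Subgroup.mem_subgroupOf, hb]; exact hx0P
      hPcard := by
        rw [Nat.card_congr (Subgroup.subgroupOfEquivOfLe (Pj_zero_le_H0 S)).toEquiv]; exact hPcard
      hPodd := hodd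
      hcc := hcc }
  haveI : D.Q.Normal := D.Q_normal
  obtain ⟨h1, h2, h3⟩ := Cfsg.Agent.Lib.H19.G85.quot_facts D.Q D.P D.hQP D.isPGroup_P D.hPodd
    D.comm_Q D.cent_inf_P_le
  exact D.final h1 h2 h3

end Cfsg.Agent.Lib.H4.G85
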