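import Cfsg.Agent.Lib.H4.HT.Defs

/-!
# S3371 (Passman), piece EQ (helper4): equal orbit sizes give equal stabiliser orders
-/

set_option autoImplicit false

namespace Cfsg.Agent.Lib.H4.HT

variable {q : ℕ} {V : Type*} [AddCommGroup V] [Module (ZMod q) V] {G : Type*} [Group G]

/-- orbit-stabiliser for the action through `ρ` -/
theorem eq_card_stab_mul_card_orbit [Finite G] (ρ : G →* (V ≃ₗ[ZMod q] V)) (v : V) :
    Nat.card (stab ρ v) * Nat.card {u : V | ∃ g : G, ρ g v = u} = Nat.card G := by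
  let _ : MulAction G V := MulAction.compHom V ρ
  have hsmul : ∀ (g : G) (u : V), g • u = ρ g u := fun g u => rfl
  have h1 : MulAction.stabilizer G v = stab ρ v := by
    ext g
    rw [MulAction.mem_stabilizer_iff, mem_stab, hsmul]
  have h2 : MulAction.orbit G v = {u : V | ∃ g : G, ρ g v = u} := by
    ext u
    rw [MulAction.mem_orbit_iff]
    rfl
  have h3 := Subgroup.card_mul_index (MulAction.stabilizer G v)
  rw [MulAction.index_stabilizer, h1, h2, ← Nat.card_coe_set_eq] at h3
  exact h3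

/-- EQ. -/
theorem eqStab_of_half [Finite G] (ρ : G →* (V ≃ₗ[ZMod q] V))
    (hhalf : ∀ v w : V, v ≠ 0 → w ≠ 0 →
      Nat.card {u : V | ∃ g : G, ρ g v = u} = Nat.card {u : V | ∃ g : G, ρ g w = u}) :
    EqStab ρ := by
  intro v w hv hw
  have h1 := eq_card_stab_mul_card_orbit ρ v
  have h2 := eq_card_stab_mul_card_orbit ρ w
  rw [hhalf v w hv hw] at h1
  have hpos : 0 < Nat.card {u : V | ∃ g : G, ρ g w = u} := by
    rcases Nat.eq_zero_or_pos (Nat.card {u : V | ∃ g : G, ρ g w = u}) with h | h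
    · rw [h, mul_zero] at h2
      exact absurd h2.symm Nat.card_pos.ne'
    · exact h
  exact Nat.eq_of_mul_eq_mul_right hpos (h1.trans h2.symm)

end Cfsg.Agent.Lib.H4.HT
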