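import Cfsg.Agent.Lib.H4.HT.Defs

/-!
# S3371 (Passman), piece STAR (helper4): the swapping elements (blueprint §3b (*))
-/

set_option autoImplicit false

namespace Cfsg.Agent.Lib.H4.HT

variable {q : ℕ} {V : Type*} [AddCommGroup V] [Module (ZMod q) V] {G : Type*} [Group G]

theorem star_eq_zero_of_eq_neg [Fact q.Prime] (hq2 : 2 ≠ q) (v : V) (h : v = -v) : v = 0 := by
  have h2 : (2 : ZMod q) • v = 0 := by
    rw [two_smul]
    nth_rewrite 2 [h]
    exact add_neg_cancel v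
  have h2' : (2 : ZMod q) ≠ 0 := by
    intro h0
    have h3 : ((2 : ℕ) : ZMod q) = 0 := by exact_mod_cast h0
    rw [ZMod.natCast_eq_zero_iff] at h3
    have hq : q.Prime := Fact.out
    exact hq2 ((Nat.prime_dvd_prime_iff_eq hq Nat.prime_two).mp h3).symm
  rcases smul_eq_zero.mp h2 with h3 | h3
  · exact absurd h3 h2'
  · exact h3

theorem star_comm (ρ : G →* (V ≃ₗ[ZMod q] V)) (b g : G) (hg : g * b * g⁻¹ = b) (v : V) :
    ρ b (ρ g v) = ρ g (ρ b v) := by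
  have h : g * b = b * g := mul_inv_eq_iff_eq_mul.mp hg
  rw [← rho_mul, ← rho_mul, h]

theorem star_anti (ρ : G →* (V ≃ₗ[ZMod q] V)) (z b g : G) (hzneg : ∀ v : V, ρ z v = -v)
    (hg : g * b * g⁻¹ = b * z) (v : V) : ρ b (ρ g v) = -ρ g (ρ b v) := by
  have h : g * b = b * z * g := mul_inv_eq_iff_eq_mul.mp hg
  have h1 : ρ g (ρ b v) = ρ b (ρ z (ρ g v)) := by
    rw [← rho_mul, ← rho_mul, ← rho_mul, h, mul_assoc]
  rw [h1, hzneg, map_neg, neg_neg]

theorem star_conj_central (z : G) (hz : z ∈ Subgroup.center G) (x c : G) :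
    x * (c * z) * x⁻¹ = x * c * x⁻¹ * z := by
  have h : z * x⁻¹ = x⁻¹ * z := (Subgroup.mem_center_iff.mp hz x⁻¹).symm
  calc x * (c * z) * x⁻¹ = x * c * (z * x⁻¹) := by group
    _ = x * c * (x⁻¹ * z) := by rw [h]
    _ = x * c * x⁻¹ * z := by group

/-- STAR. -/
theorem two_star [Fact q.Prime] [Finite G] (hq2 : 2 ≠ q) (ρ : G →* (V ≃ₗ[ZMod q] V)) (hE : EqStab ρ)
    (z b : G) (hz : z ∈ Subgroup.center G) (hzneg : ∀ v : V, ρ z v = -v) (hb2 : b * b = 1)
    (hconj : ∀ g : G, g * b * g⁻¹ = b ∨ g * b * g⁻¹ = b * z) (w₁ w₂ : V) (h₁ : w₁ ≠ 0) (h₂ : w₂ ≠ 0)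
    (hw₁ : ρ b w₁ = w₁) (hw₂ : ρ b w₂ = -w₂) :
    (∃ x : G, x * b * x⁻¹ = b * z ∧ ρ x w₁ = w₂ ∧ ρ x w₂ = w₁) ∧
      2 * Nat.card ↥(stab ρ w₁ ⊓ stab ρ w₂) = Nat.card (stab ρ w₁) := by
  have hzero := star_eq_zero_of_eq_neg (V := V) hq2
  -- `z ≠ 1`
  have hz1 : z ≠ 1 := by
    intro h
    have := hzneg w₁
    rw [h, rho_one] at this
    exact h₁ (hzero w₁ this)
  have hbz : b * z ≠ b := by
    intro h
    exact hz1 (mul_eq_left.mp h)
  -- the two eigenspaces meet trivially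
  have hmeet : ∀ u : V, ρ b u = u → ρ b u = -u → u = 0 := by
    intro u h1 h2
    exact hzero u (h1.symm.trans h2)
  -- `v = w₁ + w₂ ≠ 0`
  have hv : w₁ + w₂ ≠ 0 := by
    intro h
    have h3 : w₁ = -w₂ := eq_neg_of_add_eq_zero_left h
    have h4 : ρ b w₁ = ρ b (-w₂) := by rw [← h3]
    rw [hw₁, map_neg, hw₂, neg_neg] at h4
    exact h₂ (hzero w₂ (h4.symm.trans h3))
  -- elements of `G_{w₁}` centralise `b`
  have hcen₁ : ∀ g : G, ρ g w₁ = w₁ → g * b * g⁻¹ = b := by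
    intro g hg
    rcases hconj g with h | h
    · exact h
    · exfalso
      have := star_anti ρ z b g hzneg h w₁
      rw [hw₁, hg, hw₁] at this
      exact h₁ (hzero w₁ this)
  -- a centralising element fixing `v` fixes `w₁` and `w₂`
  have hsplit : ∀ g : G, g * b * g⁻¹ = b → ρ g (w₁ + w₂) = w₁ + w₂ → ρ g w₁ = w₁ ∧ ρ g w₂ = w₂ := by
    intro g hg hgv
    have e1 : ρ b (ρ g w₁) = ρ g w₁ := by rw [star_comm ρ b g hg, hw₁]
    have e2 : ρ b (ρ g w₂) = -ρ g w₂ := by rw [star_comm ρ b g hg, hw₂, map_neg]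
    rw [map_add] at hgv
    have h3 : ρ g w₁ - w₁ = w₂ - ρ g w₂ := by
      rw [sub_eq_sub_iff_add_eq_add, hgv, add_comm]
    have h4 : ρ g w₁ - w₁ = 0 := by
      apply hmeet
      · rw [map_sub, e1, hw₁]
      · rw [h3, map_sub, hw₂, e2]
        abel
    have h5 : w₂ - ρ g w₂ = 0 := by rw [← h3, h4]
    exact ⟨sub_eq_zero.mp h4, (sub_eq_zero.mp h5).symm⟩
  -- an anti-centralising element fixing `v` swaps `w₁` and `w₂`
  have hswap : ∀ g : G, g * b * g⁻¹ = b * z → ρ g (w₁ + w₂) = w₁ + w₂ →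
      ρ g w₁ = w₂ ∧ ρ g w₂ = w₁ := by
    intro g hg hgv
    have e1 : ρ b (ρ g w₁) = -ρ g w₁ := by rw [star_anti ρ z b g hzneg hg, hw₁]
    have e2 : ρ b (ρ g w₂) = ρ g w₂ := by rw [star_anti ρ z b g hzneg hg, hw₂, map_neg, neg_neg]
    rw [map_add] at hgv
    have h3 : ρ g w₂ - w₁ = w₂ - ρ g w₁ := by
      rw [sub_eq_sub_iff_add_eq_add, add_comm (ρ g w₂), hgv, add_comm]
    have h4 : ρ g w₂ - w₁ = 0 := by
      apply hmeet
      · rw [map_sub, e2, hw₁]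
      · rw [h3, map_sub, hw₂, e1]
        abel
    have h5 : w₂ - ρ g w₁ = 0 := by rw [← h3, h4]
    exact ⟨(sub_eq_zero.mp h5).symm, sub_eq_zero.mp h4⟩
  -- the subgroups
  have hS₀le : stab ρ w₁ ⊓ stab ρ w₂ ≤ stab ρ (w₁ + w₂) := by
    intro g hg
    rw [Subgroup.mem_inf, mem_stab, mem_stab] at hg
    rw [mem_stab, map_add, hg.1, hg.2]
  have hfin : ∀ H : Subgroup G, Finite H := fun H => inferInstance
  -- some element of `G_v` does not centralise `b`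
  have hex : ∃ x : G, ρ x (w₁ + w₂) = w₁ + w₂ ∧ x * b * x⁻¹ = b * z := by
    by_contra hcon
    push Not at hcon
    have hall : stab ρ (w₁ + w₂) ≤ stab ρ w₁ ⊓ stab ρ w₂ := by
      intro g hg
      rw [mem_stab] at hg
      have hgc : g * b * g⁻¹ = b := by
        rcases hconj g with h | h
        · exact h
        · exact absurd h (hcon g hg)
      rw [Subgroup.mem_inf, mem_stab, mem_stab]
      exact hsplit g hgc hg
    have heq : stab ρ w₁ ⊓ stab ρ w₂ = stab ρ (w₁ + w₂) := le_antisymm hS₀le hall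
    have hcard : Nat.card ↥(stab ρ w₁ ⊓ stab ρ w₂) = Nat.card (stab ρ w₁) := by
      rw [heq]
      exact hE _ _ hv h₁
    have heq2 : stab ρ w₁ ⊓ stab ρ w₂ = stab ρ w₁ :=
      Subgroup.eq_of_le_of_card_ge inf_le_left (le_of_eq hcard.symm)
    have hb : b ∈ stab ρ w₁ ⊓ stab ρ w₂ := by
      rw [heq2]
      exact hw₁
    have hb' : ρ b w₂ = w₂ := (Subgroup.mem_inf.mp hb).2
    exact h₂ (hmeet w₂ hb' hw₂)
  obtain ⟨x, hxv, hxb⟩ := hex
  refine ⟨⟨x, hxb, hswap x hxb hxv⟩, ?_⟩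
  -- `z * z = 1`
  have hzz : z * z = 1 := by
    have hcz : ∀ g : G, g * z = z * g := fun g => (Subgroup.mem_center_iff.mp hz g)
    have h1 : (x * x) * b * (x * x)⁻¹ = b * z * z := by
      have : (x * x) * b * (x * x)⁻¹ = x * (x * b * x⁻¹) * x⁻¹ := by group
      rw [this, hxb, star_conj_central z hz, hxb]
    rcases hconj (x * x) with h | h
    · rw [h1, mul_assoc] at h
      exact mul_eq_left.mp h
    · rw [h1, mul_assoc] at h
      have h2 : z * z = z := mul_left_cancel h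
      exact absurd (mul_eq_left.mp h2) hz1
  -- index 2
  have hidx : ((stab ρ w₁ ⊓ stab ρ w₂).subgroupOf (stab ρ (w₁ + w₂))).index = 2 := by
    rw [Subgroup.index_eq_two_iff]
    refine ⟨⟨x, hxv⟩, fun g => ?_⟩
    obtain ⟨g, hg⟩ := g
    have hgv : ρ g (w₁ + w₂) = w₁ + w₂ := hg
    have hcz : ∀ g : G, g * z = z * g := fun g => (Subgroup.mem_center_iff.mp hz g)
    have hgx : ∀ y : G, (g * x) * b * (g * x)⁻¹ = (g * b * g⁻¹) * z := by
      intro y
      have : (g * x) * b * (g * x)⁻¹ = g * (x * b * x⁻¹) * g⁻¹ := by group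
      rw [this, hxb, star_conj_central z hz]
    simp only [Subgroup.mem_subgroupOf, Subgroup.coe_mul]
    rcases hconj g with h | h
    · -- `g` centralises: `g ∈ S₀`, `g x ∉ S₀`
      have hg0 : g ∈ stab ρ w₁ ⊓ stab ρ w₂ := by
        rw [Subgroup.mem_inf, mem_stab, mem_stab]
        exact hsplit g h hgv
      refine Or.inr ⟨hg0, ?_⟩
      intro hgx0
      have h3 := hcen₁ (g * x) (Subgroup.mem_inf.mp hgx0).1
      rw [hgx 1, h] at h3
      exact hbz h3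
    · -- `g` anti-centralises: `g ∉ S₀`, `g x ∈ S₀`
      have hg0 : g ∉ stab ρ w₁ ⊓ stab ρ w₂ := by
        intro hg0
        have h3 := hcen₁ g (Subgroup.mem_inf.mp hg0).1
        rw [h] at h3
        exact hbz h3
      refine Or.inl ⟨?_, hg0⟩
      have hc : (g * x) * b * (g * x)⁻¹ = b := by
        rw [hgx 1, h, mul_assoc, hzz, mul_one]
      have hgxv : ρ (g * x) (w₁ + w₂) = w₁ + w₂ := by rw [rho_mul, hxv, hgv]
      rw [Subgroup.mem_inf, mem_stab, mem_stab]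
      exact hsplit (g * x) hc hgxv
  have hcm := Subgroup.card_mul_index ((stab ρ w₁ ⊓ stab ρ w₂).subgroupOf (stab ρ (w₁ + w₂)))
  rw [hidx] at hcm
  have hc0 : Nat.card ↥((stab ρ w₁ ⊓ stab ρ w₂).subgroupOf (stab ρ (w₁ + w₂))) =
      Nat.card ↥(stab ρ w₁ ⊓ stab ρ w₂) :=
    Nat.card_congr (Subgroup.subgroupOfEquivOfLe hS₀le).toEquiv
  rw [hc0, hE _ _ hv h₁] at hcm
  omega

end Cfsg.Agent.Lib.H4.HT
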