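import Mathlib
import Cfsg.Prelude.Def_LieTypeChar
import Cfsg.Prelude.Def_EvenType
import Cfsg.Agent.Lib.H13.IRDefs
import Cfsg.Agent.Lib.H13.Sp4Graph

/-!
S2926 piece PSP (helper4): `InvRigid (PSp m F)` in characteristic two.
Route A: an automorphism fixing the transvection subgroup `Tb e` elementwise preserves the class of
transvections, hence is induced by a semilinear similitude `x ↦ g τ(x)`; fixing `Tb e` elementwise
forces `τ = 1`; over a finite field of characteristic two every multiplier is a square, so `g` is a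
scalar multiple of a symplectic matrix and the automorphism is inner.
-/

set_option autoImplicit false
set_option linter.unusedSectionVars false
set_option linter.unusedVariables false

namespace Cfsg.Agent.Lib.H4.IR

open Cfsg Cfsg.Agent.Lib.H13.IR Cfsg.Agent.Lib.H13.AutPSp Cfsg.Agent.Lib.H13.Sp4Graph
open Matrix Cfsg.Agent.Lib.H4 Cfsg.Agent.Lib.H2.Sp

section

variable {F : Type*} [Field F] {m : ℕ}

set_option quotPrecheck false in
local notation "B" => Cfsg.sympForm m F

/-- a semilinear-induced automorphism fixing a transvection subgroup elementwise has trivial field part -/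
theorem irpsp_field_trivial [CharP F 2] (hm : 1 ≤ m) {g : GL (K m) F} (hg : g ∈ Cfsg.GSp m F)
    (τ : F ≃+* F) {e : K m → F} (he : e ≠ 0)
    (hfix : ∀ a : F, cSp hg τ (pr (tv m e a)) = pr (tv m e a)) : ∀ a : F, τ a = a := by
  obtain ⟨c, hc0, hc⟩ := semiSp_tv hg τ e 0
  set e' : K m → F := smv (g : Matrix (K m) (K m) F) τ e with he'
  have he'0 : e' ≠ 0 := smv_ne_zero g τ he
  have htv : ∀ a : F, tv m e' (τ a / c) = tv m e a := by
    intro a
    apply pr_injective hm
    rw [← hc a, ← cSp_pr]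
    exact hfix a
  obtain ⟨f, hf⟩ := exists_B_eq_one he
  have key : ∀ a : F, (τ a / c * B f e') • e' = a • e := by
    intro a
    have h := congrArg (fun s => sv s f) (htv a)
    simp only [sv_tv] at h
    have h' := add_left_cancel h
    rw [h', hf, mul_one]
  have h1 := key 1
  rw [map_one, one_smul] at h1
  set μ : F := 1 / c * B f e' with hμ
  have hμ0 : μ ≠ 0 := by
    intro h0
    rw [h0, zero_smul] at h1
    exact he h1.symm
  intro a
  have h2 := key a
  rw [← h1, smul_smul] at h2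
  have h3 : τ a / c * B f e' = a * μ := by
    by_contra hne
    have : (τ a / c * B f e' - a * μ) • e' = 0 := by rw [sub_smul, h2, sub_self]
    rcases smul_eq_zero.1 this with h | h
    · exact hne (sub_eq_zero.1 h)
    · exact he'0 h
  have h4 : τ a * μ = a * μ := by
    rw [← h3, hμ]; ring
  exact mul_right_cancel₀ hμ0 h4

end

section

variable {F : Type*} [Field F] [Fintype F] [CharP F 2] {m : ℕ}

set_option quotPrecheck false in
local notation "B" => Cfsg.sympForm m F

/-- over a finite field of characteristic two, conjugation by a conformal symplectic matrix is inner -/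
theorem irpsp_inner_of_linear {g : GL (K m) F} (hg : g ∈ Cfsg.GSp m F) (τ : F ≃+* F)
    (hτ : ∀ a : F, τ a = a) :
    ∃ s0 : SpG m F, ∀ x : Cfsg.PSp m F, cSp hg τ x = pr s0 * x * (pr s0)⁻¹ := by
  have hg' := hg
  obtain ⟨c, hc⟩ := hg'
  obtain ⟨ν, hν⟩ := FiniteField.isSquare_of_char_two (CharP.ringChar_of_prime_eq_zero Nat.prime_two (CharP.cast_eq_zero F 2)) (c : F)
  have hν0 : ν ≠ 0 := by
    intro h0
    rw [h0, mul_zero] at hν
    exact c.ne_zero hν
  have hmem : ν⁻¹ • (g : Matrix (K m) (K m) F) ∈ Matrix.symplecticGroup (Fin m) F := by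
    rw [mem_symplecticGroup_iff_sympForm]
    intro u v
    rw [Matrix.smul_mulVec, Matrix.smul_mulVec, sympForm_smul_left, sympForm_smul_right, hc, hν]
    field_simp
  refine ⟨⟨_, hmem⟩, ?_⟩
  intro x
  obtain ⟨s, rfl⟩ := pr_surjective x
  rw [cSp_pr, ← map_inv, ← map_mul, ← map_mul]
  congr 1
  rw [eq_mul_inv_iff_mul_eq]
  apply mat_injective
  rw [mat_mul, mat_mul, mat_semiSp]
  have hmap : (mat s).map τ = mat s := by
    ext i j
    rw [Matrix.map_apply, hτ]
  rw [hmap]
  change (g : Matrix (K m) (K m) F) * mat s * ((g⁻¹ : GL (K m) F) : Matrix (K m) (K m) F) *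
      (ν⁻¹ • (g : Matrix (K m) (K m) F)) = (ν⁻¹ • (g : Matrix (K m) (K m) F)) * mat s
  rw [Matrix.mul_smul, Matrix.smul_mul, Matrix.mul_assoc, Matrix.mul_assoc, ← Units.val_mul,
    inv_mul_cancel, Units.val_one, Matrix.mul_one]

end

section

variable {F : Type*} [Field F] [Fintype F] [CharP F 2] {m : ℕ}

/-- the transvection subgroup is a `2`-group -/
theorem irpsp_isPGroup_Tb (e : K m → F) : IsPGroup 2 (Tb e : Subgroup (Cfsg.PSp m F)) := by
  have : Fact (Nat.Prime 2) := ⟨Nat.prime_two⟩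
  exact ((isPGroup_Qg 2 e).to_le (Tvec_le_Qg e)).map pr

/-- an automorphism of `PSp` that is semilinear-induced and fixes `Tb e` elementwise is inner -/
theorem irpsp_inner_of_semi (hm : 1 ≤ m) (σ : MulAut (Cfsg.PSp m F)) {e : K m → F} (he : e ≠ 0)
    (hfix : ∀ x ∈ (Tb e : Subgroup (Cfsg.PSp m F)), σ x = x)
    (hsemi : ∃ (g : GL (K m) F) (hg : g ∈ Cfsg.GSp m F) (τ : F ≃+* F), σ = cSp hg τ) :
    σ ∈ Cfsg.Inn (Cfsg.PSp m F) := by
  obtain ⟨g, hg, τ, rfl⟩ := hsemi
  have hτ : ∀ a : F, τ a = a :=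
    irpsp_field_trivial hm hg τ he (fun a => hfix _ (mem_Tb.2 ⟨a, rfl⟩))
  obtain ⟨s0, hs0⟩ := irpsp_inner_of_linear hg τ hτ
  exact mem_inn_of_forall _ (pr s0) hs0

end

/-- PSP -/
theorem invRigid_PSp (F : Type*) [Field F] [Fintype F] [CharP F 2] (m : ℕ) (hm : 2 ≤ m)
    (h2 : m = 2 → 3 ≤ Fintype.card F) : InvRigid (PSp m F) := by
  have : Fact (Nat.Prime 2) := ⟨Nat.prime_two⟩
  apply FixRigid.invRigid
  by_cases hm2 : m = 2
  · subst hm2
    apply fixRigid_of_pgroup (Tb (e1 : K 2 → F)) (irpsp_isPGroup_Tb _)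
    intro σ hfix
    apply irpsp_inner_of_semi (by norm_num) σ e1_ne_zero hfix
    have hx0 : σ x0 = x0 := hfix _ (mem_Tb.2 ⟨1, rfl⟩)
    have h : σ x0 ∈ TB 2 F := by rw [hx0]; exact x0_mem
    exact isSemi_of_pres1 (by norm_num) σ (pres_of_x0 σ h)
  · have hm3 : 3 ≤ m := by omega
    set e : K m → F := Pi.single (Sum.inl ⟨0, by omega⟩) 1 with he
    have he0 : e ≠ 0 := by
      intro h
      have := congrFun h (Sum.inl ⟨0, by omega⟩)
      simp [he] at this
    apply fixRigid_of_pgroup (Tb e) (irpsp_isPGroup_Tb _)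
    intro σ hfix
    apply irpsp_inner_of_semi (by omega) σ he0 hfix
    exact isSemi (p := 2) hm (fun h => absurd h hm2) σ

end Cfsg.Agent.Lib.H4.IR
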