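import Mathlib
import Cfsg.Agent.Lib.H5.Ord.GenTests3
import Cfsg.Agent.S0732

/-! # S4274, piece SIEVE: no non-abelian simple group of order `19 d` for the 57 easy divisors
`d` of `9240` (helper28's farm-out). -/

set_option autoImplicit false
set_option linter.style.haveILetI false

namespace Cfsg.Agent.Lib.H4.J1Ord

open Subgroup Cfsg.Agent.Lib.H5 Cfsg.Agent.Lib.H5.GenTests

/-- The automorphism group of a finite group `S` acts faithfully on `S \ {1}`. -/
theorem card_mulAut_dvd_factorial (S : Type*) [Group S] [Finite S] :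
    Nat.card (MulAut S) ∣ (Nat.card S - 1).factorial := by
  classical
  haveI : Fintype S := Fintype.ofFinite S
  let f : MulAut S →* Equiv.Perm {x : S // x ≠ 1} :=
    { toFun := fun φ => Equiv.subtypeEquiv φ.toEquiv (by
        intro a
        simp only [ne_eq, MulEquiv.toEquiv_eq_coe, MulEquiv.coe_toEquiv, EmbeddingLike.map_eq_one_iff])
      map_one' := by ext x; rfl
      map_mul' := by intro a b; ext x; rfl }
  have hinj : Function.Injective f := by
    intro φ ψ h
    ext x
    by_cases hx : x = 1
    · subst hx; simp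
    · have := congrArg (fun e : Equiv.Perm {x : S // x ≠ 1} => ((e ⟨x, hx⟩ : {x : S // x ≠ 1}) : S)) h
      exact this
  have h1 := card_dvd_of_injective f hinj
  rw [Nat.card_perm] at h1
  have hT : Nat.card {x : S // x ≠ 1} = Nat.card S - 1 := by
    rw [Nat.card_eq_fintype_card, Nat.card_eq_fintype_card]
    have := Fintype.card_subtype_compl (fun x : S => x = 1)
    rw [Fintype.card_subtype_eq] at this
    exact this
  rwa [hT] at h1

variable {G : Type*} [Group G] [Finite G] [IsSimpleGroup G]

/-- Order `5852 = 4 * 7 * 11 * 19`: the Sylow 2-subgroup is abelian of order 4 and `3 ∤ n`, so it is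
central in its normalizer: Burnside. -/
theorem ne_5852 (hnc : ¬ IsMulCommutative G) : Nat.card G ≠ 5852 := by
  intro hn
  haveI : Fact (Nat.Prime 2) := ⟨by norm_num⟩
  have hnk : 5852 = 2 ^ 2 * 1463 := by norm_num
  have hpm : ¬ 2 ∣ 1463 := by decide
  obtain ⟨-, -, -, -, hNn, hS, -⟩ :=
    sylow_data hnc hn hnk hpm (by decide) (by decide) (default : Sylow 2 G)
  have hnp := Cfsg.Agent.S0493.not_isPGroup_of_card hn hnk hpm (by decide)
  have hpd : 2 ∣ Nat.card G := by rw [hn]; decide
  set S : Sylow 2 G := default with hSdef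
  set N := normalizer ((S : Subgroup G) : Set G) with hN
  set C := centralizer ((S : Subgroup G) : Set G) with hC
  have hCN : C ≤ N := centralizer_le_normalizer _
  have hcomm := IsPGroup.commutative_of_card_eq_prime_sq (p := 2) (G := (S : Subgroup G)) hS
  have hSC : (S : Subgroup G) ≤ C := by
    intro x hx
    rw [hC, mem_centralizer_iff]
    intro h hh
    exact congrArg Subtype.val (hcomm ⟨h, hh⟩ ⟨x, hx⟩)
  have hcr : Nat.card C * C.relIndex N = Nat.card N := SylPrime.card_mul_relIndex_of_le hCN
  have h4 : 2 ^ 2 ∣ Nat.card C := by rw [← hS]; exact card_dvd_of_le hSC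
  have hr6 : C.relIndex N ∣ 6 := by
    have h1 := relIndex_centralizer_normalizer_dvd (S : Subgroup G)
    have h2 := card_mulAut_dvd_factorial (S : Subgroup G)
    rw [hS] at h2
    exact h1.trans h2
  have hr : C.relIndex N ∣ 1463 := by
    obtain ⟨c, hc⟩ := h4
    rw [hc] at hcr
    rw [← hcr] at hNn
    have : 2 ^ 2 * (c * C.relIndex N * Nat.card (Sylow 2 G)) = 2 ^ 2 * 1463 := by
      rw [← hnk, ← hNn]; ring
    have h5 := Nat.eq_of_mul_eq_mul_left (by norm_num) this
    exact ⟨c * Nat.card (Sylow 2 G), by rw [← h5]; ring⟩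
  have hr1 : C.relIndex N = 1 := by
    have := Nat.dvd_gcd hr6 hr
    have hg : Nat.gcd 6 1463 = 1 := by decide
    rw [hg] at this
    exact Nat.dvd_one.mp this
  exact not_normalizer_le_centralizer_of_simple hpd hnp S (relIndex_eq_one.mp hr1)

/-- If there are exactly 20 Sylow 19-subgroups, the (faithful, transitive) action on them makes `G`
a transitive group of degree `19 + 1` and order `20 * 19 * d`; for `d < 19` the landed S0732 leaves
only `d = 18`, `d = 9`. -/
theorem ne_of_card_sylow19 (d : ℕ) (hd : d < 19) (hd1 : d ≠ 18) (hd2 : 2 * d ≠ 18)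
    (h20 : Nat.card (Sylow 19 G) = 20) : Nat.card G ≠ 20 * 19 * d := by
  classical
  intro hG
  haveI : Fact (Nat.Prime 19) := ⟨by norm_num⟩
  haveI : Fintype (Sylow 19 G) := Fintype.ofFinite _
  have hα : Fintype.card (Sylow 19 G) = 19 + 1 := by
    rw [← Nat.card_eq_fintype_card, h20]
  let φ : G →* Equiv.Perm (Sylow 19 G) := MulAction.toPermHom G (Sylow 19 G)
  have hφ : ∀ (g : G) (P : Sylow 19 G), φ g P = g • P := fun g P => rfl
  have hker : φ.ker = ⊥ := by
    rcases (φ.normal_ker).eq_bot_or_eq_top with h | h
    · exact h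
    · exfalso
      have htriv : ∀ (g : G) (P : Sylow 19 G), g • P = P := by
        intro g P
        have hg : g ∈ φ.ker := by rw [h]; exact mem_top g
        have h1 := MonoidHom.mem_ker.mp hg
        rw [← hφ, h1]; rfl
      have hsub : Subsingleton (Sylow 19 G) := ⟨fun P Q => by
        obtain ⟨g, hg⟩ := MulAction.exists_smul_eq G P Q
        rw [← hg, htriv]⟩
      have := Fintype.card_le_one_iff_subsingleton.mpr hsub
      omega
  have hinj : Function.Injective φ := (MonoidHom.ker_eq_bot_iff _).mp hker
  haveI : MulAction.IsPretransitive φ.range (Sylow 19 G) := ⟨fun P Q => by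
    obtain ⟨g, hg⟩ := MulAction.exists_smul_eq G P Q
    exact ⟨⟨φ g, ⟨g, rfl⟩⟩, hg⟩⟩
  have hK : Nat.card φ.range = (19 + 1) * 19 * d := by
    have h1 : Nat.card φ.range = Nat.card G :=
      (Nat.card_congr (MonoidHom.ofInjective hinj).toEquiv).symm
    rw [h1, hG]
  rcases Cfsg.Agent.S0732.result (by norm_num : Nat.Prime 19) hα φ.range hK hd with
    ⟨h, -⟩ | ⟨h, -⟩ | ⟨q, -, h2, -⟩
  · omega
  · omega
  · have hq5 : q < 5 := by
      by_contra hq5
      have : 2 ^ 5 ≤ 2 ^ q := Nat.pow_le_pow_right (by norm_num) (by omega)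
      omega
    interval_cases q <;> omega

/-- Numerology: a divisor `x ≠ 1` of `m ≤ 280` with `x ≡ 1 mod 19` is `20` as soon as no other
`19 k + 1` (`k ≤ 14`) divides `m`. -/
theorem eq_twenty {x m : ℕ} (hm : m ≤ 280) (hm0 : m ≠ 0) (h1 : x ∣ m) (h2 : x % 19 = 1)
    (h3 : x ≠ 1)
    (hchk : ∀ k < 15, k = 0 ∨ k = 1 ∨ ¬ (19 * k + 1) ∣ m) : x = 20 := by
  have hx : x ≤ m := Nat.le_of_dvd (Nat.pos_of_ne_zero hm0) h1
  have hk : x = 19 * (x / 19) + 1 := by omega
  rcases hchk (x / 19) (by omega) with h | h | h
  · omega
  · omega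
  · exact absurd (hk ▸ h1) h

theorem card_sylow19_eq_twenty (hnc : ¬ IsMulCommutative G) {n m : ℕ} (hn : Nat.card G = n)
    (hnk : n = 19 ^ 1 * m) (hpm : ¬ 19 ∣ m) (hm : m ≠ 1) (hm280 : m ≤ 280)
    (hchk : ∀ k < 15, k = 0 ∨ k = 1 ∨ ¬ (19 * k + 1) ∣ m) :
    Nat.card (Sylow 19 G) = 20 := by
  haveI : Fact (Nat.Prime 19) := ⟨by norm_num⟩
  obtain ⟨h1, h2, h3, -⟩ := sylow_data hnc hn hnk hpm one_ne_zero hm (default : Sylow 19 G)
  have hm0 : m ≠ 0 := fun h => hpm (h ▸ dvd_zero 19)
  exact eq_twenty hm280 hm0 h1 h2 h3 hchk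

theorem ne_760 (hnc : ¬ IsMulCommutative G) : Nat.card G ≠ 760 := by
  intro hn
  have h20 := card_sylow19_eq_twenty hnc hn (m := 40) (by norm_num) (by decide) (by decide)
    (by decide) (by decide)
  exact ne_of_card_sylow19 2 (by decide) (by decide) (by decide) h20 (hn.trans (by norm_num))

theorem ne_2280 (hnc : ¬ IsMulCommutative G) : Nat.card G ≠ 2280 := by
  intro hn
  have h20 := card_sylow19_eq_twenty hnc hn (m := 120) (by norm_num) (by decide) (by decide)
    (by decide) (by decide)
  exact ne_of_card_sylow19 6 (by decide) (by decide) (by decide) h20 (hn.trans (by norm_num))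

theorem ne_5320 (hnc : ¬ IsMulCommutative G) : Nat.card G ≠ 5320 := by
  intro hn
  have h20 := card_sylow19_eq_twenty hnc hn (m := 280) (by norm_num) (by decide) (by decide)
    (by decide) (by decide)
  exact ne_of_card_sylow19 14 (by decide) (by decide) (by decide) h20 (hn.trans (by norm_num))

theorem divisors_9240 : Nat.divisors 9240 = {1, 2, 3, 4, 5, 6, 7, 8, 10, 11, 12, 14, 15, 20, 21, 22, 24, 28, 30, 33, 35, 40, 42, 44, 55, 56, 60, 66, 70, 77, 84, 88, 105, 110, 120, 132, 140, 154, 165, 168, 210, 220, 231, 264, 280, 308, 330, 385, 420, 440, 462, 616, 660, 770, 840, 924, 1155, 1320, 1540, 1848, 2310, 3080, 4620, 9240} := by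
  decide +kernel

set_option maxHeartbeats 1600000 in
/-- SIEVE: the other 57 orders `19 * d`, `d ∣ 9240`, `d < 9240`. -/
theorem sieve (hnc : ¬ IsMulCommutative G) {d : ℕ} (hd : d ∣ 9240) (hlt : d ≠ 9240)
    (h6 : d ≠ 420 ∧ d ≠ 840 ∧ d ≠ 924 ∧ d ≠ 1848 ∧ d ≠ 3080 ∧ d ≠ 4620) :
    Nat.card G ≠ 19 * d := by
  haveI : Fact (Nat.Prime 2) := ⟨by norm_num⟩
  haveI : Fact (Nat.Prime 3) := ⟨by norm_num⟩
  haveI : Fact (Nat.Prime 5) := ⟨by norm_num⟩
  haveI : Fact (Nat.Prime 7) := ⟨by norm_num⟩
  haveI : Fact (Nat.Prime 11) := ⟨by norm_num⟩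
  haveI : Fact (Nat.Prime 19) := ⟨by norm_num⟩
  obtain ⟨h420, h840, h924, h1848, h3080, h4620⟩ := h6
  have hmem : d ∈ Nat.divisors 9240 := Nat.mem_divisors.mpr ⟨hd, by norm_num⟩
  rw [divisors_9240] at hmem
  simp only [Finset.mem_insert, Finset.mem_singleton] at hmem
  rcases hmem with rfl | rfl | rfl | rfl | rfl | rfl | rfl | rfl | rfl | rfl | rfl | rfl | rfl | rfl | rfl | rfl | rfl | rfl | rfl | rfl | rfl | rfl | rfl | rfl | rfl | rfl | rfl | rfl | rfl | rfl | rfl | rfl | rfl | rfl | rfl | rfl | rfl | rfl | rfl | rfl | rfl | rfl | rfl | rfl | rfl | rfl | rfl | rfl | rfl | rfl | rfl | rfl | rfl | rfl | rfl | rfl | rfl | rfl | rfl | rfl | rfl | rfl | rfl | rfl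
  · exact fun h => ne_ppow hnc 19 1 (by norm_num) (h.trans (by norm_num))
  · exact fun h => ne_paqb hnc 2 19 1 1 (by norm_num) (by norm_num) (h.trans (by norm_num))
  · exact fun h => ne_paqb hnc 3 19 1 1 (by norm_num) (by norm_num) (h.trans (by norm_num))
  · exact fun h => ne_paqb hnc 2 19 2 1 (by norm_num) (by norm_num) (h.trans (by norm_num))
  · exact fun h => ne_paqb hnc 5 19 1 1 (by norm_num) (by norm_num) (h.trans (by norm_num))
  · exact fun h => ne_of_sylCheck hnc 114 19 1 6 (by norm_num) (by decide) (by decide) (by decide) (by decide +kernel) (h.trans (by norm_num))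
  · exact fun h => ne_paqb hnc 7 19 1 1 (by norm_num) (by norm_num) (h.trans (by norm_num))
  · exact fun h => ne_paqb hnc 2 19 3 1 (by norm_num) (by norm_num) (h.trans (by norm_num))
  · exact fun h => ne_of_sylCheck hnc 190 5 1 38 (by norm_num) (by decide) (by decide) (by decide) (by decide +kernel) (h.trans (by norm_num))
  · exact fun h => ne_paqb hnc 11 19 1 1 (by norm_num) (by norm_num) (h.trans (by norm_num))
  · exact fun h => ne_of_sylCheck hnc 228 19 1 12 (by norm_num) (by decide) (by decide) (by decide) (by decide +kernel) (h.trans (by norm_num))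
  · exact fun h => ne_of_sylCheck hnc 266 7 1 38 (by norm_num) (by decide) (by decide) (by decide) (by decide +kernel) (h.trans (by norm_num))
  · exact fun h => ne_of_sylCheck hnc 285 5 1 57 (by norm_num) (by decide) (by decide) (by decide) (by decide +kernel) (h.trans (by norm_num))
  · exact fun h => ne_of_ncfpCheck hnc 380 5 76 (by norm_num) (by decide) (by decide) (by decide +kernel) (h.trans (by norm_num))
  · exact fun h => ne_of_sylCheck hnc 399 19 1 21 (by norm_num) (by decide) (by decide) (by decide) (by decide +kernel) (h.trans (by norm_num))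
  · exact fun h => ne_of_sylCheck hnc 418 11 1 38 (by norm_num) (by decide) (by decide) (by decide) (by decide +kernel) (h.trans (by norm_num))
  · exact fun h => ne_of_sylCheck hnc 456 19 1 24 (by norm_num) (by decide) (by decide) (by decide) (by decide +kernel) (h.trans (by norm_num))
  · exact fun h => ne_of_sylCheck hnc 532 7 1 76 (by norm_num) (by decide) (by decide) (by decide) (by decide +kernel) (h.trans (by norm_num))
  · exact fun h => ne_of_sylCheck hnc 570 5 1 114 (by norm_num) (by decide) (by decide) (by decide) (by decide +kernel) (h.trans (by norm_num))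
  · exact fun h => ne_of_sylCheck hnc 627 11 1 57 (by norm_num) (by decide) (by decide) (by decide) (by decide +kernel) (h.trans (by norm_num))
  · exact fun h => ne_of_sylCheck hnc 665 5 1 133 (by norm_num) (by decide) (by decide) (by decide) (by decide +kernel) (h.trans (by norm_num))
  · exact ne_760 hnc
  · exact fun h => ne_of_sylCheck hnc 798 19 1 42 (by norm_num) (by decide) (by decide) (by decide) (by decide +kernel) (h.trans (by norm_num))
  · exact fun h => ne_of_sylCheck hnc 836 11 1 76 (by norm_num) (by decide) (by decide) (by decide) (by decide +kernel) (h.trans (by norm_num))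
  · exact fun h => ne_of_sylCheck hnc 1045 5 1 209 (by norm_num) (by decide) (by decide) (by decide) (by decide +kernel) (h.trans (by norm_num))
  · exact fun h => ne_of_sylCheck hnc 1064 7 1 152 (by norm_num) (by decide) (by decide) (by decide) (by decide +kernel) (h.trans (by norm_num))
  · exact fun h => ne_of_ncfpCheck hnc 1140 5 228 (by norm_num) (by decide) (by decide) (by decide +kernel) (h.trans (by norm_num))
  · exact fun h => ne_of_sylCheck hnc 1254 11 1 114 (by norm_num) (by decide) (by decide) (by decide) (by decide +kernel) (h.trans (by norm_num))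
  · exact fun h => ne_of_sylCheck hnc 1330 19 1 70 (by norm_num) (by decide) (by decide) (by decide) (by decide +kernel) (h.trans (by norm_num))
  · exact fun h => ne_of_sylCheck hnc 1463 7 1 209 (by norm_num) (by decide) (by decide) (by decide) (by decide +kernel) (h.trans (by norm_num))
  · exact fun h => ne_of_sylCheck hnc 1596 19 1 84 (by norm_num) (by decide) (by decide) (by decide) (by decide +kernel) (h.trans (by norm_num))
  · exact fun h => ne_of_sylCheck hnc 1672 11 1 152 (by norm_num) (by decide) (by decide) (by decide) (by decide +kernel) (h.trans (by norm_num))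
  · exact fun h => ne_of_sylCheck hnc 1995 19 1 105 (by norm_num) (by decide) (by decide) (by decide) (by decide +kernel) (h.trans (by norm_num))
  · exact fun h => ne_of_sylCheck hnc 2090 5 1 418 (by norm_num) (by decide) (by decide) (by decide) (by decide +kernel) (h.trans (by norm_num))
  · exact ne_2280 hnc
  · exact fun h => ne_of_sylCheck hnc 2508 11 1 228 (by norm_num) (by decide) (by decide) (by decide) (by decide +kernel) (h.trans (by norm_num))
  · exact fun h => ne_of_ncfpCheck hnc 2660 19 140 (by norm_num) (by decide) (by decide) (by decide +kernel) (h.trans (by norm_num))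
  · exact fun h => ne_of_ncfpCheck hnc 2926 2 1463 (by norm_num) (by decide) (by decide) (by decide +kernel) (h.trans (by norm_num))
  · exact fun h => ne_of_sylCheck hnc 3135 5 1 627 (by norm_num) (by decide) (by decide) (by decide) (by decide +kernel) (h.trans (by norm_num))
  · exact fun h => ne_of_sylCheck hnc 3192 19 1 168 (by norm_num) (by decide) (by decide) (by decide) (by decide +kernel) (h.trans (by norm_num))
  · exact fun h => ne_of_ncfpCheck hnc 3990 2 1995 (by norm_num) (by decide) (by decide) (by decide +kernel) (h.trans (by norm_num))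
  · exact fun h => ne_of_sylCheck hnc 4180 11 1 380 (by norm_num) (by decide) (by decide) (by decide) (by decide +kernel) (h.trans (by norm_num))
  · exact fun h => ne_of_ncfpCheck hnc 4389 3 1463 (by norm_num) (by decide) (by decide) (by decide +kernel) (h.trans (by norm_num))
  · exact fun h => ne_of_sylCheck hnc 5016 11 1 456 (by norm_num) (by decide) (by decide) (by decide) (by decide +kernel) (h.trans (by norm_num))
  · exact ne_5320 hnc
  · exact ne_5852 hnc
  · exact fun h => ne_of_sylCheck hnc 6270 11 1 570 (by norm_num) (by decide) (by decide) (by decide) (by decide +kernel) (h.trans (by norm_num))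
  · exact fun h => ne_of_sylCheck hnc 7315 5 1 1463 (by norm_num) (by decide) (by decide) (by decide) (by decide +kernel) (h.trans (by norm_num))
  · exact absurd rfl h420
  · exact fun h => ne_of_ncfpCheck hnc 8360 11 760 (by norm_num) (by decide) (by decide) (by decide +kernel) (h.trans (by norm_num))
  · exact fun h => ne_of_ncfpCheck hnc 8778 2 4389 (by norm_num) (by decide) (by decide) (by decide +kernel) (h.trans (by norm_num))
  · exact fun h => ne_of_ncfpCheck hnc 11704 7 1672 (by norm_num) (by decide) (by decide) (by decide +kernel) (h.trans (by norm_num))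
  · exact fun h => ne_of_sylCheck hnc 12540 11 1 1140 (by norm_num) (by decide) (by decide) (by decide) (by decide +kernel) (h.trans (by norm_num))
  · exact fun h => ne_of_ncfpCheck hnc 14630 2 7315 (by norm_num) (by decide) (by decide) (by decide +kernel) (h.trans (by norm_num))
  · exact absurd rfl h840
  · exact absurd rfl h924
  · exact fun h => ne_of_ncfpCheck hnc 21945 3 7315 (by norm_num) (by decide) (by decide) (by decide +kernel) (h.trans (by norm_num))
  · exact fun h => ne_of_ncfpCheck hnc 25080 11 2280 (by norm_num) (by decide) (by decide) (by decide +kernel) (h.trans (by norm_num))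
  · exact fun h => ne_of_ncfpCheck hnc 29260 19 1540 (by norm_num) (by decide) (by decide) (by decide +kernel) (h.trans (by norm_num))
  · exact absurd rfl h1848
  · exact fun h => ne_of_ncfpCheck hnc 43890 2 21945 (by norm_num) (by decide) (by decide) (by decide +kernel) (h.trans (by norm_num))
  · exact absurd rfl h3080
  · exact absurd rfl h4620
  · exact absurd rfl hlt
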