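import Mathlib
import Cfsg.Agent.Lib.H28.KB.Defs

set_option autoImplicit false

namespace Cfsg.Agent.Lib.H4.KB

open Cfsg.Agent.Lib.H28.KB
open scoped ComplexConjugate

theorem formH_self_re (α β γ : ℤ) (x y : ℂ) :
    (formH α β γ x y x y).re =
      ((α : ℝ) - β) * ‖x‖ ^ 2 + ((γ : ℝ) - β) * ‖y‖ ^ 2 + (β : ℝ) * ‖x + y‖ ^ 2 := by
  simp only [formH, Complex.sq_norm, Complex.normSq_apply, Complex.add_re, Complex.mul_re,
    Complex.add_im, Complex.mul_im, Complex.conj_re, Complex.conj_im, Complex.intCast_re,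
    Complex.intCast_im]
  ring

theorem formH_one_zero_left (γ : ℤ) (x x' y' : ℂ) : formH 1 0 γ x 0 x' y' = x * conj x' := by
  simp [formH]

theorem formH_one_zero_right (γ : ℤ) (y x' y' : ℂ) :
    formH 1 0 γ 0 y x' y' = (γ : ℂ) * (y * conj y') := by
  simp [formH]

theorem card_le_of_two {ι κ : Type*} [Fintype ι] [Fintype κ] (q : ι → κ → ℝ) (P : ℝ)
    (hφ : 0 < (Fintype.card κ : ℝ))
    (hT : ∀ k, ∑ i, q i k ≤ 2 * P) (hL : ∀ i, 2 * (Fintype.card κ : ℝ) ≤ ∑ k, q i k) :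
    (Fintype.card ι : ℝ) ≤ P := by
  have h1 : (Fintype.card ι : ℝ) * (2 * Fintype.card κ) ≤ ∑ i, ∑ k, q i k := by
    calc (Fintype.card ι : ℝ) * (2 * Fintype.card κ)
        = ∑ _i : ι, (2 * (Fintype.card κ : ℝ)) := by
          simp [Finset.sum_const]
      _ ≤ _ := Finset.sum_le_sum (fun i _ => hL i)
  have h2 : ∑ i, ∑ k, q i k ≤ (Fintype.card κ : ℝ) * (2 * P) := by
    rw [Finset.sum_comm]
    calc ∑ k, ∑ i, q i k ≤ ∑ _k : κ, (2 * P) := Finset.sum_le_sum (fun k _ => hT k)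
      _ = _ := by simp [Finset.sum_const]
  have h3 : (Fintype.card ι : ℝ) * (2 * Fintype.card κ) ≤ (Fintype.card κ : ℝ) * (2 * P) :=
    h1.trans h2
  have h4 : (Fintype.card ι : ℝ) * (2 * (Fintype.card κ : ℝ)) ≤ P * (2 * (Fintype.card κ : ℝ)) := by
    linarith
  exact le_of_mul_le_mul_right h4 (by positivity)

theorem card_le_of_cols {ι κ : Type*} [Fintype ι] [Fintype κ] (Z : ι → κ → ℝ) (P : ℝ)
    (hφ : 0 < (Fintype.card κ : ℝ))
    (hcol : ∀ k, ∑ j, Z j k ≤ P) (hrow : ∀ j, (Fintype.card κ : ℝ) ≤ ∑ k, Z j k) :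
    (Fintype.card ι : ℝ) ≤ P := by
  have h1 : (Fintype.card ι : ℝ) * (Fintype.card κ : ℝ) ≤ ∑ j, ∑ k, Z j k := by
    calc (Fintype.card ι : ℝ) * (Fintype.card κ : ℝ) = ∑ _j : ι, (Fintype.card κ : ℝ) := by
          simp [Finset.sum_const]
      _ ≤ _ := Finset.sum_le_sum (fun j _ => hrow j)
  have h2 : ∑ j, ∑ k, Z j k ≤ (Fintype.card κ : ℝ) * P := by
    rw [Finset.sum_comm]
    calc ∑ k, ∑ j, Z j k ≤ ∑ _k : κ, P := Finset.sum_le_sum (fun k _ => hcol k)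
      _ = _ := by simp [Finset.sum_const]
  have h4 : (Fintype.card ι : ℝ) * (Fintype.card κ : ℝ) ≤ P * (Fintype.card κ : ℝ) := by
    linarith
  exact le_of_mul_le_mul_right h4 hφ

/-- (ABS) the abstract counting inequality. -/
theorem card_le_of_form_bounds {ι κ : Type*} [Fintype ι] [Fintype κ] (one : κ)
    (α β γ : ℤ) (hα : 0 < α) (hβ0 : 0 ≤ 2 * β) (hβα : 2 * β ≤ α) (hαγ : α ≤ γ)
    (X Y : ι → κ → ℂ) (P : ℝ) (hP : 0 < P) (p : ℕ) (hp : 2 ≤ p) (h : ι → ℕ)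
    (hX : ∀ i, (X i one = 0 → ∀ k, X i k = 0) ∧
      (X i one ≠ 0 → (∀ k, X i k ≠ 0) ∧ (Fintype.card κ : ℝ) ≤ ∑ k, ‖X i k‖ ^ 2))
    (hY : ∀ i, (Y i one = 0 → ∀ k, Y i k = 0) ∧
      (Y i one ≠ 0 → (∀ k, Y i k ≠ 0) ∧ (Fintype.card κ : ℝ) ≤ ∑ k, ‖Y i k‖ ^ 2))
    (hXY : ∀ i, (X i one + Y i one = 0 → ∀ k, X i k + Y i k = 0) ∧
      (X i one + Y i one ≠ 0 → (∀ k, X i k + Y i k ≠ 0) ∧
        (Fintype.card κ : ℝ) ≤ ∑ k, ‖X i k + Y i k‖ ^ 2))
    (hT : ∀ k, ∑ i, (formH α β γ (X i k) (Y i k) (X i k) (Y i k)).re ≤ 2 * P)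
    (hI : ∀ i k, ∑ j, ‖formH α β γ (X i k) (Y i k) (X j k) (Y j k)‖ ^ 2 ≤
      P * (formH α β γ (X i k) (Y i k) (X i k) (Y i k)).re)
    (hNZ : ∀ i j, h i = 0 → formH α β γ (X i one) (Y i one) (X j one) (Y j one) ≠ 0)
    (hH : ∀ i, (Fintype.card κ : ℝ) * (p : ℝ) ^ h i ≤
      ∑ k, (formH α β γ (X i k) (Y i k) (X i k) (Y i k)).re)
    (h0 : Nonempty ι → ∃ i, h i = 0) :
    (Fintype.card ι : ℝ) ≤ P := by
  classical
  have hφ1 : (1 : ℝ) ≤ (Fintype.card κ : ℝ) := by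
    have : 0 < Fintype.card κ := Fintype.card_pos_iff.mpr ⟨one⟩
    exact_mod_cast this
  have hφ : 0 < (Fintype.card κ : ℝ) := by linarith
  have hαR : (0 : ℝ) < α := by exact_mod_cast hα
  have hβ0R : (0 : ℝ) ≤ 2 * β := by exact_mod_cast hβ0
  have hβαR : (2 : ℝ) * β ≤ α := by exact_mod_cast hβα
  have hαγR : (α : ℝ) ≤ γ := by exact_mod_cast hαγ
  have hsum : ∀ i, ∑ k, (formH α β γ (X i k) (Y i k) (X i k) (Y i k)).re =
      ((α : ℝ) - β) * ∑ k, ‖X i k‖ ^ 2 + ((γ : ℝ) - β) * ∑ k, ‖Y i k‖ ^ 2 +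
        (β : ℝ) * ∑ k, ‖X i k + Y i k‖ ^ 2 := by
    intro i
    simp only [formH_self_re, Finset.sum_add_distrib, Finset.mul_sum]
  have hnnX : ∀ i, 0 ≤ ∑ k, ‖X i k‖ ^ 2 := fun i => Finset.sum_nonneg (fun k _ => sq_nonneg _)
  have hnnY : ∀ i, 0 ≤ ∑ k, ‖Y i k‖ ^ 2 := fun i => Finset.sum_nonneg (fun k _ => sq_nonneg _)
  have hnnXY : ∀ i, 0 ≤ ∑ k, ‖X i k + Y i k‖ ^ 2 :=
    fun i => Finset.sum_nonneg (fun k _ => sq_nonneg _)
  have hp1 : (1 : ℝ) ≤ (p : ℝ) := by exact_mod_cast (by omega : 1 ≤ p)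
  have hpow1 : ∀ i, (1 : ℝ) ≤ (p : ℝ) ^ (h i) := fun i => one_le_pow₀ hp1
  have hlow : ∀ i, (α : ℝ) * (Fintype.card κ : ℝ) ≤
        ∑ k, (formH α β γ (X i k) (Y i k) (X i k) (Y i k)).re ∧
      ((X i one ≠ 0 ∧ Y i one ≠ 0) → ((α : ℝ) + γ - 2 * β) * (Fintype.card κ : ℝ) ≤
        ∑ k, (formH α β γ (X i k) (Y i k) (X i k) (Y i k)).re) := by
    intro i
    by_cases hx : X i one = 0
    · have hx0 := (hX i).1 hx
      by_cases hy : Y i one = 0
      · exfalso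
        have hy0 := (hY i).1 hy
        have hHi := hH i
        have hz : ∑ k, (formH α β γ (X i k) (Y i k) (X i k) (Y i k)).re = 0 := by
          apply Finset.sum_eq_zero
          intro k _
          rw [hx0 k, hy0 k]
          simp [formH]
        rw [hz] at hHi
        have := hpow1 i
        nlinarith
      · obtain ⟨-, hys⟩ := (hY i).2 hy
        have hxs : ∑ k, ‖X i k‖ ^ 2 = 0 := by simp [hx0]
        have hxys : ∑ k, ‖X i k + Y i k‖ ^ 2 = ∑ k, ‖Y i k‖ ^ 2 := by simp [hx0]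
        rw [hsum i, hxs, hxys]
        constructor
        · have h1 : (γ : ℝ) * (Fintype.card κ : ℝ) ≤ γ * ∑ k, ‖Y i k‖ ^ 2 :=
            mul_le_mul_of_nonneg_left hys (by linarith)
          have h2 : (α : ℝ) * (Fintype.card κ : ℝ) ≤ γ * (Fintype.card κ : ℝ) :=
            mul_le_mul_of_nonneg_right hαγR hφ.le
          linarith
        · intro hh
          exact absurd hx hh.1
    · obtain ⟨-, hxs⟩ := (hX i).2 hx
      by_cases hy : Y i one = 0
      · have hy0 := (hY i).1 hy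
        have hys : ∑ k, ‖Y i k‖ ^ 2 = 0 := by simp [hy0]
        have hxys : ∑ k, ‖X i k + Y i k‖ ^ 2 = ∑ k, ‖X i k‖ ^ 2 := by simp [hy0]
        rw [hsum i, hys, hxys]
        constructor
        · have h1 : (α : ℝ) * (Fintype.card κ : ℝ) ≤ α * ∑ k, ‖X i k‖ ^ 2 :=
            mul_le_mul_of_nonneg_left hxs hαR.le
          linarith
        · intro hh
          exact absurd hy hh.2
      · obtain ⟨-, hys⟩ := (hY i).2 hy
        have hxy := hnnXY i
        rw [hsum i]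
        have h1 : ((α : ℝ) - β) * (Fintype.card κ : ℝ) ≤ ((α : ℝ) - β) * ∑ k, ‖X i k‖ ^ 2 :=
          mul_le_mul_of_nonneg_left hxs (by linarith)
        have h2 : ((γ : ℝ) - β) * (Fintype.card κ : ℝ) ≤ ((γ : ℝ) - β) * ∑ k, ‖Y i k‖ ^ 2 :=
          mul_le_mul_of_nonneg_left hys (by linarith)
        have h3 : 0 ≤ (β : ℝ) * ∑ k, ‖X i k + Y i k‖ ^ 2 := mul_nonneg (by linarith) hxy
        have h4 : (0 : ℝ) ≤ ((γ : ℝ) - 2 * β) * (Fintype.card κ : ℝ) :=
          mul_nonneg (by linarith) hφ.le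
        constructor
        · linarith
        · intro _
          linarith
  rcases (by omega : 2 ≤ α ∨ α = 1) with h2 | h1
  · have h2R : (2 : ℝ) ≤ α := by exact_mod_cast h2
    apply card_le_of_two (fun i k => (formH α β γ (X i k) (Y i k) (X i k) (Y i k)).re) P hφ hT
    intro i
    have h1 := (hlow i).1
    have h3 : (2 : ℝ) * (Fintype.card κ : ℝ) ≤ α * (Fintype.card κ : ℝ) :=
      mul_le_mul_of_nonneg_right h2R hφ.le
    linarith
  · obtain rfl : α = 1 := h1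
    obtain rfl : β = 0 := by omega
    have hγ1 : (1 : ℝ) ≤ γ := by exact_mod_cast hαγ
    by_cases hA : ∃ i, h i = 0 ∧ Y i one = 0
    · obtain ⟨i0, hi0, hy0⟩ := hA
      have hYz := (hY i0).1 hy0
      have hnz : ∀ j, X i0 one ≠ 0 ∧ X j one ≠ 0 := by
        intro j
        have hne := hNZ i0 j hi0
        rw [hy0, formH_one_zero_left] at hne
        have h' := mul_ne_zero_iff.mp hne
        exact ⟨h'.1, fun hc => h'.2 (by rw [hc]; simp)⟩
      have hXk : ∀ k, X i0 k ≠ 0 := ((hX i0).2 (hnz i0).1).1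
      apply card_le_of_cols (fun j k => ‖X j k‖ ^ 2) P hφ
      · intro k
        have hIk := hI i0 k
        simp only [hYz k, formH_one_zero_left] at hIk
        have e1 : ∀ j, ‖X i0 k * conj (X j k)‖ ^ 2 = ‖X i0 k‖ ^ 2 * ‖X j k‖ ^ 2 := by
          intro j
          rw [norm_mul, RCLike.norm_conj, mul_pow]
        have e2 : (X i0 k * conj (X i0 k)).re = ‖X i0 k‖ ^ 2 := by
          rw [Complex.mul_conj, Complex.ofReal_re, Complex.sq_norm]
        simp only [e1, e2, ← Finset.mul_sum] at hIk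
        have hpos : 0 < ‖X i0 k‖ ^ 2 := pow_pos (norm_pos_iff.mpr (hXk k)) 2
        have hIk' : ‖X i0 k‖ ^ 2 * ∑ j, ‖X j k‖ ^ 2 ≤ ‖X i0 k‖ ^ 2 * P := by linarith
        exact le_of_mul_le_mul_left hIk' hpos
      · intro j
        exact ((hX j).2 (hnz j).2).2
    · by_cases hB : ∃ i, h i = 0 ∧ X i one = 0
      · obtain ⟨i0, hi0, hx0⟩ := hB
        have hXz := (hX i0).1 hx0
        have hnz : ∀ j, Y i0 one ≠ 0 ∧ Y j one ≠ 0 := by
          intro j
          have hne := hNZ i0 j hi0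
          rw [hx0, formH_one_zero_right] at hne
          have h' := mul_ne_zero_iff.mp (mul_ne_zero_iff.mp hne).2
          exact ⟨h'.1, fun hc => h'.2 (by rw [hc]; simp)⟩
        have hYk : ∀ k, Y i0 k ≠ 0 := ((hY i0).2 (hnz i0).1).1
        apply card_le_of_cols (fun j k => ‖Y j k‖ ^ 2) P hφ
        · intro k
          have hIk := hI i0 k
          simp only [hXz k, formH_one_zero_right] at hIk
          have e1 : ∀ j, ‖(γ : ℂ) * (Y i0 k * conj (Y j k))‖ ^ 2 =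
              ((γ : ℝ) * ‖Y i0 k‖ ^ 2) * ((γ : ℝ) * ‖Y j k‖ ^ 2) := by
            intro j
            rw [norm_mul, norm_mul, RCLike.norm_conj, Complex.norm_intCast, mul_pow, mul_pow,
              sq_abs]
            ring
          have e2 : ((γ : ℂ) * (Y i0 k * conj (Y i0 k))).re = (γ : ℝ) * ‖Y i0 k‖ ^ 2 := by
            rw [Complex.mul_conj, Complex.sq_norm]
            simp [Complex.mul_re]
          simp only [e1, e2, ← Finset.mul_sum] at hIk
          have hpos : 0 < (γ : ℝ) * ‖Y i0 k‖ ^ 2 :=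
            mul_pos (by linarith) (pow_pos (norm_pos_iff.mpr (hYk k)) 2)
          have hIk' : ((γ : ℝ) * ‖Y i0 k‖ ^ 2) * ((γ : ℝ) * ∑ j, ‖Y j k‖ ^ 2) ≤
              ((γ : ℝ) * ‖Y i0 k‖ ^ 2) * P := by linarith
          have h5 : (γ : ℝ) * ∑ j, ‖Y j k‖ ^ 2 ≤ P := le_of_mul_le_mul_left hIk' hpos
          have h6 : (0 : ℝ) ≤ ∑ j, ‖Y j k‖ ^ 2 := Finset.sum_nonneg (fun j _ => sq_nonneg _)
          nlinarith
        · intro j
          exact ((hY j).2 (hnz j).2).2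
      · push Not at hA hB
        apply card_le_of_two (fun i k => (formH 1 0 γ (X i k) (Y i k) (X i k) (Y i k)).re) P hφ hT
        intro i
        by_cases hi : h i = 0
        · have h1 := (hlow i).2 ⟨hB i hi, hA i hi⟩
          push_cast at h1
          have h3 : (2 : ℝ) * (Fintype.card κ : ℝ) ≤ (1 + (γ : ℝ) - 2 * 0) * (Fintype.card κ : ℝ) :=
            mul_le_mul_of_nonneg_right (by linarith) hφ.le
          linarith
        · have hHi := hH i
          have h2 : (2 : ℝ) ≤ (p : ℝ) ^ (h i) := by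
            calc (2 : ℝ) ≤ (p : ℝ) := by exact_mod_cast hp
              _ = (p : ℝ) ^ 1 := (pow_one _).symm
              _ ≤ (p : ℝ) ^ (h i) := pow_le_pow_right₀ hp1 (by omega)
          have h3 : (Fintype.card κ : ℝ) * 2 ≤ (Fintype.card κ : ℝ) * (p : ℝ) ^ (h i) :=
            mul_le_mul_of_nonneg_left h2 hφ.le
          linarith

end Cfsg.Agent.Lib.H4.KB
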