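import Mathlib
import Cfsg.Agent.Lib.H23.DegreeDvd
import Cfsg.Agent.Lib.L0.CharOps
import Cfsg.Agent.Lib.L0.CharDecomp

/-!
helper4: S4591 farm-out (architect helper20), piece PPC: a character of degree prime to `p` has an irreducible
constituent of degree prime to `p`.  Exact signature of tools/blueprints/S4591_sigs.lean.
-/

set_option autoImplicit false
set_option linter.unusedSectionVars false

namespace Cfsg.Agent.Lib.H4.KPP

open Cfsg Cfsg.Agent.Lib.L0 Cfsg.Agent.Lib.H23

variable {G : Type*} [Group G] [Fintype G] (p : ℕ) [hp : Fact p.Prime]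

/-- the degree of a sum of irreducible characters -/
theorem list_sum_apply_one (l : List (G → ℂ)) (hl : ∀ χ ∈ l, IsIrrCharacter G χ) :
    (l.sum : G → ℂ) 1 = (((l.map (fun χ => charDegree χ)).sum : ℕ) : ℂ) := by
  induction l with
  | nil => simp
  | cons c l ih =>
    rw [List.sum_cons, Pi.add_apply, List.map_cons, List.sum_cons, Nat.cast_add,
      ih (fun χ hχ => hl χ (List.mem_cons_of_mem _ hχ)),
      apply_one_eq_charDegree c (hl c List.mem_cons_self)]

/-- PPC: a character of degree prime to `p` has an irreducible constituent of degree prime to `p`. -/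
theorem exists_pprime_constituent (ψ : G → ℂ) (hψ : IsCharacter G ψ) (d : ℕ) (hd : ψ 1 = d)
    (hpd : ¬ p ∣ d) :
    ∃ χ : IrrCharacter G, ¬ p ∣ charDegree (χ : G → ℂ) ∧ classInner ψ (χ : G → ℂ) ≠ 0 := by
  classical
  obtain ⟨l, hl, rfl⟩ := isCharacter_exists_irr_decomp hψ
  have hd' : d = (l.map (fun χ => charDegree χ)).sum := by
    have h := hd.symm.trans (list_sum_apply_one l hl)
    exact_mod_cast h
  by_contra hcon
  apply hpd
  rw [hd']
  apply List.dvd_sum
  intro x hx
  obtain ⟨χ, hχ, rfl⟩ := List.mem_map.mp hx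
  by_contra hnd
  apply hcon
  refine ⟨⟨χ, hl χ hχ⟩, hnd, ?_⟩
  rw [classInner_irr_list_sum hl (hl χ hχ)]
  exact_mod_cast (List.count_pos_iff.mpr hχ).ne'

end Cfsg.Agent.Lib.H4.KPP
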