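import Mathlib
import Cfsg.Agent.Lib.H4.KPPPPC
import Cfsg.Agent.Lib.L0.CharIndChar
import Cfsg.Agent.Lib.L0.CharDegree
import Cfsg.Agent.Lib.L0.CharInd

/-!
helper4: S4591 farm-out (architect helper20), piece D1: every linear character of a Sylow `p`-subgroup `P` lies
under some `χ ∈ Irr(G)` of degree prime to `p`.  Exact signature of tools/blueprints/S4591_sigs.lean.
-/

set_option autoImplicit false
set_option linter.unusedSectionVars false

namespace Cfsg.Agent.Lib.H4.KPP

open Cfsg Cfsg.Agent.Lib.L0 Cfsg.Agent.Lib.H23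

variable {G : Type*} [Group G] [Fintype G] (p : ℕ) [hp : Fact p.Prime]

/-- D1: every linear character of `P` lies under some `χ ∈ Irr(G)` of `p'`-degree. -/
theorem exists_pprime_over_linear (P : Sylow p G) [Fintype ↥(P : Subgroup G)]
    (lam : ↥(P : Subgroup G) → ℂ) (hlam : IsIrrCharacter ↥(P : Subgroup G) lam) (h1 : lam 1 = 1) :
    ∃ χ : IrrCharacter G, ¬ p ∣ charDegree (χ : G → ℂ) ∧
      classInner (fun x : ↥(P : Subgroup G) => (χ : G → ℂ) x) lam ≠ 0 := by
  have hψ : IsCharacter G (indFun (P : Subgroup G) lam) :=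
    isCharacter_indFun (P : Subgroup G) (isCharacter_of_irr hlam)
  have hd : indFun (P : Subgroup G) lam 1 = (((P : Subgroup G).index : ℕ) : ℂ) := by
    rw [indFun_apply_one, h1, mul_one]
  obtain ⟨χ, hχd, hχc⟩ := exists_pprime_constituent p _ hψ _ hd P.not_dvd_index
  refine ⟨χ, hχd, ?_⟩
  rw [frobenius_reciprocity (P : Subgroup G) lam _
    (isClassFunction_of_isCharacter (isCharacter_of_irr χ.2))] at hχc
  intro h0
  apply hχc
  rw [← classInner_conj_symm, h0, map_zero]

end Cfsg.Agent.Lib.H4.KPP
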