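import Mathlib
import Cfsg.Agent.Lib.L0.CharOps
import Cfsg.Agent.Lib.L0.CharDecomp
import Cfsg.Agent.Lib.L0.CharBasic

/-!
helper4: S4591 farm-out (architect helper20), piece RESK: if `χ x = χ 1` then every irreducible constituent `μ` of
`χ_H` has `μ x = μ 1`.  Exact signature of tools/blueprints/S4591_sigs.lean.
-/

set_option autoImplicit false
set_option linter.unusedSectionVars false

namespace Cfsg.Agent.Lib.H4.KPP

open Cfsg Cfsg.Agent.Lib.L0

/-- a complex number with real part `d` and norm at most `d` is `d` -/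
theorem eq_of_re_eq_of_norm_le (z : ℂ) (d : ℝ) (hre : z.re = d) (hn : ‖z‖ ≤ d) : z = (d : ℂ) := by
  have hd : 0 ≤ d := le_trans (norm_nonneg z) hn
  have h1 : ‖z‖ ^ 2 ≤ d ^ 2 := pow_le_pow_left₀ (norm_nonneg z) hn 2
  rw [Complex.sq_norm, Complex.normSq_apply, hre] at h1
  have him : z.im = 0 := by nlinarith [mul_self_nonneg z.im]
  apply Complex.ext
  · rw [hre, Complex.ofReal_re]
  · rw [him, Complex.ofReal_im]

section

variable {H : Type*} [Group H] [Finite H]

/-- `Re ψ(x) ≤ ψ(1)`, with equality only if `ψ x = ψ 1` -/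
theorem char_re_le {ψ : H → ℂ} (hψ : IsCharacter H ψ) (x : H) :
    (ψ x).re ≤ (ψ 1).re ∧ ((ψ x).re = (ψ 1).re → ψ x = ψ 1) := by
  obtain ⟨n, ρ, rfl⟩ := hψ
  have h1 : ρ.character 1 = ((Module.finrank ℂ (Fin n → ℂ) : ℕ) : ℂ) := Representation.char_one ρ
  have hle : ‖ρ.character x‖ ≤ (Module.finrank ℂ (Fin n → ℂ) : ℕ) := norm_char_le ρ x
  have h1re : (ρ.character 1).re = ((Module.finrank ℂ (Fin n → ℂ) : ℕ) : ℝ) := by
    rw [h1, Complex.natCast_re]
  constructor
  · rw [h1re]
    exact le_trans (Complex.re_le_norm _) hle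
  · intro heq
    rw [h1re] at heq
    rw [eq_of_re_eq_of_norm_le _ _ heq hle, h1]
    push_cast
    rfl

theorem list_re_le (l : List (H → ℂ)) (hl : ∀ ψ ∈ l, IsCharacter H ψ) (x : H) :
    ((l.sum : H → ℂ) x).re ≤ ((l.sum : H → ℂ) 1).re ∧
      (((l.sum : H → ℂ) x).re = ((l.sum : H → ℂ) 1).re → ∀ ψ ∈ l, ψ x = ψ 1) := by
  induction l with
  | nil => simp
  | cons c l ih =>
    obtain ⟨ih1, ih2⟩ := ih (fun ψ hψ => hl ψ (List.mem_cons_of_mem _ hψ))
    obtain ⟨hc1, hc2⟩ := char_re_le (hl c List.mem_cons_self) x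
    rw [List.sum_cons, Pi.add_apply, Pi.add_apply, Complex.add_re, Complex.add_re]
    constructor
    · linarith
    · intro heq ψ hψ
      rcases List.mem_cons.mp hψ with rfl | hψ'
      · exact hc2 (by linarith)
      · exact ih2 (by linarith) ψ hψ'

end

variable {G : Type*} [Group G] [Fintype G] (p : ℕ) [hp : Fact p.Prime]

/-- RESK: if `χ x = χ 1` then every irreducible constituent `μ` of `χ_H` has `μ x = μ 1`. -/
theorem constituent_apply_eq (H : Subgroup G) [Fintype H] (χ : G → ℂ) (hχ : IsCharacter G χ)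
    (μ : H → ℂ) (hμ : IsIrrCharacter H μ)
    (hcon : classInner (fun x : H => χ x) μ ≠ 0) (x : H) (hx : χ x = χ 1) : μ x = μ 1 := by
  classical
  obtain ⟨l, hl, hsum⟩ := isCharacter_exists_irr_decomp (isCharacter_restrict H hχ)
  have hmem : μ ∈ l := by
    have h := classInner_irr_list_sum hl hμ
    rw [← hsum] at h
    rw [h] at hcon
    have : l.count μ ≠ 0 := by
      intro h0
      apply hcon
      rw [h0]
      simp
    exact List.count_pos_iff.mp (Nat.pos_of_ne_zero this)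
  have hx' : (l.sum : H → ℂ) x = (l.sum : H → ℂ) 1 := by
    rw [← hsum]
    exact hx
  exact (list_re_le l (fun ψ hψ => isCharacter_of_irr (hl ψ hψ)) x).2 (by rw [hx']) μ hmem

end Cfsg.Agent.Lib.H4.KPP
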