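import Mathlib

/-!
# The abstract counting core for S4540 (helper4)

`cnt_core`: a finite index type with heights `h` and real averages `A`;
trace bound, `A = 1 ∨ 3 ≤ A` in height zero, `2 * 2 ^ h ≤ A` in positive height and the
off-diagonal bound give `3 k₀ + 2 ∑_{h ≥ 1} 2 ^ h ≤ 3 * 2 ^ d`.

`cnt_frozen`: the same with the conclusion in the shape of the frozen statement S4540.
-/

set_option autoImplicit false

namespace Cfsg.Agent.Lib.H4.KZ

/-- The counting core on a finite index type. -/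
theorem cnt_core {ι : Type*} [Fintype ι] (h : ι → ℕ) (d : ℕ) (A : ι → ℝ)
    [DecidablePred fun i : ι => h i = 0] [DecidablePred fun i : ι => 1 ≤ h i]
    (hT : ∑ i, A i ≤ 3 * 2 ^ d)
    (h0 : ∀ i, h i = 0 → A i = 1 ∨ 3 ≤ A i)
    (h1 : ∀ i, 1 ≤ h i → 2 * 2 ^ h i ≤ A i)
    (hOFF : ∀ i, h i = 0 → ∑ j, (4 : ℝ) ^ h j ≤ 2 ^ d * A i) :
    3 * Fintype.card ι ≤ 3 * (Finset.univ.filter fun i : ι => h i = 0).card +
        2 * ∑ i ∈ Finset.univ.filter (fun i : ι => 1 ≤ h i), 2 ^ h i ∧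
      3 * (Finset.univ.filter fun i : ι => h i = 0).card +
        2 * ∑ i ∈ Finset.univ.filter (fun i : ι => 1 ≤ h i), 2 ^ h i ≤ 3 * 2 ^ d := by
  classical
  -- pointwise form of the left hand side
  have hL : 3 * (Finset.univ.filter fun i : ι => h i = 0).card +
      2 * ∑ i ∈ Finset.univ.filter (fun i : ι => 1 ≤ h i), 2 ^ h i =
      ∑ i : ι, (if h i = 0 then 3 else 2 * 2 ^ h i) := by
    rw [Finset.card_eq_sum_ones, Finset.mul_sum, Finset.mul_sum, Finset.sum_filter,
      Finset.sum_filter, ← Finset.sum_add_distrib]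
    refine Finset.sum_congr rfl fun i _ => ?_
    by_cases hi : h i = 0
    · have : ¬ 1 ≤ h i := by omega
      simp [hi]
    · have : 1 ≤ h i := by omega
      simp [hi, this]
  rw [hL]
  constructor
  · -- the easy inequality
    have : 3 * Fintype.card ι = ∑ _i : ι, 3 := by
      rw [Finset.sum_const, Finset.card_univ, smul_eq_mul, mul_comm]
    rw [this]
    refine Finset.sum_le_sum fun i _ => ?_
    by_cases hi : h i = 0
    · simp [hi]
    · simp only [hi, if_false]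
      have h2 : 2 ^ 1 ≤ 2 ^ h i := Nat.pow_le_pow_right (by norm_num) (by omega)
      omega
  · -- the main inequality, in the reals
    have hcast : ((∑ i : ι, (if h i = 0 then 3 else 2 * 2 ^ h i) : ℕ) : ℝ) =
        ∑ i : ι, (if h i = 0 then (3 : ℝ) else 2 * 2 ^ h i) := by
      push_cast
      refine Finset.sum_congr rfl fun i _ => ?_
      split_ifs <;> norm_num
    suffices hR : ∑ i : ι, (if h i = 0 then (3 : ℝ) else 2 * 2 ^ h i) ≤ 3 * 2 ^ d by
      have : ((∑ i : ι, (if h i = 0 then 3 else 2 * 2 ^ h i) : ℕ) : ℝ) ≤ ((3 * 2 ^ d : ℕ) : ℝ) := by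
        rw [hcast]
        push_cast
        exact hR
      exact_mod_cast this
    by_cases hex : ∃ i, h i = 0 ∧ A i = 1
    · -- some height zero average is one
      obtain ⟨i0, hi0, hA0⟩ := hex
      have hoff := hOFF i0 hi0
      rw [hA0, mul_one] at hoff
      have hle : ∑ i : ι, (if h i = 0 then (3 : ℝ) else 2 * 2 ^ h i) ≤
          ∑ i : ι, 3 * (4 : ℝ) ^ h i := by
        refine Finset.sum_le_sum fun i _ => ?_
        by_cases hi : h i = 0
        · simp [hi]
        · simp only [hi, if_false]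
          have h4 : (4 : ℝ) ^ h i = (2 : ℝ) ^ h i * (2 : ℝ) ^ h i := by
            rw [← mul_pow]
            norm_num
          have h2 : (1 : ℝ) ≤ (2 : ℝ) ^ h i := one_le_pow₀ (by norm_num)
          rw [h4]
          nlinarith
      rw [← Finset.mul_sum] at hle
      linarith
    · -- all height zero averages are at least three
      simp only [not_exists, not_and] at hex
      have hle : ∑ i : ι, (if h i = 0 then (3 : ℝ) else 2 * 2 ^ h i) ≤ ∑ i : ι, A i := by
        refine Finset.sum_le_sum fun i _ => ?_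
        by_cases hi : h i = 0
        · simp only [hi, if_true]
          rcases h0 i hi with h' | h'
          · exact absurd h' (hex i hi)
          · exact h'
        · simp only [hi, if_false]
          exact h1 i (by omega)
      linarith

/-- The counting core with the conclusion in the shape of the frozen statement. -/
theorem cnt_frozen {X : Type*} (B : Set X) [Fintype {x : X // x ∈ B}] (h : X → ℕ)
    (d : ℕ) (A : {x : X // x ∈ B} → ℝ)
    (hT : ∑ i, A i ≤ 3 * 2 ^ d)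
    (h0 : ∀ i : {x : X // x ∈ B}, h i = 0 → A i = 1 ∨ 3 ≤ A i)
    (h1 : ∀ i : {x : X // x ∈ B}, 1 ≤ h i → 2 * 2 ^ h i ≤ A i)
    (hOFF : ∀ i : {x : X // x ∈ B}, h i = 0 → ∑ j : {x : X // x ∈ B}, (4 : ℝ) ^ h j ≤ 2 ^ d * A i) :
    3 * Nat.card B ≤ 3 * Nat.card {x : X // x ∈ B ∧ h x = 0} +
        2 * (∑ᶠ x ∈ {x : X | x ∈ B ∧ 1 ≤ h x}, 2 ^ h x) ∧
      3 * Nat.card {x : X // x ∈ B ∧ h x = 0} +
        2 * (∑ᶠ x ∈ {x : X | x ∈ B ∧ 1 ≤ h x}, 2 ^ h x) ≤ 3 * 2 ^ d := by
  classical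
  have hcore := cnt_core (fun i : {x : X // x ∈ B} => h i) d A hT h0 h1 hOFF
  have e1 : Nat.card B = Fintype.card {x : X // x ∈ B} := Nat.card_eq_fintype_card
  have e2 : Nat.card {x : X // x ∈ B ∧ h x = 0} =
      (Finset.univ.filter fun i : {x : X // x ∈ B} => h i = 0).card := by
    rw [Nat.card_congr (Equiv.subtypeSubtypeEquivSubtypeInter (fun x => x ∈ B)
      (fun x => h x = 0)).symm, Nat.card_eq_fintype_card, Fintype.card_subtype]
  have e3 : (∑ᶠ x ∈ {x : X | x ∈ B ∧ 1 ≤ h x}, 2 ^ h x) =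
      ∑ i ∈ Finset.univ.filter (fun i : {x : X // x ∈ B} => 1 ≤ h i), 2 ^ h i := by
    have hBfin : B.Finite := by
      have : Finite ↑B := Finite.of_fintype {x : X // x ∈ B}
      exact Set.toFinite B
    have hSfin : {x : X | x ∈ B ∧ 1 ≤ h x}.Finite := hBfin.subset fun x hx => hx.1
    rw [finsum_mem_eq_finite_toFinset_sum (fun x => 2 ^ h x) hSfin]
    have hmap := Finset.sum_map (Finset.univ.filter (fun i : {x : X // x ∈ B} => 1 ≤ h i))
      (Function.Embedding.subtype (fun x => x ∈ B)) (fun x => 2 ^ h x)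
    simp only [Function.Embedding.coe_subtype] at hmap
    rw [← hmap]
    refine Finset.sum_congr ?_ fun _ _ => rfl
    ext x
    simp [and_comm]
  rw [e1, e2, e3]
  exact hcore

/-- The integer variant: odd positive averages in height zero, `A = 2 ^ h * c` with `2 ≤ c` in
positive height. -/
theorem cnt_frozen_int {X : Type*} (B : Set X) [Fintype {x : X // x ∈ B}] (h : X → ℕ)
    (d : ℕ) (A : {x : X // x ∈ B} → ℤ)
    (hT : ∑ i, A i ≤ 3 * 2 ^ d)
    (h0 : ∀ i : {x : X // x ∈ B}, h i = 0 → Odd (A i) ∧ 0 < A i)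
    (h1 : ∀ i : {x : X // x ∈ B}, 1 ≤ h i → ∃ c : ℤ, 2 ≤ c ∧ A i = 2 ^ h i * c)
    (hOFF : ∀ i : {x : X // x ∈ B}, h i = 0 →
      ∑ j : {x : X // x ∈ B}, (4 : ℝ) ^ h j ≤ 2 ^ d * (A i : ℝ)) :
    3 * Nat.card B ≤ 3 * Nat.card {x : X // x ∈ B ∧ h x = 0} +
        2 * (∑ᶠ x ∈ {x : X | x ∈ B ∧ 1 ≤ h x}, 2 ^ h x) ∧
      3 * Nat.card {x : X // x ∈ B ∧ h x = 0} +
        2 * (∑ᶠ x ∈ {x : X | x ∈ B ∧ 1 ≤ h x}, 2 ^ h x) ≤ 3 * 2 ^ d := by
  refine cnt_frozen B h d (fun i => (A i : ℝ)) ?_ ?_ ?_ hOFF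
  · have : ((∑ i, A i : ℤ) : ℝ) ≤ ((3 * 2 ^ d : ℤ) : ℝ) := by exact_mod_cast hT
    push_cast at this
    exact this
  · intro i hi
    obtain ⟨⟨k, hk⟩, hpos⟩ := h0 i hi
    by_cases hk0 : k = 0
    · left
      rw [hk, hk0]
      norm_num
    · right
      have : (3 : ℤ) ≤ A i := by omega
      exact_mod_cast this
  · intro i hi
    obtain ⟨c, hc, hA⟩ := h1 i hi
    have h2 : (0 : ℤ) < 2 ^ h i := by positivity
    have : (2 : ℤ) * 2 ^ h i ≤ A i := by
      rw [hA]
      nlinarith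
    exact_mod_cast this

end Cfsg.Agent.Lib.H4.KZ
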