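import Mathlib
import Cfsg.Agent.Lib.H7.T648Defs
import Cfsg.Agent.Lib.H7.T648Model
import Cfsg.Agent.Lib.H18.L648Defs
import Cfsg.Agent.Lib.H18.LatEnum

/-!
helper4: S3702 (helper18's farm-out), piece REDUCE: from the abstract character data and a shape (the list of the
non-zero signed columns) to the signed degrees `D` with `ShapeOK cols g D`.
Exact signature of tools/blueprints/S3702_h18_sigs.lean.
-/

set_option autoImplicit false
set_option linter.unusedSectionVars false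

namespace Cfsg.Agent.Lib.H4.L648

open Cfsg Cfsg.Agent.Lib.H7.T648 Cfsg.Agent.Lib.H18 Cfsg.Agent.Lib.H18.L648
  Cfsg.Agent.Lib.H18.LatEnum
open scoped ComplexConjugate

/-- `zipWith` of two maps of the same list -/
theorem zipWith_map_map {α β γ δ : Type*} (f : β → γ → δ) (g : α → β) (h : α → γ) (L : List α) :
    List.zipWith f (L.map g) (L.map h) = L.map (fun x => f (g x) (h x)) := by
  induction L with
  | nil => rfl
  | cons x L ih => simp [ih]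

/-- `ceSum` without the monadic coercion of the list of degrees -/
theorem ceSum_eq (cols : List (List ℤ)) (D : List ℤ) (τ1 τ2 τ3 : ℕ) :
    ceSum cols D τ1 τ2 τ3 =
      (List.zipWith (fun c (d : ℤ) => ((vJ τ1 c * vJ τ2 c * vJ τ3 c : ℤ) : ℚ) / (d : ℚ)) cols D).sum := by
  unfold ceSum
  simp only [bind_pure_comp, List.map_eq_map, List.zipWith_map_right]

section split

variable {ι : Type*} [Fintype ι] [DecidableEq ι]

theorem sum_eq_add_sum_subtype {R : Type*} [AddCommMonoid R] (i0 : ι) (Φ : ι → R) :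
    ∑ χ, Φ χ = Φ i0 + ∑ ξ : {χ : ι // χ ≠ i0}, Φ ξ.1 := by
  rw [← Finset.add_sum_erase Finset.univ Φ (Finset.mem_univ i0)]
  congr 1
  exact Finset.sum_subtype (Finset.univ.erase i0) (by simp) Φ

/-- a sum over `ι` of a function supported on `i0` and the list `L` -/
theorem sum_split {R : Type*} [AddCommMonoid R] (i0 : ι) (L : List {χ : ι // χ ≠ i0}) (hL : L.Nodup)
    (Φ : ι → R) (hΦ : ∀ ξ : {χ : ι // χ ≠ i0}, ξ ∉ L → Φ ξ.1 = 0) :
    ∑ χ, Φ χ = Φ i0 + (L.map (fun ξ => Φ ξ.1)).sum := by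
  rw [sum_eq_add_sum_subtype i0 Φ, ← List.sum_toFinset _ hL]
  congr 1
  symm
  apply Finset.sum_subset (Finset.subset_univ _)
  intro ξ _ hξ
  exact hΦ ξ (by simpa using hξ)

/-- the inequality for a nonnegative function -/
theorem sum_split_le (i0 : ι) (L : List {χ : ι // χ ≠ i0}) (hL : L.Nodup)
    (Φ : ι → ℤ) (hΦ : ∀ χ, 0 ≤ Φ χ) :
    Φ i0 + (L.map (fun ξ => Φ ξ.1)).sum ≤ ∑ χ, Φ χ := by
  rw [sum_eq_add_sum_subtype i0 Φ, ← List.sum_toFinset _ hL]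
  apply add_le_add_right
  exact Finset.sum_le_univ_sum_of_nonneg (fun ξ => hΦ ξ.1)

end split

theorem wtv1 : T648.wtv ![1, 0, 0] = 1 := by decide
theorem wtv2 : T648.wtv ![1, 1, 0] = 2 := by decide
theorem wtv3 : T648.wtv ![1, 1, 1] = 3 := by decide

theorem xv_a0 (τ : ℕ) (h : τ = 1 ∨ τ = 2 ∨ τ = 3) : ∑ i : Fin 9, T648.xv i τ * a0 i = 1 := by
  rcases h with rfl | rfl | rfl <;> decide

theorem lcnt113 : lcnt ![1, 0, 0] ![1, 0, 0] ![1, 1, 1] = 0 := by decide +kernel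
theorem lcnt112 : lcnt ![1, 0, 0] ![1, 0, 0] ![1, 1, 0] = 32 := by decide +kernel
theorem lcnt133 : lcnt ![1, 0, 0] ![1, 1, 1] ![1, 1, 1] = 36 := by decide +kernel
theorem lcnt122 : lcnt ![1, 0, 0] ![1, 1, 0] ![1, 1, 0] = 16 := by decide +kernel
theorem lcnt332 : lcnt ![1, 1, 1] ![1, 1, 1] ![1, 1, 0] = 18 := by decide +kernel
theorem lcnt322 : lcnt ![1, 1, 1] ![1, 1, 0] ![1, 1, 0] = 24 := by decide +kernel
theorem lcnt132 : lcnt ![1, 0, 0] ![1, 1, 1] ![1, 1, 0] = 24 := by decide +kernel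

theorem v1_ne : (![1, 0, 0] : Fin 3 → ZMod 3) ≠ 0 := by decide
theorem v2_ne : (![1, 1, 0] : Fin 3 → ZMod 3) ≠ 0 := by decide
theorem v3_ne : (![1, 1, 1] : Fin 3 → ZMod 3) ≠ 0 := by decide
theorem v1_zero : ∃ i, (![1, 0, 0] : Fin 3 → ZMod 3) i = 0 := ⟨1, rfl⟩
theorem v2_zero : ∃ i, (![1, 1, 0] : Fin 3 → ZMod 3) i = 0 := ⟨2, rfl⟩

section main

variable {ι : Type*} [Fintype ι] [DecidableEq ι] (deg : ι → ℕ) (c : Fin 9 → ι → ℤ) (i0 : ι)
  (ε : {χ : ι // χ ≠ i0} → ℤ)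

theorem bOf_fin (i : Fin 9) (χ : {χ : ι // χ ≠ i0}) : bOf c i0 i.val χ = c i χ.1 := by
  unfold bOf
  rw [dif_pos i.2]

theorem vJ_colOf (τ : ℕ) (χ : {χ : ι // χ ≠ i0}) :
    vJ τ (colOf 9 (bOf c i0) ε χ) = ε χ * ∑ i : Fin 9, T648.xv i τ * c i χ.1 := by
  unfold vJ
  rw [Finset.mul_sum]
  apply Finset.sum_congr rfl
  intro i _
  rw [colOf_getD 9 _ _ _ i.val i.2, bOf_fin]
  unfold T648.xv
  ring

end main

theorem exists_shapeOK {ι : Type*} [Fintype ι] [DecidableEq ι] (deg : ι → ℕ) (c : Fin 9 → ι → ℤ)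
    (i0 : ι) (g : ℕ)
    (hdeg : ∀ χ, 0 < deg χ) (hdeg0 : deg i0 = 1)
    (hsq : ∑ χ, deg χ ^ 2 = g)
    (htriv : ∀ i, c i i0 = a0 i)
    (hzero : ∀ i, ∑ χ, c i χ * (deg χ : ℤ) = 0)
    (hce : ∀ w1 w2 w : Fin 3 → ZMod 3, w1 ≠ 0 → w2 ≠ 0 → w ≠ 0 →
      ((∃ i, w1 i = 0) ∨ (∃ i, w2 i = 0) ∨ (∃ i, w i = 0)) →
      ¬ (T648.wtv w1 = T648.wtv w2 ∧ T648.wtv w = T648.wtv w1) →
      ∑ χ, (((∑ i, T648.xv i (T648.wtv w1) * c i χ : ℤ) : ℚ) *
        ((∑ i, T648.xv i (T648.wtv w2) * c i χ : ℤ) : ℚ) *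
        ((∑ i, T648.xv i (T648.wtv w) * c i χ : ℤ) : ℚ)) / (deg χ : ℚ) =
        (729 * lcnt w1 w2 w : ℚ) / (g : ℚ))
    (cols : List (List ℤ)) (ε : {χ : ι // χ ≠ i0} → ℤ) (L : List {χ : ι // χ ≠ i0})
    (hε : ∀ χ, ε χ = 1 ∨ ε χ = -1) (hL : L.Nodup)
    (hcols : L.map (colOf 9 (bOf c i0) ε) = cols)
    (hrest : ∀ χ, χ ∉ L → ∀ i < 9, bOf c i0 i χ = 0) :
    ∃ D : List ℤ, ShapeOK cols g D := by
  classical
  subst hcols
  have hεε : ∀ χ, ε χ * ε χ = 1 := by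
    intro χ
    rcases hε χ with h | h <;> rw [h] <;> norm_num
  have hrest' : ∀ ξ : {χ : ι // χ ≠ i0}, ξ ∉ L → ∀ i : Fin 9, c i ξ.1 = 0 := by
    intro ξ hξ i
    rw [← bOf_fin c i0 i ξ]
    exact hrest ξ hξ i.val i.2
  -- the class equation for given vectors
  have hCE : ∀ (τ1 τ2 τ3 : ℕ) (w1 w2 w : Fin 3 → ZMod 3), T648.wtv w1 = τ1 → T648.wtv w2 = τ2 →
      T648.wtv w = τ3 → (τ1 = 1 ∨ τ1 = 2 ∨ τ1 = 3) → (τ2 = 1 ∨ τ2 = 2 ∨ τ2 = 3) →
      (τ3 = 1 ∨ τ3 = 2 ∨ τ3 = 3) → w1 ≠ 0 → w2 ≠ 0 → w ≠ 0 →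
      ((∃ i, w1 i = 0) ∨ (∃ i, w2 i = 0) ∨ (∃ i, w i = 0)) → ¬ (τ1 = τ2 ∧ τ3 = τ1) →
      1 + ceSum (L.map (colOf 9 (bOf c i0) ε)) (L.map (fun χ => ε χ * (deg χ.1 : ℤ))) τ1 τ2 τ3 =
        (729 * lcnt w1 w2 w : ℚ) / (g : ℚ) := by
    intro τ1 τ2 τ3 w1 w2 w e1 e2 e3 h1 h2 h3 n1 n2 n3 hz hne
    have H := hce w1 w2 w n1 n2 n3 hz (by rw [e1, e2, e3]; exact hne)
    rw [e1, e2, e3] at H
    rw [← H]
    rw [sum_split i0 L hL]
    · congr 1
      · rw [hdeg0]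
        simp only [htriv]
        rw [xv_a0 τ1 h1, xv_a0 τ2 h2, xv_a0 τ3 h3]
        norm_num
      · rw [ceSum_eq, zipWith_map_map]
        congr 1
        apply List.map_congr_left
        intro χ _
        rw [vJ_colOf, vJ_colOf, vJ_colOf]
        rcases hε χ with h | h <;> rw [h] <;> push_cast <;> ring
    · intro ξ hξ
      have h0 : ∀ τ : ℕ, (∑ i : Fin 9, T648.xv i τ * c i ξ.1 : ℤ) = 0 := by
        intro τ
        apply Finset.sum_eq_zero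
        intro i _
        rw [hrest' ξ hξ i, mul_zero]
      rw [h0, h0, h0]
      simp
  refine ⟨L.map (fun χ => ε χ * (deg χ.1 : ℤ)), ?_, ?_, ?_, ?_, ?_⟩
  · rw [List.length_map, List.length_map]
  · intro d hd
    obtain ⟨χ, _, rfl⟩ := List.mem_map.mp hd
    have h1 : (deg χ.1 : ℤ) ≠ 0 := by
      have := hdeg χ.1
      exact_mod_cast this.ne'
    rcases hε χ with h | h <;> rw [h] <;> simpa using h1
  · intro i
    unfold LatEnum.dot
    rw [zipWith_map_map]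
    have h := hzero i
    rw [sum_split i0 L hL] at h
    · rw [htriv, hdeg0] at h
      have e : (L.map (fun x => (colOf 9 (bOf c i0) ε x).getD i.val 0 * (ε x * (deg x.1 : ℤ)))) =
          L.map (fun ξ => c i ξ.1 * (deg ξ.1 : ℤ)) := by
        apply List.map_congr_left
        intro χ _
        rw [colOf_getD 9 _ _ _ i.val i.2, bOf_fin]
        calc ε χ * c i χ.1 * (ε χ * (deg χ.1 : ℤ)) = (ε χ * ε χ) * (c i χ.1 * (deg χ.1 : ℤ)) := by ring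
          _ = c i χ.1 * (deg χ.1 : ℤ) := by rw [hεε, one_mul]
      rw [e]
      simpa using h
    · intro ξ hξ
      rw [hrest' ξ hξ i, zero_mul]
  · have h := sum_split_le i0 L hL (fun χ => (deg χ : ℤ) ^ 2) (fun χ => sq_nonneg _)
    have hg : (∑ χ, (deg χ : ℤ) ^ 2) = (g : ℤ) := by
      rw [← hsq]
      push_cast
      rfl
    rw [hg] at h
    simp only [hdeg0] at h
    have e : (L.map (fun χ => ε χ * (deg χ.1 : ℤ))).map (fun d => d * d) =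
        L.map (fun ξ => (deg ξ.1 : ℤ) ^ 2) := by
      rw [List.map_map]
      apply List.map_congr_left
      intro χ _
      simp only [Function.comp_apply]
      calc ε χ * (deg χ.1 : ℤ) * (ε χ * (deg χ.1 : ℤ)) = (ε χ * ε χ) * (deg χ.1 : ℤ) ^ 2 := by ring
        _ = (deg χ.1 : ℤ) ^ 2 := by rw [hεε, one_mul]
    rw [e]
    simpa using h
  · intro p hp
    obtain ⟨⟨τ1, τ2, τ3⟩, cnt⟩ := p
    simp only [tripleData, List.mem_cons, Prod.mk.injEq, List.mem_nil_iff, or_false] at hp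
    rcases hp with ⟨⟨rfl, rfl, rfl⟩, rfl⟩ | ⟨⟨rfl, rfl, rfl⟩, rfl⟩ | ⟨⟨rfl, rfl, rfl⟩, rfl⟩ |
      ⟨⟨rfl, rfl, rfl⟩, rfl⟩ | ⟨⟨rfl, rfl, rfl⟩, rfl⟩ | ⟨⟨rfl, rfl, rfl⟩, rfl⟩ | ⟨⟨rfl, rfl, rfl⟩, rfl⟩
    · have h := hCE 1 1 3 _ _ _ wtv1 wtv1 wtv3 (by norm_num) (by norm_num) (by norm_num) v1_ne v1_ne v3_ne
        (Or.inl v1_zero) (by norm_num)
      rw [lcnt113] at h
      exact h
    · have h := hCE 1 1 2 _ _ _ wtv1 wtv1 wtv2 (by norm_num) (by norm_num) (by norm_num) v1_ne v1_ne v2_ne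
        (Or.inl v1_zero) (by norm_num)
      rw [lcnt112] at h
      exact h
    · have h := hCE 1 3 3 _ _ _ wtv1 wtv3 wtv3 (by norm_num) (by norm_num) (by norm_num) v1_ne v3_ne v3_ne
        (Or.inl v1_zero) (by norm_num)
      rw [lcnt133] at h
      exact h
    · have h := hCE 1 2 2 _ _ _ wtv1 wtv2 wtv2 (by norm_num) (by norm_num) (by norm_num) v1_ne v2_ne v2_ne
        (Or.inl v1_zero) (by norm_num)
      rw [lcnt122] at h
      exact h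
    · have h := hCE 3 3 2 _ _ _ wtv3 wtv3 wtv2 (by norm_num) (by norm_num) (by norm_num) v3_ne v3_ne v2_ne
        (Or.inr (Or.inr v2_zero)) (by norm_num)
      rw [lcnt332] at h
      exact h
    · have h := hCE 3 2 2 _ _ _ wtv3 wtv2 wtv2 (by norm_num) (by norm_num) (by norm_num) v3_ne v2_ne v2_ne
        (Or.inr (Or.inl v2_zero)) (by norm_num)
      rw [lcnt322] at h
      exact h
    · have h := hCE 1 3 2 _ _ _ wtv1 wtv3 wtv2 (by norm_num) (by norm_num) (by norm_num) v1_ne v3_ne v2_ne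
        (Or.inl v1_zero) (by norm_num)
      rw [lcnt132] at h
      exact h

end Cfsg.Agent.Lib.H4.L648
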