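import Cfsg.Agent.Lib.H27.LCDefs

/-!
# S0406 piece LC-SHA (helper27 architect): at most `1104` integer vectors `4 y` of norm `32`
-/

set_option autoImplicit false
set_option maxRecDepth 10000

namespace Cfsg.Agent.Lib.H4.LC

open Cfsg Cfsg.Agent.Lib.H27.LC

/-- the vector `± 4 e_i ± 4 e_j` -/
def shapeA (p : (Fin 24 × Fin 24) × (Bool × Bool)) : Fin 24 → ℤ :=
  Pi.single p.1.1 (if p.2.1 then 4 else -4) + Pi.single p.1.2 (if p.2.2 then 4 else -4)

/-- the index set -/
def shapeAIdx : Finset ((Fin 24 × Fin 24) × (Bool × Bool)) :=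
  (Finset.univ.filter fun p : Fin 24 × Fin 24 => p.1 < p.2) ×ˢ Finset.univ

theorem card_shapeAIdx : shapeAIdx.card = 1104 := by
  unfold shapeAIdx
  rw [Finset.card_product]
  have h1 : (Finset.univ.filter fun p : Fin 24 × Fin 24 => p.1 < p.2).card = 276 := by decide +kernel
  rw [h1]
  rfl

theorem shapeA_cover {c : Fin 24 → ℤ} (hn : nrm c = 32) (h4 : ∀ i, (4 : ℤ) ∣ c i) :
    c ∈ shapeAIdx.image shapeA := by
  choose y hy using h4
  have hsum : ∑ i, y i ^ 2 = 2 := by
    unfold nrm at hn
    have e : ∑ i, c i ^ 2 = 16 * ∑ i, y i ^ 2 := by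
      rw [Finset.mul_sum]
      refine Finset.sum_congr rfl fun i _ => ?_
      rw [hy i]
      ring
    rw [e] at hn
    omega
  have hle : ∀ i, y i ^ 2 ≤ 2 := by
    intro i
    rw [← hsum]
    exact Finset.single_le_sum (f := fun i => y i ^ 2) (fun j _ => sq_nonneg (y j)) (Finset.mem_univ i)
  have hval : ∀ i, y i = 0 ∨ y i = 1 ∨ y i = -1 := by
    intro i
    have h1 := hle i
    have h2 : -1 ≤ y i := by nlinarith
    have h3 : y i ≤ 1 := by nlinarith
    omega
  have hcard : (Finset.univ.filter fun i => y i ≠ 0).card = 2 := by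
    have e : ∑ i, y i ^ 2 = ∑ i, (if y i ≠ 0 then 1 else 0 : ℤ) := by
      refine Finset.sum_congr rfl fun i _ => ?_
      rcases hval i with h | h | h <;> rw [h] <;> simp
    rw [e] at hsum
    rw [Finset.card_filter]
    exact_mod_cast hsum
  obtain ⟨i, j, hij, hS⟩ := Finset.card_eq_two.1 hcard
  have hi : y i ≠ 0 := by
    have : i ∈ Finset.univ.filter fun i => y i ≠ 0 := by rw [hS]; simp
    exact (Finset.mem_filter.1 this).2
  have hj : y j ≠ 0 := by
    have : j ∈ Finset.univ.filter fun i => y i ≠ 0 := by rw [hS]; simp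
    exact (Finset.mem_filter.1 this).2
  have hk : ∀ k, k ≠ i → k ≠ j → y k = 0 := by
    intro k hki hkj
    by_contra hne
    have : k ∈ Finset.univ.filter fun i => y i ≠ 0 := Finset.mem_filter.2 ⟨Finset.mem_univ _, hne⟩
    rw [hS] at this
    simp only [Finset.mem_insert, Finset.mem_singleton] at this
    rcases this with h | h
    · exact hki h
    · exact hkj h
  have key : ∀ a b : Fin 24, a ≠ b → y a ≠ 0 → y b ≠ 0 → (∀ k, k ≠ a → k ≠ b → y k = 0) →
      c = shapeA ((a, b), (decide (y a = 1), decide (y b = 1))) := by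
    intro a b hab ha hb hk
    funext k
    unfold shapeA
    simp only [Pi.add_apply, Pi.single_apply, decide_eq_true_eq]
    rw [hy k]
    by_cases hka : k = a
    · subst hka
      rw [if_pos rfl, if_neg hab, add_zero]
      rcases hval k with h | h | h
      · exact absurd h ha
      · rw [h]; simp
      · rw [h]; simp
    · by_cases hkb : k = b
      · subst hkb
        rw [if_neg hka, if_pos rfl, zero_add]
        rcases hval k with h | h | h
        · exact absurd h hb
        · rw [h]; simp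
        · rw [h]; simp
      · rw [if_neg hka, if_neg hkb, hk k hka hkb]
        simp
  rw [Finset.mem_image]
  rcases lt_or_gt_of_ne hij with hlt | hgt
  · refine ⟨((i, j), (decide (y i = 1), decide (y j = 1))), ?_, (key i j hij hi hj hk).symm⟩
    unfold shapeAIdx
    simp only [Finset.mem_product, Finset.mem_filter, Finset.mem_univ, true_and, and_true]
    exact hlt
  · refine ⟨((j, i), (decide (y j = 1), decide (y i = 1))), ?_,
      (key j i hij.symm hj hi (fun k h1 h2 => hk k h2 h1)).symm⟩
    unfold shapeAIdx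
    simp only [Finset.mem_product, Finset.mem_filter, Finset.mem_univ, true_and, and_true]
    exact hgt

theorem ncard_shapeA_le :
    {c : Fin 24 → ℤ | nrm c = 32 ∧ ∀ i, (4 : ℤ) ∣ c i}.ncard ≤ 1104 := by
  have hsub : {c : Fin 24 → ℤ | nrm c = 32 ∧ ∀ i, (4 : ℤ) ∣ c i} ⊆ ↑(shapeAIdx.image shapeA) := by
    intro c hc
    exact shapeA_cover hc.1 hc.2
  calc {c : Fin 24 → ℤ | nrm c = 32 ∧ ∀ i, (4 : ℤ) ∣ c i}.ncard
      ≤ (↑(shapeAIdx.image shapeA) : Set (Fin 24 → ℤ)).ncard :=
        Set.ncard_le_ncard hsub (Finset.finite_toSet _)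
    _ = (shapeAIdx.image shapeA).card := Set.ncard_coe_finset _
    _ ≤ shapeAIdx.card := Finset.card_image_le
    _ = 1104 := card_shapeAIdx

end Cfsg.Agent.Lib.H4.LC
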