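import Mathlib
import Cfsg.Agent.Lib.H23.LSDefs

/-!
# S5286 piece TREEA (helper4): two minimisers of the sum of squared tree distances are adjacent
-/

set_option autoImplicit false

namespace Cfsg.Agent.Lib.H4.LS

open Cfsg Cfsg.Agent.Lib.H23.LS

universe u

variable {X : Type u} [DecidableEq X]

/-- local copy of (W1) -/
theorem toWord_letter_inv_mul_aux (l : X × Bool) (w : FreeGroup X) :
    ((letter l)⁻¹ * w).toWord =
      if w.toWord.head? = some l then w.toWord.tail else (l.1, !l.2) :: w.toWord := by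
  have h1 : (letter l)⁻¹ * w = FreeGroup.mk ((l.1, !l.2) :: w.toWord) := by
    conv_lhs => rw [← FreeGroup.mk_toWord (x := w)]
    rw [letter, FreeGroup.inv_mk, FreeGroup.mul_mk]
    rfl
  rw [h1, FreeGroup.toWord_mk, FreeGroup.reduce.cons, FreeGroup.reduce_toWord]
  rcases hW : w.toWord with _ | ⟨hd, tl⟩
  · simp
  · show (if l.1 = hd.1 ∧ (!l.2) = !hd.2 then tl else (l.1, !l.2) :: hd :: tl) =
      if (hd :: tl).head? = some l then (hd :: tl).tail else (l.1, !l.2) :: hd :: tl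
    by_cases h : hd = l
    · subst h
      simp
    · have h' : ¬ (l.1 = hd.1 ∧ (!l.2) = !hd.2) := by
        rintro ⟨h1, h2⟩
        apply h
        have h3 : l.2 = hd.2 := by simpa using h2
        exact (Prod.ext h1 h3).symm
      have h'' : ¬ ((hd :: tl).head? = some l) := by simpa using h
      rw [if_neg h', if_neg h'']

/-- local copy of (W2), in word form -/
theorem toWord_inv_mul_of_head_ne_aux (u w : FreeGroup X) (l : X × Bool) (hu : u.toWord.head? = some l)
    (hw : w.toWord.head? ≠ some l) :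
    (u⁻¹ * w).toWord = FreeGroup.invRev u.toWord ++ w.toWord := by
  rw [FreeGroup.toWord_mul, FreeGroup.toWord_inv]
  apply FreeGroup.IsReduced.reduce_eq
  rcases hU : u.toWord with _ | ⟨hd, U'⟩
  · rw [hU] at hu; simp at hu
  · rw [hU] at hu
    have hhd : hd = l := by simpa using hu
    subst hhd
    have hred : FreeGroup.IsReduced (FreeGroup.invRev (hd :: U')) := by
      rw [← hU, ← FreeGroup.toWord_inv]; exact FreeGroup.isReduced_toWord
    have hinv : FreeGroup.invRev (hd :: U') = FreeGroup.invRev U' ++ [(hd.1, !hd.2)] := by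
      simp [FreeGroup.invRev]
    rw [hinv] at hred ⊢
    apply FreeGroup.IsReduced.append_overlap hred _ (by simp)
    rcases hW : w.toWord with _ | ⟨e, W'⟩
    · simp
    · have hWr : FreeGroup.IsReduced (e :: W') := by rw [← hW]; exact FreeGroup.isReduced_toWord
      rw [List.singleton_append, FreeGroup.isReduced_cons_cons]
      refine ⟨?_, hWr⟩
      intro h1
      rw [hW] at hw
      have hne : e ≠ hd := by simpa using hw
      by_contra h2
      apply hne
      have : e.2 = hd.2 := by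
        simp only [] at h2
        cases h3 : e.2 <;> cases h4 : hd.2 <;> simp_all
      exact Prod.ext h1.symm this

theorem dist_eq (a b : FreeGroup X) : H23.LS.dist a b = (a⁻¹ * b).toWord.length := rfl

theorem dist_comm (a b : FreeGroup X) : H23.LS.dist a b = H23.LS.dist b a := by
  unfold H23.LS.dist
  have : b⁻¹ * a = (a⁻¹ * b)⁻¹ := by group
  rw [this, FreeGroup.norm_inv_eq]

theorem dist_triangle (a b c : FreeGroup X) : H23.LS.dist a b ≤ H23.LS.dist a c + H23.LS.dist c b := by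
  unfold H23.LS.dist
  have : a⁻¹ * b = (a⁻¹ * c) * (c⁻¹ * b) := by group
  rw [this]
  exact FreeGroup.norm_mul_le _ _

/-- moving one step from `a` along the letter `l`: the distance to `c` changes by exactly one. -/
theorem dist_step (a c : FreeGroup X) (l : X × Bool) :
    ((a⁻¹ * c).toWord.head? = some l ∧ H23.LS.dist (a * letter l) c + 1 = H23.LS.dist a c) ∨
    ((a⁻¹ * c).toWord.head? ≠ some l ∧ H23.LS.dist (a * letter l) c = H23.LS.dist a c + 1) := by
  have h : (a * letter l)⁻¹ * c = (letter l)⁻¹ * (a⁻¹ * c) := by group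
  rw [dist_eq, dist_eq, h, toWord_letter_inv_mul_aux]
  by_cases hh : (a⁻¹ * c).toWord.head? = some l
  · left
    refine ⟨hh, ?_⟩
    rw [if_pos hh]
    rcases hW : (a⁻¹ * c).toWord with _ | ⟨e, W'⟩
    · rw [hW] at hh; simp at hh
    · simp
  · right
    refine ⟨hh, ?_⟩
    rw [if_neg hh]
    simp

/-- the per-point inequality -/
theorem key (a b c : FreeGroup X) (l l' : X × Bool) (hl : (a⁻¹ * b).toWord.head? = some l)
    (hl' : (b⁻¹ * a).toWord.head? = some l') :
    (((H23.LS.dist (a * letter l) c : ℕ) : ℤ) ^ 2 - ((H23.LS.dist a c : ℕ) : ℤ) ^ 2) +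
      (((H23.LS.dist (b * letter l') c : ℕ) : ℤ) ^ 2 - ((H23.LS.dist b c : ℕ) : ℤ) ^ 2) ≤ 2 - 2 * ((H23.LS.dist a b : ℕ) : ℤ) := by
  rcases dist_step a c l with ⟨ha1, ha2⟩ | ⟨ha1, ha2⟩
  · rcases dist_step b c l' with ⟨hb1, hb2⟩ | ⟨hb1, hb2⟩
    · -- both decrease
      have htri := dist_triangle a b c
      rw [dist_comm c b] at htri
      have e1 : ((H23.LS.dist a c : ℕ) : ℤ) = (H23.LS.dist (a * letter l) c : ℕ) + 1 := by exact_mod_cast ha2.symm
      have e2 : ((H23.LS.dist b c : ℕ) : ℤ) = (H23.LS.dist (b * letter l') c : ℕ) + 1 := by exact_mod_cast hb2.symm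
      have e3 : ((H23.LS.dist a b : ℕ) : ℤ) ≤ (H23.LS.dist a c : ℕ) + (H23.LS.dist b c : ℕ) := by exact_mod_cast htri
      rw [e1, e2] at e3 ⊢
      nlinarith
    · -- b side does not start with l': W2 with u = b⁻¹a, w = b⁻¹c
      have hW2 := toWord_inv_mul_of_head_ne_aux (b⁻¹ * a) (b⁻¹ * c) l' hl' hb1
      have hx : (b⁻¹ * a)⁻¹ * (b⁻¹ * c) = a⁻¹ * c := by group
      rw [hx] at hW2
      have hlen : H23.LS.dist a c = H23.LS.dist b a + H23.LS.dist b c := by
        rw [dist_eq, hW2, List.length_append, dist_eq, dist_eq]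
        simp [FreeGroup.invRev]
      rw [dist_comm b a] at hlen
      have e1 : ((H23.LS.dist a c : ℕ) : ℤ) = (H23.LS.dist (a * letter l) c : ℕ) + 1 := by exact_mod_cast ha2.symm
      have e2 : ((H23.LS.dist (b * letter l') c : ℕ) : ℤ) = (H23.LS.dist b c : ℕ) + 1 := by exact_mod_cast hb2
      have e3 : ((H23.LS.dist a c : ℕ) : ℤ) = (H23.LS.dist a b : ℕ) + (H23.LS.dist b c : ℕ) := by exact_mod_cast hlen
      rw [e2]
      have e4 : ((H23.LS.dist (a * letter l) c : ℕ) : ℤ) = (H23.LS.dist a b : ℕ) + (H23.LS.dist b c : ℕ) - 1 := by linarith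
      rw [e4, e3]
      nlinarith
  · -- a side does not start with l: W2 with u = a⁻¹b, w = a⁻¹c
    have hW2 := toWord_inv_mul_of_head_ne_aux (a⁻¹ * b) (a⁻¹ * c) l hl ha1
    have hx : (a⁻¹ * b)⁻¹ * (a⁻¹ * c) = b⁻¹ * c := by group
    rw [hx] at hW2
    have hlen : H23.LS.dist b c = H23.LS.dist a b + H23.LS.dist a c := by
      rw [dist_eq, hW2, List.length_append, dist_eq, dist_eq]
      simp [FreeGroup.invRev]
    -- head of b⁻¹ c is l'
    have hhead : (b⁻¹ * c).toWord.head? = some l' := by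
      rw [hW2]
      have hinv : (b⁻¹ * a).toWord = FreeGroup.invRev (a⁻¹ * b).toWord := by
        rw [← FreeGroup.toWord_inv]
        congr 1
        group
      rw [← hinv]
      rcases hU : (b⁻¹ * a).toWord with _ | ⟨e, U'⟩
      · rw [hU] at hl'; simp at hl'
      · rw [hU] at hl'
        simpa using hl'
    rcases dist_step b c l' with ⟨hb1, hb2⟩ | ⟨hb1, hb2⟩
    · have e1 : ((H23.LS.dist (a * letter l) c : ℕ) : ℤ) = (H23.LS.dist a c : ℕ) + 1 := by exact_mod_cast ha2
      have e2 : ((H23.LS.dist b c : ℕ) : ℤ) = (H23.LS.dist (b * letter l') c : ℕ) + 1 := by exact_mod_cast hb2.symm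
      have e3 : ((H23.LS.dist b c : ℕ) : ℤ) = (H23.LS.dist a b : ℕ) + (H23.LS.dist a c : ℕ) := by exact_mod_cast hlen
      rw [e1]
      have e4 : ((H23.LS.dist (b * letter l') c : ℕ) : ℤ) = (H23.LS.dist a b : ℕ) + (H23.LS.dist a c : ℕ) - 1 := by linarith
      rw [e4, e3]
      nlinarith
    · exact absurd hhead hb1

/-- (TREEA) two minimisers of the sum of squared distances to a finite family of points, over a set closed under
taking the first step towards each other, are at distance at most one. -/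
theorem dist_le_one_of_minimizers {H : Type*} [Fintype H] [Nonempty H] (c : H → FreeGroup X)
    (a b : FreeGroup X) (hab : a ≠ b)
    (ha : ∀ l, (a⁻¹ * b).toWord.head? = some l →
      ∑ h, (H23.LS.dist a (c h)) ^ 2 ≤ ∑ h, (H23.LS.dist (a * letter l) (c h)) ^ 2)
    (hb : ∀ l, (b⁻¹ * a).toWord.head? = some l →
      ∑ h, (H23.LS.dist b (c h)) ^ 2 ≤ ∑ h, (H23.LS.dist (b * letter l) (c h)) ^ 2) :
    H23.LS.dist a b ≤ 1 := by
  have h1 : (a⁻¹ * b).toWord ≠ [] := by
    rw [Ne, FreeGroup.toWord_eq_nil_iff]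
    intro h
    apply hab
    have : b = a * (a⁻¹ * b) := by group
    rw [this, h, mul_one]
  have h2 : (b⁻¹ * a).toWord ≠ [] := by
    rw [Ne, FreeGroup.toWord_eq_nil_iff]
    intro h
    apply hab
    have : a = b * (b⁻¹ * a) := by group
    rw [this, h, mul_one]
  obtain ⟨l, hl⟩ : ∃ l, (a⁻¹ * b).toWord.head? = some l := by
    rcases hU : (a⁻¹ * b).toWord with _ | ⟨e, U'⟩
    · exact absurd hU h1
    · exact ⟨e, rfl⟩
  obtain ⟨l', hl'⟩ : ∃ l', (b⁻¹ * a).toWord.head? = some l' := by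
    rcases hU : (b⁻¹ * a).toWord with _ | ⟨e, U'⟩
    · exact absurd hU h2
    · exact ⟨e, rfl⟩
  have hA := ha l hl
  have hB := hb l' hl'
  have hAz : (0 : ℤ) ≤ ∑ h, ((((H23.LS.dist (a * letter l) (c h) : ℕ) : ℤ)) ^ 2 - ((H23.LS.dist a (c h) : ℕ) : ℤ) ^ 2) := by
    rw [Finset.sum_sub_distrib]
    have : ((∑ h, (H23.LS.dist a (c h)) ^ 2 : ℕ) : ℤ) ≤ ((∑ h, (H23.LS.dist (a * letter l) (c h)) ^ 2 : ℕ) : ℤ) := by
      exact_mod_cast hA
    push_cast at this
    linarith
  have hBz : (0 : ℤ) ≤ ∑ h, ((((H23.LS.dist (b * letter l') (c h) : ℕ) : ℤ)) ^ 2 - ((H23.LS.dist b (c h) : ℕ) : ℤ) ^ 2) := by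
    rw [Finset.sum_sub_distrib]
    have : ((∑ h, (H23.LS.dist b (c h)) ^ 2 : ℕ) : ℤ) ≤ ((∑ h, (H23.LS.dist (b * letter l') (c h)) ^ 2 : ℕ) : ℤ) := by
      exact_mod_cast hB
    push_cast at this
    linarith
  have hsum : ∑ h : H, (((((H23.LS.dist (a * letter l) (c h) : ℕ) : ℤ)) ^ 2 - ((H23.LS.dist a (c h) : ℕ) : ℤ) ^ 2) +
      ((((H23.LS.dist (b * letter l') (c h) : ℕ) : ℤ)) ^ 2 - ((H23.LS.dist b (c h) : ℕ) : ℤ) ^ 2)) ≤
      ∑ _h : H, (2 - 2 * ((H23.LS.dist a b : ℕ) : ℤ)) :=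
    Finset.sum_le_sum fun h _ => key a b (c h) l l' hl hl'
  rw [Finset.sum_add_distrib, Finset.sum_const, Finset.card_univ] at hsum
  have hcard : (0 : ℤ) < (Fintype.card H : ℤ) := by exact_mod_cast Fintype.card_pos
  have h3 : (0 : ℤ) ≤ (Fintype.card H : ℤ) * (2 - 2 * ((H23.LS.dist a b : ℕ) : ℤ)) := by
    rw [nsmul_eq_mul] at hsum
    linarith
  have h4 : (0 : ℤ) ≤ 2 - 2 * ((H23.LS.dist a b : ℕ) : ℤ) := by
    by_contra hneg
    rw [not_le] at hneg
    have := mul_neg_of_pos_of_neg hcard hneg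
    linarith
  have h5 : ((H23.LS.dist a b : ℕ) : ℤ) ≤ 1 := by linarith
  exact_mod_cast h5

end Cfsg.Agent.Lib.H4.LS
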