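import Mathlib
import Cfsg.Agent.Lib.H23.LSDefs
import Cfsg.Agent.Lib.H4.LSTREEA

/-!
# S5286 piece TFP (helper4): a finite subgroup of `FreeGroup X ⋊ Q` fixes a vertex of the Cayley tree
(inside a prefix-closed orbit).  Contains local copies of ACT / AFF / CONV.
-/

set_option autoImplicit false

namespace Cfsg.Agent.Lib.H4.LS

open Cfsg Cfsg.Agent.Lib.H23.LS

universe u v

variable {X : Type u} [DecidableEq X] {Q : Type v} [Group Q] [MulAction Q X]

theorem isReduced_map_smul (q : Q) {L : List (X × Bool)} (h : FreeGroup.IsReduced L) :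
    FreeGroup.IsReduced (L.map fun a => (q • a.1, a.2)) := by
  unfold FreeGroup.IsReduced at *
  refine List.isChain_map_of_isChain (R := fun a b : X × Bool => a.1 = b.1 → a.2 = b.2)
    (fun a : X × Bool => (q • a.1, a.2)) ?_ h
  intro a b hab h1
  exact hab (MulAction.injective q h1)

/-- local copy of (ACT) -/
theorem toWord_actAut_aux (q : Q) (v : FreeGroup X) :
    (actAut X Q q v).toWord = v.toWord.map fun a => (q • a.1, a.2) := by
  rw [actAut_apply]
  conv_lhs => rw [← FreeGroup.mk_toWord (x := v)]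
  rw [FreeGroup.map.mk, FreeGroup.toWord_mk]
  exact (isReduced_map_smul q FreeGroup.isReduced_toWord).reduce_eq

theorem norm_actAut (q : Q) (v : FreeGroup X) : (actAut X Q q v).norm = v.norm := by
  unfold FreeGroup.norm
  rw [toWord_actAut_aux, List.length_map]

theorem aff_mul_aux (g h : Amb X Q) (v : FreeGroup X) : aff (g * h) v = aff g (aff h v) := by
  unfold aff
  rw [SemidirectProduct.mul_left, SemidirectProduct.mul_right, map_mul, map_mul, MulAut.mul_apply,
    mul_assoc]

theorem mul_left_eq_aff (k g : Amb X Q) : (k * g).left = aff k g.left := rfl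

theorem dist_aff_aux (g : Amb X Q) (a b : FreeGroup X) :
    H23.LS.dist (aff g a) (aff g b) = H23.LS.dist a b := by
  unfold H23.LS.dist aff
  have : (g.left * actAut X Q g.right a)⁻¹ * (g.left * actAut X Q g.right b) =
      actAut X Q g.right (a⁻¹ * b) := by
    rw [map_mul, map_inv]
    group
  rw [this, norm_actAut]

theorem actAut_letter (q : Q) (l : X × Bool) :
    actAut X Q q (letter l) = letter (q • l.1, l.2) := by
  rw [actAut_apply, letter, FreeGroup.map.mk]
  rfl

theorem aff_mul_letter_aux (g : Amb X Q) (a : FreeGroup X) (l : X × Bool) :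
    aff g (a * letter l) = aff g a * letter (g.right • l.1, l.2) := by
  unfold aff
  rw [map_mul, actAut_letter, mul_assoc]

/-- local copy of (CONV) -/
theorem conv_aux (G : Subgroup (Amb X Q))
    (hpref : ∀ g ∈ G, ∀ n : ℕ, ∃ g' ∈ G, g'.left = FreeGroup.mk (g.left.toWord.take n))
    (g₁ g₂ : Amb X Q) (h₁ : g₁ ∈ G) (h₂ : g₂ ∈ G) (l : X × Bool)
    (hl : (g₁.left⁻¹ * g₂.left).toWord.head? = some l) :
    ∃ g' ∈ G, g'.left = g₁.left * letter l := by
  have hmem : g₁⁻¹ * g₂ ∈ G := G.mul_mem (G.inv_mem h₁) h₂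
  have hleft : (g₁⁻¹ * g₂).left = actAut X Q g₁.right⁻¹ (g₁.left⁻¹ * g₂.left) := by
    rw [SemidirectProduct.mul_left, SemidirectProduct.inv_left, SemidirectProduct.inv_right, map_mul]
  obtain ⟨g'', hg'', hg''l⟩ := hpref _ hmem 1
  rw [hleft, toWord_actAut_aux] at hg''l
  rcases hW : (g₁.left⁻¹ * g₂.left).toWord with _ | ⟨e, W'⟩
  · rw [hW] at hl; simp at hl
  · rw [hW] at hl hg''l
    have he : e = l := by simpa using hl
    subst he
    have htake : (List.map (fun a : X × Bool => (g₁.right⁻¹ • a.1, a.2)) (e :: W')).take 1 =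
        [(g₁.right⁻¹ • e.1, e.2)] := by simp
    rw [htake] at hg''l
    refine ⟨g₁ * g'', G.mul_mem h₁ hg'', ?_⟩
    rw [SemidirectProduct.mul_left, hg''l]
    have h3 := actAut_letter (X := X) (Q := Q) g₁.right (g₁.right⁻¹ • e.1, e.2)
    unfold letter at h3 ⊢
    rw [h3]
    simp

theorem dist_eq_zero_iff (a b : FreeGroup X) : H23.LS.dist a b = 0 ↔ a = b := by
  unfold H23.LS.dist
  rw [FreeGroup.norm_eq_zero]
  constructor
  · intro h
    have : b = a * (a⁻¹ * b) := by group
    rw [this, h, mul_one]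
  · rintro rfl
    group

/-- (TFP) the fixed point theorem for finite subgroups acting on the Cayley tree. -/
theorem exists_fixed_point (G : Subgroup (Amb X Q))
    (hpref : ∀ g ∈ G, ∀ n : ℕ, ∃ g' ∈ G, g'.left = FreeGroup.mk (g.left.toWord.take n))
    (H : Subgroup (Amb X Q)) (hHG : H ≤ G) [Finite H] :
    ∃ g ∈ G, ∀ h ∈ H, (g⁻¹ * h * g).left = 1 := by
  classical
  haveI : Fintype H := Fintype.ofFinite H
  let c : H → FreeGroup X := fun h => (h : Amb X Q).left
  let f : FreeGroup X → ℕ := fun v => ∑ h : H, (H23.LS.dist v (c h)) ^ 2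
  -- invariance of `f` under `H`
  have hinv : ∀ k ∈ H, ∀ v, f (aff k v) = f v := by
    intro k hk v
    let e : H ≃ H := Equiv.mulLeft (⟨k, hk⟩ : H)
    have hce : ∀ h : H, c (e h) = aff k (c h) := by
      intro h
      show ((⟨k, hk⟩ * h : H) : Amb X Q).left = aff k (h : Amb X Q).left
      rw [Subgroup.coe_mul, mul_left_eq_aff]
    calc f (aff k v) = ∑ h : H, (H23.LS.dist (aff k v) (c (e h))) ^ 2 :=
          (Equiv.sum_comp e (fun h => (H23.LS.dist (aff k v) (c h)) ^ 2)).symm
      _ = f v := Finset.sum_congr rfl (fun h _ => by rw [hce h, dist_aff_aux])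
  -- a minimiser over the orbit of the base vertex
  obtain ⟨g, hgG, hmin⟩ : ∃ g ∈ G, ∀ g' ∈ G, f g.left ≤ f g'.left := by
    let S : Set ℕ := {m | ∃ g ∈ G, f g.left = m}
    have hS : S.Nonempty := ⟨_, 1, G.one_mem, rfl⟩
    obtain ⟨m, ⟨g, hg, rfl⟩, hm⟩ := WellFounded.has_min Nat.lt_wfRel.wf S hS
    exact ⟨g, hg, fun g' hg' => not_lt.mp (hm _ ⟨g', hg', rfl⟩)⟩
  -- two minimisers in the orbit are at distance ≤ 1
  have tree : ∀ g1 ∈ G, ∀ g2 ∈ G, f g1.left = f g.left → f g2.left = f g.left →
      g1.left ≠ g2.left → H23.LS.dist g1.left g2.left ≤ 1 := by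
    intro g1 h1 g2 h2 e1 e2 hne12
    apply dist_le_one_of_minimizers c g1.left g2.left hne12
    · intro l hl
      obtain ⟨g', hg', hg'l⟩ := conv_aux G hpref g1 g2 h1 h2 l hl
      have h3 := hmin g' hg'
      rw [hg'l] at h3
      show f g1.left ≤ f (g1.left * letter l)
      rw [e1]; exact h3
    · intro l hl
      obtain ⟨g', hg', hg'l⟩ := conv_aux G hpref g2 g1 h2 h1 l hl
      have h3 := hmin g' hg'
      rw [hg'l] at h3
      show f g2.left ≤ f (g2.left * letter l)
      rw [e2]; exact h3
  have key : ∀ k ∈ H, (k * g).left = g.left := by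
    intro k hk
    by_contra hne
    have hkG : k ∈ G := hHG hk
    have hbG : k * g ∈ G := G.mul_mem hkG hgG
    have hb2G : k * (k * g) ∈ G := G.mul_mem hkG hbG
    have hfb : f (k * g).left = f g.left := by rw [mul_left_eq_aff, hinv k hk]
    have hfb2 : f (k * (k * g)).left = f g.left := by rw [mul_left_eq_aff, hinv k hk, hfb]
    have hd1 : H23.LS.dist g.left (k * g).left ≤ 1 :=
      tree g hgG (k * g) hbG rfl hfb (fun h => hne h.symm)
    have hd0 : H23.LS.dist g.left (k * g).left ≠ 0 := by
      rw [Ne, dist_eq_zero_iff]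
      exact fun h => hne h.symm
    have hd : (g.left⁻¹ * (k * g).left).toWord.length = 1 := by
      have : H23.LS.dist g.left (k * g).left = 1 := by omega
      exact this
    obtain ⟨l, hl⟩ : ∃ l, (g.left⁻¹ * (k * g).left).toWord = [l] := List.length_eq_one_iff.mp hd
    have hb : (k * g).left = g.left * letter l := by
      have h1 : g.left⁻¹ * (k * g).left = letter l := by
        rw [← FreeGroup.mk_toWord (x := g.left⁻¹ * (k * g).left), hl]
        rfl
      rw [← h1]
      group
    -- the second translate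
    have hb2 : (k * (k * g)).left = g.left * letter l * letter (k.right • l.1, l.2) := by
      rw [mul_left_eq_aff k (k * g), hb, aff_mul_letter_aux, ← mul_left_eq_aff, hb]
    have hword : (g.left⁻¹ * (k * (k * g)).left).toWord = [l, (k.right • l.1, l.2)] := by
      have h1 : g.left⁻¹ * (k * (k * g)).left = FreeGroup.mk [l, (k.right • l.1, l.2)] := by
        rw [hb2]
        have : g.left⁻¹ * (g.left * letter l * letter (k.right • l.1, l.2)) =
            letter l * letter (k.right • l.1, l.2) := by group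
        rw [this]
        rfl
      rw [h1, FreeGroup.toWord_mk]
      apply FreeGroup.IsReduced.reduce_eq
      rw [FreeGroup.isReduced_cons_cons]
      exact ⟨fun _ => rfl, FreeGroup.IsReduced.singleton⟩
    have hd2 : H23.LS.dist g.left (k * (k * g)).left = 2 := by
      show (g.left⁻¹ * (k * (k * g)).left).toWord.length = 2
      rw [hword]
      rfl
    have hne2 : g.left ≠ (k * (k * g)).left := by
      intro h
      have := (dist_eq_zero_iff g.left (k * (k * g)).left).mpr h
      omega
    have := tree g hgG (k * (k * g)) hb2G rfl hfb2 hne2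
    omega
  refine ⟨g, hgG, fun h hh => ?_⟩
  rw [mul_assoc, SemidirectProduct.mul_left, key h hh, SemidirectProduct.inv_left,
    SemidirectProduct.inv_right, ← map_mul, inv_mul_cancel, map_one]

end Cfsg.Agent.Lib.H4.LS
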