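import Mathlib
import Cfsg.Agent.Lib.H4.LieOrd1
import Cfsg.Agent.S0243

/-!
Order bounds for `PSL_n(q)` (helper4): the `p`-part of the order and the bounds `|G| < p^(3k)`, `|G|^3 < p^(8k)`
(the latter for `n ≥ 3`).
-/

set_option autoImplicit false

namespace Cfsg.Agent.Lib.H4.LieOrd

open Finset

theorem psl_bounds {F : Type*} [Field F] [Fintype F] {p f : ℕ} (hp : p.Prime)
    (hF : Fintype.card F = p ^ f) (hf : 1 ≤ f) (k : ℕ) :
    (Nat.card (Matrix.ProjectiveSpecialLinearGroup (Fin (k + 2)) F)).factorization p =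
        f * ∑ i ∈ range (k + 2), i ∧
      Nat.card (Matrix.ProjectiveSpecialLinearGroup (Fin (k + 2)) F) <
        p ^ (3 * (f * ∑ i ∈ range (k + 2), i)) ∧
      (1 ≤ k → Nat.card (Matrix.ProjectiveSpecialLinearGroup (Fin (k + 2)) F) ^ 3 <
        p ^ (8 * (f * ∑ i ∈ range (k + 2), i))) := by
  set q := p ^ f with hq
  set X := Nat.card (Matrix.ProjectiveSpecialLinearGroup (Fin (k + 2)) F) with hXdef
  have hpq : p ∣ q := dvd_pow_self p (by omega)
  have hq2 : 2 ≤ q := le_trans hp.two_le (Nat.le_self_pow (by omega) p)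
  have hq1 : 1 ≤ q := by omega
  have h := Cfsg.Agent.S0243.result hF (k + 2) (by omega)
  rw [prod_psl, Finset.prod_range_succ' (fun i => q ^ (i + 1) - 1) (k + 1), zero_add, pow_one] at h
  have hX : Nat.gcd (k + 2) (q - 1) * X = q ^ (∑ i ∈ range (k + 2), i) *
      ∏ i ∈ range (k + 1), (q ^ (i + 2) - 1) := by
    have hq0 : 0 < q - 1 := by omega
    apply Nat.eq_of_mul_eq_mul_left hq0
    calc (q - 1) * (Nat.gcd (k + 2) (q - 1) * X) = Nat.gcd (k + 2) (q - 1) * ((q - 1) * X) := by ring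
      _ = _ := h
      _ = _ := by ring
  have hd : Nat.Coprime p (Nat.gcd (k + 2) (q - 1)) :=
    Nat.Coprime.coprime_dvd_right (Nat.gcd_dvd_right _ _) (by simpa using cop_sub_one hpq hq1 1 le_rfl)
  have hM : Nat.Coprime p (∏ i ∈ range (k + 1), (q ^ (i + 2) - 1)) :=
    Nat.Coprime.prod_right fun i _ => cop_sub_one hpq hq1 (i + 2) (by omega)
  have hlt := prod_lt_pow_sum q (fun i => i + 2) (fun i => q ^ (i + 2) - 1)
    (fun i => sub_one_pos hq2 _ (by omega)) (fun i => sub_one_lt_pow hq1 _) k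
  have e1 := two_mul_sum_add_two k
  have e2 := two_mul_sum_id (k + 1)
  have ha1 : ∑ i ∈ range (k + 1), (i + 2) ≤ 2 * ∑ i ∈ range (k + 2), i := by
    rw [show k + 1 + 1 = k + 2 from rfl] at e2
    nlinarith
  obtain ⟨r1, r2, r3⟩ := main_bound hp hq hX hd hM hlt ha1
  refine ⟨r1, r2, fun hk => r3 ?_⟩
  rw [show k + 1 + 1 = k + 2 from rfl] at e2
  nlinarith

end Cfsg.Agent.Lib.H4.LieOrd
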