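import Mathlib
import Cfsg.Agent.Lib.H4.LieOrd1
import Cfsg.Agent.S0280

/-!
Order bounds for `PSU_n(q)` (helper4): the `p`-part of the order and the bounds `|G| < p^(3k)`, `|G|^3 < p^(8k)`
(the latter for `n ≥ 3`).
-/

set_option autoImplicit false

namespace Cfsg.Agent.Lib.H4.LieOrd

open Finset

theorem psu_bounds {F : Type*} [Field F] [Fintype F] {p f q : ℕ} (hp : p.Prime)
    (hF : Fintype.card F = q ^ 2) (hq : q = p ^ f) (hf : 1 ≤ f) (k : ℕ) :
    (Nat.card (Cfsg.PSU (k + 2) F q)).factorization p = f * ((k + 2) * (k + 1) / 2) ∧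
      Nat.card (Cfsg.PSU (k + 2) F q) < p ^ (3 * (f * ((k + 2) * (k + 1) / 2))) ∧
      (1 ≤ k → Nat.card (Cfsg.PSU (k + 2) F q) ^ 3 < p ^ (8 * (f * ((k + 2) * (k + 1) / 2)))) := by
  set X := Nat.card (Cfsg.PSU (k + 2) F q) with hXdef
  have hpq : p ∣ q := by rw [hq]; exact dvd_pow_self p (by omega)
  have hq2 : 2 ≤ q := by rw [hq]; exact le_trans hp.two_le (Nat.le_self_pow (by omega) p)
  have hq1 : 1 ≤ q := by omega
  have h := Cfsg.Agent.S0280.result hF (k + 2) (by omega)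
  rw [Finset.prod_range_succ' _ (k + 1), if_pos (by decide : Even 0), zero_add, pow_one,
    show k + 2 - 1 = k + 1 from rfl] at h
  have hX : Nat.gcd (k + 2) (q + 1) * X = q ^ ((k + 2) * (k + 1) / 2) *
      ∏ i ∈ range (k + 1), gU q i := by
    have hq0 : 0 < q + 1 := by omega
    apply Nat.eq_of_mul_eq_mul_left hq0
    calc (q + 1) * (Nat.gcd (k + 2) (q + 1) * X) = Nat.gcd (k + 2) (q + 1) * ((q + 1) * X) := by ring
      _ = _ := h
      _ = _ := by
        unfold gU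
        ring
  have hd : Nat.Coprime p (Nat.gcd (k + 2) (q + 1)) :=
    Nat.Coprime.coprime_dvd_right (Nat.gcd_dvd_right _ _) (by simpa using cop_pow_add_one hpq 1 le_rfl)
  have hM : Nat.Coprime p (∏ i ∈ range (k + 1), gU q i) :=
    Nat.Coprime.prod_right fun i _ => cop_gU hpq hq1 i
  have hlt := prodU_lt hq2 k
  have e1 := two_mul_sum_add_two k
  have e2 : 2 * ((k + 2) * (k + 1) / 2) = (k + 2) * (k + 1) := by
    apply Nat.mul_div_cancel'
    have := Nat.even_mul_succ_self (k + 1)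
    rw [mul_comm] at this
    exact this.two_dvd
  have ha1 : ∑ i ∈ range (k + 1), (i + 2) ≤ 2 * ((k + 2) * (k + 1) / 2) := by
    nlinarith
  obtain ⟨r1, r2, r3⟩ := main_bound hp hq hX hd hM hlt ha1
  refine ⟨r1, r2, fun hk => r3 ?_⟩
  nlinarith

end Cfsg.Agent.Lib.H4.LieOrd
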