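import Mathlib
import Cfsg.Agent.Lib.H4.LieOrd1
import Cfsg.Agent.S0292
import Cfsg.Agent.S0293
import Cfsg.Agent.S0294

/-!
Order bounds for the orthogonal groups `PΩ_{2m+1}(q)`, `PΩ^±_{2m}(q)` (helper4): the `p`-part of the order and
the bounds `|G| < p^(3k)`, `|G|^3 < p^(8k)`.
-/

set_option autoImplicit false

namespace Cfsg.Agent.Lib.H4.LieOrd

open Finset

theorem pomega_odd_bounds {F : Type*} [Field F] [Fintype F] {p f : ℕ} (hp : p.Prime)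
    (hF : Fintype.card F = p ^ f) (hf : 1 ≤ f) (hodd : Odd (p ^ f)) (m : ℕ) (hm : 3 ≤ m) :
    (Nat.card (Cfsg.POmega F (Cfsg.quadFormOdd m F))).factorization p = f * m ^ 2 ∧
      Nat.card (Cfsg.POmega F (Cfsg.quadFormOdd m F)) < p ^ (3 * (f * m ^ 2)) ∧
      Nat.card (Cfsg.POmega F (Cfsg.quadFormOdd m F)) ^ 3 < p ^ (8 * (f * m ^ 2)) := by
  set q := p ^ f with hq
  have hpq : p ∣ q := dvd_pow_self p (by omega)
  have hq2 : 2 ≤ q := le_trans hp.two_le (Nat.le_self_pow (by omega) p)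
  have hq1 : 1 ≤ q := by omega
  obtain ⟨k, rfl⟩ : ∃ k, m = k + 1 := ⟨m - 1, by omega⟩
  have hX := Cfsg.Agent.S0292.result hF hodd (k + 1) hm
  have hd : Nat.Coprime p 2 := by
    rw [Nat.coprime_primes hp Nat.prime_two]
    rintro rfl
    rw [hq] at hodd
    exact (Nat.not_even_iff_odd.2 hodd) ((even_two).pow_of_ne_zero (by omega))
  have hM : Nat.Coprime p (∏ i ∈ range (k + 1), (q ^ (2 * (i + 1)) - 1)) :=
    Nat.Coprime.prod_right fun i _ => cop_sub_one hpq hq1 _ (by omega)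
  have hlt := prod_lt_pow_sum q (fun i => 2 * (i + 1)) (fun i => q ^ (2 * (i + 1)) - 1)
    (fun i => sub_one_pos hq2 _ (by omega)) (fun i => sub_one_lt_pow hq1 _) k
  have e1 := sum_two_mul_succ (k + 1)
  have ha1 : ∑ i ∈ range (k + 1), 2 * (i + 1) ≤ 2 * (k + 1) ^ 2 := by
    rw [e1]
    nlinarith
  obtain ⟨r1, r2, r3⟩ := main_bound hp hq hX hd hM hlt ha1
  refine ⟨r1, r2, r3 ?_⟩
  rw [e1]
  have : 2 ≤ k := by omega
  nlinarith

theorem pomega_plus_bounds {F : Type*} [Field F] [Fintype F] {p f : ℕ} (hp : p.Prime)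
    (hF : Fintype.card F = p ^ f) (hf : 1 ≤ f) (m : ℕ) (hm : 4 ≤ m) :
    (Nat.card (Cfsg.POmega F (Cfsg.quadFormPlus m F))).factorization p = f * (m * (m - 1)) ∧
      Nat.card (Cfsg.POmega F (Cfsg.quadFormPlus m F)) < p ^ (3 * (f * (m * (m - 1)))) ∧
      Nat.card (Cfsg.POmega F (Cfsg.quadFormPlus m F)) ^ 3 < p ^ (8 * (f * (m * (m - 1)))) := by
  set q := p ^ f with hq
  have hpq : p ∣ q := dvd_pow_self p (by omega)
  have hq2 : 2 ≤ q := le_trans hp.two_le (Nat.le_self_pow (by omega) p)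
  have hq1 : 1 ≤ q := by omega
  obtain ⟨k, rfl⟩ : ∃ k, m = k + 2 := ⟨m - 2, by omega⟩
  have hX := Cfsg.Agent.S0293.result hF (k + 2) hm
  rw [show k + 2 - 1 = k + 1 from rfl, mul_assoc] at hX
  have hd : Nat.Coprime p (Nat.gcd 4 (q ^ (k + 2) - 1)) :=
    Nat.Coprime.coprime_dvd_right (Nat.gcd_dvd_right _ _) (cop_sub_one hpq hq1 _ (by omega))
  have hM : Nat.Coprime p ((q ^ (k + 2) - 1) * ∏ i ∈ range (k + 1), (q ^ (2 * (i + 1)) - 1)) :=
    Nat.Coprime.mul_right (cop_sub_one hpq hq1 _ (by omega))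
      (Nat.Coprime.prod_right fun i _ => cop_sub_one hpq hq1 _ (by omega))
  have hlt0 := prod_lt_pow_sum q (fun i => 2 * (i + 1)) (fun i => q ^ (2 * (i + 1)) - 1)
    (fun i => sub_one_pos hq2 _ (by omega)) (fun i => sub_one_lt_pow hq1 _) k
  have e1 := sum_two_mul_succ (k + 1)
  have hlt : (q ^ (k + 2) - 1) * ∏ i ∈ range (k + 1), (q ^ (2 * (i + 1)) - 1) <
      q ^ ((k + 2) + ∑ i ∈ range (k + 1), 2 * (i + 1)) := by
    exact lt_mul_pow (sub_one_lt_pow hq1 _) hlt0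
  have ha1 : (k + 2) + ∑ i ∈ range (k + 1), 2 * (i + 1) ≤ 2 * ((k + 2) * (k + 1)) := by
    rw [e1]
    nlinarith
  obtain ⟨r1, r2, r3⟩ := main_bound hp hq hX hd hM hlt ha1
  refine ⟨r1, r2, r3 ?_⟩
  rw [e1]
  have : 2 ≤ k := by omega
  nlinarith

theorem pomega_minus_bounds {F : Type*} [Field F] [Fintype F] {p f : ℕ} (hp : p.Prime)
    (hF : Fintype.card F = p ^ f) (hf : 1 ≤ f) (m : ℕ) (hm : 4 ≤ m) (a b : F)
    (hab : ∀ z₁ z₂ : F, z₁ ^ 2 + a * z₁ * z₂ + b * z₂ ^ 2 = 0 → z₁ = 0 ∧ z₂ = 0) :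
    (Nat.card (Cfsg.POmega F (Cfsg.quadFormMinus (m - 1) F a b))).factorization p =
        f * (m * (m - 1)) ∧
      Nat.card (Cfsg.POmega F (Cfsg.quadFormMinus (m - 1) F a b)) < p ^ (3 * (f * (m * (m - 1)))) ∧
      Nat.card (Cfsg.POmega F (Cfsg.quadFormMinus (m - 1) F a b)) ^ 3 <
        p ^ (8 * (f * (m * (m - 1)))) := by
  set q := p ^ f with hq
  have hpq : p ∣ q := dvd_pow_self p (by omega)
  have hq2 : 2 ≤ q := le_trans hp.two_le (Nat.le_self_pow (by omega) p)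
  have hq1 : 1 ≤ q := by omega
  obtain ⟨k, rfl⟩ : ∃ k, m = k + 2 := ⟨m - 2, by omega⟩
  have hX := Cfsg.Agent.S0294.result hF (k + 2) hm a b hab
  rw [show k + 2 - 1 = k + 1 from rfl, mul_assoc] at hX
  have hd : Nat.Coprime p (Nat.gcd 4 (q ^ (k + 2) + 1)) :=
    Nat.Coprime.coprime_dvd_right (Nat.gcd_dvd_right _ _) (cop_pow_add_one hpq _ (by omega))
  have hM : Nat.Coprime p ((q ^ (k + 2) + 1) * ∏ i ∈ range (k + 1), (q ^ (2 * (i + 1)) - 1)) :=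
    Nat.Coprime.mul_right (cop_pow_add_one hpq _ (by omega))
      (Nat.Coprime.prod_right fun i _ => cop_sub_one hpq hq1 _ (by omega))
  have hlt0 := prod_lt_pow_sum q (fun i => 2 * (i + 1)) (fun i => q ^ (2 * (i + 1)) - 1)
    (fun i => sub_one_pos hq2 _ (by omega)) (fun i => sub_one_lt_pow hq1 _) k
  have e1 := sum_two_mul_succ (k + 1)
  have hlt : (q ^ (k + 2) + 1) * ∏ i ∈ range (k + 1), (q ^ (2 * (i + 1)) - 1) <
      q ^ ((k + 2 + 1) + ∑ i ∈ range (k + 1), 2 * (i + 1)) := by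
    exact lt_mul_pow (add_one_lt_pow hq2 _ (by omega)) hlt0
  have ha1 : (k + 2 + 1) + ∑ i ∈ range (k + 1), 2 * (i + 1) ≤ 2 * ((k + 2) * (k + 1)) := by
    rw [e1]
    have : 2 ≤ k := by omega
    nlinarith
  obtain ⟨r1, r2, r3⟩ := main_bound hp hq hX hd hM hlt ha1
  refine ⟨r1, r2, r3 ?_⟩
  rw [e1]
  have : 2 ≤ k := by omega
  nlinarith

end Cfsg.Agent.Lib.H4.LieOrd
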