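import Mathlib
import Cfsg.Agent.Lib.H4.LieOrd1
import Cfsg.Agent.S1059
import Cfsg.Agent.S1062
import Cfsg.Agent.S1063
import Cfsg.Agent.S1064
import Cfsg.Agent.S1065

/-!
Order bounds for the untwisted exceptional groups `G₂(q)`, `F₄(q)`, `E₆(q)`, `E₇(q)`, `E₈(q)` (helper4): the
`p`-part of the order and the bounds `|G| < p^(3k)`, `|G|^3 < p^(8k)`.
-/

set_option autoImplicit false

namespace Cfsg.Agent.Lib.H4.LieOrd

open Finset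

theorem g2_bounds {F : Type*} [Field F] [Fintype F] {p f : ℕ} (hp : p.Prime)
    (hF : Fintype.card F = p ^ f) (hf : 1 ≤ f) :
    (Nat.card ↥(Cfsg.Lie.chevG2.group F)).factorization p = f * 6 ∧
      Nat.card ↥(Cfsg.Lie.chevG2.group F) < p ^ (3 * (f * 6)) ∧
      Nat.card ↥(Cfsg.Lie.chevG2.group F) ^ 3 < p ^ (8 * (f * 6)) := by
  set q := p ^ f with hq
  have hpq : p ∣ q := dvd_pow_self p (by omega)
  have hq2 : 2 ≤ q := le_trans hp.two_le (Nat.le_self_pow (by omega) p)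
  have hq1 : 1 ≤ q := by omega
  have h := Cfsg.Agent.S1059.result hF
  have hX : 1 * Nat.card ↥(Cfsg.Lie.chevG2.group F) = q ^ 6 * ((q ^ 2 - 1) * ((q ^ 6 - 1))) := by
    rw [one_mul, h]; ring
  have hd : Nat.Coprime p (1) := Nat.coprime_one_right p
  have hM : Nat.Coprime p ((q ^ 2 - 1) * ((q ^ 6 - 1))) :=
    (Nat.Coprime.mul_right (cop_sub_one hpq hq1 2 (by norm_num)) (cop_sub_one hpq hq1 6 (by norm_num)))
  have hlt : (q ^ 2 - 1) * ((q ^ 6 - 1)) < q ^ (2 + (6)) :=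
    (lt_mul_pow (sub_one_lt_pow hq1 2) (sub_one_lt_pow hq1 6))
  obtain ⟨r1, r2, r3⟩ := main_bound hp hq hX hd hM hlt (by norm_num)
  exact ⟨r1, r2, r3 (by norm_num)⟩

theorem f4_bounds {F : Type*} [Field F] [Fintype F] {p f : ℕ} (hp : p.Prime)
    (hF : Fintype.card F = p ^ f) (hf : 1 ≤ f) :
    (Nat.card ↥(Cfsg.Lie.chevF4.group F)).factorization p = f * 24 ∧
      Nat.card ↥(Cfsg.Lie.chevF4.group F) < p ^ (3 * (f * 24)) ∧
      Nat.card ↥(Cfsg.Lie.chevF4.group F) ^ 3 < p ^ (8 * (f * 24)) := by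
  set q := p ^ f with hq
  have hpq : p ∣ q := dvd_pow_self p (by omega)
  have hq2 : 2 ≤ q := le_trans hp.two_le (Nat.le_self_pow (by omega) p)
  have hq1 : 1 ≤ q := by omega
  have h := Cfsg.Agent.S1062.result hF
  have hX : 1 * Nat.card ↥(Cfsg.Lie.chevF4.group F) = q ^ 24 * ((q ^ 2 - 1) * ((q ^ 6 - 1) * ((q ^ 8 - 1) * ((q ^ 12 - 1))))) := by
    rw [one_mul, h]; ring
  have hd : Nat.Coprime p (1) := Nat.coprime_one_right p
  have hM : Nat.Coprime p ((q ^ 2 - 1) * ((q ^ 6 - 1) * ((q ^ 8 - 1) * ((q ^ 12 - 1))))) :=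
    (Nat.Coprime.mul_right (cop_sub_one hpq hq1 2 (by norm_num)) (Nat.Coprime.mul_right (cop_sub_one hpq hq1 6 (by norm_num)) (Nat.Coprime.mul_right (cop_sub_one hpq hq1 8 (by norm_num)) (cop_sub_one hpq hq1 12 (by norm_num)))))
  have hlt : (q ^ 2 - 1) * ((q ^ 6 - 1) * ((q ^ 8 - 1) * ((q ^ 12 - 1)))) < q ^ (2 + (6 + (8 + (12)))) :=
    (lt_mul_pow (sub_one_lt_pow hq1 2) (lt_mul_pow (sub_one_lt_pow hq1 6) (lt_mul_pow (sub_one_lt_pow hq1 8) (sub_one_lt_pow hq1 12))))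
  obtain ⟨r1, r2, r3⟩ := main_bound hp hq hX hd hM hlt (by norm_num)
  exact ⟨r1, r2, r3 (by norm_num)⟩

theorem e6_bounds {F : Type*} [Field F] [Fintype F] {p f : ℕ} (hp : p.Prime)
    (hF : Fintype.card F = p ^ f) (hf : 1 ≤ f) :
    (Nat.card ↥(Cfsg.Lie.chevE6.group F)).factorization p = f * 36 ∧
      Nat.card ↥(Cfsg.Lie.chevE6.group F) < p ^ (3 * (f * 36)) ∧
      Nat.card ↥(Cfsg.Lie.chevE6.group F) ^ 3 < p ^ (8 * (f * 36)) := by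
  set q := p ^ f with hq
  have hpq : p ∣ q := dvd_pow_self p (by omega)
  have hq2 : 2 ≤ q := le_trans hp.two_le (Nat.le_self_pow (by omega) p)
  have hq1 : 1 ≤ q := by omega
  have h := Cfsg.Agent.S1063.result hF
  have hX : Nat.gcd 3 (q - 1) * Nat.card ↥(Cfsg.Lie.chevE6.group F) = q ^ 36 * ((q ^ 2 - 1) * ((q ^ 5 - 1) * ((q ^ 6 - 1) * ((q ^ 8 - 1) * ((q ^ 9 - 1) * ((q ^ 12 - 1))))))) := by
    rw [h]; ring
  have hd : Nat.Coprime p (Nat.gcd 3 (q - 1)) := Nat.Coprime.coprime_dvd_right (Nat.gcd_dvd_right _ _) (cop_sub_one' hpq hq1)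
  have hM : Nat.Coprime p ((q ^ 2 - 1) * ((q ^ 5 - 1) * ((q ^ 6 - 1) * ((q ^ 8 - 1) * ((q ^ 9 - 1) * ((q ^ 12 - 1))))))) :=
    (Nat.Coprime.mul_right (cop_sub_one hpq hq1 2 (by norm_num)) (Nat.Coprime.mul_right (cop_sub_one hpq hq1 5 (by norm_num)) (Nat.Coprime.mul_right (cop_sub_one hpq hq1 6 (by norm_num)) (Nat.Coprime.mul_right (cop_sub_one hpq hq1 8 (by norm_num)) (Nat.Coprime.mul_right (cop_sub_one hpq hq1 9 (by norm_num)) (cop_sub_one hpq hq1 12 (by norm_num)))))))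
  have hlt : (q ^ 2 - 1) * ((q ^ 5 - 1) * ((q ^ 6 - 1) * ((q ^ 8 - 1) * ((q ^ 9 - 1) * ((q ^ 12 - 1)))))) < q ^ (2 + (5 + (6 + (8 + (9 + (12)))))) :=
    (lt_mul_pow (sub_one_lt_pow hq1 2) (lt_mul_pow (sub_one_lt_pow hq1 5) (lt_mul_pow (sub_one_lt_pow hq1 6) (lt_mul_pow (sub_one_lt_pow hq1 8) (lt_mul_pow (sub_one_lt_pow hq1 9) (sub_one_lt_pow hq1 12))))))
  obtain ⟨r1, r2, r3⟩ := main_bound hp hq hX hd hM hlt (by norm_num)
  exact ⟨r1, r2, r3 (by norm_num)⟩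

theorem e7_bounds {F : Type*} [Field F] [Fintype F] {p f : ℕ} (hp : p.Prime)
    (hF : Fintype.card F = p ^ f) (hf : 1 ≤ f) :
    (Nat.card ↥(Cfsg.Lie.chevE7.group F)).factorization p = f * 63 ∧
      Nat.card ↥(Cfsg.Lie.chevE7.group F) < p ^ (3 * (f * 63)) ∧
      Nat.card ↥(Cfsg.Lie.chevE7.group F) ^ 3 < p ^ (8 * (f * 63)) := by
  set q := p ^ f with hq
  have hpq : p ∣ q := dvd_pow_self p (by omega)
  have hq2 : 2 ≤ q := le_trans hp.two_le (Nat.le_self_pow (by omega) p)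
  have hq1 : 1 ≤ q := by omega
  have h := Cfsg.Agent.S1064.result hF
  have hX : Nat.gcd 2 (q - 1) * Nat.card ↥(Cfsg.Lie.chevE7.group F) = q ^ 63 * ((q ^ 2 - 1) * ((q ^ 6 - 1) * ((q ^ 8 - 1) * ((q ^ 10 - 1) * ((q ^ 12 - 1) * ((q ^ 14 - 1) * ((q ^ 18 - 1)))))))) := by
    rw [h]; ring
  have hd : Nat.Coprime p (Nat.gcd 2 (q - 1)) := Nat.Coprime.coprime_dvd_right (Nat.gcd_dvd_right _ _) (cop_sub_one' hpq hq1)
  have hM : Nat.Coprime p ((q ^ 2 - 1) * ((q ^ 6 - 1) * ((q ^ 8 - 1) * ((q ^ 10 - 1) * ((q ^ 12 - 1) * ((q ^ 14 - 1) * ((q ^ 18 - 1)))))))) :=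
    (Nat.Coprime.mul_right (cop_sub_one hpq hq1 2 (by norm_num)) (Nat.Coprime.mul_right (cop_sub_one hpq hq1 6 (by norm_num)) (Nat.Coprime.mul_right (cop_sub_one hpq hq1 8 (by norm_num)) (Nat.Coprime.mul_right (cop_sub_one hpq hq1 10 (by norm_num)) (Nat.Coprime.mul_right (cop_sub_one hpq hq1 12 (by norm_num)) (Nat.Coprime.mul_right (cop_sub_one hpq hq1 14 (by norm_num)) (cop_sub_one hpq hq1 18 (by norm_num))))))))
  have hlt : (q ^ 2 - 1) * ((q ^ 6 - 1) * ((q ^ 8 - 1) * ((q ^ 10 - 1) * ((q ^ 12 - 1) * ((q ^ 14 - 1) * ((q ^ 18 - 1))))))) < q ^ (2 + (6 + (8 + (10 + (12 + (14 + (18))))))) :=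
    (lt_mul_pow (sub_one_lt_pow hq1 2) (lt_mul_pow (sub_one_lt_pow hq1 6) (lt_mul_pow (sub_one_lt_pow hq1 8) (lt_mul_pow (sub_one_lt_pow hq1 10) (lt_mul_pow (sub_one_lt_pow hq1 12) (lt_mul_pow (sub_one_lt_pow hq1 14) (sub_one_lt_pow hq1 18)))))))
  obtain ⟨r1, r2, r3⟩ := main_bound hp hq hX hd hM hlt (by norm_num)
  exact ⟨r1, r2, r3 (by norm_num)⟩

theorem e8_bounds {F : Type*} [Field F] [Fintype F] {p f : ℕ} (hp : p.Prime)
    (hF : Fintype.card F = p ^ f) (hf : 1 ≤ f) :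
    (Nat.card ↥(Cfsg.Lie.chevE8.group F)).factorization p = f * 120 ∧
      Nat.card ↥(Cfsg.Lie.chevE8.group F) < p ^ (3 * (f * 120)) ∧
      Nat.card ↥(Cfsg.Lie.chevE8.group F) ^ 3 < p ^ (8 * (f * 120)) := by
  set q := p ^ f with hq
  have hpq : p ∣ q := dvd_pow_self p (by omega)
  have hq2 : 2 ≤ q := le_trans hp.two_le (Nat.le_self_pow (by omega) p)
  have hq1 : 1 ≤ q := by omega
  have h := Cfsg.Agent.S1065.result hF
  have hX : 1 * Nat.card ↥(Cfsg.Lie.chevE8.group F) = q ^ 120 * ((q ^ 2 - 1) * ((q ^ 8 - 1) * ((q ^ 12 - 1) * ((q ^ 14 - 1) * ((q ^ 18 - 1) * ((q ^ 20 - 1) * ((q ^ 24 - 1) * ((q ^ 30 - 1))))))))) := by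
    rw [one_mul, h]; ring
  have hd : Nat.Coprime p (1) := Nat.coprime_one_right p
  have hM : Nat.Coprime p ((q ^ 2 - 1) * ((q ^ 8 - 1) * ((q ^ 12 - 1) * ((q ^ 14 - 1) * ((q ^ 18 - 1) * ((q ^ 20 - 1) * ((q ^ 24 - 1) * ((q ^ 30 - 1))))))))) :=
    (Nat.Coprime.mul_right (cop_sub_one hpq hq1 2 (by norm_num)) (Nat.Coprime.mul_right (cop_sub_one hpq hq1 8 (by norm_num)) (Nat.Coprime.mul_right (cop_sub_one hpq hq1 12 (by norm_num)) (Nat.Coprime.mul_right (cop_sub_one hpq hq1 14 (by norm_num)) (Nat.Coprime.mul_right (cop_sub_one hpq hq1 18 (by norm_num)) (Nat.Coprime.mul_right (cop_sub_one hpq hq1 20 (by norm_num)) (Nat.Coprime.mul_right (cop_sub_one hpq hq1 24 (by norm_num)) (cop_sub_one hpq hq1 30 (by norm_num)))))))))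
  have hlt : (q ^ 2 - 1) * ((q ^ 8 - 1) * ((q ^ 12 - 1) * ((q ^ 14 - 1) * ((q ^ 18 - 1) * ((q ^ 20 - 1) * ((q ^ 24 - 1) * ((q ^ 30 - 1)))))))) < q ^ (2 + (8 + (12 + (14 + (18 + (20 + (24 + (30)))))))) :=
    (lt_mul_pow (sub_one_lt_pow hq1 2) (lt_mul_pow (sub_one_lt_pow hq1 8) (lt_mul_pow (sub_one_lt_pow hq1 12) (lt_mul_pow (sub_one_lt_pow hq1 14) (lt_mul_pow (sub_one_lt_pow hq1 18) (lt_mul_pow (sub_one_lt_pow hq1 20) (lt_mul_pow (sub_one_lt_pow hq1 24) (sub_one_lt_pow hq1 30))))))))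
  obtain ⟨r1, r2, r3⟩ := main_bound hp hq hX hd hM hlt (by norm_num)
  exact ⟨r1, r2, r3 (by norm_num)⟩

end Cfsg.Agent.Lib.H4.LieOrd
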