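import Mathlib
import Cfsg.Agent.Lib.H4.LieOrd6
import Cfsg.Agent.Lib.H29.ChevTwE6e
import Cfsg.Agent.Lib.H29.ChevTwD4d
import Cfsg.Agent.Lib.H29.ChevRee15
import Cfsg.Agent.Lib.H29.ChevF4r
import Cfsg.Agent.S1163

/-!
Order bounds for the twisted groups `²E₆(q)`, `³D₄(q)`, `²B₂(q)`, `²F₄(q)`, `²G₂(q)` (helper4): the `p`-part of
the order and the bounds `|G| < p^(3k)`, `|G|^3 < p^(8k)`.
-/

set_option autoImplicit false
set_option linter.style.haveILetI false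

namespace Cfsg.Agent.Lib.H4.LieOrd

open Finset

/-- a number some power of which is a power of the prime `p` is itself a power of `p` -/
theorem eq_pow_of_pow_eq {p q e n : ℕ} (hp : p.Prime) (he : 1 ≤ e) (hq : 2 ≤ q) (h : q ^ e = p ^ n) :
    ∃ j, 1 ≤ j ∧ q = p ^ j := by
  have h1 : q ∣ p ^ n := by
    rw [← h]
    exact dvd_pow_self q (by omega)
  obtain ⟨j, _, hj⟩ := (Nat.dvd_prime_pow hp).1 h1
  refine ⟨j, ?_, hj⟩
  rcases Nat.eq_zero_or_pos j with rfl | hj0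
  · rw [pow_zero] at hj
    omega
  · exact hj0

theorem tw_e6_bounds {K : Type*} [Field K] [Fintype K] {p f q : ℕ} (hp : p.Prime)
    (hK : Fintype.card K = q ^ 2) (hq : q = p ^ f) (hf : 1 ≤ f) :
    (Nat.card ↥(Cfsg.Lie.twistedE6 K q)).factorization p = f * 36 ∧
      Nat.card ↥(Cfsg.Lie.twistedE6 K q) < p ^ (3 * (f * 36)) ∧
      Nat.card ↥(Cfsg.Lie.twistedE6 K q) ^ 3 < p ^ (8 * (f * 36)) := by
  have hpq : p ∣ q := by rw [hq]; exact dvd_pow_self p (by omega)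
  have hq2 : 2 ≤ q := by rw [hq]; exact le_trans hp.two_le (Nat.le_self_pow (by omega) p)
  have hq1 : 1 ≤ q := by omega
  have hpp : IsPrimePow q := by
    rw [hq]
    exact hp.isPrimePow.pow (by omega)
  have h := (Cfsg.Agent.Lib.H29.Chev.card_twistedE6 hpp hK).1
  have hX : Nat.gcd 3 (q + 1) * Nat.card ↥(Cfsg.Lie.twistedE6 K q) =
      q ^ 36 * ((q ^ 2 - 1) * ((q ^ 5 + 1) * ((q ^ 6 - 1) * ((q ^ 8 - 1) *
        ((q ^ 9 + 1) * (q ^ 12 - 1)))))) := by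
    rw [h]; ring
  have hd : Nat.Coprime p (Nat.gcd 3 (q + 1)) :=
    Nat.Coprime.coprime_dvd_right (Nat.gcd_dvd_right _ _) (by simpa using cop_pow_add_one hpq 1 le_rfl)
  have hM : Nat.Coprime p ((q ^ 2 - 1) * ((q ^ 5 + 1) * ((q ^ 6 - 1) * ((q ^ 8 - 1) *
        ((q ^ 9 + 1) * (q ^ 12 - 1)))))) :=
    Nat.Coprime.mul_right (cop_sub_one hpq hq1 2 (by norm_num))
      (Nat.Coprime.mul_right (cop_pow_add_one hpq 5 (by norm_num))
        (Nat.Coprime.mul_right (cop_sub_one hpq hq1 6 (by norm_num))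
          (Nat.Coprime.mul_right (cop_sub_one hpq hq1 8 (by norm_num))
            (Nat.Coprime.mul_right (cop_pow_add_one hpq 9 (by norm_num))
              (cop_sub_one hpq hq1 12 (by norm_num))))))
  have hlt : (q ^ 2 - 1) * ((q ^ 5 + 1) * ((q ^ 6 - 1) * ((q ^ 8 - 1) *
        ((q ^ 9 + 1) * (q ^ 12 - 1))))) < q ^ (2 + ((5 + 1) + (6 + (8 + ((9 + 1) + 12))))) :=
    lt_mul_pow (sub_one_lt_pow hq1 2) (lt_mul_pow (add_one_lt_pow hq2 5 (by norm_num))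
      (lt_mul_pow (sub_one_lt_pow hq1 6) (lt_mul_pow (sub_one_lt_pow hq1 8)
        (lt_mul_pow (add_one_lt_pow hq2 9 (by norm_num)) (sub_one_lt_pow hq1 12)))))
  obtain ⟨r1, r2, r3⟩ := main_bound hp hq hX hd hM hlt (by norm_num)
  exact ⟨r1, r2, r3 (by norm_num)⟩

theorem tw_d4_bounds {K : Type*} [Field K] [Fintype K] {p f q : ℕ} (hp : p.Prime)
    (hK : Fintype.card K = q ^ 3) (hq : q = p ^ f) (hf : 1 ≤ f) :
    (Nat.card ↥(Cfsg.Lie.twistedD4 K q)).factorization p = f * 12 ∧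
      Nat.card ↥(Cfsg.Lie.twistedD4 K q) < p ^ (3 * (f * 12)) ∧
      Nat.card ↥(Cfsg.Lie.twistedD4 K q) ^ 3 < p ^ (8 * (f * 12)) := by
  have hpq : p ∣ q := by rw [hq]; exact dvd_pow_self p (by omega)
  have hq2 : 2 ≤ q := by rw [hq]; exact le_trans hp.two_le (Nat.le_self_pow (by omega) p)
  have hq1 : 1 ≤ q := by omega
  have hpp : IsPrimePow q := by
    rw [hq]
    exact hp.isPrimePow.pow (by omega)
  have h := (Cfsg.Agent.Lib.H29.Chev.card_twistedD4 hpp hK).1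
  have hX : 1 * Nat.card ↥(Cfsg.Lie.twistedD4 K q) =
      q ^ 12 * ((q ^ 2 - 1) * ((q ^ 6 - 1) * (q ^ 8 + q ^ 4 + 1))) := by
    rw [one_mul, h]; ring
  have hM : Nat.Coprime p ((q ^ 2 - 1) * ((q ^ 6 - 1) * (q ^ 8 + q ^ 4 + 1))) :=
    Nat.Coprime.mul_right (cop_sub_one hpq hq1 2 (by norm_num))
      (Nat.Coprime.mul_right (cop_sub_one hpq hq1 6 (by norm_num))
        (cop_add_one (dvd_add (dvd_trans hpq (dvd_pow_self q (by norm_num)))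
          (dvd_trans hpq (dvd_pow_self q (by norm_num))))))
  have h3 : q ^ 8 + q ^ 4 + 1 < q ^ 9 := by
    have h4 : 2 ^ 4 ≤ q ^ 4 := Nat.pow_le_pow_left hq2 4
    have h8 : q ^ 8 = q ^ 4 * q ^ 4 := by ring
    have h9 : q ^ 9 = q * q ^ 8 := by ring
    have h10 : 2 * q ^ 8 ≤ q * q ^ 8 := Nat.mul_le_mul_right _ hq2
    nlinarith
  have hlt : (q ^ 2 - 1) * ((q ^ 6 - 1) * (q ^ 8 + q ^ 4 + 1)) < q ^ (2 + (6 + 9)) :=
    lt_mul_pow (sub_one_lt_pow hq1 2) (lt_mul_pow (sub_one_lt_pow hq1 6) h3)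
  obtain ⟨r1, r2, r3⟩ := main_bound hp hq hX (Nat.coprime_one_right p) hM hlt (by norm_num)
  exact ⟨r1, r2, r3 (by norm_num)⟩

theorem sz_bounds {F : Type*} [Field F] [Fintype F] {m : ℕ} (hm : 1 ≤ m)
    (hF : Fintype.card F = 2 ^ (2 * m + 1)) :
    (Nat.card ↥(Cfsg.Lie.Sz F (2 ^ (m + 1)))).factorization 2 = (2 * m + 1) * 2 ∧
      Nat.card ↥(Cfsg.Lie.Sz F (2 ^ (m + 1))) < 2 ^ (3 * ((2 * m + 1) * 2)) ∧
      Nat.card ↥(Cfsg.Lie.Sz F (2 ^ (m + 1))) ^ 3 < 2 ^ (8 * ((2 * m + 1) * 2)) := by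
  have hp := Nat.prime_two
  have h := (Cfsg.Agent.S1163.result hm hF).1
  set q := 2 ^ (2 * m + 1) with hq
  have hpq : 2 ∣ q := dvd_pow_self 2 (by omega)
  have hq2 : 2 ≤ q := Nat.le_self_pow (by omega) 2
  have hq1 : 1 ≤ q := by omega
  have hX : 1 * Nat.card ↥(Cfsg.Lie.Sz F (2 ^ (m + 1))) = q ^ 2 * ((q - 1) * (q ^ 2 + 1)) := by
    rw [one_mul, h]; ring
  have hM : Nat.Coprime 2 ((q - 1) * (q ^ 2 + 1)) :=
    Nat.Coprime.mul_right (cop_sub_one' hpq hq1) (cop_pow_add_one hpq 2 (by norm_num))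
  have hlt : (q - 1) * (q ^ 2 + 1) < q ^ 3 := by
    obtain ⟨B, hB⟩ : ∃ B, q = B + 1 := ⟨q - 1, by omega⟩
    rw [hB, Nat.add_sub_cancel]
    nlinarith [Nat.zero_le B, Nat.zero_le (B ^ 2)]
  obtain ⟨r1, r2, r3⟩ := main_bound hp hq hX (Nat.coprime_one_right 2) hM hlt (by norm_num)
  exact ⟨r1, r2, r3 (by norm_num)⟩

theorem tw_f4_bounds {K : Type*} [Field K] [Fintype K] {m : ℕ}
    (hK : Fintype.card K = 2 ^ (2 * m + 1)) :
    (Nat.card ↥(Cfsg.Lie.twistedF4 K (2 ^ m))).factorization 2 = (2 * m + 1) * 12 ∧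
      Nat.card ↥(Cfsg.Lie.twistedF4 K (2 ^ m)) < 2 ^ (3 * ((2 * m + 1) * 12)) ∧
      Nat.card ↥(Cfsg.Lie.twistedF4 K (2 ^ m)) ^ 3 < 2 ^ (8 * ((2 * m + 1) * 12)) := by
  have hp := Nat.prime_two
  haveI : CharP K 2 := Cfsg.Agent.Lib.H29.Chev.charP_of_card_pow 2 _ hp hK
  have h := Cfsg.Agent.Lib.H29.Chev.card_f4 m hK
  set q := 2 ^ (2 * m + 1) with hq
  have hpq : 2 ∣ q := dvd_pow_self 2 (by omega)
  have hq2 : 2 ≤ q := Nat.le_self_pow (by omega) 2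
  have hq1 : 1 ≤ q := by omega
  have hX : 1 * Nat.card ↥(Cfsg.Lie.twistedF4 K (2 ^ m)) =
      q ^ 12 * ((q - 1) * ((q ^ 3 + 1) * ((q ^ 4 - 1) * (q ^ 6 + 1)))) := by
    rw [one_mul, h]; ring
  have hM : Nat.Coprime 2 ((q - 1) * ((q ^ 3 + 1) * ((q ^ 4 - 1) * (q ^ 6 + 1)))) :=
    Nat.Coprime.mul_right (cop_sub_one' hpq hq1)
      (Nat.Coprime.mul_right (cop_pow_add_one hpq 3 (by norm_num))
        (Nat.Coprime.mul_right (cop_sub_one hpq hq1 4 (by norm_num))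
          (cop_pow_add_one hpq 6 (by norm_num))))
  have hlt : (q - 1) * ((q ^ 3 + 1) * ((q ^ 4 - 1) * (q ^ 6 + 1))) <
      q ^ (1 + ((3 + 1) + (4 + (6 + 1)))) :=
    lt_mul_pow (sub_one_lt_pow' hq1) (lt_mul_pow (add_one_lt_pow hq2 3 (by norm_num))
      (lt_mul_pow (sub_one_lt_pow hq1 4) (add_one_lt_pow hq2 6 (by norm_num))))
  obtain ⟨r1, r2, r3⟩ := main_bound hp hq hX (Nat.coprime_one_right 2) hM hlt (by norm_num)
  exact ⟨r1, r2, r3 (by norm_num)⟩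

theorem tw_g2_bounds {K : Type*} [Field K] [Fintype K] {m : ℕ}
    (hK : Fintype.card K = 3 ^ (2 * m + 1)) :
    (Nat.card ↥(Cfsg.Lie.twistedG2 K (3 ^ m))).factorization 3 = (2 * m + 1) * 3 ∧
      Nat.card ↥(Cfsg.Lie.twistedG2 K (3 ^ m)) < 3 ^ (3 * ((2 * m + 1) * 3)) ∧
      Nat.card ↥(Cfsg.Lie.twistedG2 K (3 ^ m)) ^ 3 < 3 ^ (8 * ((2 * m + 1) * 3)) := by
  have hp := Nat.prime_three
  haveI : CharP K 3 := Cfsg.Agent.Lib.H29.Chev.charP_of_card_pow 3 _ hp hK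
  have h := Cfsg.Agent.Lib.H29.Chev.card_twistedG2 m hK
  set q := 3 ^ (2 * m + 1) with hq
  have hpq : 3 ∣ q := dvd_pow_self 3 (by omega)
  have hq2 : 2 ≤ q := le_trans (by norm_num) (Nat.le_self_pow (by omega : 2 * m + 1 ≠ 0) 3)
  have hq1 : 1 ≤ q := by omega
  have hX : 1 * Nat.card ↥(Cfsg.Lie.twistedG2 K (3 ^ m)) =
      q ^ 3 * ((q - 1) * (q ^ 3 + 1)) := by
    rw [one_mul, h]; ring
  have hM : Nat.Coprime 3 ((q - 1) * (q ^ 3 + 1)) :=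
    Nat.Coprime.mul_right (cop_sub_one' hpq hq1) (cop_pow_add_one hpq 3 (by norm_num))
  have hlt : (q - 1) * (q ^ 3 + 1) < q ^ (1 + (3 + 1)) :=
    lt_mul_pow (sub_one_lt_pow' hq1) (add_one_lt_pow hq2 3 (by norm_num))
  obtain ⟨r1, r2, r3⟩ := main_bound hp hq hX (Nat.coprime_one_right 3) hM hlt (by norm_num)
  exact ⟨r1, r2, r3 (by norm_num)⟩

end Cfsg.Agent.Lib.H4.LieOrd
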