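import Mathlib

/-!
S0434 piece (NOMIX3) `card_centralizer_order3_form` in the exact signature of `tools/blueprints/S0434_sigs.lean`
(architect helper14): in a group of order 7920 with elements `x`, `y` whose centralizers have orders 11 and 5, the
centralizer of an element of order 3 has order `9 m` with `m ∣ 16`.
-/
set_option autoImplicit false
namespace Cfsg.Agent.Lib.H4.M7920

universe u

/-- If `p` divides `|G|` exactly once and some `z` has `|C(z)| = p`, then `p` does not divide `|C(t)|` unless the order of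
`t` divides `p`. -/
theorem not_dvd_card_centralizer_of_card_centralizer_eq_prime {G : Type u} [Group G] [Finite G] (p : ℕ)
    [hp : Fact p.Prime] (hfac : (Nat.card G).factorization p = 1) (z : G)
    (hCz : Nat.card (Subgroup.centralizer ({z} : Set G)) = p) (t : G) (ht : ¬ orderOf t ∣ p) :
    ¬ p ∣ Nat.card (Subgroup.centralizer ({t} : Set G)) := by
  intro hdvd
  have hzmem : z ∈ Subgroup.centralizer ({z} : Set G) := Subgroup.mem_centralizer_singleton_iff.mpr rfl
  have hoz : orderOf z ∣ p := by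
    have := Subgroup.orderOf_dvd_natCard _ hzmem
    rwa [hCz] at this
  have hoz' : orderOf z = p := by
    rcases (Nat.dvd_prime hp.out).mp hoz with h1 | h
    · exfalso
      have hz1 : z = 1 := orderOf_eq_one_iff.mp h1
      subst hz1
      have htop : Subgroup.centralizer ({(1 : G)} : Set G) = ⊤ := by
        ext g; simp [Subgroup.mem_centralizer_singleton_iff]
      rw [htop, Subgroup.card_top] at hCz
      exact ht (hCz ▸ orderOf_dvd_natCard t)
    · exact h
  obtain ⟨g, hg⟩ := exists_prime_orderOf_dvd_card' p hdvd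
  have horder : ∀ a b : G, orderOf (a * b * a⁻¹) = orderOf b := fun a b => by
    rw [← MulAut.conj_apply]; exact MulEquiv.orderOf_eq _ _
  have hog : orderOf (g : G) = p := by rw [Subgroup.orderOf_coe]; exact hg
  have hcomm : (g : G) * t = t * (g : G) := Subgroup.mem_centralizer_singleton_iff.mp g.2
  have hsyl : ∀ w : G, orderOf w = p → ∃ P : Sylow p G, (P : Subgroup G) = Subgroup.zpowers w := by
    intro w hw
    have hpg : IsPGroup p (Subgroup.zpowers w) :=
      IsPGroup.of_card (n := 1) (by rw [Nat.card_zpowers, hw, pow_one])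
    obtain ⟨P, hP⟩ := hpg.exists_le_sylow
    refine ⟨P, ?_⟩
    symm
    apply Subgroup.eq_of_le_of_card_ge hP
    rw [Sylow.card_eq_multiplicity, hfac, pow_one, Nat.card_zpowers, hw]
  obtain ⟨P, hP⟩ := hsyl z hoz'
  obtain ⟨Q, hQ⟩ := hsyl (g : G) hog
  obtain ⟨h, hh⟩ := MulAction.exists_smul_eq G Q P
  -- `h g h⁻¹ ∈ zpowers z`
  have hmem : h * (g : G) * h⁻¹ ∈ Subgroup.zpowers z := by
    rw [← hP, ← hh, Sylow.coe_subgroup_smul]
    have hgQ : (g : G) ∈ (Q : Subgroup G) := by rw [hQ]; exact Subgroup.mem_zpowers _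
    have := Subgroup.smul_mem_pointwise_smul (g : G) (MulAut.conj h) (Q : Subgroup G) hgQ
    rwa [MulAut.smul_def, MulAut.conj_apply] at this
  -- so `z ∈ zpowers (h g h⁻¹)`
  have hogc : orderOf (h * (g : G) * h⁻¹) = p := by rw [horder]; exact hog
  have heq : Subgroup.zpowers (h * (g : G) * h⁻¹) = Subgroup.zpowers z := by
    apply Subgroup.eq_of_le_of_card_ge ((Subgroup.zpowers_le).mpr hmem)
    rw [Nat.card_zpowers, Nat.card_zpowers, hogc, hoz']
  have hzin : z ∈ Subgroup.zpowers (h * (g : G) * h⁻¹) := by rw [heq]; exact Subgroup.mem_zpowers _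
  obtain ⟨k, hk⟩ := Subgroup.mem_zpowers_iff.mp hzin
  -- `h t h⁻¹` commutes with `z`
  have hc1 : (h * t * h⁻¹) * (h * (g : G) * h⁻¹) = (h * (g : G) * h⁻¹) * (h * t * h⁻¹) := by
    have : (h * t * h⁻¹) * (h * (g : G) * h⁻¹) = h * (t * (g : G)) * h⁻¹ := by group
    rw [this, ← hcomm]; group
  have hc2 : (h * t * h⁻¹) * z = z * (h * t * h⁻¹) := by
    rw [← hk]
    exact ((Commute.zpow_right (show Commute (h * t * h⁻¹) (h * (g : G) * h⁻¹) from hc1) k)).eq
  have hin : h * t * h⁻¹ ∈ Subgroup.centralizer ({z} : Set G) :=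
    Subgroup.mem_centralizer_singleton_iff.mpr hc2
  have := Subgroup.orderOf_dvd_natCard _ hin
  rw [hCz, horder] at this
  exact ht this

theorem card_centralizer_order3_form {G : Type u} [Group G] [Finite G] (hG : Nat.card G = 7920) (x y : G)
    (hCx : Nat.card (Subgroup.centralizer ({x} : Set G)) = 11)
    (hCy : Nat.card (Subgroup.centralizer ({y} : Set G)) = 5)
    (t : G) (ht : orderOf t = 3) :
    ∃ m : ℕ, m ∣ 16 ∧ Nat.card (Subgroup.centralizer ({t} : Set G)) = 9 * m := by
  haveI : Fact (Nat.Prime 3) := ⟨by norm_num⟩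
  haveI : Fact (Nat.Prime 5) := ⟨by norm_num⟩
  haveI : Fact (Nat.Prime 11) := ⟨by norm_num⟩
  have hfac : ∀ p k : ℕ, p.Prime → (∃ r, 7920 = p ^ k * r ∧ ¬ p ∣ r) → (Nat.card G).factorization p = k := by
    intro p k hp ⟨r, hr, hpr⟩
    rw [hG, hr, Nat.factorization_mul (pow_ne_zero _ hp.ne_zero) (by rintro rfl; simp at hpr),
      Finsupp.add_apply, hp.factorization_pow, Finsupp.single_eq_same,
      Nat.factorization_eq_zero_of_not_dvd hpr, add_zero]
  have hf3 : (Nat.card G).factorization 3 = 2 := hfac 3 2 (by norm_num) ⟨880, by norm_num, by norm_num⟩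
  have hf5 : (Nat.card G).factorization 5 = 1 := hfac 5 1 (by norm_num) ⟨1584, by norm_num, by norm_num⟩
  have hf11 : (Nat.card G).factorization 11 = 1 := hfac 11 1 (by norm_num) ⟨720, by norm_num, by norm_num⟩
  set c := Nat.card (Subgroup.centralizer ({t} : Set G)) with hc
  have hcdvd : c ∣ 7920 := hG ▸ Subgroup.card_subgroup_dvd_card _
  have h5 : ¬ 5 ∣ c :=
    not_dvd_card_centralizer_of_card_centralizer_eq_prime 5 hf5 y hCy t (by rw [ht]; norm_num)
  have h11 : ¬ 11 ∣ c :=
    not_dvd_card_centralizer_of_card_centralizer_eq_prime 11 hf11 x hCx t (by rw [ht]; norm_num)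
  -- `9 ∣ c`
  have h9 : 9 ∣ c := by
    have hpg : IsPGroup 3 (Subgroup.zpowers t) :=
      IsPGroup.of_card (n := 1) (by rw [Nat.card_zpowers, ht, pow_one])
    obtain ⟨Q, hQ⟩ := hpg.exists_le_sylow
    have hQcard : Nat.card (Q : Subgroup G) = 3 ^ 2 := by rw [Sylow.card_eq_multiplicity, hf3]
    have hab := IsPGroup.commutative_of_card_eq_prime_sq hQcard
    have htQ : t ∈ (Q : Subgroup G) := hQ (Subgroup.mem_zpowers t)
    have hle : (Q : Subgroup G) ≤ Subgroup.centralizer ({t} : Set G) := by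
      intro q hq
      rw [Subgroup.mem_centralizer_singleton_iff]
      have := hab ⟨q, hq⟩ ⟨t, htQ⟩
      exact congrArg Subtype.val this
    have := Subgroup.card_dvd_of_le hle
    rw [hQcard] at this
    simpa using this
  obtain ⟨m, hm⟩ := h9
  refine ⟨m, ?_, hm⟩
  rw [hm] at hcdvd h5 h11
  -- `9 m ∣ 7920`, so `m ∣ 880 = 16 * 55`, `5, 11 ∤ m`
  have hm880 : m ∣ 880 := by
    have : 9 * m ∣ 9 * 880 := by simpa using hcdvd
    exact Nat.dvd_of_mul_dvd_mul_left (by norm_num) this
  have h5m : ¬ 5 ∣ m := fun h => h5 (Dvd.dvd.mul_left h 9)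
  have h11m : ¬ 11 ∣ m := fun h => h11 (Dvd.dvd.mul_left h 9)
  have hc5 : Nat.Coprime m 5 := (Nat.Prime.coprime_iff_not_dvd (by norm_num)).mpr h5m |>.symm
  have hc11 : Nat.Coprime m 11 := (Nat.Prime.coprime_iff_not_dvd (by norm_num)).mpr h11m |>.symm
  have h1 : m ∣ 16 * 55 := by simpa using hm880
  have hc55 : Nat.Coprime m 55 := by
    have : (55 : ℕ) = 5 * 11 := by norm_num
    rw [this]; exact Nat.Coprime.mul_right hc5 hc11
  exact (Nat.Coprime.dvd_mul_right hc55).mp h1

end Cfsg.Agent.Lib.H4.M7920
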