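import Mathlib
import Cfsg.Prelude.Def_Characters
import Cfsg.Agent.Lib.H24.CharBasic

/-!
S0434 piece (SUM10) `sum_irr_eq` in the exact signature of `tools/blueprints/S0434_sigs.lean` (architect helper14):
a sum over `Irr(G)` is the sum over the ten listed characters.
-/
set_option autoImplicit false
namespace Cfsg.Agent.Lib.H4.M7920
open Cfsg
open scoped BigOperators ComplexConjugate
universe u

theorem sum_irr_eq {G : Type u} [Group G] [Finite G] [Fintype (IrrCharacter G)]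
    (ψ : Fin 3 → IrrCharacter G) (ψ₄ χ₁ χ₂ θ θ' φ : IrrCharacter G)
    (hall : ∀ ξ : IrrCharacter G, (ξ : G → ℂ) = 1 ∨ (∃ i, ξ = ψ i) ∨ ξ = ψ₄ ∨ ξ = χ₁ ∨ ξ = χ₂ ∨ ξ = θ ∨
      ξ = θ' ∨ ξ = φ)
    (hinj : Function.Injective ψ)
    (hdist : (∀ i, ψ i ≠ ψ₄ ∧ ψ i ≠ χ₁ ∧ ψ i ≠ χ₂ ∧ ψ i ≠ θ ∧ ψ i ≠ θ' ∧ ψ i ≠ φ) ∧
      ψ₄ ≠ χ₁ ∧ ψ₄ ≠ χ₂ ∧ ψ₄ ≠ θ ∧ ψ₄ ≠ θ' ∧ ψ₄ ≠ φ ∧ χ₁ ≠ χ₂ ∧ χ₁ ≠ θ ∧ χ₁ ≠ θ' ∧ χ₁ ≠ φ ∧
      χ₂ ≠ θ ∧ χ₂ ≠ θ' ∧ χ₂ ≠ φ ∧ θ ≠ θ' ∧ θ ≠ φ ∧ θ' ≠ φ)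
    (hne1 : (∀ i, (ψ i : G → ℂ) ≠ 1) ∧ (ψ₄ : G → ℂ) ≠ 1 ∧ (χ₁ : G → ℂ) ≠ 1 ∧ (χ₂ : G → ℂ) ≠ 1 ∧
      (θ : G → ℂ) ≠ 1 ∧ (θ' : G → ℂ) ≠ 1 ∧ (φ : G → ℂ) ≠ 1) :
    ∃ τ : IrrCharacter G, (τ : G → ℂ) = 1 ∧ ∀ F : IrrCharacter G → ℂ,
      ∑ ξ : IrrCharacter G, F ξ = F τ + ∑ i, F (ψ i) + F ψ₄ + F χ₁ + F χ₂ + F θ + F θ' + F φ := by
  classical
  set τ : IrrCharacter G := Cfsg.Agent.Lib.H24.trivialIrr G with hτdef
  have hτ : (τ : G → ℂ) = 1 := by funext g; rfl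
  refine ⟨τ, hτ, fun F => ?_⟩
  have hτne : ∀ ξ : IrrCharacter G, (ξ : G → ℂ) ≠ 1 → τ ≠ ξ := fun ξ h e => h (e ▸ hτ)
  obtain ⟨hd1, h41, h42, h4θ, h4θ', h4φ, h12, h1θ, h1θ', h1φ, h2θ, h2θ', h2φ, hθθ', hθφ, hθ'φ⟩ := hdist
  obtain ⟨hn1, hn4, hnχ1, hnχ2, hnθ, hnθ', hnφ⟩ := hne1
  have huniv : (Finset.univ : Finset (IrrCharacter G)) =
      insert τ (insert ψ₄ (insert χ₁ (insert χ₂ (insert θ (insert θ' (insert φ
        (Finset.univ.image ψ))))))) := by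
    ext ξ
    simp only [Finset.mem_univ, Finset.mem_insert, Finset.mem_image, true_and, true_iff]
    rcases hall ξ with h | ⟨i, h⟩ | h | h | h | h | h | h
    · left; exact Subtype.ext (h.trans hτ.symm)
    · right; right; right; right; right; right; right; exact ⟨i, h.symm⟩
    · right; left; exact h
    · right; right; left; exact h
    · right; right; right; left; exact h
    · right; right; right; right; left; exact h
    · right; right; right; right; right; left; exact h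
    · right; right; right; right; right; right; left; exact h
  have m7 : φ ∉ Finset.univ.image ψ := by
    simp only [Finset.mem_image, Finset.mem_univ, true_and, not_exists]
    exact fun i => (hd1 i).2.2.2.2.2
  have m6 : θ' ∉ insert φ (Finset.univ.image ψ) := by
    simp only [Finset.mem_insert, Finset.mem_image, Finset.mem_univ, true_and, not_or, not_exists]
    exact ⟨hθ'φ, fun i => (hd1 i).2.2.2.2.1⟩
  have m5 : θ ∉ insert θ' (insert φ (Finset.univ.image ψ)) := by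
    simp only [Finset.mem_insert, Finset.mem_image, Finset.mem_univ, true_and, not_or, not_exists]
    exact ⟨hθθ', hθφ, fun i => (hd1 i).2.2.2.1⟩
  have m4 : χ₂ ∉ insert θ (insert θ' (insert φ (Finset.univ.image ψ))) := by
    simp only [Finset.mem_insert, Finset.mem_image, Finset.mem_univ, true_and, not_or, not_exists]
    exact ⟨h2θ, h2θ', h2φ, fun i => (hd1 i).2.2.1⟩
  have m3 : χ₁ ∉ insert χ₂ (insert θ (insert θ' (insert φ (Finset.univ.image ψ)))) := by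
    simp only [Finset.mem_insert, Finset.mem_image, Finset.mem_univ, true_and, not_or, not_exists]
    exact ⟨h12, h1θ, h1θ', h1φ, fun i => (hd1 i).2.1⟩
  have m2 : ψ₄ ∉ insert χ₁ (insert χ₂ (insert θ (insert θ' (insert φ (Finset.univ.image ψ))))) := by
    simp only [Finset.mem_insert, Finset.mem_image, Finset.mem_univ, true_and, not_or, not_exists]
    exact ⟨h41, h42, h4θ, h4θ', h4φ, fun i => (hd1 i).1⟩
  have m1 : τ ∉ insert ψ₄ (insert χ₁ (insert χ₂ (insert θ (insert θ' (insert φ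
      (Finset.univ.image ψ)))))) := by
    simp only [Finset.mem_insert, Finset.mem_image, Finset.mem_univ, true_and, not_or, not_exists]
    exact ⟨hτne _ hn4, hτne _ hnχ1, hτne _ hnχ2, hτne _ hnθ, hτne _ hnθ', hτne _ hnφ,
      fun i h => hτne _ (hn1 i) h.symm⟩
  rw [huniv, Finset.sum_insert m1, Finset.sum_insert m2, Finset.sum_insert m3, Finset.sum_insert m4,
    Finset.sum_insert m5, Finset.sum_insert m6, Finset.sum_insert m7,
    Finset.sum_image (fun a _ b _ h => hinj h)]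
  ring

end Cfsg.Agent.Lib.H4.M7920
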