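import Cfsg.Agent.Lib.H4.MBNXPAR

/-!
helper4: S2549 farm-out (architect helper8), piece R1S: the rank one relation for a short reflection
(`x = xSG j (j+1) c`, `y = xSG (j+1) j c⁻¹`, `b' = s x y⁻¹`).  Exact signature of
tools/blueprints/S2549_sigs.lean.
-/

set_option autoImplicit false
set_option linter.unusedSectionVars false
set_option linter.unusedVariables false
set_option linter.unusedSimpArgs false

namespace Cfsg.Agent.Lib.H4.MBN

open Matrix Cfsg.Agent.Lib.H12.DCos Cfsg.Agent.Lib.H8.FBN Cfsg.Agent.Lib.H8.MBN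

variable {F : Type*} [Field F] {m : ℕ} (a b : F)

theorem lt_of_lv_lt (k l : Fin (2 * m + 2)) (h : lv l < lv k) : (l : ℕ) < k := by
  unfold lv at h
  split_ifs at h <;> omega

theorem rank_one_shortM (j : Fin m) (hj : (j : ℕ) + 1 < m) (x : ↥(GM (m := m) a b)) (hx : x ∈ XM a b j) :
    x = 1 ∨ ∃ b' ∈ BsM a b, ∃ y ∈ YM a b j, sRefM a b j * x = b' * y := by
  have hj2 := j.2
  obtain ⟨c, rfl⟩ := mem_XM_short a b j hj x hx
  by_cases hc0 : c = 0
  · left
    subst hc0
    exact xSG_zero a b _ _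
  · right
    obtain ⟨h1, h2, h3, h4⟩ := short_facts (m := m) j hj
    have h3' : (nxM j : Fin (2 * m + 2)) ≠ loM j := h3.symm
    have h4' : (nxM j : Fin (2 * m + 2)) ≠ (loM j).rev := by
      simp only [Ne, Fin.ext_iff, Fin.val_rev, loM_val, nxM_val]
      omega
    refine ⟨sRefM a b j * xSG a b (loM j) (nxM j) c * (xSG a b (nxM j) (loM j) c⁻¹)⁻¹, ?_,
      xSG a b (nxM j) (loM j) c⁻¹, ?_, by group⟩
    · -- block upper triangular
      rw [mem_BsM]
      intro k l hlk
      have hlk' := lt_of_lv_lt k l hlk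
      have hk2 := k.2
      have hl2 := l.2
      rw [mul_assoc, sRefM_mul_apply, Cfsg.Agent.Lib.H8.MBN.val_mul, xSG_val a b _ _ h1 h2 h3,
        xSG_inv a b _ _ h2 h1 h3', xSG_val a b _ _ h2 h1 h3', xS_mul_apply, xS_apply, xS_apply, xS_apply]
      have hτ := τM_val j k
      rw [if_pos hj] at hτ
      generalize τM j k = p at hτ ⊢
      have hp2 := p.2
      simp only [Fin.ext_iff, Fin.val_rev, loM_val, nxM_val]
      have hcc : c * c⁻¹ = 1 := mul_inv_cancel₀ hc0
      have hk : (k : ℕ) = j ∨ (k : ℕ) = j + 1 ∨ (k : ℕ) = 2 * m + 1 - j ∨ (k : ℕ) = 2 * m - j ∨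
        ((k : ℕ) ≠ j ∧ (k : ℕ) ≠ j + 1 ∧ (k : ℕ) ≠ 2 * m + 1 - j ∧ (k : ℕ) ≠ 2 * m - j) := by omega
      have hl : (l : ℕ) = j ∨ (l : ℕ) = j + 1 ∨ (l : ℕ) = 2 * m + 1 - j ∨ (l : ℕ) = 2 * m - j ∨
        ((l : ℕ) ≠ j ∧ (l : ℕ) ≠ j + 1 ∧ (l : ℕ) ≠ 2 * m + 1 - j ∧ (l : ℕ) ≠ 2 * m - j) := by omega
      rcases hk with hk | hk | hk | hk | hk <;> rcases hl with hl | hl | hl | hl | hl <;>
        first
        | omega
        | (simp (disch := omega) only [if_pos, if_neg] at hτ
           simp (disch := omega) only [if_pos, if_neg, and_true]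
           simp [hcc, hl])
    · -- `y ∈ Y_j`
      rw [mem_YM, xSG_val a b _ _ h2 h1 h3']
      constructor
      · intro k
        have hk2 := k.2
        rw [xS_apply, if_pos rfl, if_neg, if_neg, add_zero, sub_zero]
        · simp only [Fin.ext_iff, loM_val, nxM_val, Fin.val_rev]; omega
        · simp only [Fin.ext_iff, loM_val, nxM_val, Fin.val_rev]; omega
      · intro k l hkl hPhi
        have hk2 := k.2
        have hl2 := l.2
        have hkl' : (k : ℕ) ≠ l := fun h => hkl (Fin.ext h)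
        rw [PhiM_iff, if_pos hj] at hPhi
        rw [xS_apply, if_neg hkl, if_neg, if_neg, add_zero, sub_zero]
        · simp only [Fin.ext_iff, loM_val, nxM_val, Fin.val_rev]; omega
        · simp only [Fin.ext_iff, loM_val, nxM_val, Fin.val_rev]; omega

end Cfsg.Agent.Lib.H4.MBN
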