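import Mathlib
import Cfsg.Agent.Lib.H24.MI.Defs

set_option autoImplicit false

namespace Cfsg.Agent.Lib.H4.MI

open Cfsg.Agent.Lib.H24.MI

/-- K1. The hypotheses pass to quotients. -/
theorem metaIdx_map {G G' : Type*} [Group G] [Group G'] (f : G →* G') (hf : Function.Surjective f)
    (p : ℕ) (h : MetaIdx G p) : MetaIdx G' p := by
  obtain ⟨A, B, T, s, hBA, hTA, hnorm, hsup, hB, hT, hT2, hidx⟩ := h
  refine ⟨A.map f, B.map f, T.map f, s, Subgroup.map_mono hBA, Subgroup.map_mono hTA, ?_, ?_, ?_, ?_,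
    ?_, ?_⟩
  · exact (Subgroup.map_mono hnorm).trans (Subgroup.le_normalizer_map f)
  · rw [← Subgroup.map_sup]
    exact Subgroup.map_mono hsup
  · have := hB
    exact isCyclic_of_surjective (f.subgroupMap B) (f.subgroupMap_surjective B)
  · have := hT
    exact isCyclic_of_surjective (f.subgroupMap T) (f.subgroupMap_surjective T)
  · exact hT2.map f
  · exact (Subgroup.index_map_dvd A hf).trans hidx

end Cfsg.Agent.Lib.H4.MI
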