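import Mathlib
import Cfsg.Agent.S4037
import Cfsg.Agent.Lib.H24.MI.Defs

set_option autoImplicit false

namespace Cfsg.Agent.Lib.H4.MI

open Cfsg.Agent.Lib.H24.MI

/-- K2. On landed Kazarin (`Cfsg.Agent.S4037`, via `Lib.H7.Kaz.isSolvable_normalClosure`): an element
centralized by a subgroup of prime-power index has a solvable normal closure. -/
theorem solvable_normalClosure_of_central {G : Type*} [Group G] [Finite G] (A : Subgroup G) (p s : ℕ)
    (hp : p.Prime) (hA : A.index ∣ p ^ s) (x : G) (hx : ∀ a ∈ A, a * x = x * a) :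
    Group.IsSolvable (Subgroup.normalClosure ({x} : Set G)) := by
  have hle : A ≤ Subgroup.centralizer ({x} : Set G) := by
    intro a ha
    rw [Subgroup.mem_centralizer_iff]
    intro y hy
    rw [Set.mem_singleton_iff] at hy
    subst hy
    exact (hx a ha).symm
  have hdvd : (Subgroup.centralizer ({x} : Set G)).index ∣ p ^ s :=
    (Subgroup.index_dvd_of_le hle).trans hA
  obtain ⟨k, -, hk⟩ := (Nat.dvd_prime_pow hp).mp hdvd
  exact Cfsg.Agent.Lib.H7.Kaz.isSolvable_normalClosure hp _ x k rfl hk

end Cfsg.Agent.Lib.H4.MI
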