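import Mathlib

set_option autoImplicit false

namespace Cfsg.Agent.Lib.H4.MI

/-- K3. The involution of a cyclic group normalized by `A` is central in `A`. -/
theorem central_of_involution {G : Type*} [Group G] [Finite G] (A B : Subgroup G)
    (hn : A ≤ Subgroup.normalizer (B : Set G)) (hB : IsCyclic B) (z : G) (hz : z ∈ B) (hz2 : orderOf z = 2) :
    ∀ a ∈ A, a * z = z * a := by
  classical
  intro a ha
  have haN := hn ha
  have hw : a * z * a⁻¹ ∈ B := (Subgroup.mem_normalizer_iff.mp haN z).mp hz
  have : Fintype B := Fintype.ofFinite B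
  have hcard := IsCyclic.card_pow_eq_one_le (α := B) (n := 2) (by norm_num)
  have hzsq : z ^ 2 = 1 := by rw [← hz2]; exact pow_orderOf_eq_one z
  have hz1 : z ≠ 1 := by
    intro h1
    rw [h1, orderOf_one] at hz2
    omega
  have hwsq : (a * z * a⁻¹) ^ 2 = 1 := by
    rw [conj_pow, hzsq]; simp
  have hw1 : a * z * a⁻¹ ≠ 1 := by
    intro h1
    apply hz1
    have : z = a⁻¹ * (a * z * a⁻¹) * a := by group
    rw [this, h1]; simp
  by_contra hne
  have hwz : a * z * a⁻¹ ≠ z := by
    intro h
    apply hne
    calc a * z = a * z * a⁻¹ * a := by group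
      _ = z * a := by rw [h]
  -- three distinct solutions of x^2 = 1 in B
  have hsub : ({(1 : B), ⟨z, hz⟩, ⟨a * z * a⁻¹, hw⟩} : Finset B) ⊆
      Finset.univ.filter (fun b : B => b ^ 2 = 1) := by
    intro b hb
    simp only [Finset.mem_insert, Finset.mem_singleton] at hb
    simp only [Finset.mem_filter, Finset.mem_univ, true_and]
    rcases hb with rfl | rfl | rfl
    · simp
    · exact Subtype.ext (by simpa using hzsq)
    · exact Subtype.ext (by simpa using hwsq)
  have h3 : ({(1 : B), ⟨z, hz⟩, ⟨a * z * a⁻¹, hw⟩} : Finset B).card = 3 := by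
    rw [Finset.card_insert_of_notMem, Finset.card_insert_of_notMem, Finset.card_singleton]
    · simp only [Finset.mem_singleton]
      intro h
      exact hwz (congrArg Subtype.val h).symm
    · simp only [Finset.mem_insert, Finset.mem_singleton, not_or]
      constructor
      · intro h
        exact hz1 (congrArg Subtype.val h).symm
      · intro h
        exact hw1 (congrArg Subtype.val h).symm
  have := Finset.card_le_card hsub
  omega

end Cfsg.Agent.Lib.H4.MI
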