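import Mathlib

set_option autoImplicit false

namespace Cfsg.Agent.Lib.H4.MatTable

/-! ### Abstract regularity criterion from a transversal table -/

section Abstract

variable {G X : Type*} [Group G] [Finite G]

theorem regular_of_table (act : G → X → X)
    (act_one : ∀ x, act 1 x = x) (act_mul : ∀ g h x, act (g * h) x = act g (act h x))
    (S : Set G) (T : Set G) (e : X) (Y : Set X)
    (hY : ∀ g : G, ∀ y ∈ Y, act g y ∈ Y)
    (h1 : (1 : G) ∈ T)
    (h2 : ∀ s ∈ S, ∀ g ∈ T, s * g ∈ T)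
    (h3 : ∀ g ∈ T, ∀ g' ∈ T, act g e = act g' e → g = g')
    (h4 : ∀ y ∈ Y, ∃ g ∈ Subgroup.closure S, act g e = y)
    (he : e ∈ Y) :
    Nat.card (Subgroup.closure S) = Nat.card Y ∧
      ∀ v ∈ Y, ∀ w ∈ Y, ∃! h : Subgroup.closure S, act (h : G) v = w := by
  classical
  have hTfin : T.Finite := Set.toFinite T
  have h2' : ∀ s ∈ S, ∀ g ∈ T, s⁻¹ * g ∈ T := by
    intro s hs g hg
    have hm : Set.MapsTo (fun x => s * x) T T := fun x hx => h2 s hs x hx
    have hinj : Set.InjOn (fun x => s * x) T := fun x _ y _ hxy => mul_left_cancel hxy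
    have hbij := (hTfin.injOn_iff_bijOn_of_mapsTo hm).mp hinj
    obtain ⟨g', hg', hgg⟩ := hbij.surjOn hg
    have : s⁻¹ * g = g' := by
      rw [← hgg]; simp
    rw [this]; exact hg'
  have hT : ∀ g ∈ Subgroup.closure S, g ∈ T := by
    intro g hg
    induction hg using Subgroup.closure_induction_left with
    | one => exact h1
    | mul_left x hx y _ ih => exact h2 x hx y ih
    | inv_mul_cancel x hx y _ ih => exact h2' x hx y ih
  constructor
  · apply Nat.card_eq_of_bijective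
      (fun h : Subgroup.closure S => (⟨act (h : G) e, hY _ _ he⟩ : Y))
    constructor
    · intro h h' hh
      have : act (h : G) e = act (h' : G) e := congrArg Subtype.val hh
      exact Subtype.ext (h3 _ (hT _ h.2) _ (hT _ h'.2) this)
    · rintro ⟨y, hy⟩
      obtain ⟨g, hg, hge⟩ := h4 y hy
      exact ⟨⟨g, hg⟩, Subtype.ext hge⟩
  · intro v hv w hw
    obtain ⟨gv, hgv, hgve⟩ := h4 v hv
    obtain ⟨gw, hgw, hgwe⟩ := h4 w hw
    refine ⟨⟨gw * gv⁻¹, mul_mem hgw (inv_mem hgv)⟩, ?_, ?_⟩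
    · show act (gw * gv⁻¹) v = w
      rw [← hgve, act_mul, ← act_mul gv⁻¹ gv, inv_mul_cancel, act_one, hgwe]
    · rintro ⟨h, hh⟩ hhv
      have hhv' : act h v = w := hhv
      apply Subtype.ext
      show h = gw * gv⁻¹
      have e1 : act (h * gv) e = act gw e := by
        rw [act_mul, hgve, hhv', hgwe]
      have := h3 _ (hT _ (mul_mem hh hgv)) _ (hT _ hgw) e1
      rw [← this]; simp

end Abstract


/-! ### Concrete tables for subgroups of `GL₂(ZMod p)` -/

section Concrete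

/-- table lookup: row `a`, column `c`. Entry = (b, d, depth, parent a, parent c). -/
def look (tab : List (List (ℕ × ℕ × ℕ × ℕ × ℕ))) (a c : ℕ) : ℕ × ℕ × ℕ × ℕ × ℕ :=
  (tab.getD a []).getD c (0, 0, 0, 0, 0)

/-- action of the matrix `!![s.1, s.2.1; s.2.2.1, s.2.2.2]` on the column `(x, y)` mod `p`. -/
def actN (p : ℕ) (s : ℕ × ℕ × ℕ × ℕ) (x y : ℕ) : ℕ × ℕ :=
  ((s.1 * x + s.2.1 * y) % p, (s.2.2.1 * x + s.2.2.2 * y) % p)

def check1 (tab : List (List (ℕ × ℕ × ℕ × ℕ × ℕ))) : Bool :=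
  (look tab 1 0).1 == 0 && (look tab 1 0).2.1 == 1

def check2 (p : ℕ) (tab : List (List (ℕ × ℕ × ℕ × ℕ × ℕ))) (gens : List (ℕ × ℕ × ℕ × ℕ)) : Bool :=
  gens.all fun s => (List.range p).all fun a => (List.range p).all fun c =>
    (a == 0 && c == 0) ||
      ((look tab (actN p s a c).1 (actN p s a c).2).1 ==
          (actN p s (look tab a c).1 (look tab a c).2.1).1 &&
        (look tab (actN p s a c).1 (actN p s a c).2).2.1 ==
          (actN p s (look tab a c).1 (look tab a c).2.1).2)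

def check3 (p : ℕ) (tab : List (List (ℕ × ℕ × ℕ × ℕ × ℕ))) (gens : List (ℕ × ℕ × ℕ × ℕ)) : Bool :=
  (List.range p).all fun a => (List.range p).all fun c =>
    (a == 0 && c == 0) || (a == 1 && c == 0) ||
      (decide ((look tab a c).2.2.2.1 < p) && decide ((look tab a c).2.2.2.2 < p) &&
        !((look tab a c).2.2.2.1 == 0 && (look tab a c).2.2.2.2 == 0) &&
        decide ((look tab (look tab a c).2.2.2.1 (look tab a c).2.2.2.2).2.2.1 < (look tab a c).2.2.1) &&
        gens.any fun s =>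
          (actN p s (look tab a c).2.2.2.1 (look tab a c).2.2.2.2).1 == a &&
          (actN p s (look tab a c).2.2.2.1 (look tab a c).2.2.2.2).2 == c)

theorem check2_spec {p : ℕ} {tab : List (List (ℕ × ℕ × ℕ × ℕ × ℕ))} {gens : List (ℕ × ℕ × ℕ × ℕ)}
    (h : check2 p tab gens = true) (s : ℕ × ℕ × ℕ × ℕ) (hs : s ∈ gens) (a c : ℕ) (ha : a < p)
    (hc : c < p) (hac : ¬ (a = 0 ∧ c = 0)) :
    (look tab (actN p s a c).1 (actN p s a c).2).1 =
        (actN p s (look tab a c).1 (look tab a c).2.1).1 ∧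
      (look tab (actN p s a c).1 (actN p s a c).2).2.1 =
        (actN p s (look tab a c).1 (look tab a c).2.1).2 := by
  unfold check2 at h
  rw [List.all_eq_true] at h
  have h1 := h s hs
  rw [List.all_eq_true] at h1
  have h2 := h1 a (List.mem_range.mpr ha)
  rw [List.all_eq_true] at h2
  have h3 := h2 c (List.mem_range.mpr hc)
  simp only [Bool.or_eq_true, Bool.and_eq_true, beq_iff_eq] at h3
  rcases h3 with h3 | h3
  · exact absurd h3 hac
  · exact h3

theorem check3_spec {p : ℕ} {tab : List (List (ℕ × ℕ × ℕ × ℕ × ℕ))} {gens : List (ℕ × ℕ × ℕ × ℕ)}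
    (h : check3 p tab gens = true) (a c : ℕ) (ha : a < p)
    (hc : c < p) (hac : ¬ (a = 0 ∧ c = 0)) (hac1 : ¬ (a = 1 ∧ c = 0)) :
    ∃ a' c' : ℕ, a' < p ∧ c' < p ∧ ¬ (a' = 0 ∧ c' = 0) ∧
      (look tab a' c').2.2.1 < (look tab a c).2.2.1 ∧
      ∃ s ∈ gens, (actN p s a' c').1 = a ∧ (actN p s a' c').2 = c := by
  unfold check3 at h
  rw [List.all_eq_true] at h
  have h2 := h a (List.mem_range.mpr ha)
  rw [List.all_eq_true] at h2
  have h3 := h2 c (List.mem_range.mpr hc)
  simp only [Bool.or_eq_true, Bool.and_eq_true, beq_iff_eq, decide_eq_true_eq, Bool.not_eq_true',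
    Bool.and_eq_false_iff, List.any_eq_true] at h3
  rcases h3 with (h3 | h3) | h3
  · exact absurd h3 hac
  · exact absurd h3 hac1
  · obtain ⟨⟨⟨⟨h4, h5⟩, h6⟩, h7⟩, s, hs, h8, h9⟩ := h3
    refine ⟨_, _, h4, h5, ?_, h7, s, hs, h8, h9⟩
    rintro ⟨e1, e2⟩
    rcases h6 with h6 | h6
    · rw [e1] at h6; simp at h6
    · rw [e2] at h6; simp at h6

variable (p : ℕ) [hp : Fact p.Prime]

/-- matrix entries of an element of `GL₂(ZMod p)`. -/
def ent (g : Matrix.GeneralLinearGroup (Fin 2) (ZMod p)) (i j : Fin 2) : ZMod p :=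
  (g : Matrix (Fin 2) (Fin 2) (ZMod p)) i j

/-- `σ` has the entries given by the natural numbers `s`. -/
def EntRel (σ : Matrix.GeneralLinearGroup (Fin 2) (ZMod p)) (s : ℕ × ℕ × ℕ × ℕ) : Prop :=
  ent p σ 0 0 = (s.1 : ZMod p) ∧ ent p σ 0 1 = (s.2.1 : ZMod p) ∧
    ent p σ 1 0 = (s.2.2.1 : ZMod p) ∧ ent p σ 1 1 = (s.2.2.2 : ZMod p)

/-- membership in the transversal described by the table. -/
def inT (tab : List (List (ℕ × ℕ × ℕ × ℕ × ℕ)))
    (g : Matrix.GeneralLinearGroup (Fin 2) (ZMod p)) : Prop :=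
  (look tab (ent p g 0 0).val (ent p g 1 0).val).1 = (ent p g 0 1).val ∧
    (look tab (ent p g 0 0).val (ent p g 1 0).val).2.1 = (ent p g 1 1).val

theorem ent_mul (σ g : Matrix.GeneralLinearGroup (Fin 2) (ZMod p)) (i j : Fin 2) :
    ent p (σ * g) i j = ent p σ i 0 * ent p g 0 j + ent p σ i 1 * ent p g 1 j := by
  unfold ent
  rw [Matrix.GeneralLinearGroup.coe_mul, Matrix.mul_apply, Fin.sum_univ_two]

theorem val_lin (x y : ℕ) (u w : ZMod p) :
    ((x : ZMod p) * u + (y : ZMod p) * w).val = (x * u.val + y * w.val) % p := by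
  have : NeZero p := ⟨hp.out.ne_zero⟩
  conv_lhs => rw [← ZMod.natCast_zmod_val u, ← ZMod.natCast_zmod_val w]
  rw [← Nat.cast_mul, ← Nat.cast_mul, ← Nat.cast_add, ZMod.val_natCast]

theorem val_lt' (u : ZMod p) : u.val < p := by
  have : NeZero p := ⟨hp.out.ne_zero⟩
  exact ZMod.val_lt u

theorem first_col_ne (g : Matrix.GeneralLinearGroup (Fin 2) (ZMod p)) :
    ¬ ((ent p g 0 0).val = 0 ∧ (ent p g 1 0).val = 0) := by
  have : NeZero p := ⟨hp.out.ne_zero⟩
  rintro ⟨h0, h1⟩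
  have h0' : ent p g 0 0 = 0 := (ZMod.val_eq_zero _).mp h0
  have h1' : ent p g 1 0 = 0 := (ZMod.val_eq_zero _).mp h1
  have hdet := Matrix.GeneralLinearGroup.det_ne_zero g
  apply hdet
  rw [Matrix.det_fin_two]
  unfold ent at h0' h1'
  rw [h0', h1']; ring

theorem inT_mul {tab : List (List (ℕ × ℕ × ℕ × ℕ × ℕ))} {gens : List (ℕ × ℕ × ℕ × ℕ)}
    (c2 : check2 p tab gens = true) {σ g : Matrix.GeneralLinearGroup (Fin 2) (ZMod p)}
    {s : ℕ × ℕ × ℕ × ℕ} (hs : s ∈ gens) (hσ : EntRel p σ s) (hg : inT p tab g) :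
    inT p tab (σ * g) ∧ (ent p (σ * g) 0 0).val = (actN p s (ent p g 0 0).val (ent p g 1 0).val).1 ∧
      (ent p (σ * g) 1 0).val = (actN p s (ent p g 0 0).val (ent p g 1 0).val).2 := by
  obtain ⟨r00, r01, r10, r11⟩ := hσ
  obtain ⟨g1, g2⟩ := hg
  have key := check2_spec c2 s hs (ent p g 0 0).val (ent p g 1 0).val (val_lt' p _) (val_lt' p _)
    (first_col_ne p g)
  have e00 : (ent p (σ * g) 0 0).val = (actN p s (ent p g 0 0).val (ent p g 1 0).val).1 := by
    rw [ent_mul, r00, r01, val_lin]; rfl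
  have e10 : (ent p (σ * g) 1 0).val = (actN p s (ent p g 0 0).val (ent p g 1 0).val).2 := by
    rw [ent_mul, r10, r11, val_lin]; rfl
  have e01 : (ent p (σ * g) 0 1).val = (actN p s (ent p g 0 1).val (ent p g 1 1).val).1 := by
    rw [ent_mul, r00, r01, val_lin]; rfl
  have e11 : (ent p (σ * g) 1 1).val = (actN p s (ent p g 0 1).val (ent p g 1 1).val).2 := by
    rw [ent_mul, r10, r11, val_lin]; rfl
  refine ⟨⟨?_, ?_⟩, e00, e10⟩
  · rw [e00, e10, e01, key.1, g1, g2]
  · rw [e00, e10, e11, key.2, g1, g2]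

theorem exists_elt {tab : List (List (ℕ × ℕ × ℕ × ℕ × ℕ))} {gens : List (ℕ × ℕ × ℕ × ℕ)}
    (S : Set (Matrix.GeneralLinearGroup (Fin 2) (ZMod p)))
    (hS' : ∀ s ∈ gens, ∃ σ ∈ S, EntRel p σ s)
    (c1 : check1 tab = true) (c2 : check2 p tab gens = true) (c3 : check3 p tab gens = true) :
    ∀ n a c : ℕ, a < p → c < p → ¬ (a = 0 ∧ c = 0) → (look tab a c).2.2.1 ≤ n →
      ∃ g : Matrix.GeneralLinearGroup (Fin 2) (ZMod p), g ∈ Subgroup.closure S ∧ inT p tab g ∧
        (ent p g 0 0).val = a ∧ (ent p g 1 0).val = c := by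
  have : Fact (1 < p) := ⟨hp.out.one_lt⟩
  intro n
  induction n using Nat.strong_induction_on with
  | _ n ih =>
    intro a c ha hc hac hn
    by_cases h10 : a = 1 ∧ c = 0
    · obtain ⟨rfl, rfl⟩ := h10
      refine ⟨1, one_mem _, ?_, ?_, ?_⟩
      · unfold check1 at c1
        simp only [Bool.and_eq_true, beq_iff_eq] at c1
        unfold inT ent
        simp only [Matrix.GeneralLinearGroup.coe_one, Matrix.one_apply_eq, Matrix.one_apply_ne,
          ne_eq, one_ne_zero, zero_ne_one, not_false_eq_true, ZMod.val_one, ZMod.val_zero]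
        exact c1
      · unfold ent; simp [ZMod.val_one]
      · unfold ent; simp
    · obtain ⟨a', c', ha', hc', hac', hlt, s, hs, e1, e2⟩ := check3_spec c3 a c ha hc hac h10
      obtain ⟨g', hg'S, hg'T, hg'0, hg'1⟩ :=
        ih ((look tab a' c').2.2.1) (lt_of_lt_of_le hlt hn) a' c' ha' hc' hac' le_rfl
      obtain ⟨σ, hσS, hσ⟩ := hS' s hs
      obtain ⟨hT, h00, h10'⟩ := inT_mul p c2 hs hσ hg'T
      refine ⟨σ * g', mul_mem (Subgroup.subset_closure hσS) hg'S, hT, ?_, ?_⟩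
      · rw [h00, hg'0, hg'1, e1]
      · rw [h10', hg'0, hg'1, e2]

theorem mulVec_e (g : Matrix.GeneralLinearGroup (Fin 2) (ZMod p)) (i : Fin 2) :
    Matrix.mulVec (g : Matrix (Fin 2) (Fin 2) (ZMod p)) ![1, 0] i = ent p g i 0 := by
  unfold ent
  simp [Matrix.mulVec, dotProduct, Fin.sum_univ_two]

theorem card_nonzero : Nat.card ({v : Fin 2 → ZMod p | v ≠ 0} : Set (Fin 2 → ZMod p)) = p ^ 2 - 1 := by
  have : NeZero p := ⟨hp.out.ne_zero⟩
  have : ({v : Fin 2 → ZMod p | v ≠ 0} : Set (Fin 2 → ZMod p)) = {0}ᶜ := by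
    ext v; simp
  rw [this, Nat.card_coe_set_eq, Set.ncard_compl, Set.ncard_singleton, Nat.card_fun,
    Nat.card_zmod, Nat.card_fin]

theorem main (tab : List (List (ℕ × ℕ × ℕ × ℕ × ℕ))) (gens : List (ℕ × ℕ × ℕ × ℕ))
    (S : Set (Matrix.GeneralLinearGroup (Fin 2) (ZMod p)))
    (hS : ∀ σ ∈ S, ∃ s ∈ gens, EntRel p σ s)
    (hS' : ∀ s ∈ gens, ∃ σ ∈ S, EntRel p σ s)
    (c1 : check1 tab = true) (c2 : check2 p tab gens = true) (c3 : check3 p tab gens = true) :
    Nat.card (Subgroup.closure S) = p ^ 2 - 1 ∧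
      ∀ v w : Fin 2 → ZMod p, v ≠ 0 → w ≠ 0 →
        ∃! h : Subgroup.closure S,
          Matrix.mulVec ((h : Matrix.GeneralLinearGroup (Fin 2) (ZMod p)) :
            Matrix (Fin 2) (Fin 2) (ZMod p)) v = w := by
  have : NeZero p := ⟨hp.out.ne_zero⟩
  have : Fact (1 < p) := ⟨hp.out.one_lt⟩
  have hfin : Finite (Matrix.GeneralLinearGroup (Fin 2) (ZMod p)) := inferInstance
  have key := regular_of_table
    (fun (g : Matrix.GeneralLinearGroup (Fin 2) (ZMod p)) (v : Fin 2 → ZMod p) =>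
      Matrix.mulVec (g : Matrix (Fin 2) (Fin 2) (ZMod p)) v)
    (fun x => by simp)
    (fun g h x => by rw [Matrix.GeneralLinearGroup.coe_mul, Matrix.mulVec_mulVec])
    S {g | inT p tab g} ![1, 0] {v | v ≠ 0}
    (by
      intro g y hy h0
      apply hy
      have : Matrix.mulVec ((g⁻¹ : Matrix.GeneralLinearGroup (Fin 2) (ZMod p)) :
          Matrix (Fin 2) (Fin 2) (ZMod p)) (Matrix.mulVec (g : Matrix (Fin 2) (Fin 2) (ZMod p)) y)
          = y := by
        rw [Matrix.mulVec_mulVec, ← Matrix.GeneralLinearGroup.coe_mul, inv_mul_cancel]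
        simp
      rw [← this]
      have h0' : Matrix.mulVec (g : Matrix (Fin 2) (Fin 2) (ZMod p)) y = 0 := h0
      rw [h0', Matrix.mulVec_zero])
    (by
      show inT p tab 1
      unfold check1 at c1
      simp only [Bool.and_eq_true, beq_iff_eq] at c1
      unfold inT ent
      simp only [Matrix.GeneralLinearGroup.coe_one, Matrix.one_apply_eq, Matrix.one_apply_ne,
        ne_eq, one_ne_zero, zero_ne_one, not_false_eq_true, ZMod.val_one, ZMod.val_zero]
      exact c1)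
    (by
      intro σ hσ g hg
      obtain ⟨s, hs, hrel⟩ := hS σ hσ
      exact (inT_mul p c2 hs hrel hg).1)
    (by
      intro g hg g' hg' hgg
      have hgg' : Matrix.mulVec (g : Matrix (Fin 2) (Fin 2) (ZMod p)) ![1, 0] =
          Matrix.mulVec (g' : Matrix (Fin 2) (Fin 2) (ZMod p)) ![1, 0] := hgg
      have e0 : ent p g 0 0 = ent p g' 0 0 := by
        rw [← mulVec_e, ← mulVec_e, hgg']
      have e1 : ent p g 1 0 = ent p g' 1 0 := by
        rw [← mulVec_e, ← mulVec_e, hgg']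
      obtain ⟨a1, a2⟩ := hg
      obtain ⟨b1, b2⟩ := hg'
      rw [e0, e1] at a1 a2
      have e01 : ent p g 0 1 = ent p g' 0 1 := ZMod.val_injective p (a1.symm.trans b1)
      have e11 : ent p g 1 1 = ent p g' 1 1 := ZMod.val_injective p (a2.symm.trans b2)
      apply Units.ext
      ext i j
      fin_cases i <;> fin_cases j
      · exact e0
      · exact e01
      · exact e1
      · exact e11)
    (by
      intro y hy
      have hy' : ¬ ((y 0).val = 0 ∧ (y 1).val = 0) := by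
        rintro ⟨h0, h1⟩
        apply hy
        funext i
        fin_cases i
        · exact (ZMod.val_eq_zero _).mp h0
        · exact (ZMod.val_eq_zero _).mp h1
      obtain ⟨g, hgS, -, h0, h1⟩ := exists_elt p S hS' c1 c2 c3 _ (y 0).val (y 1).val
        (val_lt' p _) (val_lt' p _) hy' le_rfl
      refine ⟨g, hgS, ?_⟩
      funext i
      show Matrix.mulVec (g : Matrix (Fin 2) (Fin 2) (ZMod p)) ![1, 0] i = y i
      rw [mulVec_e]
      fin_cases i
      · exact ZMod.val_injective p h0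
      · exact ZMod.val_injective p h1)
    (by
      intro h
      have := congrFun h 0
      simp at this)
  refine ⟨?_, ?_⟩
  · rw [key.1, card_nonzero]
  · intro v w hv hw
    exact key.2 v hv w hw

end Concrete

end Cfsg.Agent.Lib.H4.MatTable
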