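import Mathlib
import Cfsg.Prelude.Def_Blocks
import Cfsg.Prelude.Def_CharExt
import Cfsg.Agent.Lib.H21.AD.Defs
import Cfsg.Agent.Lib.H28.NT.Defs
import Cfsg.Agent.Lib.H2.ADSOLCore
import Cfsg.Agent.Lib.H21.AD.IRR
import Cfsg.Agent.Lib.H8.ADFOUR
import Cfsg.Agent.Lib.H4.ADCOSET
import Cfsg.Agent.Lib.H4.ADEND1
import Cfsg.Agent.Lib.L0.SigmaResidualA

/-!
# S4892, piece (B0) `sSum_top_ne_zero`, core (helper4)

The base-free KEY statement (KEYF) enters as a hypothesis; the final file plugs in the landed piece.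
For `y` a `p`-regular element, `J := N ⊔ zpowers y`: `χ` is a principal extension on `J`; a twist `μ`
on `J` over `N` with nonzero sum gives another one, so `χ μ = χ` on `J` (KEYF) and `μ = 1`
(Gallagher uniqueness); Fourier inversion (FOUR) and the coset count (COSET).
-/

set_option autoImplicit false
open Cfsg.Agent.Lib.H21.AD Cfsg.Agent.Lib.H28.NT

namespace Cfsg.Agent.Lib.H4.NT

variable {G : Type*} [Group G] [Finite G] {p : ℕ} {M : Ideal Cfsg.AlgInt} {N Q : Subgroup G} {θ : G → ℂ}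

omit [Finite G] in
/-- a function which is an irreducible character of `⊤` is an irreducible character of `G` -/
theorem isIrrCharacter_of_top (χ : G → ℂ)
    (h : Cfsg.IsIrrCharacter (⊤ : Subgroup G) (fun y : (⊤ : Subgroup G) => χ y)) :
    Cfsg.IsIrrCharacter G χ := by
  have h1 := Cfsg.Agent.Lib.H23.isIrrCharacter_comp_mulEquiv (Subgroup.topEquiv (G := G)).symm h
  have h2 : ((fun y : (⊤ : Subgroup G) => χ y) ∘ (Subgroup.topEquiv (G := G)).symm) = χ := by
    funext g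
    rfl
  rw [h2] at h1
  exact h1

/-- (B0), core: (KEYF) is a hypothesis -/
theorem sSum_top_ne_zero_core [N.Normal] (h : Hyp p M N Q θ)
    (hkey : ∀ J : Subgroup G, N ≤ J → ¬ p ∣ N.relIndex J → ∀ f₁ f₂ : G → ℂ,
      GoodA p N θ J f₁ → GoodA p N θ J f₂ → ∀ g ∈ J, f₁ g = f₂ g)
    (χ : G → ℂ) (hχ : GoodE p N θ ⊤ χ) : sSum p ⊤ χ ≠ 0 := by
  classical
  obtain ⟨⟨hirrT, hχN⟩, hii, _⟩ := hχ
  have hχG : Cfsg.IsIrrCharacter G χ := isIrrCharacter_of_top χ hirrT
  have hχNirr : Cfsg.IsIrrCharacter N (fun n : N => χ n) := by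
    have e : (fun n : N => χ n) = fun n : N => θ n := funext fun n => hχN n n.2
    rw [e]
    exact h.hirr
  -- all coset sums over `p`-regular cosets are equal
  have hcos : ∀ y ∈ (⊤ : Subgroup G), ¬ p ∣ orderOf y → cSum p N χ y = sSum p N χ := by
    intro y _ hy
    set J : Subgroup G := N ⊔ Subgroup.zpowers y with hJ
    have hNJ : N ≤ J := le_sup_left
    have hyJ : y ∈ J := (le_sup_right : Subgroup.zpowers y ≤ J) (Subgroup.mem_zpowers y)
    have hpJ : ¬ p ∣ N.relIndex J := fun hd =>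
      hy (dvd_trans hd (Cfsg.Agent.Lib.H4.AD.relIndex_sup_zpowers_dvd N y))
    have habJ : ∀ a ∈ J, ∀ b ∈ J, a * b * a⁻¹ * b⁻¹ ∈ N :=
      fun a ha b hb => Cfsg.Agent.Lib.H4.AD.comm_mem_of_sup_zpowers N y a b ha hb
    have hnormJ : ∀ a ∈ J, ∀ b ∈ N, a * b * a⁻¹ ∈ N :=
      fun a _ b hb => (inferInstance : N.Normal).conj_mem b hb a
    have htw1 : IsTwist N J (fun _ => (1 : ℂ)) := ⟨fun _ _ _ _ => (one_mul 1).symm, fun _ _ => rfl⟩
    have hirrJ : Cfsg.IsIrrCharacter J (fun y : J => χ y) := by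
      have h1 := Cfsg.Agent.Lib.H21.AD.irr_twist N J hNJ χ hχG hχNirr (fun _ => 1) htw1
      simpa using h1
    have hgoodχ : GoodA p N θ J χ := ⟨⟨hirrJ, hχN⟩, hii y (Subgroup.mem_top y) hy⟩
    refine Cfsg.Agent.Lib.H8.AD.four p N J hNJ hnormJ habJ χ ?_ y hyJ
    intro μ hμ hne
    by_contra hsum
    have hgoodμ : GoodA p N θ J (fun g => χ g * μ g) := by
      refine ⟨⟨Cfsg.Agent.Lib.H21.AD.irr_twist N J hNJ χ hχG hχNirr μ hμ, fun n hn => ?_⟩, hsum⟩
      show χ n * μ n = θ n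
      rw [hμ.2 n hn, mul_one]
      exact hχN n hn
    have hk := hkey J hNJ hpJ _ _ hgoodμ hgoodχ
    -- Gallagher uniqueness in `↥J`
    have : Fintype ↥J := Fintype.ofFinite _
    let f0 : J →* ℂ :=
      { toFun := fun y => μ y
        map_one' := hμ.2 1 N.one_mem
        map_mul' := fun a b => hμ.1 a a.2 b b.2 }
    have hres : Cfsg.IsIrrCharacter (N.subgroupOf J)
        (fun x : N.subgroupOf J => (fun y : J => χ y) (x : J)) :=
      (Cfsg.Agent.Lib.H23.isIrrCharacter_restrict_subgroupOf_iff hNJ χ).2 hχNirr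
    have hβ : ∀ n : N.subgroupOf J, f0.toHomUnits (n : J) = 1 := by
      intro n
      apply Units.ext
      rw [MonoidHom.coe_toHomUnits]
      exact hμ.2 _ (Subgroup.mem_subgroupOf.1 n.2)
    have heq : (fun y : J => χ y) * Cfsg.Agent.Lib.H23.homToFun J f0.toHomUnits =
        (fun y : J => χ y) * Cfsg.Agent.Lib.H23.homToFun J 1 := by
      funext y
      simp only [Pi.mul_apply, Cfsg.Agent.Lib.H23.homToFun_apply, MonoidHom.coe_toHomUnits,
        MonoidHom.one_apply, Units.val_one, mul_one]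
      exact hk y y.2
    have hb := Cfsg.Agent.Lib.L0.SigmaRes.hom_eq_of_mul_eq (N.subgroupOf J) hirrJ hres
      f0.toHomUnits 1 hβ (fun _ => rfl) heq
    obtain ⟨g, hgJ, hg⟩ := hne
    apply hg
    have h5 : ((f0.toHomUnits ⟨g, hgJ⟩ : ℂˣ) : ℂ) = (((1 : J →* ℂˣ) ⟨g, hgJ⟩ : ℂˣ) : ℂ) := by
      rw [hb]
    rw [MonoidHom.coe_toHomUnits] at h5
    have h6 : f0 ⟨g, hgJ⟩ = μ g := rfl
    rw [h6] at h5
    simpa using h5
  obtain ⟨k, hk0, hk⟩ := Cfsg.Agent.Lib.H4.AD.coset_count p N ⊤ le_top χ hcos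
  rw [hk, Cfsg.Agent.Lib.H2.AD.sSum_congr p N χ θ hχN]
  exact mul_ne_zero (Nat.cast_ne_zero.2 hk0.ne') h.hB

end Cfsg.Agent.Lib.H4.NT
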