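import Mathlib
import Cfsg.Prelude.Def_Blocks
import Cfsg.Prelude.Def_CharExt
import Cfsg.Agent.Lib.H21.AD.Defs
import Cfsg.Agent.Lib.H28.NT.Defs
import Cfsg.Agent.Lib.H4.NTB0Core
import Cfsg.Agent.Lib.H28.NT.KEYF

/-!
# S4892, piece (B0) `sSum_top_ne_zero` (helper4), exact signature
-/

set_option autoImplicit false
open Cfsg.Agent.Lib.H21.AD Cfsg.Agent.Lib.H28.NT

namespace Cfsg.Agent.Lib.H4.NT

variable {G : Type*} [Group G] [Finite G] {p : ℕ} {M : Ideal Cfsg.AlgInt} {N Q : Subgroup G} {θ : G → ℂ}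

/-- (B0) = END1 + COSET base-free: nontrivial twists on `N⟨y⟩` kill the sum (KEYF + Gallagher uniqueness),
`H8.AD.four`, `H4.AD.coset_count` with `J = ⊤`. -/
theorem sSum_top_ne_zero [N.Normal] (h : Hyp p M N Q θ) (χ : G → ℂ) (hχ : GoodE p N θ ⊤ χ) :
    sSum p ⊤ χ ≠ 0 :=
  sSum_top_ne_zero_core h
    (fun J hNJ hpJ f₁ f₂ h₁ h₂ => Cfsg.Agent.Lib.H28.NT.keyF h J J hNJ le_rfl hpJ f₁ f₂ h₁ h₂) χ hχ

end Cfsg.Agent.Lib.H4.NT
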