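import Mathlib
import Cfsg.Prelude.Def_Blocks
import Cfsg.Prelude.Def_CharExt
import Cfsg.Agent.Lib.H21.AD.Defs
import Cfsg.Agent.Lib.H28.NT.Defs
import Cfsg.Agent.Lib.H2.ADSOLCore

/-!
# S4892, piece (PSTEPb) `goodE_of_pstep`, core (helper4)

The hereditary statement (HER) enters as a hypothesis; the final file plugs in the landed piece.
-/

set_option autoImplicit false
open Cfsg.Agent.Lib.H21.AD Cfsg.Agent.Lib.H28.NT

namespace Cfsg.Agent.Lib.H4.NT

variable {G : Type*} [Group G] {p : ℕ}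

/-- a `p`-regular element of `H` lies in every normal subgroup `K` of `H` of `p`-power index -/
theorem mem_of_pRegular (hp : p.Prime) (K H : Subgroup G)
    (hnorm : ∀ a ∈ H, ∀ b ∈ K, a * b * a⁻¹ ∈ K) (a : ℕ) (hidx : K.relIndex H = p ^ a)
    (c : G) (hc : c ∈ H) (hpc : ¬ p ∣ orderOf c) : c ∈ K := by
  have hK' : (K.subgroupOf H).Normal := ⟨fun b hb x => by
    rw [Subgroup.mem_subgroupOf] at hb ⊢
    simpa using hnorm x x.2 b hb⟩
  set x : ↥H ⧸ K.subgroupOf H := QuotientGroup.mk (⟨c, hc⟩ : H) with hx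
  have h1 : x ^ (K.subgroupOf H).index = 1 := by
    rw [hx, ← QuotientGroup.mk_pow, QuotientGroup.eq_one_iff]
    exact Subgroup.pow_index_mem _ _
  have h2 : x ^ orderOf c = 1 := by
    rw [hx, ← QuotientGroup.mk_pow]
    have : (⟨c, hc⟩ : H) ^ orderOf c = 1 := by
      apply Subtype.ext
      rw [Subgroup.coe_pow, Subgroup.coe_one]
      exact pow_orderOf_eq_one c
    rw [this, QuotientGroup.mk_one]
  have hidx' : (K.subgroupOf H).index = p ^ a := hidx
  have hcop : Nat.Coprime (K.subgroupOf H).index (orderOf c) := by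
    rw [hidx']
    exact Nat.Coprime.pow_left a ((Nat.Prime.coprime_iff_not_dvd hp).mpr hpc)
  have h3 : orderOf x ∣ Nat.gcd (K.subgroupOf H).index (orderOf c) :=
    Nat.dvd_gcd (orderOf_dvd_of_pow_eq_one h1) (orderOf_dvd_of_pow_eq_one h2)
  rw [hcop.gcd_eq_one, Nat.dvd_one, orderOf_eq_one_iff, hx, QuotientGroup.eq_one_iff] at h3
  exact h3

/-- (PSTEPb), core: (HER) on `K` is a hypothesis -/
theorem goodE_of_pstep_core (hp : p.Prime) (N : Subgroup G) (θ : G → ℂ) (K H : Subgroup G)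
    (hNK : N ≤ K)
    (hnorm : ∀ a ∈ H, ∀ b ∈ K, a * b * a⁻¹ ∈ K)
    (hidx : ∃ a : ℕ, K.relIndex H = p ^ a) (f : G → ℂ) (hf : GoodA p N θ K f)
    (hher : ∀ c ∈ K, sSum p (N ⊔ Subgroup.zpowers c) f ≠ 0) (f' : G → ℂ)
    (h1 : Cfsg.IsIrrCharacter H (fun y : H => f' y)) (h2 : ∀ g ∈ K, f' g = f g)
    (h3 : ∀ x : H, (∃ k : ℕ, orderOf x = p ^ k) → Cfsg.detChar (fun y : H => f' y) x = 1) :
    GoodE p N θ H f' := by
  refine ⟨⟨h1, fun n hn => ?_⟩, fun c hc hpc => ?_, h3⟩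
  · rw [h2 n (hNK hn)]
    exact hf.1.2 n hn
  · obtain ⟨a, ha⟩ := hidx
    have hcK : c ∈ K := mem_of_pRegular hp K H hnorm a ha c hc hpc
    have hle : N ⊔ Subgroup.zpowers c ≤ K :=
      sup_le hNK ((Subgroup.zpowers_le).2 hcK)
    rw [Cfsg.Agent.Lib.H2.AD.sSum_congr p (N ⊔ Subgroup.zpowers c) f' f (fun g hg => h2 g (hle hg))]
    exact hher c hcK

end Cfsg.Agent.Lib.H4.NT
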