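import Mathlib
import Cfsg.Prelude.Def_Blocks
import Cfsg.Prelude.Def_CharExt
import Cfsg.Agent.Lib.H21.AD.Defs
import Cfsg.Agent.Lib.H28.NT.Defs
import Cfsg.Agent.Lib.H4.NTPSTEPBCore
import Cfsg.Agent.Lib.H14.NTHER

/-!
# S4892, piece (PSTEPb) `goodE_of_pstep` (helper4), exact signature
-/

set_option autoImplicit false
open Cfsg.Agent.Lib.H21.AD Cfsg.Agent.Lib.H28.NT

namespace Cfsg.Agent.Lib.H4.NT

variable {G : Type*} [Group G] [Finite G] {p : ℕ} {M : Ideal Cfsg.AlgInt} {N Q : Subgroup G} {θ : G → ℂ}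

/-- (PSTEPb) then `f'` is good on `H`: a `p`-regular `c ∈ H` lies in `K` (normal, `p`-power index), (HER). -/
theorem goodE_of_pstep [N.Normal] (h : Hyp p M N Q θ) (K H : Subgroup G) (hNK : N ≤ K) (hKH : K ≤ H)
    (hnorm : ∀ a ∈ H, ∀ b ∈ K, a * b * a⁻¹ ∈ K) (hpK : ¬ p ∣ N.relIndex K)
    (hidx : ∃ a : ℕ, K.relIndex H = p ^ a) (f : G → ℂ) (hf : GoodA p N θ K f) (f' : G → ℂ)
    (h1 : Cfsg.IsIrrCharacter H (fun y : H => f' y)) (h2 : ∀ g ∈ K, f' g = f g)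
    (h3 : ∀ x : H, (∃ k : ℕ, orderOf x = p ^ k) → Cfsg.detChar (fun y : H => f' y) x = 1) :
    GoodE p N θ H f' :=
  goodE_of_pstep_core h.hp N θ K H hNK hnorm hidx f hf
    (fun c hc => Cfsg.Agent.Lib.H14.NT.goodA_zpowers h K hNK hpK f hf c hc) f' h1 h2 h3

end Cfsg.Agent.Lib.H4.NT
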