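import Mathlib

set_option autoImplicit false

/-!
Normal subgroups of multiply primitive / multiply transitive groups: elementary core lemmas.
-/

namespace Cfsg.Agent.Lib.H4

open MulAction SubMulAction
open scoped Pointwise

section
variable {G : Type*} [Group G] {X : Type*} [MulAction G X]

/-- pointwise stabilizers in `H` of `j`-sets are transitive on the complement -/
def TransOn (H : Subgroup G) (X : Type*) [MulAction G X] (j : ℕ) : Prop :=
  ∀ s : Set X, s.Finite → s.ncard = j → ∀ c d : X, c ∉ s → d ∉ s →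
    ∃ h ∈ H, (∀ z ∈ s, h • z = z) ∧ h • c = d

theorem isMultiplyPretransitive_succ_of_transOn (H : Subgroup G) (j : ℕ)
    (hj : IsMultiplyPretransitive H X j) (hT : TransOn H X j) :
    IsMultiplyPretransitive H X (j + 1) := by
  rw [isMultiplyPretransitive_iff] at hj ⊢
  intro y z
  let y' : Fin j ↪ X := Fin.castSuccEmb.trans y
  let z' : Fin j ↪ X := Fin.castSuccEmb.trans z
  obtain ⟨h₁, hh₁⟩ := hj y' z'
  have hh₁' : ∀ i : Fin j, (h₁ : G) • y (Fin.castSucc i) = z (Fin.castSucc i) := by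
    intro i
    have := congrArg (fun e : Fin j ↪ X => e i) hh₁
    exact this
  set s : Set X := Set.range z' with hs
  have hsfin : s.Finite := Set.finite_range _
  have hscard : s.ncard = j := by
    rw [hs, Set.ncard_range_of_injective z'.injective, Nat.card_fin]
  set c : X := (h₁ : G) • y (Fin.last j) with hc
  set d : X := z (Fin.last j) with hd
  have hcs : c ∉ s := by
    rintro ⟨i, hi⟩
    have h1 : z (Fin.castSucc i) = c := hi
    rw [← hh₁' i, hc] at h1
    have h2 := y.injective (smul_left_cancel _ h1)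
    exact (Fin.castSucc_lt_last i).ne h2
  have hds : d ∉ s := by
    rintro ⟨i, hi⟩
    have h1 : z (Fin.castSucc i) = z (Fin.last j) := hi
    have h2 := z.injective h1
    exact (Fin.castSucc_lt_last i).ne h2
  obtain ⟨h₂, hh₂H, hfix, hcd⟩ := hT s hsfin hscard c d hcs hds
  refine ⟨⟨h₂, hh₂H⟩ * h₁, ?_⟩
  ext i
  show (h₂ * (h₁ : G)) • y i = z i
  rw [mul_smul]
  refine Fin.lastCases ?_ (fun i => ?_) i
  · exact hcd
  · rw [hh₁' i]
    exact hfix _ ⟨i, rfl⟩

theorem transOn_or_trivial (H : Subgroup G) [H.Normal] {j : ℕ}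
    (hG : IsMultiplyPreprimitive G X (j + 1)) (s : Set X) (hs : s.Finite) (hsj : s.ncard = j) :
    (∀ c d : X, c ∉ s → d ∉ s → ∃ h ∈ H, (∀ z ∈ s, h • z = z) ∧ h • c = d) ∨
    (∀ h ∈ H, (∀ z ∈ s, h • z = z) → ∀ c : X, h • c = c) := by
  have hsenc : s.encard + 1 = ((j + 1 : ℕ) : ℕ∞) := by
    rw [← hsj, ← hs.cast_ncard_eq]; push_cast; rfl
  have hprim : IsPreprimitive (fixingSubgroup G s) (ofFixingSubgroup G s) :=
    hG.isPreprimitive_ofFixingSubgroup hsenc
  let N' : Subgroup (fixingSubgroup G s) := H.subgroupOf (fixingSubgroup G s)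
  have hN' : N'.Normal := inferInstance
  by_cases hfix : fixedPoints N' (ofFixingSubgroup G s) = Set.univ
  · right
    intro h hh hz c
    by_cases hc : c ∈ s
    · exact hz c hc
    · have hmem : h ∈ fixingSubgroup G s := by rw [mem_fixingSubgroup_iff]; exact hz
      have h1 : (⟨c, hc⟩ : ofFixingSubgroup G s) ∈ fixedPoints N' (ofFixingSubgroup G s) := by
        rw [hfix]; trivial
      have h2 := h1 ⟨⟨h, hmem⟩, hh⟩
      exact congrArg Subtype.val h2
  · left
    have hpt : IsPretransitive N' (ofFixingSubgroup G s) :=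
      IsQuasiPreprimitive.isPretransitive_of_normal hfix
    intro c d hc hd
    obtain ⟨n, hn⟩ := hpt.exists_smul_eq ⟨c, hc⟩ ⟨d, hd⟩
    refine ⟨((n : fixingSubgroup G s) : G), n.2, ?_, ?_⟩
    · have h1 := (n : fixingSubgroup G s).2
      rw [mem_fixingSubgroup_iff] at h1
      exact h1
    · exact congrArg Subtype.val hn

theorem exists_two_point (H : Subgroup G) {j : ℕ} (hj : 2 ≤ j)
    (hT2 : TransOn H X (j - 2)) (hT1 : TransOn H X (j - 1))
    (s₀ : Set X) (hs₀ : s₀.Finite) (hs₀c : s₀.ncard = j - 2) {a b d e : X}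
    (ha : a ∉ s₀) (hb : b ∉ s₀) (hd : d ∉ s₀) (he : e ∉ s₀) (hab : a ≠ b) (hde : d ≠ e) :
    ∃ m ∈ H, (∀ z ∈ s₀, m • z = z) ∧ m • a = d ∧ m • b = e := by
  obtain ⟨m₁, hm₁H, hm₁fix, hm₁a⟩ := hT2 s₀ hs₀ hs₀c a d ha hd
  set b' : X := m₁ • b with hb'
  have hb'd : b' ≠ d := by
    intro h
    rw [hb', ← hm₁a] at h
    exact hab (smul_left_cancel _ h).symm
  have hb's : b' ∉ s₀ := by
    intro h
    have h1 := hm₁fix b' h
    rw [hb'] at h1
    have h2 := smul_left_cancel _ h1
    rw [← hb'] at h2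
    rw [h2] at h
    exact hb h
  have hs₁fin : (insert d s₀).Finite := hs₀.insert d
  have hs₁c : (insert d s₀).ncard = j - 1 := by
    rw [Set.ncard_insert_of_notMem hd hs₀, hs₀c]; omega
  have hb's₁ : b' ∉ insert d s₀ := by
    rintro (h | h)
    · exact hb'd h
    · exact hb's h
  have hes₁ : e ∉ insert d s₀ := by
    rintro (h | h)
    · exact hde h.symm
    · exact he h
  obtain ⟨m₂, hm₂H, hm₂fix, hm₂b⟩ := hT1 _ hs₁fin hs₁c b' e hb's₁ hes₁
  refine ⟨m₂ * m₁, H.mul_mem hm₂H hm₁H, ?_, ?_, ?_⟩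
  · intro z hz
    rw [mul_smul, hm₁fix z hz]
    exact hm₂fix z (Or.inr hz)
  · rw [mul_smul, hm₁a]
    exact hm₂fix d (Or.inl rfl)
  · rw [mul_smul]
    exact hm₂b

theorem no_three_points (H : Subgroup G) [H.Normal] (s₀ : Set X) {a b : X} (ha : a ∉ s₀)
    (hb : b ∉ s₀) (hab : a ≠ b)
    (h2t : ∀ a b d e : X, a ∉ s₀ → b ∉ s₀ → d ∉ s₀ → e ∉ s₀ → a ≠ b → d ≠ e →
      ∃ m ∈ H, (∀ z ∈ s₀, m • z = z) ∧ m • a = d ∧ m • b = e)
    (hprim : IsPreprimitive (fixingSubgroup G (insert a (insert b s₀)))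
      (ofFixingSubgroup G (insert a (insert b s₀))))
    (hsharp : ∀ h ∈ H, (∀ z ∈ insert a (insert b s₀), h • z = z) → ∀ c : X, h • c = c)
    {c d e : X} (hc : c ∉ insert a (insert b s₀)) (hd : d ∉ insert a (insert b s₀))
    (he : e ∉ insert a (insert b s₀)) (hcd : c ≠ d) (hce : c ≠ e) (hde : d ≠ e) : False := by
  set s : Set X := insert a (insert b s₀) with hs
  have hmem_s : ∀ x : X, x ∈ s ↔ x = a ∨ x = b ∨ x ∈ s₀ := by
    intro x; rw [hs, Set.mem_insert_iff, Set.mem_insert_iff]
  have hnot : ∀ x : X, x ∉ s → x ≠ a ∧ x ≠ b ∧ x ∉ s₀ := by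
    intro x hx
    rw [hmem_s] at hx
    push Not at hx
    exact hx
  obtain ⟨hca, hcb, hcs₀⟩ := hnot c hc
  obtain ⟨hda, hdb, hds₀⟩ := hnot d hd
  obtain ⟨hea, heb, hes₀⟩ := hnot e he
  obtain ⟨t, htH, htfix, hta, htb⟩ := h2t a b b a ha hb hb ha hab hab.symm
  have hts : ∀ z ∈ s, t • z ∈ s := by
    intro z hz
    rw [hmem_s] at hz ⊢
    rcases hz with h | h | h
    · right; left; rw [h, hta]
    · left; rw [h, htb]
    · right; right; rw [htfix z h]; exact h
  -- t is an involution (in its action)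
  have htt : ∀ x : X, t • t • x = x := by
    intro x
    have h1 : ∀ z ∈ s, (t * t) • z = z := by
      intro z hz
      rw [mul_smul, hmem_s] at *
      rcases hz with h | h | h
      · rw [h, hta, htb]
      · rw [h, htb, hta]
      · rw [htfix z h, htfix z h]
    have := hsharp (t * t) (H.mul_mem htH htH) h1 x
    rwa [mul_smul] at this
  have hcompl : ∀ x : X, x ∉ s → t • x ∉ s := by
    intro x hx h
    apply hx
    have := hts _ h
    rwa [htt] at this
  -- elements of the fixing subgroup commute with t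
  have hcomm : ∀ g ∈ fixingSubgroup G s, ∀ x : X, g • t • x = t • g • x := by
    intro g hg x
    rw [mem_fixingSubgroup_iff] at hg
    have hginv : ∀ z ∈ s, g⁻¹ • z = z := by
      intro z hz
      rw [inv_smul_eq_iff]; exact (hg z hz).symm
    have hconj : ∀ z ∈ s, (g * t * g⁻¹) • z = t • z := by
      intro z hz
      rw [mul_smul, mul_smul, hginv z hz]
      exact hg _ (hts z hz)
    have hwH : (g * t * g⁻¹)⁻¹ * t ∈ H :=
      H.mul_mem (H.inv_mem (Subgroup.Normal.conj_mem inferInstance t htH g)) htH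
    have hwfix : ∀ z ∈ s, ((g * t * g⁻¹)⁻¹ * t) • z = z := by
      intro z hz
      rw [mul_smul, inv_smul_eq_iff, hconj z hz]
    have := hsharp _ hwH hwfix (g • x)
    rw [mul_smul, inv_smul_eq_iff, mul_smul, mul_smul, inv_smul_smul] at this
    exact this.symm
  -- t fixes every point outside s
  have hblock : ∀ y : X, y ∉ s → t • y = y := by
    intro y hy
    have hty : t • y ∉ s := hcompl y hy
    let B : Set (ofFixingSubgroup G s) := {u | (u : X) = y ∨ (u : X) = t • y}
    have hB : IsBlock (fixingSubgroup G s) B := by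
      rw [isBlock_iff_smul_eq_of_mem]
      intro g u hu hgu
      have hgt : ∀ x : X, (g : G) • t • x = t • (g : G) • x := hcomm g g.2
      have key : ((g : G) • y = y ∧ (g : G) • t • y = t • y) ∨
          ((g : G) • y = t • y ∧ (g : G) • t • y = y) := by
        have hgu' : (g : G) • (u : X) = y ∨ (g : G) • (u : X) = t • y := hgu
        rcases hu with hu | hu
        · rw [hu] at hgu'
          rcases hgu' with h | h
          · left; exact ⟨h, by rw [hgt, h]⟩
          · right; exact ⟨h, by rw [hgt, h, htt]⟩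
        · rw [hu] at hgu'
          have hrev : (g : G) • y = t • ((g : G) • t • y) := by rw [← hgt, htt]
          rcases hgu' with h | h
          · right; exact ⟨by rw [hrev, h], h⟩
          · left; exact ⟨by rw [hrev, h, htt], h⟩
      ext v
      rw [Set.mem_smul_set_iff_inv_smul_mem]
      show ((g⁻¹ • v : ofFixingSubgroup G s) : X) = y ∨
          ((g⁻¹ • v : ofFixingSubgroup G s) : X) = t • y ↔ (v : X) = y ∨ (v : X) = t • y
      have hval : ((g⁻¹ • v : ofFixingSubgroup G s) : X) = (g : G)⁻¹ • (v : X) := rfl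
      rw [hval, inv_smul_eq_iff, inv_smul_eq_iff]
      rcases key with ⟨k1, k2⟩ | ⟨k1, k2⟩
      · rw [k1, k2]
      · rw [k1, k2]; exact or_comm
    rcases hprim.isTrivialBlock_of_isBlock hB with hsub | huniv
    · have h1 : (⟨y, hy⟩ : ofFixingSubgroup G s) ∈ B := Or.inl rfl
      have h2 : (⟨t • y, hty⟩ : ofFixingSubgroup G s) ∈ B := Or.inr rfl
      exact (congrArg Subtype.val (hsub h1 h2)).symm
    · exfalso
      have hmem : ∀ x : X, x ∉ s → x = y ∨ x = t • y := by
        intro x hx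
        have : (⟨x, hx⟩ : ofFixingSubgroup G s) ∈ B := by rw [huniv]; trivial
        exact this
      rcases hmem c hc with h1 | h1 <;> rcases hmem d hd with h2 | h2 <;>
        rcases hmem e he with h3 | h3 <;>
        first
          | exact hcd (h1.trans h2.symm)
          | exact hce (h1.trans h3.symm)
          | exact hde (h2.trans h3.symm)
  have htfixall : ∀ x : X, x ≠ a → x ≠ b → t • x = x := by
    intro x hxa hxb
    by_cases hx : x ∈ s
    · rw [hmem_s] at hx
      rcases hx with h | h | h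
      · exact absurd h hxa
      · exact absurd h hxb
      · exact htfix x h
    · exact hblock x hx
  -- h : a ↦ a, b ↦ c
  obtain ⟨h, hhH, hhfix, hha, hhb⟩ := h2t a b a c ha hb ha hcs₀ hab (Ne.symm hca)
  have hhinva : h⁻¹ • a = a := by rw [inv_smul_eq_iff]; exact hha.symm
  have hhinvc : h⁻¹ • c = b := by rw [inv_smul_eq_iff]; exact hhb.symm
  have ht'fix : ∀ x : X, x ≠ a → x ≠ c → (h * t * h⁻¹) • x = x := by
    intro x hxa hxc
    rw [mul_smul, mul_smul]
    have h1 : h⁻¹ • x ≠ a := by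
      intro hcon
      apply hxa
      rw [inv_smul_eq_iff] at hcon
      rw [hcon, hha]
    have h2 : h⁻¹ • x ≠ b := by
      intro hcon
      apply hxc
      rw [inv_smul_eq_iff] at hcon
      rw [hcon, hhb]
    rw [htfixall _ h1 h2, smul_inv_smul]
  set u : G := (h * t * h⁻¹) * t with hu
  have huH : u ∈ H := H.mul_mem (Subgroup.Normal.conj_mem inferInstance t htH h) htH
  have hufix : ∀ x : X, x ≠ a → x ≠ b → x ≠ c → u • x = x := by
    intro x hxa hxb hxc
    rw [hu, mul_smul, htfixall x hxa hxb, ht'fix x hxa hxc]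
  have hub : u • b = c := by
    rw [hu, mul_smul, htb, mul_smul, mul_smul, hhinva, hta, hhb]
  -- sharpness at s' = {d, e} ∪ s₀ via conjugation by m
  obtain ⟨m, hmH, hmfix, hma, hmb⟩ := h2t a b d e ha hb hds₀ hes₀ hab hde
  have hwH : m⁻¹ * u * m ∈ H := by
    have := Subgroup.Normal.conj_mem (inferInstance : H.Normal) u huH m⁻¹
    simpa using this
  have hwfix : ∀ z ∈ s, (m⁻¹ * u * m) • z = z := by
    intro z hz
    rw [mul_smul, mul_smul, inv_smul_eq_iff]
    rw [hmem_s] at hz
    rcases hz with hz | hz | hz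
    · rw [hz, hma]; exact hufix d hda hdb (Ne.symm hcd)
    · rw [hz, hmb]; exact hufix e hea heb (Ne.symm hce)
    · rw [hmfix z hz]
      apply hufix z
      · intro hcon; exact ha (hcon ▸ hz)
      · intro hcon; exact hb (hcon ▸ hz)
      · intro hcon; exact hcs₀ (hcon ▸ hz)
  have hw := hsharp _ hwH hwfix (m⁻¹ • b)
  rw [mul_smul, mul_smul, smul_inv_smul, inv_smul_eq_iff, smul_inv_smul, hub] at hw
  exact hcb hw

end

end Cfsg.Agent.Lib.H4
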