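import Mathlib
import Cfsg.Agent.Lib.H5.Ord.SylPrime2
import Cfsg.Agent.Lib.H3.O4032_T10

set_option autoImplicit false

/-! # S0977 piece (O5) (helper4): pairs of conjugates of an involution `s ∈ N_G(K)` with a prescribed
product `k ∈ K \ {1}`, `K` self-centralizing of odd prime order.  This is helper3's
`H3.O4032_T10.card_pairs_dihedral` without the hypothesis `|N_G(K)| = 2p`: the index-2 step is
replaced by `s * x` centralizes `k`, hence lies in `C_G(K) = K`. -/

namespace Cfsg.Agent.Lib.H4.O4320

open Cfsg.Agent.Lib.H5.BrVal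

section
open scoped Classical

variable {G : Type*} [Group G] [Fintype G]

theorem card_pairs_inverting_aux {p : ℕ} [Fact p.Prime] (hp2 : p ≠ 2) (K : Subgroup G)
    (hK : Nat.card K = p) (hC : Subgroup.centralizer (K : Set G) = K)
    {s : G} (hsN : s ∈ Subgroup.normalizer (K : Set G)) (hs : orderOf s = 2)
    {k : G} (hk : k ∈ K) (hk1 : k ≠ 1) :
    (∑ a : G, ∑ b : G, if (a * s * a⁻¹) * (b * s * b⁻¹) = k then (1 : ℂ) else 0) =
      ((Nat.card (Subgroup.centralizer ({s} : Set G)) : ℂ)) ^ 2 * p := by
  have hpp : p.Prime := Fact.out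
  have hpodd : Odd p := hpp.odd_of_ne_two hp2
  set c : ℕ := Nat.card (Subgroup.centralizer ({s} : Set G)) with hc
  have hss : s * s = 1 := by
    have := pow_orderOf_eq_one s
    rwa [hs, pow_two] at this
  have hsinv : s⁻¹ = s := inv_eq_of_mul_eq_one_left hss
  -- `s ∉ K`
  have hordK : ∀ x ∈ K, orderOf x ∣ p := by
    intro x hx
    have := orderOf_dvd_natCard (⟨x, hx⟩ : K)
    rwa [Subgroup.orderOf_mk, hK] at this
  have hsK : s ∉ K := by
    intro h
    have := hordK s h
    rw [hs] at this
    exact hp2 ((Nat.prime_dvd_prime_iff_eq Nat.prime_two hpp).mp this).symm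
  have hsC : s ∉ Subgroup.centralizer (K : Set G) := by rw [hC]; exact hsK
  -- `s` inverts `K`
  have hinv : ∀ x ∈ K, s * x * s = x⁻¹ := by
    intro x hx
    have := Cfsg.Agent.Lib.H5.SylPrime.conj_eq_inv_of_not_mem_centralizer K hK hsN
      (by rw [hss]; exact one_mem _) hsC x hx
    rwa [hsinv] at this
  -- `K` is abelian
  have hKc : ∀ a ∈ K, ∀ b ∈ K, a * b = b * a := by
    intro a ha b hb
    have h1 : a ∈ Subgroup.centralizer (K : Set G) := by rw [hC]; exact ha
    exact (Subgroup.mem_centralizer_iff.mp h1 b hb).symm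
  -- conjugates of `s` are involutions, not in `K`
  have hconj_sq : ∀ a : G, (a * s * a⁻¹) * (a * s * a⁻¹) = 1 := by
    intro a
    have : a * s * a⁻¹ * (a * s * a⁻¹) = a * (s * s) * a⁻¹ := by simp [mul_assoc]
    rw [this, hss]; simp
  have hconj_ne : ∀ a : G, a * s * a⁻¹ ≠ 1 := by
    intro a h
    have h2 := congrArg (fun y => a⁻¹ * y * a) h
    simp only [mul_assoc, inv_mul_cancel, mul_one, inv_mul_cancel_left] at h2
    rw [h2, orderOf_one] at hs
    norm_num at hs
  have hconj_notK : ∀ a : G, a * s * a⁻¹ ∉ K := by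
    intro a h
    have h1 := hordK _ h
    have h2 : orderOf (a * s * a⁻¹) = 2 :=
      orderOf_eq_prime (by rw [pow_two]; exact hconj_sq a) (hconj_ne a)
    rw [h2] at h1
    exact hp2 ((Nat.prime_dvd_prime_iff_eq Nat.prime_two hpp).mp h1).symm
  -- every element of `sK` is conjugate to `s`
  have hsqsurj : ∀ y ∈ K, ∃ x ∈ K, x * x = y := by
    intro y hy
    obtain ⟨m, hm⟩ := hpodd
    refine ⟨y ^ (m + 1), K.pow_mem hy _, ?_⟩
    have hyp : y ^ p = 1 := orderOf_dvd_iff_pow_eq_one.mp (hordK y hy)
    rw [← pow_add, show m + 1 + (m + 1) = p + 1 by omega, pow_succ, hyp, one_mul]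
  have hB : ∀ y : G, s * y ∈ K → ∃ g : G, g * s * g⁻¹ = y := by
    intro y hy
    obtain ⟨x, hxK, hx⟩ := hsqsurj _ hy
    refine ⟨x⁻¹, ?_⟩
    -- x⁻¹ s x = s (s x⁻¹ s) x = s x x = s (s y) = y
    have h1 := hinv x⁻¹ (K.inv_mem hxK)
    rw [inv_inv] at h1
    have : x⁻¹ * s * x⁻¹⁻¹ = s * (s * x⁻¹ * s) * x := by
      rw [inv_inv]
      have : s * (s * x⁻¹ * s) * x = (s * s) * x⁻¹ * s * x := by simp [mul_assoc]
      rw [this, hss, one_mul]
    rw [this, h1, mul_assoc, hx, ← mul_assoc, hss, one_mul]
  -- if `x y = k` with `x`, `y` conjugates of `s` then `x` normalizes `K`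
  have hzp : K = Subgroup.zpowers k := by
    have hk' : (⟨k, hk⟩ : K) ≠ 1 := fun h => hk1 (congrArg Subtype.val h)
    have := zpowers_eq_top_of_prime_card (G := K) hK hk'
    apply le_antisymm
    · intro x hx
      have hx' : (⟨x, hx⟩ : K) ∈ Subgroup.zpowers (⟨k, hk⟩ : K) := by rw [this]; trivial
      obtain ⟨n, hn⟩ := Subgroup.mem_zpowers_iff.mp hx'
      refine Subgroup.mem_zpowers_iff.mpr ⟨n, ?_⟩
      have := congrArg Subtype.val hn
      simpa using this
    · rw [Subgroup.zpowers_le]; exact hk
  have hD : ∀ a b : G, (a * s * a⁻¹) * (b * s * b⁻¹) = k → s * (a * s * a⁻¹) ∈ K := by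
    intro a b hab
    set x := a * s * a⁻¹ with hx
    set y := b * s * b⁻¹ with hy
    have hxx : x * x = 1 := hconj_sq a
    have hyy : y * y = 1 := hconj_sq b
    have hxinv : x⁻¹ = x := inv_eq_of_mul_eq_one_left hxx
    have hkinv : x * k * x = k⁻¹ := by
      rw [← hab]
      have : x * (x * y) * x = (x * x) * y * x := by simp [mul_assoc]
      rw [this, hxx, one_mul]
      symm
      apply inv_eq_of_mul_eq_one_left
      have : y * x * (x * y) = y * (x * x) * y := by simp [mul_assoc]
      rw [this, hxx, mul_one, hyy]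
    -- `s * x` commutes with `k`
    have hcomm : (s * x) * k = k * (s * x) := by
      have h1 : x * k = k⁻¹ * x := by
        have h2 : x * k * x * x = k⁻¹ * x := by rw [hkinv]
        rwa [mul_assoc, hxx, mul_one] at h2
      have h3 : s * k⁻¹ = k * s := by
        have h4 := hinv k hk
        -- s * k * s = k⁻¹
        have h5 : s * (s * k * s) = s * k⁻¹ := by rw [h4]
        rw [← mul_assoc, ← mul_assoc, hss, one_mul] at h5
        exact h5.symm
      calc s * x * k = s * (x * k) := by rw [mul_assoc]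
        _ = s * (k⁻¹ * x) := by rw [h1]
        _ = (s * k⁻¹) * x := by rw [mul_assoc]
        _ = (k * s) * x := by rw [h3]
        _ = k * (s * x) := by rw [mul_assoc]
    have hmemC : s * x ∈ Subgroup.centralizer (K : Set G) := by
      rw [Subgroup.mem_centralizer_iff]
      intro h hh
      have hh' : h ∈ Subgroup.zpowers k := by rw [← hzp]; exact hh
      obtain ⟨n, rfl⟩ := Subgroup.mem_zpowers_iff.mp hh'
      have hc : Commute (s * x) k := hcomm
      exact (hc.zpow_right n).eq.symm
    rw [hC] at hmemC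
    exact hmemC
  -- now count
  have hinner : ∀ a : G,
      (∑ b : G, if (a * s * a⁻¹) * (b * s * b⁻¹) = k then (1 : ℂ) else 0) =
        if s * (a * s * a⁻¹) ∈ K then (c : ℂ) else 0 := by
    intro a
    rw [Finset.sum_boole]
    have hxx : (a * s * a⁻¹) * (a * s * a⁻¹) = 1 := hconj_sq a
    have hxinv : (a * s * a⁻¹)⁻¹ = a * s * a⁻¹ := inv_eq_of_mul_eq_one_left hxx
    have hfilt : (Finset.univ.filter fun b : G => (a * s * a⁻¹) * (b * s * b⁻¹) = k) =
        Finset.univ.filter fun b : G => b * s * b⁻¹ = (a * s * a⁻¹) * k := by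
      apply Finset.filter_congr
      intro b _
      constructor
      · intro h
        rw [← h, ← mul_assoc, hxx, one_mul]
      · intro h
        rw [h, ← mul_assoc, hxx, one_mul]
    rw [hfilt, T10_card_conj]
    by_cases hmem : s * (a * s * a⁻¹) ∈ K
    · rw [if_pos hmem, if_pos]
      apply hB
      rw [← mul_assoc]
      exact K.mul_mem hmem hk
    · rw [if_neg hmem, if_neg]
      · simp
      · rintro ⟨g, hg⟩
        apply hmem
        apply hD a g
        rw [hg, ← mul_assoc, hxx, one_mul]
  simp_rw [hinner]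
  rw [← Finset.sum_filter, Finset.sum_const, nsmul_eq_mul]
  -- count of `a` with `s * (a s a⁻¹) ∈ K`
  have hcount : (Finset.univ.filter fun a : G => s * (a * s * a⁻¹) ∈ K).card = p * c := by
    have h1 : (Finset.univ.filter fun a : G => s * (a * s * a⁻¹) ∈ K).card =
        ∑ y ∈ Finset.univ.filter (fun y : G => s * y ∈ K),
          (Finset.univ.filter fun a : G => a * s * a⁻¹ = y).card := by
      rw [Finset.card_eq_sum_card_fiberwise (f := fun a => a * s * a⁻¹)
        (t := Finset.univ.filter (fun y : G => s * y ∈ K))]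
      · apply Finset.sum_congr rfl
        intro y hy
        congr 1
        ext a
        simp only [Finset.mem_filter, Finset.mem_univ, true_and]
        constructor
        · rintro ⟨_, h⟩; exact h
        · intro h; refine ⟨?_, h⟩
          rw [h]; exact (Finset.mem_filter.mp hy).2
      · intro a ha
        simp only [Finset.coe_filter, Finset.mem_univ, true_and, Set.mem_ofPred_eq] at ha ⊢
        exact ha
    rw [h1]
    have h2 : ∀ y ∈ Finset.univ.filter (fun y : G => s * y ∈ K),
        (Finset.univ.filter fun a : G => a * s * a⁻¹ = y).card = c := by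
      intro y hy
      rw [T10_card_conj, if_pos (hB y (Finset.mem_filter.mp hy).2)]
    rw [Finset.sum_congr rfl h2, Finset.sum_const, smul_eq_mul]
    congr 1
    -- the coset `sK` has `p` elements
    rw [← hK, Nat.card_eq_fintype_card, ← Fintype.card_subtype]
    refine Fintype.card_congr
      { toFun := fun y => ⟨s * y.1, y.2⟩
        invFun := fun x => ⟨s * x.1, by rw [← mul_assoc, hss, one_mul]; exact x.2⟩
        left_inv := ?_
        right_inv := ?_ }
    · intro y; ext; simp [← mul_assoc, hss]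
    · intro x; ext; simp [← mul_assoc, hss]
  rw [hcount]
  push_cast
  ring


end

universe u

/-- (O5) exact signature of `tools/blueprints/S0977_sigs.lean` -/
theorem card_pairs_inverting {G : Type u} [Group G] [Fintype G] [DecidableEq G] {p : ℕ} [Fact p.Prime] (hp2 : p ≠ 2)
    (K : Subgroup G) (hK : Nat.card K = p) (hC : Subgroup.centralizer (K : Set G) = K)
    {s : G} (hsN : s ∈ Subgroup.normalizer (K : Set G)) (hs : orderOf s = 2)
    {k : G} (hk : k ∈ K) (hk1 : k ≠ 1) :
    (∑ a : G, ∑ b : G, if (a * s * a⁻¹) * (b * s * b⁻¹) = k then (1 : ℂ) else 0) =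
      ((Nat.card (Subgroup.centralizer ({s} : Set G)) : ℂ)) ^ 2 * p := by
  rw [← card_pairs_inverting_aux hp2 K hK hC hsN hs hk hk1]
  refine Finset.sum_congr rfl fun a _ => Finset.sum_congr rfl fun b _ => ?_
  congr

end Cfsg.Agent.Lib.H4.O4320
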