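import Mathlib

/-!
S0980 piece (E5) `key_identity` in the exact signature of `tools/blueprints/S0980_sigs.lean` (helper16 architect).
Pure field algebra.
-/
set_option autoImplicit false
namespace Cfsg.Agent.Lib.H4.O5760

theorem key_identity_aux (α β dχ d u τ : ℂ)
    (hαβ : α + β = -1) (hdχ : dχ ≠ 0) (hd : d ≠ 0)
    (ε δ : ℂ) (hε : ε * ε = 1) (hδ : δ * δ = 1)
    (h1 : 1 + ε * dχ - δ * d = 0) (hz : 1 + ε * u - δ * τ = 0) :
    (1 + u * u * ε / dχ + τ * τ * (δ * α) / d + τ * τ * (δ * β) / d) *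
      (δ * ε * d * dχ) = (d - τ) ^ 2 := by
  have hβ : β = -1 - α := by linear_combination hαβ
  subst hβ
  have e1 : (1 + u * u * ε / dχ + τ * τ * (δ * α) / d + τ * τ * (δ * (-1 - α)) / d) *
      (δ * ε * d * dχ) = δ * ε * d * dχ + u * u * (ε * ε) * δ * d - τ * τ * (δ * δ) * ε * dχ := by
    field_simp
    ring
  rw [e1, hε, hδ]
  -- ε dχ = δ d - 1, ε u = δ τ - 1
  have h1' : ε * dχ = δ * d - 1 := by linear_combination h1
  have hz' : ε * u = δ * τ - 1 := by linear_combination hz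
  have hu2 : u * u = (δ * τ - 1) ^ 2 := by
    have : (ε * u) * (ε * u) = (δ * τ - 1) ^ 2 := by rw [hz']; ring
    calc u * u = (ε * ε) * (u * u) := by rw [hε]; ring
      _ = (ε * u) * (ε * u) := by ring
      _ = _ := this
  have e2 : δ * ε * d * dχ + u * u * 1 * δ * d - τ * τ * 1 * ε * dχ
      = δ * d * (ε * dχ) + (u * u) * δ * d - τ * τ * (ε * dχ) := by ring
  rw [e2, h1', hu2]
  have : δ * d * (δ * d - 1) + (δ * τ - 1) ^ 2 * δ * d - τ * τ * (δ * d - 1)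
      = (δ * δ) * d * d - δ * d + ((δ * δ) * τ * τ - 2 * δ * τ + 1) * δ * d - τ * τ * (δ * d - 1) := by ring
  rw [this, hδ]
  have h3 : (1 * d * d - δ * d + (1 * τ * τ - 2 * δ * τ + 1) * δ * d - τ * τ * (δ * d - 1))
      = d * d - 2 * (δ * δ) * τ * d + τ * τ := by ring
  rw [h3, hδ]
  ring

theorem key_identity (ε δ : ℤ) (hε : ε = 1 ∨ ε = -1) (hδ : δ = 1 ∨ δ = -1) (α β dχ d u τ : ℂ)
    (hαβ : α + β = -1) (hdχ : dχ ≠ 0) (hd : d ≠ 0)
    (h1 : 1 + (ε : ℂ) * dχ - (δ : ℂ) * d = 0) (hz : 1 + (ε : ℂ) * u - (δ : ℂ) * τ = 0) :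
    (1 + u * u * (ε : ℂ) / dχ + τ * τ * ((δ : ℂ) * α) / d + τ * τ * ((δ : ℂ) * β) / d) *
      ((δ : ℂ) * (ε : ℂ) * d * dχ) = (d - τ) ^ 2 := by
  have hε' : (ε : ℂ) * (ε : ℂ) = 1 := by
    rcases hε with h | h <;> subst h <;> norm_num
  have hδ' : (δ : ℂ) * (δ : ℂ) = 1 := by
    rcases hδ with h | h <;> subst h <;> norm_num
  exact key_identity_aux α β dχ d u τ hαβ hdχ hd _ _ hε' hδ' h1 hz

end Cfsg.Agent.Lib.H4.O5760
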