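import Mathlib
import Cfsg.Prelude.Def_Characters
import Cfsg.Agent.Lib.H4.O5760E5
import Cfsg.Agent.Lib.H15.O5760A
import Cfsg.Agent.Lib.H24.CharBasic
import Cfsg.Agent.Lib.H23.ClassProduct
import Cfsg.Agent.Lib.L0.CharOps

/-!
S0980 piece (E6) `pairs_formula` in the exact signature of `tools/blueprints/S0980_sigs.lean` (helper16 architect):
class multiplication formula at `z`, given the structure of the characters that do not vanish at `x`.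
-/
set_option autoImplicit false
namespace Cfsg.Agent.Lib.H4.O5760
open Cfsg
open scoped BigOperators ComplexConjugate
universe u

theorem pairs_formula {G : Type u} [Group G] [Fintype G] [DecidableEq G] {x z : G}
    (ζ : ℂ) (hζ : IsPrimitiveRoot ζ 5)
    (χ θ θ' : IrrCharacter G) (ε δ : ℤ) (hε : ε = 1 ∨ ε = -1) (hδ : δ = 1 ∨ δ = -1)
    (h1χ : (χ : G → ℂ) ≠ 1) (h1θ : (θ : G → ℂ) ≠ 1) (h1θ' : (θ' : G → ℂ) ≠ 1)
    (hχθ : χ ≠ θ) (hχθ' : χ ≠ θ') (hθθ' : θ ≠ θ')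
    (hχx : (χ : G → ℂ) x = ε) (hθx : (θ : G → ℂ) x = δ * (ζ + ζ ^ 4))
    (hθ'x : (θ' : G → ℂ) x = δ * (ζ ^ 2 + ζ ^ 3))
    (hvan : ∀ ψ : IrrCharacter G, (ψ : G → ℂ) ≠ 1 → ψ ≠ χ → ψ ≠ θ → ψ ≠ θ' → (ψ : G → ℂ) x = 0)
    (hrel1 : (θ : G → ℂ) 1 = (θ' : G → ℂ) 1 ∧
      1 + (ε : ℂ) * (χ : G → ℂ) 1 - (δ : ℂ) * (θ : G → ℂ) 1 = 0)
    (hrelz : (θ : G → ℂ) z = (θ' : G → ℂ) z ∧
      1 + (ε : ℂ) * (χ : G → ℂ) z - (δ : ℂ) * (θ : G → ℂ) z = 0) :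
    (∑ s : G, ∑ t : G, if (s * z * s⁻¹) * (t * z * t⁻¹) = x then (1 : ℂ) else 0) *
        ((δ : ℂ) * (ε : ℂ) * (θ : G → ℂ) 1 * (χ : G → ℂ) 1) =
      (Nat.card G : ℂ) * ((θ : G → ℂ) 1 - (θ : G → ℂ) z) ^ 2 := by
  classical
  have : Fintype (IrrCharacter G) := Fintype.ofFinite _
  rw [Cfsg.Agent.Lib.H23.sum_sum_ite_conj_mul_eq z z x]
  set triv : IrrCharacter G := ⟨(1 : G → ℂ), Cfsg.Agent.Lib.L0.isIrrCharacter_one⟩ with htriv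
  have ht1 : ∀ g, (triv : G → ℂ) g = 1 := fun g => rfl
  have htχ : triv ≠ χ := fun h => h1χ (by rw [← h])
  have htθ : triv ≠ θ := fun h => h1θ (by rw [← h])
  have htθ' : triv ≠ θ' := fun h => h1θ' (by rw [← h])
  set f : IrrCharacter G → ℂ := fun ψ =>
    (ψ : G → ℂ) z * (ψ : G → ℂ) z * (ψ : G → ℂ) x⁻¹ / (ψ : G → ℂ) 1 with hf
  have hS : ∑ ψ ∈ ({triv, χ, θ, θ'} : Finset (IrrCharacter G)), f ψ = f triv + f χ + f θ + f θ' := by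
    rw [Finset.sum_insert, Finset.sum_insert, Finset.sum_insert, Finset.sum_singleton]
    · ring
    · simpa using hθθ'
    · simp only [Finset.mem_insert, Finset.mem_singleton, not_or]
      exact ⟨hχθ, hχθ'⟩
    · simp only [Finset.mem_insert, Finset.mem_singleton, not_or]
      exact ⟨htχ, htθ, htθ'⟩
  have hsum : ∑ ψ : IrrCharacter G, f ψ = f triv + f χ + f θ + f θ' := by
    rw [← hS]
    symm
    apply Finset.sum_subset (Finset.subset_univ _)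
    intro ψ _ hψ
    simp only [Finset.mem_insert, Finset.mem_singleton, not_or] at hψ
    have h0 : (ψ : G → ℂ) x = 0 :=
      hvan ψ (fun h => hψ.1 (Subtype.ext h)) hψ.2.1 hψ.2.2.1 hψ.2.2.2
    show (ψ : G → ℂ) z * (ψ : G → ℂ) z * (ψ : G → ℂ) x⁻¹ / (ψ : G → ℂ) 1 = 0
    rw [Cfsg.Agent.Lib.H24.irr_inv, h0, map_zero, mul_zero, zero_div]
  have hsum' : ∑ ψ : IrrCharacter G,
      (ψ : G → ℂ) z * (ψ : G → ℂ) z * (ψ : G → ℂ) x⁻¹ / (ψ : G → ℂ) 1 =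
      f triv + f χ + f θ + f θ' := hsum
  rw [hsum']
  have e1 : f triv = 1 := by
    show (triv : G → ℂ) z * (triv : G → ℂ) z * (triv : G → ℂ) x⁻¹ / (triv : G → ℂ) 1 = 1
    simp only [ht1]
    norm_num
  have e2 : f χ = (χ : G → ℂ) z * (χ : G → ℂ) z * (ε : ℂ) / (χ : G → ℂ) 1 := by
    show (χ : G → ℂ) z * (χ : G → ℂ) z * (χ : G → ℂ) x⁻¹ / (χ : G → ℂ) 1 = _
    rw [Cfsg.Agent.Lib.H24.irr_inv, hχx]
    simp
  have e3 : f θ = (θ : G → ℂ) z * (θ : G → ℂ) z * ((δ : ℂ) * (ζ + ζ ^ 4)) / (θ : G → ℂ) 1 := by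
    show (θ : G → ℂ) z * (θ : G → ℂ) z * (θ : G → ℂ) x⁻¹ / (θ : G → ℂ) 1 = _
    rw [Cfsg.Agent.Lib.H24.irr_inv, hθx, map_mul, Cfsg.Agent.Lib.H15.O5760.conj_al hζ]
    simp
  have e4 : f θ' = (θ : G → ℂ) z * (θ : G → ℂ) z * ((δ : ℂ) * (ζ ^ 2 + ζ ^ 3)) / (θ : G → ℂ) 1 := by
    show (θ' : G → ℂ) z * (θ' : G → ℂ) z * (θ' : G → ℂ) x⁻¹ / (θ' : G → ℂ) 1 = _
    rw [Cfsg.Agent.Lib.H24.irr_inv, hθ'x, map_mul, Cfsg.Agent.Lib.H15.O5760.conj_be hζ,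
      ← hrelz.1, ← hrel1.1]
    simp
  rw [e1, e2, e3, e4]
  have key := key_identity ε δ hε hδ (ζ + ζ ^ 4) (ζ ^ 2 + ζ ^ 3) ((χ : G → ℂ) 1) ((θ : G → ℂ) 1)
    ((χ : G → ℂ) z) ((θ : G → ℂ) z) (Cfsg.Agent.Lib.H15.O5760.al_add_be hζ)
    (Cfsg.Agent.Lib.H24.irr_one_ne_zero χ) (Cfsg.Agent.Lib.H24.irr_one_ne_zero θ) hrel1.2 hrelz.2
  rw [mul_assoc, key]

end Cfsg.Agent.Lib.H4.O5760
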