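import Mathlib
import Cfsg.Agent.Lib.H16.ConjSub

/-!
S4930 piece (P4c), core (helper4): fusion modulo `K0`.

`P` a Sylow `p`-subgroup of `G`, `L, K0 ⊴ G`, `P ≤ L`, `N_G(P) ⊓ L = P`, `K0 ⊓ P = P'`.  Then every commutator `⁅x, u⁆ ∈ P`
with `x ∈ P`, `u ∈ L` lies in `P'`.  (Burnside's fusion argument in `G ⧸ K0`, where the image of `P` is abelian and
self-normalizing in the image of `L`.)
-/
set_option autoImplicit false
namespace Cfsg.Agent.Lib.H4.OD

open scoped commutatorElement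

universe u

theorem comm_mem_of_fusion {G : Type u} [Group G] [Finite G] {p : ℕ} [Fact p.Prime]
    (P : Sylow p G) (L K0 : Subgroup G) [hK0n : K0.Normal]
    (hPL : (P : Subgroup G) ≤ L)
    (hNL : Subgroup.normalizer ((P : Subgroup G) : Set G) ⊓ L = (P : Subgroup G))
    (hK0P : K0 ⊓ (P : Subgroup G) = (commutator ↥(P : Subgroup G)).map (P : Subgroup G).subtype) :
    ∀ x ∈ (P : Subgroup G), ∀ u ∈ L, ⁅x, u⁆ ∈ (P : Subgroup G) →
      ⁅x, u⁆ ∈ (commutator ↥(P : Subgroup G)).map (P : Subgroup G).subtype := by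
  intro x hx u hu hcomm
  set π : G →* G ⧸ K0 := QuotientGroup.mk' K0 with hπ
  -- the image of `P` in `G ⧸ K0` is commutative
  have hcommP : ∀ a ∈ (P : Subgroup G), ∀ b ∈ (P : Subgroup G), π a * π b = π b * π a := by
    intro a ha b hb
    have h1 : ⁅a, b⁆ ∈ ⁅(P : Subgroup G), (P : Subgroup G)⁆ :=
      Subgroup.commutator_mem_commutator ha hb
    rw [← Subgroup.map_subtype_commutator, ← hK0P] at h1
    have h2 : π ⁅a, b⁆ = 1 := (QuotientGroup.eq_one_iff _).2 h1.1
    rw [commutatorElement_def, map_mul, map_mul, map_mul, map_inv, map_inv] at h2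
    -- π a * π b * (π a)⁻¹ * (π b)⁻¹ = 1
    have h3 : π a * π b = (π a * π b * (π a)⁻¹ * (π b)⁻¹) * (π b * π a) := by group
    rw [h2, one_mul] at h3
    exact h3
  set w : G := u * x * u⁻¹ with hw
  have hwP : w ∈ (P : Subgroup G) := by
    have h1 : w = (x⁻¹ * ⁅x, u⁆)⁻¹ := by
      rw [hw, commutatorElement_def]; group
    rw [h1]
    exact Subgroup.inv_mem _ (Subgroup.mul_mem _ (Subgroup.inv_mem _ hx) hcomm)
  -- the centralizer of the image of `w`, pulled back, inside `L`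
  set K : Subgroup G := (Subgroup.centralizer ({π w} : Set (G ⧸ K0))).comap π ⊓ L with hK
  have hmemK : ∀ g : G, g ∈ K ↔ (π w * π g = π g * π w) ∧ g ∈ L := by
    intro g
    rw [hK, Subgroup.mem_inf, Subgroup.mem_comap, Subgroup.mem_centralizer_singleton_iff]
    constructor
    · rintro ⟨h1, h2⟩
      exact ⟨h1.symm, h2⟩
    · rintro ⟨h1, h2⟩
      exact ⟨h1.symm, h2⟩
  have hPK : (P : Subgroup G) ≤ K := by
    intro g hg
    rw [hmemK]
    exact ⟨hcommP w hwP g hg, hPL hg⟩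
  have hQK : Cfsg.Agent.Lib.H16.cj u (P : Subgroup G) ≤ K := by
    intro q hq
    rw [Cfsg.Agent.Lib.H16.mem_cj_iff] at hq
    rw [hmemK]
    constructor
    · have h1 : q = u * (u⁻¹ * q * u) * u⁻¹ := by group
      have h2 := hcommP x hx _ hq
      rw [h1, hw]
      simp only [map_mul, map_inv] at h2 ⊢
      calc π u * π x * (π u)⁻¹ * (π u * ((π u)⁻¹ * π q * π u) * (π u)⁻¹)
          = π u * (π x * ((π u)⁻¹ * π q * π u)) * (π u)⁻¹ := by group
        _ = π u * (((π u)⁻¹ * π q * π u) * π x) * (π u)⁻¹ := by rw [h2]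
        _ = π u * ((π u)⁻¹ * π q * π u) * (π u)⁻¹ * (π u * π x * (π u)⁻¹) := by group
    · have h1 : q = u * (u⁻¹ * q * u) * u⁻¹ := by group
      rw [h1]
      exact L.mul_mem (L.mul_mem hu (hPL hq)) (L.inv_mem hu)
  have hQ : IsPGroup p (Cfsg.Agent.Lib.H16.cj u (P : Subgroup G)) := P.2.map _
  obtain ⟨c, hc, hcP⟩ := Cfsg.Agent.Lib.H16.exists_mem_conj_mem_sylow_of_le K P hPK
    (Cfsg.Agent.Lib.H16.cj u (P : Subgroup G)) hQ hQK
  have hcK := (hmemK c).1 hc
  -- `n = c u ∈ N_G(P) ⊓ L = P`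
  have hnN : c * u ∈ Subgroup.normalizer ((P : Subgroup G) : Set G) := by
    apply Cfsg.Agent.Lib.H16.mem_normalizer_of_conj_mem
    intro y hy
    have : c * u * y * (c * u)⁻¹ = c * (u * y * u⁻¹) * c⁻¹ := by group
    rw [this]
    exact hcP _ (Cfsg.Agent.Lib.H16.conj_mem_cj u _ y hy)
  have hnP : c * u ∈ (P : Subgroup G) := by
    rw [← hNL]
    exact ⟨hnN, L.mul_mem hcK.2 hu⟩
  -- `π w = π x`
  have h5 : π w = π x := by
    have e1 : π (c * u * x * (c * u)⁻¹) = π x := by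
      have h := hcommP (c * u) hnP x hx
      rw [map_mul, map_mul (f := π) (c * u) x, h, mul_assoc, ← map_mul, mul_inv_cancel, map_one,
        mul_one]
    have e2 : c * u * x * (c * u)⁻¹ = c * w * c⁻¹ := by rw [hw]; group
    rw [e2, map_mul, map_mul, map_inv] at e1
    -- π c * π w * (π c)⁻¹ = π x and π c commutes with π w
    have e3 : π c * π w * (π c)⁻¹ = π w := by
      rw [← hcK.1, mul_assoc, mul_inv_cancel, mul_one]
    rw [e3] at e1
    exact e1
  have h6 : ⁅x, u⁆ ∈ K0 := by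
    rw [← QuotientGroup.eq_one_iff]
    have e : ⁅x, u⁆ = x * w⁻¹ := by rw [hw, commutatorElement_def]; group
    change π ⁅x, u⁆ = 1
    rw [e, map_mul, map_inv, h5, mul_inv_cancel]
  rw [← hK0P]
  exact ⟨h6, hcomm⟩

end Cfsg.Agent.Lib.H4.OD
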