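import Mathlib
import Cfsg.Prelude.Def_Transfer
import Cfsg.Agent.Lib.H4.OD4C
import Cfsg.Agent.Lib.L0.ControlFusion
import Cfsg.Agent.Lib.H14.Subnormal

/-!
S4930 piece (P4cde) `exists_normal_complement_of_focal` in the exact signature of `tools/blueprints/S4930_sigs.lean`
(helper24 architect; signature by helper5).  Route: fusion modulo `K0` (`comm_mem_of_fusion`) + Mathlib's Focal Subgroup
Theorem + lead's Tate core (`L0.tate_core`) in the group `↥L`, then `K := O^p(L)`.
-/
set_option autoImplicit false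
namespace Cfsg.Agent.Lib.H4.OD

open scoped commutatorElement

universe u

/-- Tate: if the focal subgroup of a Sylow `p`-subgroup `S` is `[S, S]` then `O^p(G)` is a normal complement of `S`
(the proof of lead's `L0.hasNormalPComplement_of_control_fusion`, with the focal condition as the hypothesis). -/
theorem isComplement'_pResidual_of_focal {G : Type*} [Group G] [Finite G] {p : ℕ} [hp : Fact p.Prime]
    (S : Sylow p G)
    (hfoc : Subgroup.focalSubgroup (S : Subgroup G) = ⁅(S : Subgroup G), (S : Subgroup G)⁆) :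
    (Cfsg.pResidual p G).IsComplement' (S : Subgroup G) := by
  classical
  have hKn : (Cfsg.pResidual p G).Normal := Cfsg.Agent.Lib.H14.pResidual_normal'
  have hsup := Cfsg.Agent.Lib.H14.pResidual_sup_sylow S
  have hgen : Cfsg.pResidual p G ≤ Subgroup.closure
      {g : G | g ∈ Cfsg.pResidual p G ∧ (orderOf g).Coprime p} := by
    conv_lhs => unfold Cfsg.pResidual
    apply Subgroup.closure_mono
    intro g hg
    exact ⟨Subgroup.subset_closure hg, hg⟩
  have hle : (Cfsg.pResidual p G).subgroupOf (S : Subgroup G) ≤ frattini (S : Subgroup G) := by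
    intro s hs
    have hsK : s.1 ∈ Cfsg.pResidual p G := Subgroup.mem_subgroupOf.mp hs
    obtain ⟨k, hk⟩ := S.isPGroup' s
    have hk' : s.1 ^ p ^ k = 1 := by
      have := congrArg Subtype.val hk
      simpa using this
    have h1 : s.1 ∈ commutator G :=
      Cfsg.Agent.Lib.H6.mem_commutator_of_mem_pResidual_sup p s.1 k hk'
        (Subgroup.mem_sup_left hsK)
    have h2 : s.1 ∈ commutator G ⊓ (S : Subgroup G) := ⟨h1, s.2⟩
    rw [Subgroup.commutator_inf_eq_focalSubgroup, hfoc,
      ← Subgroup.map_subtype_commutator] at h2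
    obtain ⟨t, ht, hts⟩ := h2
    have : t = s := Subtype.ext hts
    rw [← this]
    exact Cfsg.Agent.Lib.H1.isPGroup_commutator_le_frattini S.isPGroup' ht
  have hfr : ∀ M : Subgroup (S : Subgroup G),
      M ⊔ (Cfsg.pResidual p G).subgroupOf (S : Subgroup G) = ⊤ → M = ⊤ := by
    intro M hM
    apply frattini_nongenerating
    rw [eq_top_iff, ← hM]
    exact sup_le_sup_left hle _
  have hcore := Cfsg.Agent.Lib.L0.tate_core S (Cfsg.pResidual p G) hsup hgen hfr
  apply Subgroup.isComplement'_of_disjoint_and_mul_eq_univ (disjoint_iff.mpr hcore)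
  rw [← Subgroup.normal_mul, hsup]; rfl

/-- (P4cde) -/
theorem exists_normal_complement_of_focal {G : Type u} [Group G] [Finite G] {p : ℕ} [Fact p.Prime]
    (P : Sylow p G) (L K0 : Subgroup G) [L.Normal] [K0.Normal] (hPL : (P : Subgroup G) ≤ L) (hK0L : K0 ≤ L)
    (hNL : Subgroup.normalizer ((P : Subgroup G) : Set G) ⊓ L = (P : Subgroup G))
    (hK0P : K0 ⊓ (P : Subgroup G) = (commutator ↥(P : Subgroup G)).map (P : Subgroup G).subtype) :
    ∃ K : Subgroup G, K.Normal ∧ K ⊓ Subgroup.normalizer ((P : Subgroup G) : Set G) = ⊥ ∧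
      K ⊔ Subgroup.normalizer ((P : Subgroup G) : Set G) = ⊤ := by
  classical
  set PL : Sylow p ↥L := P.subtype hPL with hPLdef
  have hPLcoe : (PL : Subgroup ↥L) = (P : Subgroup G).subgroupOf L := Sylow.coe_subtype _ _
  have hmapPL : (PL : Subgroup ↥L).map L.subtype = (P : Subgroup G) := by
    rw [hPLcoe]
    exact Subgroup.map_subgroupOf_eq_of_le hPL
  -- the focal subgroup of `PL` in `↥L`
  have hfoc : Subgroup.focalSubgroup (PL : Subgroup ↥L) =
      ⁅(PL : Subgroup ↥L), (PL : Subgroup ↥L)⁆ := by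
    apply le_antisymm
    · rw [Subgroup.focalSubgroup_def, Subgroup.closure_le]
      rintro z ⟨hzP, x, hxP, u, rfl⟩
      have hx' : (x : G) ∈ (P : Subgroup G) := by
        rw [hPLcoe] at hxP
        exact Subgroup.mem_subgroupOf.1 hxP
      have hz' : ⁅(x : G), (u : G)⁆ ∈ (P : Subgroup G) := by
        rw [hPLcoe] at hzP
        have := Subgroup.mem_subgroupOf.1 hzP
        simpa [commutatorElement_def] using this
      have h1 := comm_mem_of_fusion P L K0 hPL hNL hK0P (x : G) hx' (u : G) u.2 hz'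
      rw [Subgroup.map_subtype_commutator] at h1
      have h2 : (⁅(PL : Subgroup ↥L), (PL : Subgroup ↥L)⁆).map L.subtype =
          ⁅(P : Subgroup G), (P : Subgroup G)⁆ := by
        rw [Subgroup.map_commutator, hmapPL]
      rw [← h2] at h1
      obtain ⟨y, hy, hyz⟩ := h1
      have hyeq : y = ⁅x, u⁆ := by
        apply Subtype.ext
        rw [← Subgroup.coe_subtype, hyz]
        simp [commutatorElement_def]
      rw [SetLike.mem_coe, ← hyeq]
      exact hy
    · exact Subgroup.commutator_le_focalSubgroup _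
  have hcompl := isComplement'_pResidual_of_focal PL hfoc
  -- `K = O^p(L)` in `G`
  set K : Subgroup G := Cfsg.Agent.Lib.H14.presOf p L with hKdef
  have hKmap : (Cfsg.pResidual p ↥L).map L.subtype = K := Cfsg.Agent.Lib.H14.pResidual_map_eq p L
  have hKn : K.Normal := by
    refine ⟨fun k hk g => ?_⟩
    exact Cfsg.Agent.Lib.H14.presOf_conj_mem p L g
      (by rw [Subgroup.normalizer_eq_top]; exact Subgroup.mem_top g) k hk
  have hKL : K ≤ L := Cfsg.Agent.Lib.H14.presOf_le p L
  have hKP : K ⊓ (P : Subgroup G) = ⊥ := by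
    rw [eq_bot_iff]
    rintro g ⟨hgK, hgP⟩
    rw [SetLike.mem_coe, ← hKmap] at hgK
    obtain ⟨y, hy, rfl⟩ := hgK
    have hyP : y ∈ (PL : Subgroup ↥L) := by
      rw [hPLcoe]
      exact Subgroup.mem_subgroupOf.2 hgP
    have hmem : y ∈ Cfsg.pResidual p ↥L ⊓ (PL : Subgroup ↥L) := ⟨hy, hyP⟩
    rw [hcompl.disjoint.eq_bot, Subgroup.mem_bot] at hmem
    rw [Subgroup.mem_bot, hmem]
    rfl
  have hKPL : L ≤ K ⊔ (P : Subgroup G) := by
    intro g hg
    have h1 : (⟨g, hg⟩ : ↥L) ∈ Cfsg.pResidual p ↥L ⊔ (PL : Subgroup ↥L) := by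
      rw [hcompl.sup_eq_top]
      exact Subgroup.mem_top _
    have h2 := Subgroup.mem_map_of_mem L.subtype h1
    rw [Subgroup.map_sup, hKmap, hmapPL] at h2
    exact h2
  have hfrat : Subgroup.normalizer ((P : Subgroup G) : Set G) ⊔ L = ⊤ := by
    have h := Sylow.normalizer_sup_eq_top PL
    rw [hmapPL] at h
    exact h
  refine ⟨K, hKn, ?_, ?_⟩
  · rw [eq_bot_iff, ← hKP]
    rintro g ⟨hgK, hgN⟩
    refine ⟨hgK, ?_⟩
    rw [SetLike.mem_coe, ← hNL]
    exact ⟨hgN, hKL hgK⟩
  · rw [eq_top_iff, ← hfrat]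
    apply sup_le le_sup_right
    exact hKPL.trans (sup_le le_sup_left (Subgroup.le_normalizer.trans le_sup_right))

end Cfsg.Agent.Lib.H4.OD
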