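/-
S2936 piece OPLUS (architect helper18; helper4): the unipotent radicals `Q_j` of the maximal parabolics of the (B,N)-pair of
type `D` (`Lib/H25/DBNMain`), in the ambient group `GA F n`, as level subgroups (`Lib/H8/OGLevel`, `OGFlag`).
For the node `j = n/2 - 2` the level function is the one of the last node transported by the middle swap `r`.
-/
import Cfsg.Agent.Lib.H8.OGFlag
import Cfsg.Agent.Lib.H25.DBNMain

set_option autoImplicit false
set_option linter.unusedSectionVars false
set_option linter.unusedVariables false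

namespace Cfsg.Agent.Lib.H4.OG

open Matrix Cfsg.Agent.Lib.H12.DCos Cfsg.Agent.Lib.H8.FBN Cfsg.Agent.Lib.H8.OG Cfsg.Agent.Lib.H25.DBN
  Cfsg.Agent.Lib.H25.DBNP

variable {F : Type*} [Field F] {n : ℕ}

/-- conjugation by a flag reflection transports level radicals -/
theorem sRef_conj_mem_levQ (i : Fin (n / 2)) (b b' : Fin n → ℕ) (h : ∀ k, b' (τ i k) = b k) (x : GA F n)
    (hx : x ∈ levQ (valF (n := n) (RingHom.id F)) b') :
    sRef (RingHom.id F) i * x * (sRef (RingHom.id F) i)⁻¹ ∈ levQ (valF (n := n) (RingHom.id F)) b := by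
  have key : ∀ y : GA F n, StrictBT b' (valF (RingHom.id F) y - 1) →
      StrictBT b (valF (RingHom.id F) (sRef (RingHom.id F) i * y * (sRef (RingHom.id F) i)⁻¹) - 1) := by
    intro y hy k l hkl
    have h1 := hy (τ i k) (τ i l) (by rw [h, h]; exact hkl)
    rw [Matrix.sub_apply, valF_apply, Matrix.one_apply] at h1
    rw [Matrix.sub_apply, valF_apply, sRef_conj_apply, Matrix.one_apply]
    have h2 : (τ i k = τ i l) ↔ k = l := (τ i).injective.eq_iff
    simp only [h2] at h1
    exact h1
  refine ⟨key x hx.1, ?_⟩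
  have e : (sRef (RingHom.id F) i * x * (sRef (RingHom.id F) i)⁻¹)⁻¹ =
      sRef (RingHom.id F) i * x⁻¹ * (sRef (RingHom.id F) i)⁻¹ := by group
  rw [e]
  exact key x⁻¹ hx.2

/-- the level radical inside the orthogonal group -/
def QL (b : Fin n → ℕ) : Subgroup (GA F n) := levQ (valF (n := n) (RingHom.id F)) b ⊓ GO

theorem conj_mem_QL (b : Fin n → ℕ) {h g : GA F n} (hh : h ∈ levP (valF (n := n) (RingHom.id F)) b) (hhG : h ∈ GO)
    (hg : g ∈ QL (F := F) b) : h * g * h⁻¹ ∈ QL (F := F) b :=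
  ⟨conj_mem_levQ _ b hh hg.1, GO.mul_mem (GO.mul_mem hhG hg.2) (GO.inv_mem hhG)⟩

theorem sRef_mem_GO (hn : n % 2 = 0) (i : Fin (n / 2)) : sRef (RingHom.id F) i ∈ (GO : Subgroup (GA F n)) :=
  Ms_le_GO hn (sRef_mem_Ms _ i)

theorem sRef_conj_mem_QL (hn : n % 2 = 0) (i : Fin (n / 2)) (b b' : Fin n → ℕ) (h : ∀ k, b' (τ i k) = b k)
    (x : GA F n) (hx : x ∈ QL (F := F) b') :
    sRef (RingHom.id F) i * x * (sRef (RingHom.id F) i)⁻¹ ∈ QL (F := F) b :=
  ⟨sRef_conj_mem_levQ i b b' h x hx.1,
    GO.mul_mem (GO.mul_mem (sRef_mem_GO hn i) hx.2) (GO.inv_mem (sRef_mem_GO hn i))⟩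

/-- a flag reflection whose permutation preserves the levels lies in the level parabolic -/
theorem sRef_mem_levP (i : Fin (n / 2)) (b : Fin n → ℕ) (h : ∀ l, b (τ i l) = b l) :
    sRef (RingHom.id F) i ∈ levP (valF (n := n) (RingHom.id F)) b := by
  have h1 : ((sRef (RingHom.id F) i).1 : Matrix (Fin n) (Fin n) F).BlockTriangular b := by
    apply blockTriangular_of_mono b (τ i)
    · intro k l hkl
      rw [sRef_apply, if_neg hkl]
    · exact h
  refine ⟨h1, ?_⟩
  rw [sRef_inv]
  exact h1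

theorem QL_flag_le_Uo (j : Fin (n / 2)) : QL (F := F) (flagLev j) ≤ Uo := fun x hx =>
  ⟨QF_le_Us (RingHom.id F) j hx.1, hx.2⟩

theorem Bo_conj_QL_flag (j : Fin (n / 2)) (b : GA F n) (hb : b ∈ Bo) (x : GA F n) (hx : x ∈ QL (F := F) (flagLev j)) :
    b * x * b⁻¹ ∈ QL (F := F) (flagLev j) :=
  conj_mem_QL (flagLev j) (Bs_le_PF (RingHom.id F) j hb.1) hb.2 hx

theorem sRef_conj_QL_flag (hn : n % 2 = 0) (j i : Fin (n / 2)) (hij : i ≠ j) (x : GA F n)
    (hx : x ∈ QL (F := F) (flagLev j)) :
    sRef (RingHom.id F) i * x * (sRef (RingHom.id F) i)⁻¹ ∈ QL (F := F) (flagLev j) :=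
  conj_mem_QL (flagLev j) (sRef_mem_PF (RingHom.id F) j i hij) (sRef_mem_GO hn i) hx

/-- the highest root element -/
theorem exists_mem_QL_flag (hn : n % 2 = 0) (h4 : 4 ≤ n) (j : Fin (n / 2)) :
    ∃ z ∈ QL (F := F) (flagLev j), z ≠ 1 := by
  have hj2 := j.2
  let a : Fin n := ⟨0, by omega⟩
  let b : Fin n := ⟨n - 2, by omega⟩
  have hab : a ≠ b := by
    intro h
    have := congrArg Fin.val h
    simp only [a, b] at this
    omega
  have hab' : a ≠ b.rev := by
    intro h
    have := congrArg Fin.val h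
    rw [Fin.val_rev] at this
    simp only [a, b] at this
    omega
  refine ⟨xS hn a b hab 1, ⟨?_, xS_mem_GO hn a b hab hab' 1⟩, ?_⟩
  · apply mem_QF_of_strict
    intro k l hkl
    rw [xS_val, xSm, Matrix.sub_apply, Matrix.sub_apply, Matrix.add_apply, Matrix.single_apply, Matrix.single_apply]
    have hk2 := k.2
    have hl2 := l.2
    by_cases h1 : a = k ∧ b = l
    · exfalso
      obtain ⟨rfl, rfl⟩ := h1
      unfold flagLev at hkl
      simp only [a, b] at hkl
      split_ifs at hkl <;> omega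
    · by_cases h2 : b.rev = k ∧ a.rev = l
      · exfalso
        obtain ⟨rfl, rfl⟩ := h2
        unfold flagLev at hkl
        simp only [a, b, Fin.val_rev] at hkl
        split_ifs at hkl <;> omega
      · rw [if_neg h1, if_neg h2]
        simp
  · intro h
    have h1 := congrArg (fun g : GA F n => (g.1 : Matrix (Fin n) (Fin n) F) a b) h
    have h2 : ¬ (b.rev = a ∧ a.rev = b) := by
      rintro ⟨h2, -⟩
      have := congrArg Fin.val h2
      rw [Fin.val_rev] at this
      simp only [a, b] at this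
      omega
    simp only [xS_val, xSm, val_one] at h1
    rw [Matrix.sub_apply, Matrix.add_apply, Matrix.one_apply_ne hab, Matrix.single_apply_same,
      Matrix.single_apply_of_ne _ _ _ _ _ h2] at h1
    simp at h1

/-! ### the node `n/2 - 2`: transport by the middle swap -/

/-- the level function of the last node transported by the middle swap -/
def bL (jl : Fin (n / 2)) (k : Fin n) : ℕ := flagLev jl (τ jl k)

theorem bL_τ (jl : Fin (n / 2)) (k : Fin n) : bL jl (τ jl k) = flagLev jl k := by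
  unfold bL
  rw [τ_τ]

/-- the closed form of `bL` -/
theorem bL_val (jl : Fin (n / 2)) (hjl : (jl : ℕ) + 1 = n / 2) (hn : n % 2 = 0) (k : Fin n) :
    bL jl k = if (k : ℕ) + 2 ≤ n / 2 ∨ (k : ℕ) = n / 2 then 0 else 2 := by
  have hk2 := k.2
  unfold bL flagLev
  rw [τ_val jl k]
  split_ifs <;> omega

/-- the short reflections far from the middle preserve `bL` -/
theorem bL_τ_short (jl i : Fin (n / 2)) (hjl : (jl : ℕ) + 1 = n / 2) (hi : (i : ℕ) + 2 < n / 2) (hn : n % 2 = 0)
    (l : Fin n) : bL jl (τ i l) = bL jl l := by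
  have hl2 := l.2
  have hi2 := i.2
  rw [bL_val jl hjl hn, bL_val jl hjl hn, τ_val i l]
  split_ifs <;> omega

theorem exists_Q_amb (hn : n % 2 = 0) (h4 : 4 ≤ n) (j : Fin (n / 2)) :
    ∃ Q : Subgroup (GA F n), Q ≠ ⊥ ∧ Q ≤ Uo ∧ (∀ b ∈ (Bo : Subgroup (GA F n)), ∀ x ∈ Q, b * x * b⁻¹ ∈ Q) ∧
      ∀ i : Fin (n / 2), i ≠ j → ∀ x ∈ Q, sD i * x * (sD i)⁻¹ ∈ Q := by
  have hj2 := j.2
  by_cases hj : (j : ℕ) + 2 = n / 2
  · -- the node `n/2 - 2`
    let jl : Fin (n / 2) := ⟨n / 2 - 1, by omega⟩
    have hjl : (jl : ℕ) + 1 = n / 2 := by simp only [jl]; omega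
    have hjl' : ¬ (jl : ℕ) + 1 < n / 2 := by omega
    have hpj : pj jl = j := by
      apply Fin.ext
      rw [pj_val]
      simp only [jl]
      omega
    have hjjl : j ≠ jl := by
      intro h
      have := congrArg Fin.val h
      simp only [jl] at this
      omega
    set r : GA F n := sRef (RingHom.id F) jl with hr
    have hrinv : r⁻¹ = r := sRef_inv _ jl
    have hrr : r * r = 1 := sRef_mul_self _ jl
    have C12 : ∀ x ∈ QL (F := F) (flagLev jl), r * x * r⁻¹ ∈ QL (F := F) (bL jl) := fun x hx =>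
      sRef_conj_mem_QL hn jl (bL jl) (flagLev jl) (fun k => rfl) x hx
    have C21 : ∀ x ∈ QL (F := F) (bL jl), r * x * r⁻¹ ∈ QL (F := F) (flagLev jl) := fun x hx =>
      sRef_conj_mem_QL hn jl (flagLev jl) (bL jl) (bL_τ jl) x hx
    have hback : ∀ x : GA F n, r * (r * x * r⁻¹) * r⁻¹ = x := by
      intro x
      rw [hrinv]
      calc r * (r * x * r) * r = (r * r) * x * (r * r) := by group
        _ = x := by rw [hrr, one_mul, mul_one]
    refine ⟨QL (bL jl), ?_, ?_, ?_, ?_⟩
    · obtain ⟨z, hz, hz1⟩ := exists_mem_QL_flag (F := F) hn h4 jl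
      intro hbot
      apply hz1
      have h1 := C12 z hz
      rw [hbot, Subgroup.mem_bot] at h1
      have h2 := hback z
      rw [h1] at h2
      rw [← h2]
      group
    · intro x hx
      have h1 := QL_flag_le_Uo jl (C21 x hx)
      have h2 := sRef_last_conj_Uo hn jl hjl' _ h1
      rw [← hr, hback] at h2
      exact h2
    · intro b hb x hx
      have hb' : r * b * r⁻¹ ∈ (Bo : Subgroup (GA F n)) := sRef_last_conj_Bo hn jl hjl' b hb
      have h1 := Bo_conj_QL_flag jl _ hb' _ (C21 x hx)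
      have h2 := C12 _ h1
      have e : r * (r * b * r⁻¹ * (r * x * r⁻¹) * (r * b * r⁻¹)⁻¹) * r⁻¹ = r * (r * (b * x * b⁻¹) * r⁻¹) * r⁻¹ := by
        group
      rw [e, hback] at h2
      exact h2
    · intro i hij x hx
      by_cases hi : (i : ℕ) + 1 < n / 2
      · rw [sD_short hi]
        have hi2 : (i : ℕ) + 2 < n / 2 := by
          have : (i : ℕ) ≠ j := fun h => hij (Fin.ext h)
          omega
        exact conj_mem_QL (bL jl) (sRef_mem_levP i (bL jl) (bL_τ_short jl i hjl hi2 hn)) (sRef_mem_GO hn i) hx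
      · have hi' : i = jl := by
          apply Fin.ext
          simp only [jl]
          have := i.2
          omega
        rw [sD_last hi, hi', hpj, ← hr]
        have h1 := C21 x hx
        have h2 := sRef_conj_QL_flag hn jl j hjjl _ h1
        have h3 := C12 _ h2
        have e0 : r * x * r⁻¹ = r⁻¹ * x * r := by rw [hrinv]
        rw [e0] at h3
        have e : r * sRef (RingHom.id F) j * r⁻¹ * x * (r * sRef (RingHom.id F) j * r⁻¹)⁻¹ =
            r * (sRef (RingHom.id F) j * (r⁻¹ * x * r) * (sRef (RingHom.id F) j)⁻¹) * r⁻¹ := by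
          group
        rw [e]
        exact h3
  · -- the other nodes
    refine ⟨QL (flagLev j), ?_, QL_flag_le_Uo j, Bo_conj_QL_flag j, ?_⟩
    · obtain ⟨z, hz, hz1⟩ := exists_mem_QL_flag (F := F) hn h4 j
      intro hbot
      apply hz1
      rw [hbot, Subgroup.mem_bot] at hz
      exact hz
    · intro i hij x hx
      by_cases hi : (i : ℕ) + 1 < n / 2
      · rw [sD_short hi]
        exact sRef_conj_QL_flag hn j i hij x hx
      · rw [sD_last hi]
        have hpij : pj i ≠ j := by
          intro h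
          have := congrArg Fin.val h
          rw [pj_val] at this
          have := i.2
          omega
        have h1 : sRef (RingHom.id F) i * sRef (RingHom.id F) (pj i) * (sRef (RingHom.id F) i)⁻¹ ∈
            levP (valF (n := n) (RingHom.id F)) (flagLev j) :=
          Subgroup.mul_mem _ (Subgroup.mul_mem _ (sRef_mem_PF (RingHom.id F) j i hij)
            (sRef_mem_PF (RingHom.id F) j (pj i) hpij)) (Subgroup.inv_mem _ (sRef_mem_PF (RingHom.id F) j i hij))
        have h2 : sRef (RingHom.id F) i * sRef (RingHom.id F) (pj i) * (sRef (RingHom.id F) i)⁻¹ ∈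
            (GO : Subgroup (GA F n)) :=
          GO.mul_mem (GO.mul_mem (sRef_mem_GO hn i) (sRef_mem_GO hn (pj i))) (GO.inv_mem (sRef_mem_GO hn i))
        exact conj_mem_QL (flagLev j) h1 h2 hx

end Cfsg.Agent.Lib.H4.OG
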