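/-
S2936 piece OPLUS (architect helper18; helper4): `PΩ⁺_{2m}(q)`, `m ≥ 4`, has the overgroup property of S2936, from the
(B,N)-pair of type `D` with root data (`Lib/H25/DBNMain`, restricted to `Ω` as in `Lib/H25/DBNFinal`), the level radicals of
`Lib/H4/OGOPLUSa`, the abstract theorem `Lib/H18/OGROOT`, and the simplicity row S0296.
-/
import Cfsg.Agent.Lib.H4.OGOPLUSa
import Cfsg.Agent.Lib.H25.DBNFinal
import Cfsg.Agent.Lib.H18.OGROOT
import Cfsg.Agent.S0296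

set_option autoImplicit false
set_option linter.unusedSectionVars false
set_option linter.unusedVariables false

namespace Cfsg.Agent.Lib.H4.OG

open Cfsg Cfsg.Agent.Lib.H18.OG
open Matrix Cfsg.Agent.Lib.H12.DCos Cfsg.Agent.Lib.H8.FBN Cfsg.Agent.Lib.H8.SpBN Cfsg.Agent.Lib.H8.BNRoot
  Cfsg.Agent.Lib.H8.BNRes Cfsg.Agent.Lib.H8.BNSteinberg Cfsg.Agent.Lib.H25.SubBN Cfsg.Agent.Lib.H25.DBN
open Cfsg.Agent.Lib.H6.FBN (Us_isPGroup card_Ts_coprime)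
open Cfsg.Agent.Lib.H25.DBNP

/-! ### the radical hypothesis passes from the ambient group to `↥P.G` -/

section amb

variable {A : Type*} [Group A] {PA : AmbBN A} {ι : Type*} (DA : AmbRoot PA ι)

theorem hQ_toRootData
    (hQ : ∀ i : ι, ∃ Q : Subgroup A, Q ≠ ⊥ ∧ Q ≤ DA.U ∧ (∀ b ∈ PA.B, ∀ x ∈ Q, b * x * b⁻¹ ∈ Q) ∧
      ∀ j : ι, j ≠ i → ∀ x ∈ Q, DA.e j * x * (DA.e j)⁻¹ ∈ Q) :
    ∀ i : ι, ∃ Q : Subgroup ↥PA.G, Q ≠ ⊥ ∧ Q ≤ DA.toRootData.U ∧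
      (∀ b ∈ PA.toBN.B, ∀ x ∈ Q, b * x * b⁻¹ ∈ Q) ∧
      ∀ j : ι, j ≠ i → ∀ x ∈ Q, DA.toRootData.e j * x * (DA.toRootData.e j)⁻¹ ∈ Q := by
  intro i
  obtain ⟨Q, h1, h2, h3, h4⟩ := hQ i
  refine ⟨Q.subgroupOf PA.G, ?_, ?_, ?_, ?_⟩
  · intro hbot
    apply h1
    rw [eq_bot_iff]
    intro x hx
    have hxG : x ∈ PA.G := PA.B_le (DA.hUB (h2 hx))
    have : (⟨x, hxG⟩ : ↥PA.G) ∈ Q.subgroupOf PA.G := Subgroup.mem_subgroupOf.mpr hx
    rw [hbot, Subgroup.mem_bot] at this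
    rw [Subgroup.mem_bot]
    exact congrArg Subtype.val this
  · intro x hx
    rw [AmbRoot.toRootData_U]
    exact Subgroup.mem_subgroupOf.mpr (h2 (Subgroup.mem_subgroupOf.mp hx))
  · intro b hb x hx
    rw [AmbBN.mem_toBN_B] at hb
    exact Subgroup.mem_subgroupOf.mpr (h3 _ hb _ (Subgroup.mem_subgroupOf.mp hx))
  · intro j hji x hx
    exact Subgroup.mem_subgroupOf.mpr (h4 j hji _ (Subgroup.mem_subgroupOf.mp hx))

end amb

/-! ### the radical hypothesis passes to restricted root data -/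

section restrict

variable {G : Type*} [Group G] {P : Cfsg.BNPair G} {ι : Type*} (D : RootData P ι) (G' : Subgroup G)
  (hcov : Covers P G') (τ : G → G) (hτ : ∀ s ∈ P.S, τ s ∈ P.B ⊓ P.N) (hτG : ∀ s ∈ P.S, s * τ s ∈ G')

theorem hQ_restrict (hτT : ∀ i, τ (D.e i) ∈ D.T) (hX : ∀ i, D.X i ⊆ (G' : Set G))
    (hY : ∀ i, D.Y i ⊆ (G' : Set G)) (hU : D.U ≤ G')
    (hQ : ∀ i : ι, ∃ Q : Subgroup G, Q ≠ ⊥ ∧ Q ≤ D.U ∧ (∀ b ∈ P.B, ∀ x ∈ Q, b * x * b⁻¹ ∈ Q) ∧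
      ∀ j : ι, j ≠ i → ∀ x ∈ Q, D.e j * x * (D.e j)⁻¹ ∈ Q) :
    ∀ i : ι, ∃ Q : Subgroup ↥G', Q ≠ ⊥ ∧ Q ≤ (D.restrict G' hcov τ hτ hτG hτT hX hY hU).U ∧
      (∀ b ∈ (Cfsg.Agent.Lib.H8.BNRes.restrict P G' hcov τ hτ hτG).B, ∀ x ∈ Q, b * x * b⁻¹ ∈ Q) ∧
      ∀ j : ι, j ≠ i → ∀ x ∈ Q, (D.restrict G' hcov τ hτ hτG hτT hX hY hU).e j * x *
        ((D.restrict G' hcov τ hτ hτG hτT hX hY hU).e j)⁻¹ ∈ Q := by
  intro i
  obtain ⟨Q, h1, h2, h3, h4⟩ := hQ i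
  refine ⟨Q.subgroupOf G', ?_, ?_, ?_, ?_⟩
  · intro hbot
    apply h1
    rw [eq_bot_iff]
    intro x hx
    have : (⟨x, hU (h2 hx)⟩ : ↥G') ∈ Q.subgroupOf G' := Subgroup.mem_subgroupOf.mpr hx
    rw [hbot, Subgroup.mem_bot] at this
    rw [Subgroup.mem_bot]
    exact congrArg Subtype.val this
  · intro x hx
    rw [RootData.restrict_U]
    exact Subgroup.mem_subgroupOf.mpr (h2 (Subgroup.mem_subgroupOf.mp hx))
  · intro b hb x hx
    rw [mem_restrict_B] at hb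
    exact Subgroup.mem_subgroupOf.mpr (h3 _ hb _ (Subgroup.mem_subgroupOf.mp hx))
  · intro j hji x hx
    rw [Subgroup.mem_subgroupOf]
    have hx' : (x : G) ∈ Q := Subgroup.mem_subgroupOf.mp hx
    have ht : τ (D.e j) ∈ P.B := D.hTB (hτT j)
    have h5 := h3 _ ht _ hx'
    have h6 := h4 j hji _ h5
    have e : D.e j * (τ (D.e j) * (x : G) * (τ (D.e j))⁻¹) * (D.e j)⁻¹ =
        D.e j * τ (D.e j) * (x : G) * (D.e j * τ (D.e j))⁻¹ := by group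
    rw [e] at h6
    exact h6

end restrict

/-! ### the piece -/

/-- OPLUS -/
theorem og_POmegaPlus (F : Type*) [Field F] [Fintype F] (p : ℕ) [Fact p.Prime] [CharP F p] (m : ℕ) (hm : 4 ≤ m) :
    OvergroupProp p (POmega F (quadFormPlus m F)) := by
  classical
  obtain ⟨ψ⟩ := nonempty_iso_plus (F := F) m
  have : IsSimpleGroup (POmega F (quadFormPlus m F)) := Cfsg.Agent.S0296.result m hm
  have hn : (2 * m) % 2 = 0 := by omega
  have h6 : 6 ≤ 2 * m := by omega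
  have h4 : 4 ≤ 2 * m := by omega
  let PA := ambBN (F := F) hn h4
  let DA := ambRoot (F := F) hn h4
  let P := PA.toBN
  let D := DA.toRootData
  have hGd : PA.G = Hd := rfl
  let G' : Subgroup ↥PA.G := (OmA : Subgroup (GA F (2 * m))).subgroupOf PA.G
  have hcovA : ∀ h : ↥PA.G, ∃ t : ↥PA.G, (t : GA F (2 * m)) ∈ Ts (RingHom.id F) ∧ h * t ∈ G' := by
    intro h
    obtain ⟨t, ht, h1⟩ := covers_D hn h6 (h : GA F (2 * m)) h.2
    exact ⟨⟨t, PA.B_le (Ts_le_Bo hn ht)⟩, ht, Subgroup.mem_subgroupOf.mpr h1⟩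
  have hTBN : ∀ t : ↥PA.G, (t : GA F (2 * m)) ∈ Ts (RingHom.id F) → t ∈ P.B ⊓ P.N := by
    intro t ht
    exact ⟨(AmbBN.mem_toBN_B PA t).mpr (Ts_le_Bo hn ht), (AmbBN.mem_toBN_N PA t).mpr (Ts_le_Nd ht)⟩
  have hcov : Covers P G' := by
    intro h
    obtain ⟨t, ht, h'⟩ := hcovA h
    exact ⟨t, hTBN t ht, h'⟩
  choose τ hτ1 hτ2 using hcovA
  have hτ : ∀ s ∈ P.S, τ s ∈ P.B ⊓ P.N := fun s _ => hTBN _ (hτ1 s)
  have hτG : ∀ s ∈ P.S, s * τ s ∈ G' := fun s _ => hτ2 s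
  have hτT : ∀ i, τ (D.e i) ∈ D.T := fun i => Subgroup.mem_subgroupOf.mpr (hτ1 _)
  have hUG : D.U ≤ G' := by
    intro u hu
    have hu' : (u : GA F (2 * m)) ∈ Uo := Subgroup.mem_subgroupOf.mp hu
    exact Subgroup.mem_subgroupOf.mpr (Uo_le_OmA hn h6 hu')
  have hXG : ∀ i, D.X i ⊆ ((G' : Subgroup ↥PA.G) : Set ↥PA.G) := by
    intro i x hx
    exact Subgroup.mem_subgroupOf.mpr (XD_subset_OmA hn h6 i _ hx)
  have hYG : ∀ i, D.Y i ⊆ ((G' : Subgroup ↥PA.G) : Set ↥PA.G) := by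
    intro i y hy
    exact Subgroup.mem_subgroupOf.mpr (YD_subset_OmA hn h6 i _ hy)
  let D' := D.restrict G' hcov τ hτ hτG hτT hXG hYG hUG
  -- injections into `Us`, `Ts`
  let fU : ↥D'.U →* ↥(Us (n := 2 * m) (RingHom.id F)) :=
    { toFun := fun x => ⟨(((x : ↥G') : ↥PA.G) : GA F (2 * m)), by
        have h1 : ((x : ↥G') : ↥PA.G) ∈ D.U := Subgroup.mem_subgroupOf.mp x.2
        have h2 : (((x : ↥G') : ↥PA.G) : GA F (2 * m)) ∈ Uo := Subgroup.mem_subgroupOf.mp h1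
        exact h2.1⟩
      map_one' := rfl
      map_mul' := fun _ _ => rfl }
  have hfU : Function.Injective fU := by
    intro x y h
    apply Subtype.ext
    apply Subtype.ext
    apply Subtype.ext
    exact congrArg (fun z : ↥(Us (n := 2 * m) (RingHom.id F)) => (z : GA F (2 * m))) h
  let fT : ↥D'.T →* ↥(Ts (n := 2 * m) (RingHom.id F)) :=
    { toFun := fun x => ⟨(((x : ↥G') : ↥PA.G) : GA F (2 * m)), by
        have h1 : ((x : ↥G') : ↥PA.G) ∈ D.T := Subgroup.mem_subgroupOf.mp x.2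
        exact Subgroup.mem_subgroupOf.mp h1⟩
      map_one' := rfl
      map_mul' := fun _ _ => rfl }
  have hfT : Function.Injective fT := by
    intro x y h
    apply Subtype.ext
    apply Subtype.ext
    apply Subtype.ext
    exact congrArg (fun z : ↥(Ts (n := 2 * m) (RingHom.id F)) => (z : GA F (2 * m))) h
  have hU' : IsPGroup p ↥D'.U := (Us_isPGroup (n := 2 * m) (RingHom.id F) p).of_injective fU hfU
  have hT' : (Nat.card ↥D'.T).Coprime p :=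
    Nat.Coprime.coprime_dvd_left (Subgroup.card_dvd_of_injective fT hfT)
      (card_Ts_coprime (n := 2 * m) (RingHom.id F) p)
  -- the radicals
  have hQA : ∀ i : Fin (2 * m / 2), ∃ Q : Subgroup (GA F (2 * m)), Q ≠ ⊥ ∧ Q ≤ DA.U ∧
      (∀ b ∈ PA.B, ∀ x ∈ Q, b * x * b⁻¹ ∈ Q) ∧ ∀ j : Fin (2 * m / 2), j ≠ i → ∀ x ∈ Q, DA.e j * x * (DA.e j)⁻¹ ∈ Q :=
    fun i => exists_Q_amb (F := F) hn h4 i
  have hQ := hQ_toRootData DA hQA
  have hQ' := hQ_restrict D G' hcov τ hτ hτG hτT hXG hYG hUG hQ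
  -- the projection onto `PΩ⁺`
  have hle : (OmA : Subgroup (GA F (2 * m))) ≤ PA.G := OmA_le_Hd hn h4
  let e2 : ↥G' ≃* ↥(Omega F (quadFormPlus m F)) :=
    (Subgroup.subgroupOfEquivOfLe hle).trans (OmAEquiv.trans (Cfsg.Agent.Lib.H11.OmegaSimple.commutatorCongr ψ))
  let e3 : ↥G' ⧸ Subgroup.center ↥G' ≃* POmega F (quadFormPlus m F) := centerQuotientCongr e2
  let π : ↥G' →* POmega F (quadFormPlus m F) := e3.toMonoidHom.comp (QuotientGroup.mk' (Subgroup.center ↥G'))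
  have hπ : Function.Surjective π := e3.surjective.comp (QuotientGroup.mk'_surjective _)
  have hker : π.ker = Subgroup.center ↥G' := by
    ext x
    rw [MonoidHom.mem_ker]
    show e3 (QuotientGroup.mk' (Subgroup.center ↥G') x) = 1 ↔ _
    rw [map_eq_one_iff e3 e3.injective, QuotientGroup.mk'_apply, QuotientGroup.eq_one_iff]
  have hkerc : (Nat.card ↥π.ker).Coprime p := by
    rw [hker]
    exact Nat.Coprime.coprime_dvd_left (Subgroup.card_dvd_of_le D'.center_le_T) hT'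
  have : Nonempty (Fin (2 * m / 2)) := ⟨⟨0, by omega⟩⟩
  exact overgroupProp_of_rootData_simple D' p hU' hQ' π hπ hkerc

end Cfsg.Agent.Lib.H4.OG
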