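import Mathlib
import Cfsg.Prelude.Def_Characters
import Cfsg.Prelude.Def_Blocks
import Cfsg.Prelude.Def_Local
import Cfsg.Prelude.Def_Transfer
import Cfsg.Agent.Lib.H10.BG36a
import Cfsg.Agent.Lib.L0.PrincipalQuot
import Cfsg.Agent.Lib.L0.CharOps

/-!
S4711 piece FWD (helper4): in a group of `p`-length one every character of the principal block
restricts irreducibly to `N_G(P)`.
-/

set_option autoImplicit false

namespace Cfsg.Agent.Lib.H4.PL1

open Cfsg
open scoped ComplexConjugate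

/-- a normal subgroup of index prime to `p` contains every Sylow `p`-subgroup -/
theorem pl1_sylow_le_of_index_coprime {G : Type*} [Group G] [Finite G] (p : ℕ) [Fact p.Prime]
    (P : Sylow p G) (N : Subgroup G) [N.Normal] (hN : ¬ p ∣ N.index) : (P : Subgroup G) ≤ N := by
  have hpg : IsPGroup p ((P : Subgroup G).map (QuotientGroup.mk' N)) := P.isPGroup'.map _
  rcases hpg.card_eq_or_dvd with h1 | h1
  · rw [Subgroup.card_eq_one, Subgroup.map_eq_bot_iff, QuotientGroup.ker_mk'] at h1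
    exact h1
  · exfalso
    apply hN
    rw [Subgroup.index_eq_card]
    exact h1.trans (Subgroup.card_subgroup_dvd_card _)

/-- Frattini for a `p`-length one series: `G = N_G(P) N₁` -/
theorem pl1_normalizer_sup_eq_top {G : Type*} [Group G] [Finite G] (p : ℕ) [hp : Fact p.Prime]
    (P : Sylow p G) (N₁ N₂ : Subgroup G) [N₁.Normal] [N₂.Normal] (hle : N₁ ≤ N₂)
    (hm : ∃ m : ℕ, N₁.relIndex N₂ = p ^ m) (hidx : ¬ p ∣ N₂.index) :
    Subgroup.normalizer ((P : Subgroup G) : Set G) ⊔ N₁ = ⊤ := by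
  have hPN : (P : Subgroup G) ≤ N₂ := pl1_sylow_le_of_index_coprime p P N₂ hidx
  -- `N₂ ≤ N₁ ⊔ P`
  have hK1 : N₁ ≤ N₁ ⊔ (P : Subgroup G) := le_sup_left
  have hK2 : N₁ ⊔ (P : Subgroup G) ≤ N₂ := sup_le hle hPN
  have hrel : (N₁ ⊔ (P : Subgroup G)).relIndex N₂ = 1 := by
    obtain ⟨m, hm⟩ := hm
    have h1 : N₁.relIndex (N₁ ⊔ (P : Subgroup G)) * (N₁ ⊔ (P : Subgroup G)).relIndex N₂ =
        N₁.relIndex N₂ := Subgroup.relIndex_mul_relIndex _ _ _ hK1 hK2
    have h2 : (N₁ ⊔ (P : Subgroup G)).relIndex N₂ ∣ p ^ m := by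
      rw [← hm, ← h1]; exact dvd_mul_left _ _
    obtain ⟨j, -, hj⟩ := (Nat.dvd_prime_pow hp.out).1 h2
    have h3 : (N₁ ⊔ (P : Subgroup G)).relIndex N₂ ∣ (P : Subgroup G).index := by
      have h4 : (N₁ ⊔ (P : Subgroup G)).relIndex N₂ ∣ (P : Subgroup G).relIndex N₂ :=
        Subgroup.relIndex_dvd_of_le_left N₂ le_sup_right
      exact h4.trans (Subgroup.relIndex_dvd_index_of_le hPN)
    rcases j with _ | j
    · rw [hj, pow_zero]
    · exfalso
      apply P.not_dvd_index
      rw [hj] at h3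
      exact (dvd_pow_self p (Nat.succ_ne_zero j)).trans h3
  have hN2 : N₂ ≤ N₁ ⊔ (P : Subgroup G) := Subgroup.relIndex_eq_one.1 hrel
  -- Frattini
  have hfr := Sylow.normalizer_sup_eq_top (P.subtype hPN)
  have hmap : ((P.subtype hPN : Sylow p N₂) : Subgroup N₂).map N₂.subtype = (P : Subgroup G) := by
    rw [Sylow.coe_subtype, Subgroup.subgroupOf_map_subtype, inf_eq_left]
    exact hPN
  rw [hmap] at hfr
  rw [eq_top_iff, ← hfr]
  apply sup_le le_sup_left
  refine hN2.trans (sup_le le_sup_right ?_)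
  exact le_sup_of_le_left Subgroup.le_normalizer

/-- FWD (the direction `=>`): in a group of `p`-length one every character of the principal block
restricts irreducibly to `N_G(P)`. -/
theorem restrict_irr_of_plengthLE_one {G : Type*} [Group G] [Finite G] (p : ℕ) [Fact p.Prime]
    (M : Ideal AlgInt) (hM : IsPModular p M) (P : Sylow p G) (h : PLengthLE p 1 G)
    (χ : IrrCharacter G) (hχ : χ ∈ principalBlock M G) :
    IsIrrCharacter ↥(Subgroup.normalizer ((P : Subgroup G) : Set G))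
      (fun n : ↥(Subgroup.normalizer ((P : Subgroup G) : Set G)) => (χ : G → ℂ) n) := by
  have : Fintype G := Fintype.ofFinite G
  have hp : p.Prime := Fact.out
  obtain ⟨N₁, N₂, hN1, hN2, hle, hcop, hm, hidx⟩ :=
    Cfsg.Agent.Lib.H10.BG36.exists_series_of_plengthLE_one h
  have hN1' : ¬ p ∣ Nat.card N₁ := fun hd => by
    have := Nat.Coprime.eq_one_of_dvd hcop.symm hd
    exact hp.one_lt.ne' this
  have hidx' : ¬ p ∣ N₂.index := fun hd => by
    have := Nat.Coprime.eq_one_of_dvd hidx.symm hd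
    exact hp.one_lt.ne' this
  obtain ⟨ψ, -, hχψ⟩ :=
    Cfsg.Agent.Lib.L0.PrincipalQuot.exists_of_mem_principalBlock hM N₁ hN1' χ hχ
  have htop := pl1_normalizer_sup_eq_top p P N₁ N₂ hle hm hidx'
  set f : ↥(Subgroup.normalizer ((P : Subgroup G) : Set G)) →* G ⧸ N₁ :=
    (QuotientGroup.mk' N₁).comp (Subgroup.normalizer ((P : Subgroup G) : Set G)).subtype with hf
  have hsurj : Function.Surjective f := by
    intro q
    obtain ⟨g, rfl⟩ := QuotientGroup.mk'_surjective N₁ q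
    have hg : g ∈ Subgroup.normalizer ((P : Subgroup G) : Set G) ⊔ N₁ := by rw [htop]; trivial
    rw [← SetLike.mem_coe, Subgroup.mul_normal] at hg
    obtain ⟨n, hn, k, hk, rfl⟩ := Set.mem_mul.1 hg
    refine ⟨⟨n, hn⟩, ?_⟩
    change (QuotientGroup.mk' N₁) n = (QuotientGroup.mk' N₁) (n * k)
    have hk1 : (QuotientGroup.mk' N₁) k = 1 := (QuotientGroup.eq_one_iff k).2 hk
    rw [map_mul, hk1, mul_one]
  have heq : (fun n : ↥(Subgroup.normalizer ((P : Subgroup G) : Set G)) => (χ : G → ℂ) n) =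
      (ψ : G ⧸ N₁ → ℂ) ∘ f := by
    funext n
    rw [hχψ]
    rfl
  rw [heq]
  exact Cfsg.Agent.Lib.L0.isIrrCharacter_comp_of_surjective f hsurj ψ.2

end Cfsg.Agent.Lib.H4.PL1
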