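/-
S2937 piece PSU (owner helper8), sub-lemma XC (helper4, twin): in `GU_4` the last simple root set `X φ 1` has fewer than `|F|`
elements (`1 + c E_{1,2}` with `c + φ c = 0`).
-/
import Cfsg.Agent.Lib.H8.FBNMain
import Cfsg.Agent.Lib.H1.FBNNONTRIV

set_option autoImplicit false
set_option linter.unusedSectionVars false
set_option linter.unusedVariables false

namespace Cfsg.Agent.Lib.H4.PM

open Matrix Cfsg.Agent.Lib.H8.FBN

variable {F : Type*} [Field F] [Finite F]

theorem card_X_one_four (φ : F →+* F) (hφ2 : ∀ x, φ (φ x) = x) (hne : ∃ c : F, c + φ c ≠ 0) :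
    Nat.card ↥(X (n := 4) φ ⟨1, by norm_num⟩) < Nat.card F := by
  classical
  obtain ⟨c₁, hc₁⟩ := hne
  set j : Fin (4 / 2) := ⟨1, by norm_num⟩ with hj
  have hjv : (j : ℕ) = 1 := rfl
  -- the entries of an element of `X φ j`
  have hent : ∀ g : ↥(GS (n := 4) φ), g ∈ X (n := 4) φ j → ∀ k l : Fin 4, k ≠ l → ¬ (k = 1 ∧ l = 2) →
      (g.1 : Matrix (Fin 4) (Fin 4) F) k l = 0 := by
    intro g hg k l hkl hn
    apply hg.2 k l hkl
    rw [Phi_iff, if_neg (by rw [hjv]; norm_num), hjv]
    intro h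
    apply hn
    have hk2 := k.2
    have hl2 := l.2
    constructor
    · apply Fin.ext
      show (k : ℕ) = 1
      omega
    · apply Fin.ext
      show (l : ℕ) = 2
      omega
  have htr : ∀ g : ↥(GS (n := 4) φ), g ∈ X (n := 4) φ j →
      (g.1 : Matrix (Fin 4) (Fin 4) F) 1 2 + φ ((g.1 : Matrix (Fin 4) (Fin 4) F) 1 2) = 0 := by
    intro g hg
    have h1 := congrFun (congrFun (mul_star_self φ g) 1) 2
    rw [Matrix.mul_apply, Fin.sum_univ_four] at h1
    simp only [Cfsg.Agent.Lib.H8.FBN.star_apply] at h1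
    have r0 : (0 : Fin 4).rev = 3 := by decide
    have r1 : (1 : Fin 4).rev = 2 := by decide
    have r2 : (2 : Fin 4).rev = 1 := by decide
    have r3 : (3 : Fin 4).rev = 0 := by decide
    rw [r0, r1, r2, r3] at h1
    rw [hent g hg 1 0 (by decide) (by decide), hent g hg 1 3 (by decide) (by decide), hg.1 1,
      Matrix.one_apply_ne (by decide)] at h1
    rw [map_one] at h1
    linear_combination h1
  let f : ↥(X (n := 4) φ j) → {c : F // c + φ c = 0} := fun g =>
    ⟨((g : ↥(GS (n := 4) φ)).1 : Matrix (Fin 4) (Fin 4) F) 1 2, htr g.1 g.2⟩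
  have hf : Function.Injective f := by
    intro x y hxy
    have h12 : ((x : ↥(GS (n := 4) φ)).1 : Matrix (Fin 4) (Fin 4) F) 1 2 =
        ((y : ↥(GS (n := 4) φ)).1 : Matrix (Fin 4) (Fin 4) F) 1 2 := congrArg Subtype.val hxy
    apply Subtype.ext
    apply ext_val
    ext k l
    by_cases hkl : k = l
    · subst hkl
      rw [x.2.1 k, y.2.1 k]
    · by_cases h' : k = 1 ∧ l = 2
      · obtain ⟨rfl, rfl⟩ := h'
        exact h12
      · rw [hent x.1 x.2 k l hkl h', hent y.1 y.2 k l hkl h']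
  have hle := Nat.card_le_card_of_injective f hf
  have hlt : Nat.card {c : F // c + φ c = 0} < Nat.card F := by
    have := Fintype.ofFinite F
    rw [Nat.card_eq_fintype_card, Nat.card_eq_fintype_card]
    exact Fintype.card_subtype_lt hc₁
  omega

end Cfsg.Agent.Lib.H4.PM
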