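/-
S2937 piece PSU (owner helper8), sub-lemma XD (helper4, twin): in `GU_5` the last simple root set `X φ 1` has more than `|F|`
elements.
-/
import Cfsg.Agent.Lib.H8.FBNMain
import Cfsg.Agent.Lib.H1.FBNNONTRIV

set_option autoImplicit false
set_option linter.unusedSectionVars false
set_option linter.unusedVariables false

namespace Cfsg.Agent.Lib.H4.PM

open Matrix Cfsg.Agent.Lib.H8.FBN

variable {F : Type*} [Field F] [Finite F]

theorem card_X_one_five (φ : F →+* F) (hφ2 : ∀ x, φ (φ x) = x) (h0 : ∃ c : F, c ≠ 0 ∧ c + φ c = 0)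
    (h1 : ∃ β : F, β + φ β + 1 = 0) : Nat.card F < Nat.card ↥(X (n := 5) φ ⟨1, by norm_num⟩) := by
  classical
  obtain ⟨c₀, hc0, hc⟩ := h0
  obtain ⟨β₁, hβ₁⟩ := h1
  set j : Fin (5 / 2) := ⟨1, by norm_num⟩ with hj
  have hjv : (j : ℕ) = 1 := rfl
  let a : Fin 5 := 1
  let m : Fin 5 := 2
  have hm : m.rev = m := by decide
  have ha : a ≠ a.rev := by decide
  have ham : a ≠ m := by decide
  have har : a.rev = 3 := by decide
  -- the parameter
  let β : F → Bool → F := fun α t => α * φ α * β₁ + (if t then c₀ else 0)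
  have hβ : ∀ α t, β α t + φ (β α t) + α * φ α = 0 := by
    intro α t
    have e1 : φ (α * φ α * β₁) = φ α * α * φ β₁ := by rw [map_mul, map_mul, hφ2]
    cases t
    · simp only [β, Bool.false_eq_true, if_false, add_zero]
      rw [e1]
      linear_combination (α * φ α) * hβ₁
    · simp only [β, if_true]
      rw [map_add, e1]
      linear_combination (α * φ α) * hβ₁ + hc
  let g : F × Bool → ↥(GS (n := 5) φ) := fun x =>
    mkGS φ (xMm φ a m x.1 (β x.1 x.2)) (Cfsg.Agent.Lib.H25.FBN.xMm_mul_star' φ hφ2 a m hm ha x.1 (β x.1 x.2) (hβ x.1 x.2))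
  have hgX : ∀ x, g x ∈ X (n := 5) φ j := by
    intro x
    rw [mem_X]
    show IsUni (xMm φ a m x.1 (β x.1 x.2)) ∧ _
    apply Cfsg.Agent.Lib.H1.FBN.xMm_mem_aux φ a m hm ha x.1 (β x.1 x.2) (Phi j)
    · rw [Phi_iff, if_neg (by rw [hjv]; norm_num), hjv]
      simp only [a, m]
      decide
    · rw [Phi_iff, if_neg (by rw [hjv]; norm_num), hjv, har]
      simp only [m]
      decide
    · rw [Phi_iff, if_neg (by rw [hjv]; norm_num), hjv, har]
      simp only [a]
      decide
  let f : F × Bool → ↥(X (n := 5) φ j) := fun x => ⟨g x, hgX x⟩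
  have hentry1 : ∀ x : F × Bool, ((g x).1 : Matrix (Fin 5) (Fin 5) F) a m = x.1 := by
    intro x
    show xMm φ a m x.1 (β x.1 x.2) a m = x.1
    rw [Cfsg.Agent.Lib.H1.FBN.xMm_apply, Matrix.one_apply_ne ham, if_pos ⟨rfl, rfl⟩, if_neg, if_neg]
    · simp
    · rintro ⟨-, h4⟩
      rw [har] at h4
      exact absurd h4 (by decide)
    · rintro ⟨h3, -⟩
      exact ham h3
  have hentry2 : ∀ x : F × Bool, ((g x).1 : Matrix (Fin 5) (Fin 5) F) a a.rev = β x.1 x.2 := by
    intro x
    show xMm φ a m x.1 (β x.1 x.2) a a.rev = β x.1 x.2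
    rw [Cfsg.Agent.Lib.H1.FBN.xMm_apply, Matrix.one_apply_ne ha, if_neg, if_neg, if_pos ⟨rfl, rfl⟩]
    · simp
    · rintro ⟨h3, -⟩
      exact ham h3
    · rintro ⟨-, h4⟩
      rw [har] at h4
      exact absurd h4 (by decide)
  have hf : Function.Injective f := by
    intro x y hxy
    have h2 : g x = g y := congrArg Subtype.val hxy
    have h3 : x.1 = y.1 := by rw [← hentry1 x, ← hentry1 y, h2]
    have h4 : β x.1 x.2 = β y.1 y.2 := by rw [← hentry2 x, ← hentry2 y, h2]
    have h5 : x.2 = y.2 := by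
      rw [h3] at h4
      simp only [β, add_right_inj] at h4
      cases hx : x.2 <;> cases hy : y.2 <;> rw [hx, hy] at h4 <;> simp at h4 <;> first | rfl | (exfalso; exact hc0 h4) | (exfalso; exact hc0 h4.symm)
    exact Prod.ext h3 h5
  have hle := Nat.card_le_card_of_injective f hf
  rw [Nat.card_prod, Nat.card_eq_fintype_card (α := Bool), Fintype.card_bool] at hle
  have hpos : 0 < Nat.card F := Nat.card_pos
  omega

end Cfsg.Agent.Lib.H4.PM
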