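import Mathlib
import Cfsg.Agent.Lib.H23.RVDefs
import Cfsg.Agent.Lib.H23.CharGalois
import Cfsg.Agent.Lib.H20.WeilFull
import Cfsg.Agent.Lib.H13.SpDerange
import Cfsg.Agent.Lib.H24.RVOINT
import Cfsg.Agent.Lib.L0.CharOps
import Cfsg.Agent.Lib.L0.CharBasic
import Cfsg.Agent.Lib.H5.RVWEILA

/-!
# S4959 piece WEIL-C (helper23 blueprint): the k(GV)-datum of a module with an alternating form

`exists_kdata_alt_of`: the statement of WEIL-C with WEIL-B (`weil_restrict`) as a hypothesis; the
exact-signature theorem `exists_kdata_alt` is in `Cfsg.Agent.Lib.H4.RVWEILC`.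
-/

set_option autoImplicit false
set_option linter.style.haveILetI false

universe u

namespace Cfsg.Agent.Lib.H4.RV

open Cfsg Cfsg.Agent.Lib.H23 Cfsg.Agent.Lib.H23.RV
open scoped ComplexConjugate

section weil
open Matrix Cfsg.Agent.Lib.H20.Weil

/-! ### small general lemmas -/

/-- fixed points of a power coprime to the order -/
theorem fix_pow_iff {k : Type*} [CommSemiring k] {H : Type*} [Group H] {W : Type*}
    [AddCommMonoid W] [Module k W] (ρ : Representation k H W) (h : H) (t : ℕ)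
    (ht : t.Coprime (orderOf h)) (w : W) : ρ (h ^ t) w = w ↔ ρ h w = w := by
  constructor
  · intro hw
    obtain ⟨s, hs⟩ := exists_pow_eq_self_of_coprime ht
    have h1 : ∀ j : ℕ, ρ ((h ^ t) ^ j) w = w := by
      intro j
      induction j with
      | zero => simp
      | succ j ih => rw [pow_succ, map_mul, Module.End.mul_apply, hw, ih]
    have := h1 s
    rwa [hs] at this
  · intro hw
    induction t with
    | zero => simp
    | succ j ih =>
      have h1 : ∀ j : ℕ, ρ (h ^ j) w = w := by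
        intro j
        induction j with
        | zero => simp
        | succ j ih => rw [pow_succ, map_mul, Module.End.mul_apply, hw, ih]
      exact h1 _

theorem fixCard_pow {k : Type*} [CommSemiring k] {H : Type*} [Group H] {W : Type*}
    [AddCommMonoid W] [Module k W] (ρ : Representation k H W) (h : H) (t : ℕ)
    (ht : t.Coprime (orderOf h)) : fixCard ρ (h ^ t) = fixCard ρ h := by
  unfold fixCard
  exact Nat.card_congr (Equiv.subtypeEquivRight (fun w => fix_pow_iff ρ h t ht w))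

theorem fixCardK_zpowers {k : Type*} [CommSemiring k] {H : Type*} [Group H] {W : Type*}
    [AddCommMonoid W] [Module k W] (ρ : Representation k H W) (h : H) :
    fixCardK ρ (Subgroup.zpowers h) = fixCard ρ h := by
  unfold fixCardK fixCard
  refine Nat.card_congr (Equiv.subtypeEquivRight (fun w => ?_))
  constructor
  · intro hw
    exact hw h (Subgroup.mem_zpowers h)
  · intro hw g hg
    obtain ⟨j, rfl⟩ := Subgroup.mem_zpowers_iff.mp hg
    have h1 : ∀ j : ℕ, ρ (h ^ j) w = w := by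
      intro j
      induction j with
      | zero => simp
      | succ j ih => rw [pow_succ, map_mul, Module.End.mul_apply, hw, ih]
    have h2 : ρ h⁻¹ w = w := by
      have : ρ h⁻¹ (ρ h w) = w := by
        rw [← Module.End.mul_apply, ← map_mul, inv_mul_cancel, map_one, Module.End.one_apply]
      rwa [hw] at this
    have h3 : ∀ j : ℕ, ρ (h⁻¹ ^ j) w = w := by
      intro j
      induction j with
      | zero => simp
      | succ j ih => rw [pow_succ, map_mul, Module.End.mul_apply, h2, ih]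
    cases j with
    | ofNat j => simpa using h1 j
    | negSucc j =>
      rw [zpow_negSucc, ← inv_pow]
      exact h3 _

/-- transport of fixed points of one element along an equivariant equivalence -/
theorem card_fix_transport {p n : ℕ} {H : Type*} [Group H] {W : Type*} [AddCommGroup W]
    [Module (ZMod p) W] (ρ : Representation (ZMod p) H W)
    (Θ : W ≃ₗ[ZMod p] (Fin n ⊕ Fin n → ZMod p))
    (φ : H →* ↥(Matrix.symplecticGroup (Fin n) (ZMod p)))
    (hΘφ : ∀ g v, (φ g).1.mulVec (Θ v) = Θ (ρ g v)) (g : H) :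
    Nat.card {v : Fin n ⊕ Fin n → ZMod p // (φ g).1 *ᵥ v = v} = fixCard ρ g := by
  unfold fixCard
  refine (Nat.card_congr (Equiv.subtypeEquiv Θ.toEquiv (fun w => ?_))).symm
  show ρ g w = w ↔ (φ g).1 *ᵥ (Θ w) = Θ w
  rw [hΘφ]
  exact Θ.injective.eq_iff.symm

/-- transport of common fixed points of a subgroup -/
theorem card_fixK_transport {p n : ℕ} {H : Type*} [Group H] {W : Type*} [AddCommGroup W]
    [Module (ZMod p) W] (ρ : Representation (ZMod p) H W)
    (Θ : W ≃ₗ[ZMod p] (Fin n ⊕ Fin n → ZMod p))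
    (φ : H →* ↥(Matrix.symplecticGroup (Fin n) (ZMod p)))
    (hΘφ : ∀ g v, (φ g).1.mulVec (Θ v) = Θ (ρ g v)) (K : Subgroup H) :
    Nat.card {v : Fin n ⊕ Fin n → ZMod p // ∀ g ∈ K.map φ, g.1 *ᵥ v = v} = fixCardK ρ K := by
  unfold fixCardK
  refine (Nat.card_congr (Equiv.subtypeEquiv Θ.toEquiv (fun w => ?_))).symm
  show (∀ g ∈ K, ρ g w = w) ↔ ∀ g ∈ K.map φ, g.1 *ᵥ (Θ w) = Θ w
  constructor
  · intro hw g hg
    obtain ⟨k, hk, rfl⟩ := Subgroup.mem_map.mp hg
    rw [hΘφ, hw k hk]
  · intro hw k hk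
    have := hw (φ k) (Subgroup.mem_map_of_mem φ hk)
    rw [hΘφ] at this
    exact Θ.injective this

theorem card_pi_sum {p n : ℕ} [NeZero p] :
    Nat.card (Fin n ⊕ Fin n → ZMod p) = p ^ (2 * n) := by
  rw [Nat.card_eq_fintype_card, Fintype.card_fun, Fintype.card_sum, Fintype.card_fin, ZMod.card,
    two_mul]

theorem card_pi {p n : ℕ} [NeZero p] : Fintype.card (Fin n → ZMod p) = p ^ n := by
  rw [Fintype.card_fun, Fintype.card_fin, ZMod.card]

/-- WEIL-C with the statement of WEIL-B (`weil_restrict`) as a hypothesis. -/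
theorem exists_kdata_alt_of {p : ℕ} [Fact p.Prime] (hp2 : p ≠ 2)
    (hWB : ∀ (n : ℕ) (ψ : AddChar (ZMod p) ℂ) (_ : ψ ≠ 1)
      (ω : Matrix.symplecticGroup (Fin n) (ZMod p) →* Module.End ℂ ((Fin n → ZMod p) → ℂ))
      (_ : ∀ g, ∃ κ : ℂ, κ ≠ 0 ∧ ω g = κ • Yop ψ g.1)
      (𝒦 : Subgroup (Matrix.symplecticGroup (Fin n) (ZMod p))) (_ : ¬ p ∣ Nat.card 𝒦),
      ∃ (c : ℕ) (θ : 𝒦 → ℂ), IsCharacter 𝒦 θ ∧
        Nat.card {v : Fin n ⊕ Fin n → ZMod p // ∀ g ∈ 𝒦, g.1 *ᵥ v = v} = p ^ (2 * c) ∧
        ∀ g : 𝒦, LinearMap.trace ℂ ((Fin n → ZMod p) → ℂ) (ω g) = (p : ℂ) ^ c * θ g)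
    (m : ℕ) [NeZero m] (hpm : p ∣ m)
    {H : Type u} [Group H] [Finite H] (hHm : ∀ h : H, h ^ m = 1) (hcop : ¬ p ∣ Nat.card H)
    {W : Type*} [AddCommGroup W] [Module (ZMod p) W] [Finite W]
    (ρ : Representation (ZMod p) H W) (B : LinearMap.BilinForm (ZMod p) W)
    (halt : ∀ x, B x x = 0) (hinv : ∀ g x y, B (ρ g x) (ρ g y) = B x y)
    (hnd : ∀ x, (∀ y, B x y = 0) → x = 0) :
    ∃ Y : H → CyclotomicField m ℚ, IsKData p m ρ Y := by
  classical
  have hp : p.Prime := Fact.out
  have hp1 : 1 < p := hp.one_lt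
  have hm2 : 2 ≤ m := by
    have h1 : 0 < m := NeZero.pos m
    have := Nat.le_of_dvd h1 hpm
    omega
  haveI : Module.Finite (ZMod p) W := Module.Finite.of_finite
  obtain ⟨ι, hι, hdec, b₀, hb₀⟩ :=
    Cfsg.Agent.Lib.H13.symp_aux (Module.finrank (ZMod p) W) B halt hnd rfl
  obtain ⟨n, hn⟩ : ∃ n, n = Fintype.card ι := ⟨_, rfl⟩
  have hV : Module.finrank (ZMod p) W = 2 * n := by
    rw [Module.finrank_eq_card_basis b₀, Fintype.card_sum, hn, two_mul]
  obtain ⟨Θ, φ, hΘB, hΘφ⟩ :=
    Cfsg.Agent.Lib.H13.SpDerange.exists_hom_symplectic hV B halt hnd ρ hinv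
  -- the additive character and the Weil representation
  have h2 : (2 : ZMod p) ≠ 0 := by
    intro h
    have h3 : ((2 : ℕ) : ZMod p) = 0 := by exact_mod_cast h
    rw [ZMod.natCast_eq_zero_iff] at h3
    exact hp2 ((Nat.prime_dvd_prime_iff_eq hp Nat.prime_two).mp h3)
  set ψ : AddChar (ZMod p) ℂ := ZMod.stdAddChar (N := p) with hψdef
  have hψ : ψ ≠ 1 := by
    have hprim := ZMod.isPrimitive_stdAddChar p
    have := hprim (a := (1 : ZMod p)) one_ne_zero
    rwa [AddChar.mulShift_one] at this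
  obtain ⟨ω, hω⟩ := exists_weil_full (n := n) h2 ψ hψ
  -- the complex representation of `H`
  let R : Representation ℂ H ((Fin n → ZMod p) → ℂ) := ω.comp φ
  have hRchar : ∀ h : H, R.character h = LinearMap.trace ℂ ((Fin n → ZMod p) → ℂ) (ω (φ h)) :=
    fun h => rfl
  choose x hx using fun h : H => Cfsg.Agent.Lib.H23.exists_cyc_char m R h (hHm h)
  have hcardW : Nat.card W = p ^ (2 * n) := by
    rw [Nat.card_congr Θ.toEquiv, card_pi_sum]
  -- the key formula
  have hkey : ∀ (σ : Gal(CyclotomicField m ℚ/ℚ)) (h : H),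
      cycEmb m (σ ((p : CyclotomicField m ℚ) ^ n * x h)) =
        (p : ℂ) ^ n * LinearMap.trace ℂ ((Fin n → ZMod p) → ℂ)
          (ω (φ (h ^ (cycPow m σ).val))) := by
    intro σ h
    rw [map_mul, map_pow, map_natCast, map_mul, map_pow, map_natCast, hx h σ, hRchar]
  have hcop_val : ∀ (σ : Gal(CyclotomicField m ℚ/ℚ)) (h : H),
      ((cycPow m σ).val).Coprime (orderOf h) := by
    intro σ h
    have h1 : ((cycPow m σ).val).Coprime m := ZMod.val_coe_unit_coprime _
    exact Nat.Coprime.coprime_dvd_right (orderOf_dvd_of_pow_eq_one (hHm h)) h1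
  have hone_val : (cycPow m (1 : Gal(CyclotomicField m ℚ/ℚ))).val = 1 := by
    unfold cycPow
    rw [map_one, Units.val_one, ZMod.val_one_eq_one_mod, Nat.mod_eq_of_lt hm2]
  have hkey1 : ∀ h : H, cycEmb m ((p : CyclotomicField m ℚ) ^ n * x h) =
      (p : ℂ) ^ n * LinearMap.trace ℂ ((Fin n → ZMod p) → ℂ) (ω (φ h)) := by
    intro h
    have := hkey 1 h
    rwa [hone_val, pow_one, AlgEquiv.one_apply] at this
  have hcopK : ∀ K : Subgroup H, ¬ p ∣ Nat.card (K.map φ) := by
    intro K hdvd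
    apply hcop
    have h1 : Nat.card (K.map φ) ∣ Nat.card K :=
      Subgroup.card_dvd_of_surjective (φ.subgroupMap K) (φ.subgroupMap_surjective K)
    exact (hdvd.trans h1).trans (Subgroup.card_subgroup_dvd_card K)
  have hpC : (p : ℂ) ≠ 0 := by exact_mod_cast hp.ne_zero
  have hpint : IsIntegral ℤ (p : ℂ) := by
    have h1 : IsIntegral ℤ (algebraMap ℤ ℂ (p : ℤ)) := isIntegral_algebraMap
    simpa using h1
  refine ⟨fun h => (p : CyclotomicField m ℚ) ^ n * x h, ?_, ?_, ?_, ?_, ?_⟩
  · -- class function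
    intro h g
    apply cycEmb_injective m
    show cycEmb m ((p : CyclotomicField m ℚ) ^ n * x (g * h * g⁻¹)) =
      cycEmb m ((p : CyclotomicField m ℚ) ^ n * x h)
    rw [hkey1, hkey1, ← hRchar, ← hRchar, Representation.char_conj]
  · -- norms of the Galois conjugates
    intro σ h
    show ‖cycEmb m (σ ((p : CyclotomicField m ℚ) ^ n * x h))‖ ^ 2 = _
    rw [hkey, norm_mul, mul_pow, norm_pow, Complex.norm_natCast,
      Cfsg.Agent.Lib.H5.RV.weil_normSq h2 ψ hψ ω hω, card_fix_transport ρ Θ φ hΘφ,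
      fixCard_pow ρ h _ (hcop_val σ h), hcardW]
    push_cast
    ring
  · -- trivial action
    intro h hh
    have hφ1 : φ h = 1 := by
      apply Subtype.ext
      show (φ h).1 = 1
      apply Matrix.mulVec_injective
      funext v
      obtain ⟨w, rfl⟩ := Θ.surjective v
      rw [hΘφ, hh, Matrix.one_mulVec, Module.End.one_apply]
    show cycEmb m ((p : CyclotomicField m ℚ) ^ n * x h) = _
    rw [hkey1, hφ1, map_one, LinearMap.trace_one, Module.finrank_fintype_fun_eq_card, card_pi,
      hcardW]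
    push_cast
    ring
  · -- divisibility
    intro h hh
    obtain ⟨c, θ, hθ, hcardfix, htr⟩ :=
      hWB n ψ hψ ω hω ((Subgroup.zpowers h).map φ) (hcopK _)
    have hfix : fixCard ρ h = p ^ (2 * c) := by
      rw [← fixCardK_zpowers, ← card_fixK_transport ρ Θ φ hΘφ, hcardfix]
    have hlt : fixCard ρ h < Nat.card W := by
      have hex : ∃ w, ρ h w ≠ w := by
        by_contra hcon
        simp only [not_exists, not_not] at hcon
        apply hh
        ext w
        rw [hcon w, Module.End.one_apply]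
      obtain ⟨w, hw⟩ := hex
      letI := Fintype.ofFinite W
      unfold fixCard
      rw [Nat.card_eq_fintype_card, Nat.card_eq_fintype_card]
      exact Fintype.card_subtype_lt hw
    have hcn : c < n := by
      rw [hfix, hcardW] at hlt
      have := (Nat.pow_lt_pow_iff_right hp1).mp hlt
      omega
    have hmem : φ h ∈ (Subgroup.zpowers h).map φ :=
      Subgroup.mem_map_of_mem φ (Subgroup.mem_zpowers h)
    refine ⟨1, 0, (p : ℂ) ^ (n - c - 1) * θ ⟨φ h, hmem⟩, one_pow _, isIntegral_zero,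
      (hpint.pow _).mul (Cfsg.Agent.Lib.L0.isCharacter_isIntegral hθ _), ?_⟩
    show cycEmb m ((p : CyclotomicField m ℚ) ^ n * x h) = _
    rw [hkey1, hfix]
    have h1 := htr ⟨φ h, hmem⟩
    rw [h1]
    have h2 : (p : ℂ) ^ n = (p : ℂ) ^ c * (p : ℂ) * (p : ℂ) ^ (n - c - 1) := by
      rw [← pow_succ, ← pow_add]
      congr 1
      omega
    rw [h2]
    push_cast
    ring
  · -- integrality on subgroups
    intro K
    obtain ⟨c, θ, hθ, hcardfix, htr⟩ := hWB n ψ hψ ω hω (K.map φ) (hcopK K)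
    have hfix : fixCardK ρ K = p ^ (2 * c) := by
      rw [← card_fixK_transport ρ Θ φ hΘφ, hcardfix]
    have hle : fixCardK ρ K ≤ Nat.card W := by
      unfold fixCardK
      exact Finite.card_subtype_le _
    have hcn : c ≤ n := by
      rw [hfix, hcardW] at hle
      have := (Nat.pow_le_pow_iff_right hp1).mp hle
      omega
    have hfun : (fun g : K => cycEmb m ((p : CyclotomicField m ℚ) ^ n * x (g : H)) /
        (fixCardK ρ K : ℂ)) = ((p : ℂ) ^ (n - c)) • (θ ∘ (φ.subgroupMap K)) := by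
      funext g
      rw [Pi.smul_apply, smul_eq_mul, Function.comp_apply, hkey1, hfix]
      have h1 := htr (φ.subgroupMap K g)
      have h3 : ((φ.subgroupMap K g : ↥(K.map φ)) :
          ↥(Matrix.symplecticGroup (Fin n) (ZMod p))) = φ (g : H) := rfl
      rw [h3] at h1
      rw [h1]
      have h2 : (p : ℂ) ^ n = (p : ℂ) ^ (n - c) * (p : ℂ) ^ c := by
        rw [← pow_add]
        congr 1
        omega
      have hpc : ((p ^ (2 * c) : ℕ) : ℂ) ≠ 0 := by
        push_cast
        exact pow_ne_zero _ hpC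
      rw [div_eq_iff hpc, h2]
      push_cast
      ring
    show OInt K (fun g : K => cycEmb m ((p : CyclotomicField m ℚ) ^ n * x (g : H)) /
        (fixCardK ρ K : ℂ))
    rw [hfun]
    exact Cfsg.Agent.Lib.H24.RV.oInt_smul (hpint.pow _)
      (Cfsg.Agent.Lib.H24.RV.oInt_of_isCharacter
        (Cfsg.Agent.Lib.L0.isCharacter_comp (φ.subgroupMap K) hθ))

end weil

end Cfsg.Agent.Lib.H4.RV
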