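import Mathlib
import Cfsg.Agent.Lib.H4.RVWEILCaux
import Cfsg.Agent.Lib.H5.RVWEILB

/-!
# S4959 piece WEIL-C (helper23 blueprint): the k(GV)-datum of a module with an alternating form

`exists_kdata_alt` with the exact signature of `tools/blueprints/S4959_sigs.lean`
(`exists_kdata_alt_of` of `RVWEILCaux` + helper5's WEIL-B `weil_restrict`).
-/

set_option autoImplicit false

universe u

namespace Cfsg.Agent.Lib.H4.RV

open Cfsg Cfsg.Agent.Lib.H23 Cfsg.Agent.Lib.H23.RV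
open scoped ComplexConjugate

section weil
open Matrix Cfsg.Agent.Lib.H20.Weil

theorem exists_kdata_alt {p : ℕ} [Fact p.Prime] (hp2 : p ≠ 2) (m : ℕ) [NeZero m] (hpm : p ∣ m)
    {H : Type u} [Group H] [Finite H] (hHm : ∀ h : H, h ^ m = 1) (hcop : ¬ p ∣ Nat.card H)
    {W : Type*} [AddCommGroup W] [Module (ZMod p) W] [Finite W]
    (ρ : Representation (ZMod p) H W) (B : LinearMap.BilinForm (ZMod p) W)
    (halt : ∀ x, B x x = 0) (hinv : ∀ g x y, B (ρ g x) (ρ g y) = B x y)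
    (hnd : ∀ x, (∀ y, B x y = 0) → x = 0) :
    ∃ Y : H → CyclotomicField m ℚ, IsKData p m ρ Y :=
  exists_kdata_alt_of hp2
    (fun _ ψ hψ ω hω 𝒦 hc => Cfsg.Agent.Lib.H5.RV.weil_restrict hp2 ψ hψ ω hω 𝒦 hc)
    m hpm hHm hcop ρ B halt hinv hnd

end weil

end Cfsg.Agent.Lib.H4.RV
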