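import Mathlib
import Cfsg.Agent.Lib.H9.S3571Defs

/-!
# S3571, block GR, piece (C1a3) (helper4)

If `H` is the full setwise stabiliser in `Γ ≥ A_m` of a subset `Δ` of `Fin m` (`m ≥ 5`), then the
index `n = |Γ : H|` is `C(m, |Δ|)`: the group `A_m` is transitive on the subsets of a given size.
-/

set_option autoImplicit false

namespace Cfsg.Agent.Lib.H4.S3571C1a3

open Equiv Cfsg.Agent.Lib.H9.S3571

/-- a transposition of two points with the same membership status stabilises the set -/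
theorem image_swap_eq {m : ℕ} (Δ : Finset (Fin m)) (a b : Fin m) (hiff : a ∈ Δ ↔ b ∈ Δ) :
    Δ.image (swap a b) = Δ := by
  apply Finset.eq_of_subset_of_card_le
  · intro y hy
    obtain ⟨x, hx, rfl⟩ := Finset.mem_image.mp hy
    by_cases hxa : x = a
    · subst hxa; rw [swap_apply_left]; exact hiff.mp hx
    · by_cases hxb : x = b
      · subst hxb; rw [swap_apply_right]; exact hiff.mpr hx
      · rw [swap_apply_of_ne_of_ne hxa hxb]; exact hx
  · rw [Finset.card_image_of_injective _ (swap a b).injective]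

/-- two distinct points with the same membership status, `m ≥ 3` -/
theorem exists_pair {m : ℕ} (hm : 3 ≤ m) (Δ : Finset (Fin m)) :
    ∃ a b : Fin m, a ≠ b ∧ (a ∈ Δ ↔ b ∈ Δ) := by
  let a0 : Fin m := ⟨0, by omega⟩
  let a1 : Fin m := ⟨1, by omega⟩
  let a2 : Fin m := ⟨2, by omega⟩
  have h01 : a0 ≠ a1 := by simp [a0, a1, Fin.ext_iff]
  have h02 : a0 ≠ a2 := by simp [a0, a2, Fin.ext_iff]
  have h12 : a1 ≠ a2 := by simp [a1, a2, Fin.ext_iff]
  by_cases h0 : a0 ∈ Δ <;> by_cases h1 : a1 ∈ Δ <;> by_cases h2 : a2 ∈ Δ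
  all_goals first
    | exact ⟨a0, a1, h01, by tauto⟩
    | exact ⟨a0, a2, h02, by tauto⟩
    | exact ⟨a1, a2, h12, by tauto⟩

/-- `A_m` is transitive on the subsets of a given size -/
theorem exists_alt_image_eq {m : ℕ} (hm : 3 ≤ m) (Δ Δ' : Finset (Fin m))
    (h : Δ.card = Δ'.card) :
    ∃ g : Perm (Fin m), g ∈ alternatingGroup (Fin m) ∧ Δ.image g = Δ' := by
  classical
  let e : {x // x ∈ Δ} ≃ {x // x ∈ Δ'} := Finset.equivOfCardEq h
  let σ : Perm (Fin m) := e.extendSubtype
  have hσ : Δ.image σ = Δ' := by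
    apply Finset.eq_of_subset_of_card_le
    · intro y hy
      obtain ⟨x, hx, rfl⟩ := Finset.mem_image.mp hy
      exact e.extendSubtype_mem x hx
    · rw [Finset.card_image_of_injective _ σ.injective, h]
  by_cases hs : Perm.sign σ = 1
  · exact ⟨σ, Perm.mem_alternatingGroup.mpr hs, hσ⟩
  · obtain ⟨a, b, hab, hiff⟩ := exists_pair hm Δ
    refine ⟨σ * swap a b, ?_, ?_⟩
    · rw [Perm.mem_alternatingGroup, map_mul, Perm.sign_swap hab]
      rcases Int.units_eq_one_or (Perm.sign σ) with h1 | h1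
      · exact absurd h1 hs
      · rw [h1]; rfl
    · rw [Perm.coe_mul, ← Finset.image_image, image_swap_eq Δ a b hiff, hσ]

open Pointwise in
/-- **(C1a3)** in the exact shape of helper9's cut. -/
theorem c1a3 : C1a3Stmt := by
  intro m Γ H n r hP Δ hΔ
  classical
  have hsmul : ∀ g : ↥Γ, g • Δ = Δ.image (g : Perm (Fin m)) := fun g => rfl
  have hstab : MulAction.stabilizer ↥Γ Δ = H.subgroupOf Γ := by
    ext g
    rw [MulAction.mem_stabilizer_iff, Subgroup.mem_subgroupOf, hΔ g.1 g.2, hsmul]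
  have horb : MulAction.orbit ↥Γ Δ
      = ↑(Finset.powersetCard Δ.card (Finset.univ : Finset (Fin m))) := by
    ext Δ'
    rw [MulAction.mem_orbit_iff, Finset.mem_coe, Finset.mem_powersetCard_univ]
    constructor
    · rintro ⟨g, rfl⟩
      rw [hsmul, Finset.card_image_of_injective _ (g : Perm (Fin m)).injective]
    · intro hc
      obtain ⟨g, hgA, hg⟩ := exists_alt_image_eq (by have := hP.hm; omega) Δ Δ' hc.symm
      exact ⟨⟨g, hP.hA hgA⟩, by rw [hsmul]; exact hg⟩
  have hidx : (H.subgroupOf Γ).index = m.choose Δ.card := by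
    rw [← hstab, MulAction.index_stabilizer, horb, Set.ncard_coe_finset,
      Finset.card_powersetCard, Finset.card_univ, Fintype.card_fin]
  have hc : Nat.card ↥(H.subgroupOf Γ) = Nat.card ↥H :=
    Nat.card_congr (Subgroup.subgroupOfEquivOfLe hP.hHΓ).toEquiv
  have h1 : (H.subgroupOf Γ).index * Nat.card ↥H = Nat.card ↥Γ := by
    rw [← hc]; exact Subgroup.index_mul_card _
  have hH : 0 < Nat.card ↥H := Nat.card_pos
  rw [hP.hn, hidx] at h1
  exact (Nat.eq_of_mul_eq_mul_right hH h1).symm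

end Cfsg.Agent.Lib.H4.S3571C1a3
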