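import Mathlib
import Cfsg.Agent.Lib.H9.S3571Defs

/-!
# S3571, block GR, piece (C2) (helper4)

A prime `p' ∈ (m/2, m]` not dividing `|H|` forces `r ∈ (m/2, m]`, `r ∤ |H|`, and any element of
order `r` of `A_m` has no `Γ`-conjugate in `H`.
-/

set_option autoImplicit false

namespace Cfsg.Agent.Lib.H4.S3571C2

open Equiv Cfsg.Agent.Lib.H9.S3571

theorem card_perm_fin (m : ℕ) : Nat.card (Perm (Fin m)) = m.factorial := by
  rw [Nat.card_eq_fintype_card, Fintype.card_perm, Fintype.card_fin]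

theorem two_mul_card_alt (m : ℕ) (hm : 2 ≤ m) :
    2 * Nat.card ↥(alternatingGroup (Fin m)) = m.factorial := by
  have : Nontrivial (Fin m) := Fin.nontrivial_iff_two_le.mpr hm
  rw [Nat.card_eq_fintype_card, two_mul_card_alternatingGroup, Fintype.card_perm, Fintype.card_fin]

/-- an odd prime `≤ m` divides `|A_m|` -/
theorem prime_dvd_card_alt {m q : ℕ} (hm : 2 ≤ m) (hq : q.Prime) (hq2 : q ≠ 2) (hqm : q ≤ m) :
    q ∣ Nat.card ↥(alternatingGroup (Fin m)) := by
  have h1 : q ∣ m.factorial := (Nat.Prime.dvd_factorial hq).mpr hqm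
  rw [← two_mul_card_alt m hm] at h1
  rcases (Nat.Prime.dvd_mul hq).mp h1 with h | h
  · exact absurd ((Nat.prime_dvd_prime_iff_eq hq Nat.prime_two).mp h) hq2
  · exact h

/-- `r² ∤ m!` for a prime `r` with `m < 2r`. -/
theorem sq_not_dvd_factorial {m r : ℕ} (hr : r.Prime) (hm : m < 2 * r) : ¬ r ^ 2 ∣ m.factorial := by
  intro hd
  have hlog : Nat.log r m < 2 := by
    apply Nat.log_lt_of_lt_pow'
    · omega
    · have : 2 * r ≤ r ^ 2 := by
        have := hr.two_le
        nlinarith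
      omega
  have h := (Nat.Prime.pow_dvd_factorial_iff hr hlog).mp hd
  have h2 : ∑ i ∈ Finset.Ico 1 2, m / r ^ i = m / r := by
    simp
  rw [h2] at h
  have : m / r < 2 := Nat.div_lt_of_lt_mul (by omega)
  omega

theorem orderOf_conj' {G : Type*} [Group G] (g t : G) : orderOf (g⁻¹ * t * g) = orderOf t := by
  have h : (MulAut.conj g⁻¹) t = g⁻¹ * t * g := by simp
  rw [← h]
  exact MulEquiv.orderOf_eq _ t

/-- **(C2)** in the exact shape of helper9's cut. -/
theorem c2 : C2Stmt := by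
  intro m Γ H n r hP p' hp' hmp hpm hpH
  have hm := hP.hm
  have hp3 : p' ≠ 2 := by omega
  -- p' divides |Γ| = n |H|, hence n
  have h1 : p' ∣ Nat.card ↥(alternatingGroup (Fin m)) :=
    prime_dvd_card_alt (by omega) hp' hp3 hpm
  have h2 : p' ∣ Nat.card ↥Γ := h1.trans (Subgroup.card_dvd_of_le hP.hA)
  rw [hP.hn] at h2
  have h3 : p' ∣ n := by
    rcases (Nat.Prime.dvd_mul hp').mp h2 with h | h
    · exact h
    · exact absurd h hpH
  have hpr : p' ≤ r := hP.hrmax p' hp' h3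
  -- r ≤ m
  have hrΓ : r ∣ Nat.card ↥Γ := by rw [hP.hn]; exact Dvd.dvd.mul_right hP.hrd _
  have hΓ : Nat.card ↥Γ ∣ m.factorial := by
    rw [← card_perm_fin m]; exact Subgroup.card_subgroup_dvd_card Γ
  have hrm : r ≤ m := (Nat.Prime.dvd_factorial hP.hr).mp (hrΓ.trans hΓ)
  have hm2r : m < 2 * r := by omega
  -- r does not divide |H|
  have hrH : ¬ r ∣ Nat.card ↥H := by
    intro hd
    have : r ^ 2 ∣ Nat.card ↥Γ := by
      rw [hP.hn, pow_two]; exact Nat.mul_dvd_mul hP.hrd hd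
    exact sq_not_dvd_factorial hP.hr hm2r (this.trans hΓ)
  -- an element of order r in A_m
  have hr2 : r ≠ 2 := by omega
  have hrA : r ∣ Nat.card ↥(alternatingGroup (Fin m)) :=
    prime_dvd_card_alt (by omega) hP.hr hr2 hrm
  have : Fact r.Prime := ⟨hP.hr⟩
  obtain ⟨t', ht'⟩ := exists_prime_orderOf_dvd_card' (G := ↥(alternatingGroup (Fin m))) r hrA
  refine ⟨(t' : Perm (Fin m)), t'.2, ?_, ?_⟩
  · rw [Subgroup.orderOf_coe]; exact ht'
  · intro g _ hmem
    apply hrH
    have ho : orderOf (⟨g⁻¹ * (t' : Perm (Fin m)) * g, hmem⟩ : ↥H) = r := by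
      rw [← Subgroup.orderOf_coe]
      show orderOf (g⁻¹ * (t' : Perm (Fin m)) * g) = r
      rw [orderOf_conj', Subgroup.orderOf_coe]; exact ht'
    rw [← ho]
    exact orderOf_dvd_natCard _

end Cfsg.Agent.Lib.H4.S3571C2
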