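import Mathlib
import Cfsg.Agent.Lib.H8.S3571SSDefs

/-!
# S3571: the Lucas criterion for a prime `p > k` (helper4)

* `dvd_choose_iff` : for `p` prime, `k < p`, `k ≤ n`: `p ∣ C(n,k) ↔ n % p < k`.
* `ss0 : SS0Stmt` (block NT, exact shape) and `mod_lt_of_dvd_choose` (the converse, for block GR).
-/

set_option autoImplicit false

namespace Cfsg.Agent.Lib.H4.S3571SS

open Cfsg.Agent.Lib.H8.S3571SS

theorem choose_modEq_of_lt {n k p : ℕ} (hp : p.Prime) (hkp : k < p) :
    n.choose k ≡ (n % p).choose k [MOD p] := by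
  have : Fact p.Prime := ⟨hp⟩
  have h := Choose.choose_modEq_choose_mod_mul_choose_div_nat (n := n) (k := k) (p := p)
  rw [Nat.mod_eq_of_lt hkp, Nat.div_eq_of_lt hkp, Nat.choose_zero_right, mul_one] at h
  exact h

theorem not_dvd_choose_of_lt {a k p : ℕ} (hp : p.Prime) (hap : a < p) (hka : k ≤ a) :
    ¬ p ∣ a.choose k := by
  intro hd
  have h1 : a.choose k ∣ a.factorial := by
    have := Nat.choose_mul_factorial_mul_factorial hka
    exact ⟨k.factorial * (a - k).factorial, by rw [← this]; ring⟩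
  have h2 : p ∣ a.factorial := hd.trans h1
  have h3 : p ≤ a := (Nat.Prime.dvd_factorial hp).mp h2
  omega

/-- Lucas for a prime exceeding `k`. -/
theorem dvd_choose_iff {n k p : ℕ} (hp : p.Prime) (hkp : k < p) :
    p ∣ n.choose k ↔ n % p < k := by
  have hmod := choose_modEq_of_lt (n := n) hp hkp
  constructor
  · intro hd
    by_contra hlt'
    have hge : k ≤ n % p := Nat.le_of_not_lt hlt'
    have h1 : p ∣ (n % p).choose k := (Nat.modEq_zero_iff_dvd.mp
      (hmod.symm.trans (Nat.modEq_zero_iff_dvd.mpr hd)))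
    exact not_dvd_choose_of_lt hp (Nat.mod_lt n hp.pos) hge h1
  · intro hlt
    have h0 : (n % p).choose k = 0 := Nat.choose_eq_zero_of_lt hlt
    rw [h0] at hmod
    exact Nat.modEq_zero_iff_dvd.mp hmod

/-- **SS0** in the exact shape of the NT cut. -/
theorem ss0 : SS0Stmt := fun _ _ _ hp hkp _ hlt => (dvd_choose_iff hp hkp).mpr hlt

/-- the converse, used by block GR: a prime divisor `r > k` of `C(m,k)` has `m % r < k`. -/
theorem mod_lt_of_dvd_choose {m k r : ℕ} (hr : r.Prime) (hkr : k < r) (hd : r ∣ m.choose k) :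
    m % r < k := (dvd_choose_iff hr hkr).mp hd

end Cfsg.Agent.Lib.H4.S3571SS
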