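import Mathlib

/-!
# S3776: two small group-side bricks (helper4)

`[T0]`: in a finite 2-group with a group `E` of automorphisms transitive on the involutions every
involution is central, `V = {x | x² = 1}` is a subgroup, and an `E`-invariant subgroup of `V` with
a non-identity element is `V`.  `[STEP 1a]`: if the centre has an element of order 4 then every
`x` with `x² ∈ V` is central.
-/

set_option autoImplicit false

namespace Cfsg.Agent.Lib.H4.S3776T0

section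

variable {G : Type*} [Group G]

/-- in a finite 2-group every non-identity element has a power which is an involution -/
theorem exists_invol_pow (hG : IsPGroup 2 G) {c : G} (hc : c ≠ 1) :
    ∃ j : ℕ, c ^ j ≠ 1 ∧ (c ^ j) ^ 2 = 1 := by
  obtain ⟨k, hk⟩ := (IsPGroup.iff_orderOf.mp hG) c
  have hk0 : k ≠ 0 := by
    rintro rfl
    rw [pow_zero, orderOf_eq_one_iff] at hk
    exact hc hk
  obtain ⟨k', rfl⟩ := Nat.exists_eq_succ_of_ne_zero hk0
  refine ⟨2 ^ k', ?_, ?_⟩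
  · apply pow_ne_one_of_lt_orderOf (by positivity)
    rw [hk, pow_succ]
    have : 0 < 2 ^ k' := by positivity
    omega
  · rw [← pow_mul, ← pow_succ, ← hk, pow_orderOf_eq_one]

/-- `[T0]` every involution is central -/
theorem invol_central [Finite G] (hG : IsPGroup 2 G) {E : Type*} [Group E] (φ : E →* MulAut G)
    (htr : ∀ v w : G, v ≠ 1 → v ^ 2 = 1 → w ≠ 1 → w ^ 2 = 1 → ∃ e : E, φ e v = w) :
    ∀ v : G, v ^ 2 = 1 → ∀ g : G, g * v = v * g := by
  intro v hv g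
  by_cases hv1 : v = 1
  · rw [hv1, mul_one, one_mul]
  have : Nontrivial G := ⟨⟨v, 1, hv1⟩⟩
  have := hG.center_nontrivial
  obtain ⟨c, hc⟩ := exists_ne (1 : Subgroup.center G)
  have hc' : (c : G) ≠ 1 := fun h => hc (Subtype.ext h)
  obtain ⟨j, hj1, hj2⟩ := exists_invol_pow hG hc'
  obtain ⟨e, he⟩ := htr _ v hj1 hj2 hv1 hv
  have hcen : ∀ g : G, g * (c : G) ^ j = (c : G) ^ j * g :=
    Subgroup.mem_center_iff.mp ((Subgroup.center G).pow_mem c.2 j)
  have h2 := congrArg (φ e) (hcen ((φ e).symm g))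
  rw [map_mul, map_mul, MulEquiv.apply_symm_apply, he] at h2
  exact h2

/-- `V = {x | x² = 1}` as a subgroup, given that its elements are central -/
def Vsub (hc : ∀ v : G, v ^ 2 = 1 → ∀ g : G, g * v = v * g) : Subgroup G where
  carrier := {x | x ^ 2 = 1}
  one_mem' := one_pow 2
  mul_mem' := by
    intro a b ha hb
    have ha' : a ^ 2 = 1 := ha
    have hb' : b ^ 2 = 1 := hb
    show (a * b) ^ 2 = 1
    have hab : Commute a b := hc b hb' a
    rw [hab.mul_pow, ha', hb', mul_one]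
  inv_mem' := by
    intro a ha
    have ha' : a ^ 2 = 1 := ha
    show (a⁻¹) ^ 2 = 1
    rw [inv_pow, ha', inv_one]

theorem mem_Vsub (hc : ∀ v : G, v ^ 2 = 1 → ∀ g : G, g * v = v * g) (x : G) :
    x ∈ Vsub hc ↔ x ^ 2 = 1 := Iff.rfl

theorem Vsub_le_center (hc : ∀ v : G, v ^ 2 = 1 → ∀ g : G, g * v = v * g) :
    Vsub hc ≤ Subgroup.center G := fun v hv => Subgroup.mem_center_iff.mpr (hc v hv)

theorem Vsub_normal (hc : ∀ v : G, v ^ 2 = 1 → ∀ g : G, g * v = v * g) : (Vsub hc).Normal := by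
  constructor
  intro v hv g
  have hv' : v ^ 2 = 1 := hv
  have h := hc v hv' g
  rw [h, mul_inv_cancel_right]
  exact hv

/-- an `E`-invariant subgroup of `V` with a non-identity element is `V` -/
theorem invariant_sub_eq {E : Type*} [Group E] (φ : E →* MulAut G)
    (htr : ∀ v w : G, v ≠ 1 → v ^ 2 = 1 → w ≠ 1 → w ^ 2 = 1 → ∃ e : E, φ e v = w)
    (W : Subgroup G) (hW2 : ∀ w ∈ W, w ^ 2 = 1) (hWE : ∀ e : E, ∀ w ∈ W, φ e w ∈ W)
    (hne : ∃ w ∈ W, w ≠ 1) : ∀ x : G, x ^ 2 = 1 → x ∈ W := by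
  intro x hx
  by_cases hx1 : x = 1
  · rw [hx1]; exact W.one_mem
  obtain ⟨w, hw, hw1⟩ := hne
  obtain ⟨e, he⟩ := htr w x hw1 (hW2 w hw) hx1 hx
  rw [← he]; exact hWE e w hw

/-- `[STEP 1a]` if the centre contains an element of order 4 then every `x` with `x² ∈ V` is
central; more precisely `x = (x z⁻¹) z` with `z` central, `z⁴ = 1`, `z² = x²` and `x z⁻¹ ∈ V`. -/
theorem sq_in_V_central {E : Type*} [Group E] (φ : E →* MulAut G)
    (hcV : ∀ v : G, v ^ 2 = 1 → ∀ g : G, g * v = v * g)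
    (htr : ∀ v w : G, v ≠ 1 → v ^ 2 = 1 → w ≠ 1 → w ^ 2 = 1 → ∃ e : E, φ e v = w)
    (z0 : G) (hz0c : ∀ g : G, g * z0 = z0 * g) (hz04 : z0 ^ 4 = 1) (hz02 : z0 ^ 2 ≠ 1) :
    ∀ x : G, (x ^ 2) ^ 2 = 1 →
      ∃ z : G, (∀ g : G, g * z = z * g) ∧ z ^ 4 = 1 ∧ z ^ 2 = x ^ 2 ∧ (x * z⁻¹) ^ 2 = 1 ∧
        ∀ g : G, g * x = x * g := by
  intro x hx4
  by_cases hx : x ^ 2 = 1
  · refine ⟨1, fun g => by rw [mul_one, one_mul], one_pow 4, by rw [one_pow, hx], ?_, hcV x hx⟩
    rw [inv_one, mul_one, hx]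
  · have hz0i : (z0 ^ 2) ^ 2 = 1 := by rw [← pow_mul]; exact hz04
    obtain ⟨e, he⟩ := htr (z0 ^ 2) (x ^ 2) hz02 hz0i hx hx4
    have hzc : ∀ g : G, g * φ e z0 = φ e z0 * g := by
      intro g
      have h2 := congrArg (φ e) (hz0c ((φ e).symm g))
      rw [map_mul, map_mul, MulEquiv.apply_symm_apply] at h2
      exact h2
    have hz2 : (φ e z0) ^ 2 = x ^ 2 := by rw [← map_pow, he]
    have hz4 : (φ e z0) ^ 4 = 1 := by rw [← map_pow, hz04, map_one]
    have hcomm0 : Commute x (φ e z0) := hzc x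
    have hcomm : Commute x (φ e z0)⁻¹ := hcomm0.inv_right
    have hxz : (x * (φ e z0)⁻¹) ^ 2 = 1 := by
      rw [hcomm.mul_pow, inv_pow, hz2, mul_inv_cancel]
    refine ⟨φ e z0, hzc, hz4, hz2, hxz, ?_⟩
    intro g
    have h1 := hcV _ hxz g
    have h2 := hzc g
    calc g * x = g * (x * (φ e z0)⁻¹) * φ e z0 := by group
      _ = (x * (φ e z0)⁻¹) * g * φ e z0 := by rw [h1]
      _ = (x * (φ e z0)⁻¹) * (g * φ e z0) := by group
      _ = (x * (φ e z0)⁻¹) * (φ e z0 * g) := by rw [h2]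
      _ = x * g := by group

end

end Cfsg.Agent.Lib.H4.S3776T0
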