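import Cfsg.Agent.Lib.H9.S3776Defs
import Cfsg.Agent.Lib.H4.S3776T0

/-!
# S3776, piece (1) FRAME (helper4)

`frame : FrameStmt`: `V = {x | x² = 1}` is a central `E`-irreducible subgroup and `E` has no
non-identity fixed point.
-/

set_option autoImplicit false

namespace Cfsg.Agent.Lib.H4.S3776Frame

open Cfsg.Agent.Lib.H9.S3776 Cfsg.Agent.Lib.H4.S3776T0

universe u

theorem frame : FrameStmt.{u} := by
  intro G E _ _ _ _ φ hH
  have hc := invol_central hH.pG φ hH.trans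
  refine ⟨Vsub hc, ?_⟩
  have hmem : ∀ x : G, x ∈ Vsub hc ↔ x ^ 2 = 1 := fun x => Iff.rfl
  refine ⟨hmem, ?_, ?_, ?_, ?_, ?_, ?_⟩
  · intro v hv g
    exact hc v ((hmem v).1 hv) g
  · intro e h hh
    rw [hmem] at hh ⊢
    rw [← map_pow, hh, map_one]
  · intro v w hv hw hv1 hw1
    exact hH.trans v w hv1 ((hmem v).1 hv) hw1 ((hmem w).1 hw)
  · obtain ⟨x, y, hxy, hx1, hx2, hy1, hy2⟩ := hH.two
    exact ⟨x, y, (hmem x).2 hx2, (hmem y).2 hy2, hxy, hx1, hy1⟩
  · intro g hg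
    by_contra hg1
    obtain ⟨j, hj1, hj2⟩ := exists_invol_pow hH.pG hg1
    obtain ⟨x, y, hxy, hx1, hx2, hy1, hy2⟩ := hH.two
    have hfix : ∀ e : E, φ e (g ^ j) = g ^ j := fun e => by rw [map_pow, hg e]
    obtain ⟨e1, he1⟩ := hH.trans (g ^ j) x hj1 hj2 hx1 hx2
    obtain ⟨e2, he2⟩ := hH.trans (g ^ j) y hj1 hj2 hy1 hy2
    rw [hfix] at he1 he2
    exact hxy (he1.symm.trans he2)
  · intro W hWV hWinv
    by_cases hW : W = ⊥
    · exact Or.inl hW
    right
    apply le_antisymm hWV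
    intro x hx
    have hne : ∃ w ∈ W, w ≠ 1 := by
      by_contra hcon
      apply hW
      rw [Subgroup.eq_bot_iff_forall]
      intro y hy
      by_contra hy1
      exact hcon ⟨y, hy, hy1⟩
    exact invariant_sub_eq φ hH.trans W (fun w hw => (hmem w).1 (hWV hw)) hWinv hne x
      ((hmem x).1 hx)

example : FrameStmt.{0} := frame

end Cfsg.Agent.Lib.H4.S3776Frame
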