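import Cfsg.Agent.Lib.H9.S3776Defs
import Cfsg.Agent.Lib.H15.IdemTrans

/-!
# S3776, piece (14) R2: `J = K` (helper4, twin)

Route: the layer maps `φ_g` (`[k,g] = φ_g (k²)`) are idempotent as soon as `J` has an element of
order 8, so they are `0` or `id` (`IdemTrans.zero_or_id`); then `|G : J| = 2`, every element
outside `J` squares into `V ∖ 1`, these squares fill `V ∖ 1`, and the norm map `t ↦ a⁻¹ t a t`
produces an involution outside `J`: contradiction.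
-/

set_option autoImplicit false

namespace Cfsg.Agent.Lib.H4.S3776R2

open Cfsg.Agent.Lib.H9.S3776

universe u

/-- `IdemTrans.zero_or_id` in multiplicative form -/
theorem idem_mul {V0 : Type u} [CommGroup V0] [Finite V0] (Tt Ee : Set (V0 → V0))
    (two : ∀ v : V0, v * v = 1)
    (add : ∀ f ∈ Tt, ∀ x y, f (x * y) = f x * f y)
    (idem : ∀ f ∈ Tt, ∀ x, f (f x) = f x)
    (sum : ∀ f ∈ Tt, ∀ f' ∈ Tt, ∃ h ∈ Tt, ∀ x, h x = f x * f' x)
    (eadd : ∀ e ∈ Ee, ∀ x y, e (x * y) = e x * e y)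
    (norm : ∀ e ∈ Ee, ∀ f' ∈ Tt, ∃ f ∈ Tt, ∀ x, f' (e x) = e (f x))
    (trans : ∀ v w : V0, v ≠ 1 → w ≠ 1 → ∃ e ∈ Ee, e v = w) :
    ∀ f ∈ Tt, (∀ v, f v = 1) ∨ (∀ v, f v = v) := by
  have h : Cfsg.Agent.H15.IdemTrans.Hyp (V := Additive V0)
      (Tt : Set (Additive V0 → Additive V0)) (Ee : Set (Additive V0 → Additive V0)) :=
    ⟨two, add, idem, sum, eadd, norm, trans⟩
  exact Cfsg.Agent.H15.IdemTrans.zero_or_id h

section comp

variable {G : Type u} [Group G]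

/-- the commutator `k g k⁻¹ g⁻¹` -/
def cm (k g : G) : G := k * g * k⁻¹ * g⁻¹

variable {V K : Subgroup G}

theorem cm_mul_left (hcen : ∀ v ∈ V, ∀ g : G, g * v = v * g) {k k' g : G}
    (hk' : cm k' g ∈ V) : cm (k * k') g = cm k g * cm k' g := by
  have h := hcen _ hk' k
  have h2 := hcen _ hk' (cm k g)
  rw [h2]
  unfold cm at *
  calc k * k' * g * (k * k')⁻¹ * g⁻¹ = (k * (k' * g * k'⁻¹ * g⁻¹)) * g * k⁻¹ * g⁻¹ := by group
    _ = ((k' * g * k'⁻¹ * g⁻¹) * k) * g * k⁻¹ * g⁻¹ := by rw [h]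
    _ = k' * g * k'⁻¹ * g⁻¹ * (k * g * k⁻¹ * g⁻¹) := by group

theorem cm_mul_right (hcen : ∀ v ∈ V, ∀ g : G, g * v = v * g) {k g h : G}
    (hh : cm k h ∈ V) : cm k (g * h) = cm k g * cm k h := by
  have h1 := hcen _ hh (k * g * k⁻¹)
  have h2 := hcen _ hh (cm k g)
  rw [h2]
  unfold cm at *
  calc k * (g * h) * k⁻¹ * (g * h)⁻¹ = ((k * g * k⁻¹) * (k * h * k⁻¹ * h⁻¹)) * g⁻¹ := by group
    _ = ((k * h * k⁻¹ * h⁻¹) * (k * g * k⁻¹)) * g⁻¹ := by rw [h1]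
    _ = k * h * k⁻¹ * h⁻¹ * (k * g * k⁻¹ * g⁻¹) := by group

theorem cm_congr (hcen : ∀ v ∈ V, ∀ g : G, g * v = v * g) (hmem : ∀ x : G, x ∈ V ↔ x ^ 2 = 1)
    (hab : ∀ a ∈ K, ∀ b ∈ K, a * b = b * a) {k k' : G} (g : G) (hk : k ∈ K) (hk' : k' ∈ K)
    (h : k ^ 2 = k' ^ 2) : cm k g = cm k' g := by
  have hc0 : Commute k k' := hab k hk k' hk'
  have hc : Commute k⁻¹ k' := hc0.inv_left
  have hu : (k⁻¹ * k') ^ 2 = 1 := by rw [hc.mul_pow, inv_pow, h, inv_mul_cancel]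
  have huV : k⁻¹ * k' ∈ V := (hmem _).2 hu
  have h1 := hcen _ huV g
  have hk'e : k' = k * (k⁻¹ * k') := by group
  generalize k⁻¹ * k' = u at h1 hk'e
  rw [hk'e]
  unfold cm
  calc k * g * k⁻¹ * g⁻¹ = k * (g * u) * u⁻¹ * k⁻¹ * g⁻¹ := by group
    _ = k * (u * g) * u⁻¹ * k⁻¹ * g⁻¹ := by rw [h1]
    _ = k * u * g * (k * u)⁻¹ * g⁻¹ := by group

end comp

theorem r2 : R2Stmt.{u} := by
  intro G E _ _ _ _ φ V K J hR hJ
  have fr := hR.fr
  have kd := hR.kd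
  have hVK : V ≤ K := kd.VK
  have hVJ : V ≤ J := hVK.trans hJ.KJ
  have hcen := fr.cen
  have hV2 : ∀ v ∈ V, v ^ 2 = 1 := fun v hv => (fr.mem v).1 hv
  have hcmV : ∀ k ∈ K, ∀ g : G, cm k g ∈ V := fun k hk g => ((kd.mem k).1 hk).2 g
  have hKsq : ∀ k ∈ K, k ^ 2 ∈ V := fun k hk => ((kd.mem k).1 hk).1
  -- FACT
  have fact : ∀ x ∈ J, x ^ 2 ∈ V → x ∈ K := by
    intro x hxJ hx2
    obtain ⟨k, hk, hk2⟩ := hR.sq _ hx2
    have hc0 : Commute x k := (hJ.mem x).1 hxJ k hk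
    have hcomm : Commute x k⁻¹ := hc0.inv_right
    have h1 : (x * k⁻¹) ^ 2 = 1 := by rw [hcomm.mul_pow, inv_pow, hk2, mul_inv_cancel]
    have h2 : x * k⁻¹ ∈ K := hVK ((fr.mem _).2 h1)
    have h3 : x = (x * k⁻¹) * k := by group
    rw [h3]; exact K.mul_mem h2 hk
  -- `g * g ∈ J`
  have hsqJ : ∀ g : G, g * g ∈ J := by
    intro g
    rw [hJ.mem]
    intro k hk
    have h1 := cm_mul_right hcen (hcmV k hk g) (k := k) (g := g) (h := g)
    have h2 : cm k g * cm k g = 1 := by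
      have := hV2 _ (hcmV k hk g)
      rwa [pow_two] at this
    rw [h2] at h1
    unfold cm at h1
    have h3 : k * (g * g) = (k * (g * g) * k⁻¹ * (g * g)⁻¹) * ((g * g) * k) := by group
    rw [h3, h1, one_mul]
  apply le_antisymm _ hJ.KJ
  intro x hxJ
  by_contra hxK
  -- Step 1: an element of order 8 in `J`
  have hex : ∃ n : ℕ, x ^ (2 ^ n) ∈ K := by
    obtain ⟨n, hn⟩ := hR.hyp.pG x
    exact ⟨n, by rw [hn]; exact K.one_mem⟩
  classical
  obtain ⟨n, hn, hmin⟩ : ∃ n, x ^ (2 ^ n) ∈ K ∧ ∀ m < n, x ^ (2 ^ m) ∉ K :=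
    ⟨Nat.find hex, Nat.find_spec hex, fun m hm => Nat.find_min hex hm⟩
  have hn0 : n ≠ 0 := by
    rintro rfl
    rw [pow_zero, pow_one] at hn
    exact hxK hn
  obtain ⟨m, rfl⟩ := Nat.exists_eq_succ_of_ne_zero hn0
  have hyK : x ^ (2 ^ m) ∉ K := hmin m (Nat.lt_succ_self m)
  have hyJ : x ^ (2 ^ m) ∈ J := J.pow_mem hxJ _
  have hy2K : (x ^ (2 ^ m)) ^ 2 ∈ K := by
    rw [← pow_mul, ← pow_succ]; exact hn
  generalize x ^ (2 ^ m) = y at hyK hyJ hy2K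
  have hy4 : y ^ 4 ∈ V := by
    have := hKsq _ hy2K
    rwa [← pow_mul] at this
  have hy8 : y ^ 8 = 1 := by
    have := hV2 _ hy4
    rwa [← pow_mul] at this
  have hy4ne : y ^ 4 ≠ 1 := by
    intro h1
    have h2 : (y ^ 2) ^ 2 = 1 := by rw [← pow_mul]; exact h1
    exact hyK (fact y hyJ ((fr.mem _).2 h2))
  -- Step 2: fourth roots in `J`
  have hroot8 : ∀ v ∈ V, ∃ j ∈ J, j ^ 8 = 1 ∧ j ^ 4 = v := by
    intro v hv
    by_cases hv1 : v = 1
    · exact ⟨1, J.one_mem, one_pow 8, by rw [one_pow, hv1]⟩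
    obtain ⟨e, he⟩ := fr.trans (y ^ 4) v hy4 hv hy4ne hv1
    exact ⟨φ e y, hJ.inv e y hyJ, by rw [← map_pow, hy8, map_one], by rw [← map_pow, he]⟩
  -- Step 3: the maps `φ_g`
  choose root hroot using fun v : ↥V => hR.sq (v : G) v.2
  let Fg : G → ↥V → ↥V := fun g v => ⟨cm (root v) g, hcmV _ (hroot v).1 g⟩
  have key : ∀ k ∈ K, ∀ g : G, ∀ hk2 : k ^ 2 ∈ V, (Fg g ⟨k ^ 2, hk2⟩ : G) = cm k g := by
    intro k hk g hk2
    exact cm_congr hcen fr.mem hR.ab g (hroot ⟨k ^ 2, hk2⟩).1 hk (hroot ⟨k ^ 2, hk2⟩).2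
  have hadd : ∀ g : G, ∀ a b : ↥V, Fg g (a * b) = Fg g a * Fg g b := by
    intro g a b
    apply Subtype.ext
    show cm (root (a * b)) g = cm (root a) g * cm (root b) g
    have hra := hroot a
    have hrb := hroot b
    have hrab := hroot (a * b)
    have hc0 : Commute (root a) (root b) := hR.ab _ hra.1 _ hrb.1
    have h1 : (root (a * b)) ^ 2 = (root a * root b) ^ 2 := by
      rw [hc0.mul_pow, hra.2, hrb.2, hrab.2]; rfl
    rw [cm_congr hcen fr.mem hR.ab g hrab.1 (K.mul_mem hra.1 hrb.1) h1]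
    exact cm_mul_left hcen (hcmV _ hrb.1 g)
  have hsum : ∀ g h : G, ∀ a : ↥V, Fg (g * h) a = Fg g a * Fg h a := by
    intro g h a
    apply Subtype.ext
    exact cm_mul_right hcen (hcmV _ (hroot a).1 h)
  let eV : E → ↥V → ↥V := fun e v => ⟨φ e v, fr.inv e v v.2⟩
  have hnorm : ∀ (e : E) (g : G) (a : ↥V), Fg g (eV e a) = eV e (Fg ((φ e).symm g) a) := by
    intro e g a
    apply Subtype.ext
    show cm (root (eV e a)) g = φ e (cm (root a) ((φ e).symm g))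
    have hra := hroot a
    have hre := hroot (eV e a)
    have h1 : φ e (cm (root a) ((φ e).symm g)) = cm (φ e (root a)) g := by
      unfold cm
      rw [map_mul, map_mul, map_mul, map_inv, map_inv, MulEquiv.apply_symm_apply]
    rw [h1]
    apply cm_congr hcen fr.mem hR.ab g hre.1 (kd.inv e _ hra.1)
    rw [hre.2, ← map_pow, hra.2]
  have hidem : ∀ g : G, ∀ a : ↥V, Fg g (Fg g a) = Fg g a := by
    intro g a
    obtain ⟨j, hjJ, hj8, hj4⟩ := hroot8 a a.2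
    have hj2J : j ^ 2 ∈ J := J.pow_mem hjJ 2
    have hj22 : (j ^ 2) ^ 2 = (a : G) := by rw [← pow_mul]; exact hj4
    have hj22V : (j ^ 2) ^ 2 ∈ V := by rw [hj22]; exact a.2
    have hj2K : j ^ 2 ∈ K := fact _ hj2J hj22V
    have ha' : (⟨(j ^ 2) ^ 2, hj22V⟩ : ↥V) = a := Subtype.ext hj22
    have hFa : (Fg g a : G) = cm (j ^ 2) g := by
      have := key (j ^ 2) hj2K g hj22V
      rwa [ha'] at this
    have hpJ : g * j⁻¹ * g⁻¹ ∈ J := hJ.nor.conj_mem _ (J.inv_mem hjJ) g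
    have hwe : cm j g = j * (g * j⁻¹ * g⁻¹) := by unfold cm; group
    have hwJ : cm j g ∈ J := by
      rw [hwe]; exact J.mul_mem hjJ hpJ
    have hw2 : (cm j g) ^ 2 = cm (j ^ 2) g := by
      have hc0 : Commute j (g * j⁻¹ * g⁻¹) := hJ.ab _ hjJ _ hpJ
      rw [hwe, hc0.mul_pow, conj_pow, inv_pow]
      unfold cm; group
    have hw2V : (cm j g) ^ 2 ∈ V := by rw [hw2]; exact hcmV _ hj2K g
    have hwK : cm j g ∈ K := fact _ hwJ hw2V
    have hcw : cm (cm j g) g = (cm j g) ^ 2 := by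
      have hgg : (g * g) * j = j * (g * g) := hJ.ab _ (hsqJ g) _ hjJ
      have e0 : (g * g) * j * (g * g)⁻¹ = j := by rw [hgg, mul_inv_cancel_right]
      have e1 : g * cm j g * g⁻¹ = (cm j g)⁻¹ := by
        unfold cm
        calc g * (j * g * j⁻¹ * g⁻¹) * g⁻¹
            = (g * j * g⁻¹) * ((g * g) * j * (g * g)⁻¹)⁻¹ := by group
          _ = (g * j * g⁻¹) * j⁻¹ := by rw [e0]
          _ = (j * g * j⁻¹ * g⁻¹)⁻¹ := by group
      generalize cm j g = w at e1 ⊢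
      unfold cm
      calc w * g * w⁻¹ * g⁻¹ = w * (g * w * g⁻¹)⁻¹ := by group
        _ = w ^ 2 := by rw [e1, inv_inv, pow_two]
    apply Subtype.ext
    have hFa' : Fg g a = ⟨(cm j g) ^ 2, hw2V⟩ :=
      Subtype.ext (by show (Fg g a : G) = cm j g ^ 2; rw [hFa, hw2])
    rw [hFa', key (cm j g) hwK g hw2V, hcw]
  let instV : CommGroup ↥V :=
    { (inferInstance : Group ↥V) with mul_comm := fun a b => Subtype.ext (hcen b b.2 a) }
  have hzi := idem_mul (V0 := ↥V) {f | ∃ g : G, f = Fg g} {f | ∃ e : E, f = eV e}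
    (fun v => Subtype.ext (by have := hV2 v v.2; rwa [pow_two] at this))
    (by rintro _ ⟨g, rfl⟩ a b; exact hadd g a b)
    (by rintro _ ⟨g, rfl⟩ a; exact hidem g a)
    (by rintro _ ⟨g, rfl⟩ _ ⟨h, rfl⟩; exact ⟨Fg (g * h), ⟨g * h, rfl⟩, fun a => hsum g h a⟩)
    (by rintro _ ⟨e, rfl⟩ a b; exact Subtype.ext (map_mul (φ e) (a : G) (b : G)))
    (by rintro _ ⟨e, rfl⟩ _ ⟨g, rfl⟩; exact ⟨Fg ((φ e).symm g), ⟨_, rfl⟩, fun a => hnorm e g a⟩)
    (by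
      intro v w hv hw
      obtain ⟨e, he⟩ := fr.trans v w v.2 w.2 (fun h => hv (Subtype.ext h))
        (fun h => hw (Subtype.ext h))
      exact ⟨eV e, ⟨e, rfl⟩, Subtype.ext he⟩)
  have hzi' : ∀ g : G, (∀ v, Fg g v = 1) ∨ (∀ v, Fg g v = v) := fun g => hzi (Fg g) ⟨g, rfl⟩
  have hJof : ∀ g : G, (∀ v : ↥V, Fg g v = 1) → g ∈ J := by
    intro g h
    rw [hJ.mem]
    intro k hk
    have h1 := key k hk g (hKsq k hk)
    rw [h] at h1
    have h2 : cm k g = 1 := h1.symm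
    unfold cm at h2
    have h3 : k * g = (k * g * k⁻¹ * g⁻¹) * (g * k) := by group
    rw [h2, one_mul] at h3
    exact h3.symm
  have hid : ∀ g : G, g ∉ J → ∀ v : ↥V, Fg g v = v := by
    intro g hg
    rcases hzi' g with h | h
    · exact absurd (hJof g h) hg
    · exact h
  have hprod : ∀ g h : G, g ∉ J → h ∉ J → g * h ∈ J := by
    intro g h hg hh
    apply hJof
    intro v
    rw [hsum, hid g hg, hid h hh]
    exact Subtype.ext (by have := hV2 v v.2; rwa [pow_two] at this)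
  obtain ⟨g0, hg0⟩ : ∃ g0 : G, g0 ∉ J := by
    by_contra hcon
    apply hJ.ne
    rw [eq_top_iff]
    intro g _
    by_contra hg
    exact hcon ⟨g, hg⟩
  have hcenJ : ∀ a : G, a ∉ J → ∀ z ∈ J, z * a = a * z → z ∈ V := by
    intro a ha z hz hza
    have hzc : z ∈ Subgroup.center G := by
      rw [Subgroup.mem_center_iff]
      intro y
      by_cases hy : y ∈ J
      · exact hJ.ab y hy z hz
      · have h1 : z * (a * y) = (a * y) * z := hJ.ab z hz _ (hprod a y ha hy)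
        have h2 : a * (z * y) = a * (y * z) := by
          calc a * (z * y) = (a * z) * y := by group
            _ = (z * a) * y := by rw [hza]
            _ = z * (a * y) := by group
            _ = (a * y) * z := h1
            _ = a * (y * z) := by group
        exact (mul_left_cancel h2).symm
    exact (fr.mem z).2 (hR.hZ z hzc)
  have hsqV : ∀ a : G, a ∉ J → a ^ 2 ∈ V := by
    intro a ha
    rw [pow_two]
    exact hcenJ a ha _ (hsqJ a) (by group)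
  have hsqne : ∀ a : G, a ∉ J → a ^ 2 ≠ 1 := by
    intro a ha h1
    exact ha (hVJ ((fr.mem a).2 h1))
  have hfill : ∀ w ∈ V, w ≠ 1 → ∃ a : G, a ∉ J ∧ a ^ 2 = w := by
    intro w hw hw1
    obtain ⟨e, he⟩ := fr.trans (g0 ^ 2) w (hsqV g0 hg0) hw (hsqne g0 hg0) hw1
    refine ⟨φ e g0, ?_, by rw [← map_pow, he]⟩
    intro h
    apply hg0
    have := hJ.inv e⁻¹ _ h
    rwa [map_inv, MulAut.inv_apply_self] at this
  obtain ⟨x1, y1, hx1V, hy1V, hxy, hx11, hy11⟩ := fr.two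
  have hxyV : x1 * y1 ∈ V := V.mul_mem hx1V hy1V
  have hxy1 : x1 * y1 ≠ 1 := by
    intro h
    apply hxy
    have hy2 := hV2 y1 hy1V
    rw [pow_two] at hy2
    have h1 : x1 = y1⁻¹ := eq_inv_of_mul_eq_one_left h
    rw [h1]
    exact inv_eq_of_mul_eq_one_left hy2
  obtain ⟨a, haJ, ha2⟩ := hfill x1 hx1V hx11
  obtain ⟨b, hbJ, hb2⟩ := hfill y1 hy1V hy11
  obtain ⟨c, hcJ, hc2⟩ := hfill _ hxyV hxy1
  have hdiv : ∀ d : G, d ∉ J → a⁻¹ * d ∈ J := by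
    intro d hd
    have : a⁻¹ * d = (a * a)⁻¹ * (a * d) := by group
    rw [this]
    exact J.mul_mem (J.inv_mem (hsqJ a)) (hprod a d haJ hd)
  have hN : ∀ s ∈ J, ∀ t ∈ J,
      a⁻¹ * (s * t) * a * (s * t) = (a⁻¹ * s * a * s) * (a⁻¹ * t * a * t) := by
    intro s hs t ht
    have hQ : a⁻¹ * t * a ∈ J := by
      have := hJ.nor.conj_mem t ht a⁻¹
      rwa [inv_inv] at this
    have hcomm : (a⁻¹ * t * a) * s = s * (a⁻¹ * t * a) := hJ.ab _ hQ _ hs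
    calc a⁻¹ * (s * t) * a * (s * t) = (a⁻¹ * s * a) * ((a⁻¹ * t * a) * s) * t := by group
      _ = (a⁻¹ * s * a) * (s * (a⁻¹ * t * a)) * t := by rw [hcomm]
      _ = _ := by group
  have hsq : ∀ t : G, (a * t) ^ 2 = a ^ 2 * (a⁻¹ * t * a * t) := by
    intro t; rw [pow_two, pow_two]; group
  obtain ⟨j, hjJ, hbj⟩ : ∃ j ∈ J, b = a * j := ⟨a⁻¹ * b, hdiv b hbJ, by group⟩
  obtain ⟨j', hj'J, hcj⟩ : ∃ j' ∈ J, c = a * j' := ⟨a⁻¹ * c, hdiv c hcJ, by group⟩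
  have e1 : y1 = x1 * (a⁻¹ * j * a * j) := by rw [← hb2, hbj, hsq, ha2]
  have e2 : x1 * y1 = x1 * (a⁻¹ * j' * a * j') := by rw [← hc2, hcj, hsq, ha2]
  have e3 : a⁻¹ * j' * a * j' = y1 := (mul_left_cancel e2).symm
  have hsJ : j * j'⁻¹ ∈ J := J.mul_mem hjJ (J.inv_mem hj'J)
  have e4 := hN (j * j'⁻¹) hsJ j' hj'J
  have e5 : j * j'⁻¹ * j' = j := by group
  rw [e5, e3] at e4
  rw [e4] at e1
  have e6 : x1 * (a⁻¹ * (j * j'⁻¹) * a * (j * j'⁻¹)) = 1 := by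
    have h1 : 1 * y1 = (x1 * (a⁻¹ * (j * j'⁻¹) * a * (j * j'⁻¹))) * y1 := by
      rw [one_mul, mul_assoc]; exact e1
    exact (mul_right_cancel h1).symm
  have e7 : (a * (j * j'⁻¹)) ^ 2 = 1 := by rw [hsq, ha2, e6]
  have e8 : a * (j * j'⁻¹) ∈ J := hVJ ((fr.mem _).2 e7)
  apply haJ
  have h9 : a = (a * (j * j'⁻¹)) * (j * j'⁻¹)⁻¹ := by group
  rw [h9]
  exact J.mul_mem e8 (J.inv_mem hsJ)

example : R2Stmt.{0} := r2

end Cfsg.Agent.Lib.H4.S3776R2
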