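import Mathlib
import Cfsg.Agent.Lib.H5.S3777Defs

/-!
# S3777 (Vaughan-Lee), the step for `P3` (helper4, twin seat)

If every maximal subgroup `M` of `G` has `M' = G'` pass to `M` (smaller group, breadths do not
grow); otherwise `P1` for a maximal subgroup with `M' ≠ G'`.
-/

set_option autoImplicit false

namespace Cfsg.Agent.Lib.H4.S3777P3

open Cfsg.Agent.Lib.H5.S3777

universe u

/-- (T1) the derived subgroup of `↥K` has the order of `⁅K, K⁆` -/
theorem card_commutator_subtype {G : Type u} [Group G] (K : Subgroup G) :
    Nat.card ↥(commutator ↥K) = Nat.card ↥⁅K, K⁆ := by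
  rw [← Subgroup.map_subtype_commutator K]
  exact (Subgroup.card_map_of_injective K.subtype_injective).symm

/-- the centraliser of `k` in `↥K` -/
theorem centralizer_subtype_eq {G : Type u} [Group G] (K : Subgroup G) (k : ↥K) :
    Subgroup.centralizer ({k} : Set ↥K)
      = (Subgroup.centralizer ({(k : G)} : Set G)).subgroupOf K := by
  ext x
  simp only [Subgroup.mem_centralizer_iff, Set.mem_singleton_iff, forall_eq,
    Subgroup.mem_subgroupOf]
  constructor
  · intro h
    have := congrArg Subtype.val h
    simpa using this
  · intro h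
    exact Subtype.ext (by simpa using h)

/-- (T2) centraliser indices do not grow in subgroups -/
theorem centralizer_index_le {G : Type u} [Group G] [Finite G] (K : Subgroup G) (k : ↥K) :
    (Subgroup.centralizer ({k} : Set ↥K)).index
      ≤ (Subgroup.centralizer ({(k : G)} : Set G)).index := by
  rw [centralizer_subtype_eq]
  show (Subgroup.centralizer ({(k : G)} : Set G)).relIndex K ≤ _
  rw [← Subgroup.relIndex_top_right]
  exact Subgroup.relIndex_le_of_le_right le_top
    (by rw [Subgroup.relIndex_top_right]; exact Subgroup.index_ne_zero_of_finite)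

/-- a nontrivial finite `p`-group has a subgroup of index `p` -/
theorem exists_index_eq {p : ℕ} [Fact p.Prime] {G : Type u} [Group G] [Finite G]
    (hG : IsPGroup p G) (hnt : Nat.card G ≠ 1) : ∃ M : Subgroup G, M.index = p := by
  have hp : p.Prime := Fact.out
  obtain ⟨n, hn⟩ := hG.exists_card_eq
  have hn0 : n ≠ 0 := by
    rintro rfl
    exact hnt (by simpa using hn)
  obtain ⟨M, hM⟩ := Sylow.exists_subgroup_card_pow_prime p (n := n - 1) (G := G)
    (by rw [hn]; exact pow_dvd_pow p (Nat.sub_le n 1))
  refine ⟨M, ?_⟩
  have h := M.index_mul_card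
  rw [hM, hn] at h
  have h2 : p ^ n = p * p ^ (n - 1) := by
    rw [← pow_succ']
    congr 1
    omega
  rw [h2] at h
  exact Nat.eq_of_mul_eq_mul_right (pow_pos hp.pos _) h

/-- **the step for `P3`** in the exact shape of helper5's cut. -/
theorem p3step : P3StepStmt.{u} := by
  intro p _ G _ _ hG hIH hP1 b hb
  have hp : p.Prime := Fact.out
  by_cases hc : commutator G = ⊥
  · rw [hc, Subgroup.card_bot]
    exact Nat.one_le_pow _ _ hp.pos
  · have hnt : Nat.card G ≠ 1 := by
      intro h1
      apply hc
      have : Subsingleton G := (Nat.card_eq_one_iff_unique.mp h1).1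
      exact Subsingleton.elim _ _
    obtain ⟨M, hidx⟩ := exists_index_eq hG hnt
    by_cases hres : ∃ M' : Subgroup G, M'.index = p ∧ ⁅M', M'⁆ ≠ commutator G
    · obtain ⟨M', hM', hne⟩ := hres
      exact hP1 M' b ⟨hM', fun y _ => hb y⟩ hne
    · have hMres : ⁅M, M⁆ = commutator G := by
        by_contra h
        exact hres ⟨M, hidx, h⟩
      have hlt : Nat.card ↥M < Nat.card G := by
        have h := M.index_mul_card
        rw [hidx] at h
        have hp2 := hp.two_le
        have hpos : 0 < Nat.card ↥M := Nat.card_pos
        nlinarith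
      obtain ⟨_, _, h3⟩ := hIH ↥M (hG.to_subgroup M) hlt
      have h4 := h3 b (fun x => (centralizer_index_le M x).trans (hb x))
      rw [card_commutator_subtype, hMres] at h4
      exact h4

end Cfsg.Agent.Lib.H4.S3777P3
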