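import Cfsg.Agent.Lib.H5.S3797MLDefs
import Cfsg.Agent.Lib.H25.S3797MLDefs

/-!
# S3797, main lemma, piece (M0A): the quotient bridge (helper4, twin)

`m0a : AMLStmt → GCoreStmt`: `Q := K ⧸ V` (commutative of exponent 2), `κ (kV) = k²`, the
conjugation maps `cQ n` of `Q`, and the abstract main lemma in multiplicative form.
-/

set_option autoImplicit false
set_option linter.unusedSectionVars false

namespace Cfsg.Agent.Lib.H4.S3797M0A

universe u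

open Cfsg.Agent.Lib.H5.S3797ML

/-! ### the abstract main lemma in multiplicative form -/

theorem aml_mul (h : AMLStmt.{u}) (Q V : Type u) [CommGroup Q] [CommGroup V] [Finite Q] [Finite V]
    (κ : Q → V) (W : Set (Q → Q)) (I : Type u) (a : I → Q → Q) (b : I → V → V)
    (q1 : ∀ x : Q, x * x = 1) (q2 : ∀ v : V, v * v = 1)
    (q3 : ∀ x y z : Q, κ (x * y * z) * κ (x * y) * κ z =
      (κ (x * z) * κ x * κ z) * (κ (y * z) * κ y * κ z))
    (q4 : ∀ x, κ x = 1 → x = 1)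
    (w1 : ∀ g ∈ W, ∀ x y, g (x * y) = g x * g y) (w2 : ∀ g ∈ W, ∀ x, g (g x) = x)
    (w3 : ∀ g ∈ W, ∀ x, κ (g x) = κ x) (w4 : ∀ g ∈ W, ∀ h ∈ W, ∀ x, g (h x) = h (g x))
    (a1 : ∀ i x y, a i (x * y) = a i x * a i y) (a2 : ∀ i, Function.Injective (a i))
    (a3 : ∀ i v w, b i (v * w) = b i v * b i w) (a4 : ∀ i x, κ (a i x) = b i (κ x))
    (a5 : ∀ v w : V, v ≠ 1 → w ≠ 1 → ∃ i, b i v = w)
    (a6 : ∀ i, ∀ g ∈ W, ∃ h ∈ W, ∀ x, a i (g x) = h (a i x)) :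
    ∀ g ∈ W, ∀ h ∈ W, (∃ x, g x ≠ x) → (∃ x, h x ≠ x) → ∀ x, g x = h x := by
  let κ' : Additive Q → Additive V := fun x => Additive.ofMul (κ (Additive.toMul x))
  let β' : Additive Q → Additive Q → Additive V := fun x y => κ' (x + y) + κ' x + κ' y
  have hQuad : Quad κ' β' := by
    refine ⟨fun x => q1 x, fun v => q2 v, ?_, ?_, fun x hx => q4 x hx⟩
    · intro x y
      have e1 : κ' x + κ' x = 0 := q2 _
      have e2 : κ' y + κ' y = 0 := q2 _
      show κ' (x + y) = κ' x + κ' y + (κ' (x + y) + κ' x + κ' y)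
      calc κ' (x + y) = κ' (x + y) + (κ' x + κ' x) + (κ' y + κ' y) := by
            rw [e1, e2, add_zero, add_zero]
        _ = _ := by abel
    · intro x y z
      exact q3 x y z
  have hInvs : Invs κ' (W : Set (Additive Q → Additive Q)) := ⟨w1, w2, w3, w4⟩
  have hAct : Act κ' (W : Set (Additive Q → Additive Q)) a b := ⟨a1, a2, a3, a4, a5, a6⟩
  exact h (Additive Q) (Additive V) κ' β' W I a b hQuad hInvs hAct

/-! ### computations in `G` -/

section grp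

variable {G : Type u} [Group G] {V K : Subgroup G}

theorem sq_eq_of_mem (hVmem : ∀ x : G, x ∈ V ↔ x ^ 2 = 1)
    (hVcen : ∀ v ∈ V, ∀ k ∈ K, k * v = v * k)
    {k l : G} (hk : k ∈ K) (hkl : k⁻¹ * l ∈ V) : l ^ 2 = k ^ 2 := by
  have hv2 : (k⁻¹ * l) ^ 2 = 1 := (hVmem _).1 hkl
  have hc : Commute k (k⁻¹ * l) := hVcen _ hkl k hk
  have hl : l = k * (k⁻¹ * l) := by group
  calc l ^ 2 = (k * (k⁻¹ * l)) ^ 2 := by rw [← hl]
    _ = k ^ 2 * (k⁻¹ * l) ^ 2 := hc.mul_pow 2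
    _ = k ^ 2 := by rw [hv2, mul_one]

theorem comm_mem (hVn : V.Normal) (hsq : ∀ k ∈ K, k ^ 2 ∈ V) {k l : G} (hk : k ∈ K)
    (hl : l ∈ K) : k * l * k⁻¹ * l⁻¹ ∈ V := by
  have e : k * l * k⁻¹ * l⁻¹ = (k * l) ^ 2 * (l⁻¹ * (k ^ 2)⁻¹ * l⁻¹⁻¹) * (l ^ 2)⁻¹ := by
    simp only [pow_two]; group
  rw [e]
  exact V.mul_mem (V.mul_mem (hsq _ (K.mul_mem hk hl))
    (hVn.conj_mem _ (V.inv_mem (hsq k hk)) _)) (V.inv_mem (hsq l hl))

theorem sq_mul (hVn : V.Normal) (hVcen : ∀ v ∈ V, ∀ k ∈ K, k * v = v * k)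
    (hsq : ∀ k ∈ K, k ^ 2 ∈ V) {k l : G} (hk : k ∈ K) (hl : l ∈ K) :
    (k * l) ^ 2 = (l * k * l⁻¹ * k⁻¹) * k ^ 2 * l ^ 2 := by
  have hc : k * (l * k * l⁻¹ * k⁻¹) = (l * k * l⁻¹ * k⁻¹) * k :=
    hVcen _ (comm_mem hVn hsq hl hk) k hk
  have e1 : l * k = (l * k * l⁻¹ * k⁻¹) * (k * l) := by group
  generalize l * k * l⁻¹ * k⁻¹ = c at hc e1 ⊢
  calc (k * l) ^ 2 = k * (l * k) * l := by rw [pow_two]; group
    _ = k * (c * (k * l)) * l := by rw [e1]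
    _ = (k * c) * k * l * l := by group
    _ = (c * k) * k * l * l := by rw [hc]
    _ = c * k ^ 2 * l ^ 2 := by rw [pow_two, pow_two]; group

theorem comm_mul (hVn : V.Normal) (hVcen : ∀ v ∈ V, ∀ k ∈ K, k * v = v * k)
    (hsq : ∀ k ∈ K, k ^ 2 ∈ V) {k l m : G} (hk : k ∈ K) (hl : l ∈ K) (hm : m ∈ K) :
    m * (k * l) * m⁻¹ * (k * l)⁻¹ = (m * k * m⁻¹ * k⁻¹) * (m * l * m⁻¹ * l⁻¹) := by
  have hc : k * (m * l * m⁻¹ * l⁻¹) = (m * l * m⁻¹ * l⁻¹) * k :=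
    hVcen _ (comm_mem hVn hsq hm hl) k hk
  calc m * (k * l) * m⁻¹ * (k * l)⁻¹
      = (m * k * m⁻¹ * k⁻¹) * (k * (m * l * m⁻¹ * l⁻¹)) * k⁻¹ := by group
    _ = (m * k * m⁻¹ * k⁻¹) * ((m * l * m⁻¹ * l⁻¹) * k) * k⁻¹ := by rw [hc]
    _ = _ := by group

/-- the polar form is the commutator -/
theorem polar_eq (hVn : V.Normal) (hVmem : ∀ x : G, x ∈ V ↔ x ^ 2 = 1)
    (hVcen : ∀ v ∈ V, ∀ k ∈ K, k * v = v * k)
    (hsq : ∀ k ∈ K, k ^ 2 ∈ V) {k l : G} (hk : k ∈ K) (hl : l ∈ K) :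
    (k * l) ^ 2 * k ^ 2 * l ^ 2 = l * k * l⁻¹ * k⁻¹ := by
  rw [sq_mul hVn hVcen hsq hk hl]
  have h1 : l ^ 2 * k ^ 2 = k ^ 2 * l ^ 2 := hVcen (k ^ 2) (hsq k hk) (l ^ 2) (K.pow_mem hl 2)
  have h2 : k ^ 2 * k ^ 2 = 1 := by
    have := (hVmem (k ^ 2)).1 (hsq k hk)
    rwa [pow_two (k ^ 2)] at this
  have h3 : l ^ 2 * l ^ 2 = 1 := by
    have := (hVmem (l ^ 2)).1 (hsq l hl)
    rwa [pow_two (l ^ 2)] at this
  generalize l * k * l⁻¹ * k⁻¹ = c
  generalize k ^ 2 = a at h1 h2 h3 ⊢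
  generalize l ^ 2 = b at h1 h2 h3 ⊢
  calc c * a * b * a * b = c * a * (b * a) * b := by group
    _ = c * a * (a * b) * b := by rw [h1]
    _ = c * (a * a) * (b * b) := by group
    _ = c := by rw [h2, h3, mul_one, mul_one]

theorem cubic_eq (hVn : V.Normal) (hVmem : ∀ x : G, x ∈ V ↔ x ^ 2 = 1)
    (hVcen : ∀ v ∈ V, ∀ k ∈ K, k * v = v * k)
    (hsq : ∀ k ∈ K, k ^ 2 ∈ V) {k l m : G} (hk : k ∈ K) (hl : l ∈ K) (hm : m ∈ K) :
    (k * l * m) ^ 2 * (k * l) ^ 2 * m ^ 2 =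
      ((k * m) ^ 2 * k ^ 2 * m ^ 2) * ((l * m) ^ 2 * l ^ 2 * m ^ 2) := by
  rw [polar_eq hVn hVmem hVcen hsq (K.mul_mem hk hl) hm, polar_eq hVn hVmem hVcen hsq hk hm,
    polar_eq hVn hVmem hVcen hsq hl hm]
  exact comm_mul hVn hVcen hsq hk hl hm

end grp

/-! ### the quotient `K ⧸ V` -/

section quo

variable {G : Type u} [Group G] (V K : Subgroup G)

@[reducible] def instV (hVK : V ≤ K) (hVcen : ∀ v ∈ V, ∀ k ∈ K, k * v = v * k) : CommGroup ↥V :=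
  { (inferInstance : Group ↥V) with
    mul_comm := fun v w => Subtype.ext (by
      show (v : G) * w = w * v
      exact hVcen w w.2 v (hVK v.2)) }

variable [hVn : V.Normal] [hKn : K.Normal]

theorem q_sq (hsq : ∀ k ∈ K, k ^ 2 ∈ V) (x : ↥K ⧸ V.subgroupOf K) : x * x = 1 := by
  induction x using QuotientGroup.induction_on with
  | H k =>
    rw [← QuotientGroup.mk_mul, QuotientGroup.eq_one_iff, Subgroup.mem_subgroupOf]
    have := hsq k k.2
    simpa [pow_two] using this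

@[reducible] def instQ (hsq : ∀ k ∈ K, k ^ 2 ∈ V) : CommGroup (↥K ⧸ V.subgroupOf K) :=
  { (inferInstance : Group (↥K ⧸ V.subgroupOf K)) with
    mul_comm := by
      intro x y
      have h2 := q_sq V K hsq
      calc x * y = x * 1 * y := by group
        _ = x * ((x * y) * (x * y)) * y := by rw [h2 (x * y)]
        _ = (x * x) * (y * x) * (y * y) := by group
        _ = y * x := by rw [h2 x, h2 y]; group }

/-- conjugation by `n` on `K` -/
def cK (n : G) : ↥K →* ↥K where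
  toFun k := ⟨n * k * n⁻¹, hKn.conj_mem k k.2 n⟩
  map_one' := Subtype.ext (by simp)
  map_mul' a b := Subtype.ext (by
    show n * ((a : G) * b) * n⁻¹ = n * a * n⁻¹ * (n * b * n⁻¹)
    group)

/-- conjugation by `n` on `V` -/
def cV (n : G) : ↥V → ↥V := fun v => ⟨n * v * n⁻¹, hVn.conj_mem v v.2 n⟩

/-- conjugation by `n` on `K ⧸ V` -/
def cQ (n : G) : (↥K ⧸ V.subgroupOf K) →* (↥K ⧸ V.subgroupOf K) :=
  QuotientGroup.map (V.subgroupOf K) (V.subgroupOf K) (cK K n) (by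
    intro k hk
    rw [Subgroup.mem_comap, Subgroup.mem_subgroupOf]
    rw [Subgroup.mem_subgroupOf] at hk
    exact hVn.conj_mem _ hk n)

theorem cQ_mk (n : G) (k : ↥K) :
    cQ V K n (QuotientGroup.mk k) = QuotientGroup.mk (cK K n k) := rfl

theorem cQ_mul (n n' : G) (x : ↥K ⧸ V.subgroupOf K) :
    cQ V K (n * n') x = cQ V K n (cQ V K n' x) := by
  induction x using QuotientGroup.induction_on with
  | H k =>
    rw [cQ_mk, cQ_mk, cQ_mk]
    congr 1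
    apply Subtype.ext
    show n * n' * k * (n * n')⁻¹ = n * (n' * k * n'⁻¹) * n⁻¹
    group

theorem cQ_fix_iff (n : G) (k : ↥K) :
    cQ V K n (QuotientGroup.mk k) = QuotientGroup.mk k ↔ n * k * n⁻¹ * (k : G)⁻¹ ∈ V := by
  rw [cQ_mk, QuotientGroup.eq_iff_div_mem, Subgroup.mem_subgroupOf, Subgroup.coe_div,
    div_eq_mul_inv]
  rfl

theorem trivOn_iff (n : G) :
    Cfsg.Agent.Lib.H25.S3797ML.TrivOn V K n ↔ ∀ x, cQ V K n x = x := by
  constructor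
  · intro h x
    induction x using QuotientGroup.induction_on with
    | H k => exact (cQ_fix_iff V K n k).2 (h k k.2)
  · intro h k hk
    exact (cQ_fix_iff V K n ⟨k, hk⟩).1 (h _)

/-- the squaring map `K ⧸ V → V` -/
def kapm (hVmem : ∀ x : G, x ∈ V ↔ x ^ 2 = 1) (hVcen : ∀ v ∈ V, ∀ k ∈ K, k * v = v * k)
    (hsq : ∀ k ∈ K, k ^ 2 ∈ V) : (↥K ⧸ V.subgroupOf K) → ↥V :=
  fun x => Quotient.liftOn' x (fun k : ↥K => (⟨(k : G) ^ 2, hsq k k.2⟩ : ↥V)) (by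
    intro k l hkl
    rw [QuotientGroup.leftRel_apply, Subgroup.mem_subgroupOf] at hkl
    apply Subtype.ext
    show (k : G) ^ 2 = (l : G) ^ 2
    exact (sq_eq_of_mem hVmem hVcen k.2 (by simpa using hkl)).symm)

theorem kapm_mk (hVmem : ∀ x : G, x ∈ V ↔ x ^ 2 = 1) (hVcen : ∀ v ∈ V, ∀ k ∈ K, k * v = v * k)
    (hsq : ∀ k ∈ K, k ^ 2 ∈ V) (k : ↥K) :
    kapm V K hVmem hVcen hsq (QuotientGroup.mk k) = ⟨(k : G) ^ 2, hsq k k.2⟩ := rfl

end quo

/-! ### the bridge -/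

theorem m0a (h : AMLStmt.{u}) : Cfsg.Agent.Lib.H25.S3797ML.GCoreStmt.{u} := by
  intro G _ _ V K E T hVn hKn hVK hVmem hVcen hsq hTV hET htrans hT2 hTc t ht t' ht' hnt hnt'
  have := hVn
  have := hKn
  let Q := ↥K ⧸ V.subgroupOf K
  let κ : Q → ↥V := kapm V K hVmem hVcen hsq
  let W : Set (Q → Q) := {g | ∃ s ∈ T, g = cQ V K s}
  have c1 : ∀ x : Q, cQ V K 1 x = x := by
    intro x
    induction x using QuotientGroup.induction_on with
    | H k =>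
      rw [cQ_fix_iff]
      simp
  have q1 : ∀ x : Q, x * x = 1 := q_sq V K hsq
  have q2 : ∀ v : ↥V, v * v = 1 := by
    intro v
    apply Subtype.ext
    have := (hVmem v).1 v.2
    rw [pow_two] at this
    exact this
  have q3 : ∀ x y z : Q, κ (x * y * z) * κ (x * y) * κ z =
      (κ (x * z) * κ x * κ z) * (κ (y * z) * κ y * κ z) := by
    intro x y z
    induction x using QuotientGroup.induction_on with
    | H k =>
    induction y using QuotientGroup.induction_on with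
    | H l =>
    induction z using QuotientGroup.induction_on with
    | H m =>
      apply Subtype.ext
      exact cubic_eq hVn hVmem hVcen hsq k.2 l.2 m.2
  have q4 : ∀ x : Q, κ x = 1 → x = 1 := by
    intro x hx
    induction x using QuotientGroup.induction_on with
    | H k =>
      have h1 : (k : G) ^ 2 = 1 := congrArg Subtype.val hx
      rw [QuotientGroup.eq_one_iff, Subgroup.mem_subgroupOf]
      exact (hVmem _).2 h1
  have w1 : ∀ g ∈ W, ∀ x y, g (x * y) = g x * g y := by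
    rintro _ ⟨s, hs, rfl⟩ x y
    exact map_mul _ x y
  have w2 : ∀ g ∈ W, ∀ x, g (g x) = x := by
    rintro _ ⟨s, hs, rfl⟩ x
    rw [← cQ_mul, ← pow_two]
    exact (trivOn_iff V K _).1 (hT2 s hs) x
  have w3 : ∀ g ∈ W, ∀ x, κ (g x) = κ x := by
    rintro _ ⟨s, hs, rfl⟩ x
    induction x using QuotientGroup.induction_on with
    | H k =>
      apply Subtype.ext
      show (s * k * s⁻¹) ^ 2 = (k : G) ^ 2
      rw [conj_pow]
      have := hTV s hs _ (hsq k k.2)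
      rw [this, mul_inv_cancel_right]
  have w4 : ∀ g ∈ W, ∀ h ∈ W, ∀ x, g (h x) = h (g x) := by
    rintro _ ⟨s, hs, rfl⟩ _ ⟨s', hs', rfl⟩ x
    have e : s * s' = (s * s' * s⁻¹ * s'⁻¹) * (s' * s) := by group
    rw [← cQ_mul V K s s', ← cQ_mul V K s' s, e, cQ_mul V K (s * s' * s⁻¹ * s'⁻¹) (s' * s)]
    exact (trivOn_iff V K _).1 (hTc s hs s' hs') _
  have a1 : ∀ (e : ↥E) (x y : Q), cQ V K (e : G) (x * y) = cQ V K e x * cQ V K e y :=
    fun e x y => map_mul _ x y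
  have a2 : ∀ e : ↥E, Function.Injective (fun x : Q => cQ V K (e : G) x) := by
    intro e x y hxy
    have := congrArg (cQ V K ((e : G)⁻¹)) hxy
    simp only [← cQ_mul, inv_mul_cancel, c1] at this
    exact this
  have a3 : ∀ (e : ↥E) (v w : ↥V), cV V (e : G) (v * w) = cV V e v * cV V e w := by
    intro e v w
    apply Subtype.ext
    show (e : G) * ((v : G) * w) * (e : G)⁻¹ = e * v * (e : G)⁻¹ * (e * w * (e : G)⁻¹)
    group
  have a4 : ∀ (e : ↥E) (x : Q), κ (cQ V K (e : G) x) = cV V (e : G) (κ x) := by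
    intro e x
    induction x using QuotientGroup.induction_on with
    | H k =>
      apply Subtype.ext
      show ((e : G) * k * (e : G)⁻¹) ^ 2 = e * (k : G) ^ 2 * (e : G)⁻¹
      exact conj_pow
  have a5 : ∀ v w : ↥V, v ≠ 1 → w ≠ 1 → ∃ e : ↥E, cV V (e : G) v = w := by
    intro v w hv hw
    obtain ⟨e, he, hew⟩ := htrans v w v.2 w.2 (fun h => hv (Subtype.ext h))
      (fun h => hw (Subtype.ext h))
    exact ⟨⟨e, he⟩, Subtype.ext hew⟩
  have a6 : ∀ e : ↥E, ∀ g ∈ W, ∃ h ∈ W, ∀ x, cQ V K (e : G) (g x) = h (cQ V K (e : G) x) := by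
    rintro e _ ⟨s, hs, rfl⟩
    refine ⟨cQ V K ((e : G) * s * (e : G)⁻¹), ⟨_, hET e e.2 s hs, rfl⟩, fun x => ?_⟩
    have e1 : (e : G) * s = ((e : G) * s * (e : G)⁻¹) * e := by group
    rw [← cQ_mul V K (e : G) s, ← cQ_mul V K ((e : G) * s * (e : G)⁻¹) e, ← e1]
  have ex : ∀ s : G, ¬ Cfsg.Agent.Lib.H25.S3797ML.TrivOn V K s → ∃ x : Q, cQ V K s x ≠ x := by
    intro s hs
    by_contra hcon
    exact hs ((trivOn_iff V K s).2 (fun x => by_contra (fun hx => hcon ⟨x, hx⟩)))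
  have key := @aml_mul h Q ↥V (instQ V K hsq) (instV V K hVK hVcen) inferInstance inferInstance
    κ W ↥E (fun e x => cQ V K (e : G) x) (fun e => cV V (e : G))
    q1 q2 q3 q4 w1 w2 w3 w4 a1 a2 a3 a4 a5 a6
    (cQ V K t) ⟨t, ht, rfl⟩ (cQ V K t') ⟨t', ht', rfl⟩ (ex t hnt) (ex t' hnt')
  rw [trivOn_iff]
  intro x
  rw [cQ_mul, ← key x, ← cQ_mul, inv_mul_cancel, c1]

example : Cfsg.Agent.Lib.H5.S3797ML.AMLStmt.{0} → Cfsg.Agent.Lib.H25.S3797ML.GCoreStmt.{0} := m0a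

end Cfsg.Agent.Lib.H4.S3797M0A
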