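import Cfsg.Agent.Lib.H5.S3797MLDefs

/-!
# S3797, main lemma, piece (M4): the end game (helper4)

`m4 : M4Stmt`.  Route (shorter than the paper route, no use of the action of `E`):
for a non-identity `g ∈ W` the fixed points of `g` are exactly `M` (if `g y = y` and
`m = x + g x ≠ 0` then `m = (x+y) + g (x+y)` too, so `β m x = κ m = β m (x+y)`, `β m y = 0`,
`y ∈ M`); hence `x ↦ x + g x` has kernel `M` and by the orders its range is all of `M`.
For non-identity `g, h` and `x` with `h x ≠ x` write `x + h x = z + g z`; then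
`β m x = κ m = β m z` for `m = x + h x`, so `x + z ∈ M` is fixed by `g` and `g x = h x`.
-/

set_option autoImplicit false

namespace Cfsg.Agent.Lib.H4.S3797M4

open Cfsg.Agent.Lib.H5.S3797ML

universe u

section
variable {U V : Type u} [AddCommGroup U] [AddCommGroup V] {κ : U → V} {β : U → U → V}

theorem beta_symm (hQ : Quad κ β) (x y : U) : β x y = β y x := by
  have h1 := hQ.polar x y
  have h2 := hQ.polar y x
  rw [add_comm y x] at h2
  have h3 : κ x + κ y + β x y = κ y + κ x + β y x := by rw [← h1, ← h2]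
  rw [add_comm (κ y) (κ x)] at h3
  exact add_left_cancel h3

theorem beta_add_right (hQ : Quad κ β) (x y z : U) : β x (y + z) = β x y + β x z := by
  rw [beta_symm hQ x (y + z), hQ.add_left, beta_symm hQ y x, beta_symm hQ z x]

theorem beta_zero_zero (hQ : Quad κ β) : β 0 0 = 0 := by
  have h := hQ.add_left 0 0 0
  rw [add_zero] at h
  have h' : β 0 0 + β 0 0 = β 0 0 + 0 := by rw [add_zero]; exact h.symm
  exact add_left_cancel h'

theorem kappa_zero (hQ : Quad κ β) : κ 0 = 0 := by
  have h := hQ.polar 0 0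
  rw [add_zero, beta_zero_zero hQ, add_zero, hQ.two_V] at h
  exact h

theorem beta_self (hQ : Quad κ β) (x : U) : β x x = 0 := by
  have h := hQ.polar x x
  rw [hQ.two_U, kappa_zero hQ, hQ.two_V, zero_add] at h
  exact h.symm

/-- `x + g x` lies in `F_x` -/
theorem beta_theta (hQ : Quad κ β) {g : U → U} (hpres : ∀ x, κ (g x) = κ x) (x : U) :
    β (x + g x) x = κ (x + g x) := by
  rw [hQ.add_left, beta_self hQ, zero_add, hQ.polar, hpres, hQ.two_V, zero_add, beta_symm hQ]

theorem eq_of_add_eq_zero (hQ : Quad κ β) {x y : U} (h : x + y = 0) : y = x :=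
  add_left_cancel (h.trans (hQ.two_U x).symm)

end

theorem m4 : M4Stmt.{u} := by
  intro U V _ _ _ _ κ β W I a b hQ hI _hA hfix _hiso hcU hcM _hsurj hker
  -- Step A: the fixed points of a non-identity `g ∈ W` lie in `M`
  have hA : ∀ g ∈ W, (∃ x, g x ≠ x) → ∀ y, g y = y → y ∈ Mof W := by
    rintro g hg ⟨x, hx⟩ y hy
    have hm_mem : x + g x ∈ Mof W := AddSubgroup.subset_closure ⟨g, hg, x, rfl⟩
    have hm_ne : x + g x ≠ 0 := fun h0 => hx (eq_of_add_eq_zero hQ h0)
    have e1 := beta_theta hQ (hI.pres g hg) x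
    have e2 := beta_theta hQ (hI.pres g hg) (x + y)
    have e3 : (x + y) + g (x + y) = x + g x := by
      rw [hI.add g hg, hy]
      calc x + y + (g x + y) = x + g x + (y + y) := by abel
        _ = x + g x := by rw [hQ.two_U, add_zero]
    rw [e3, beta_add_right hQ, e1] at e2
    have e4 : β (x + g x) y = 0 := by
      have : κ (x + g x) + β (x + g x) y = κ (x + g x) + 0 := by rw [add_zero]; exact e2
      exact add_left_cancel this
    exact hker _ hm_mem hm_ne y e4
  -- Step B: uniqueness of the coset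
  have hB : ∀ m ∈ Mof W, m ≠ 0 → ∀ x z, β m x = κ m → β m z = κ m → x + z ∈ Mof W := by
    intro m hm hm0 x z hx hz
    apply hker m hm hm0
    rw [beta_add_right hQ, hx, hz, hQ.two_V]
  -- Step C: `x ↦ x + g x` maps onto `M`
  have hC : ∀ g ∈ W, (∃ x, g x ≠ x) → ∀ m ∈ Mof W, ∃ z, z + g z = m := by
    intro g hg hne m hm
    let gH : U →+ U := AddMonoidHom.mk' g (hI.add g hg)
    let φ : U →+ U := AddMonoidHom.id U + gH
    have hφ : ∀ x, φ x = x + g x := fun x => rfl
    have hker_eq : φ.ker = Mof W := by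
      ext y
      rw [AddMonoidHom.mem_ker, hφ]
      constructor
      · intro h0
        exact hA g hg hne y (eq_of_add_eq_zero hQ h0)
      · intro hy
        rw [hfix y hy g hg, hQ.two_U]
    have hrange_le : φ.range ≤ Mof W := by
      rintro _ ⟨x, rfl⟩
      exact AddSubgroup.subset_closure ⟨g, hg, x, rfl⟩
    have hVpos : 0 < Nat.card V := Nat.card_pos
    have hcard : Nat.card (Mof W) ≤ Nat.card φ.range := by
      have h1 := AddSubgroup.card_mul_index φ.ker
      have h2 : φ.ker.index = Nat.card φ.range := AddSubgroup.index_ker φ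
      rw [h2, hker_eq, hcM, hcU, sq] at h1
      have h3 := Nat.eq_of_mul_eq_mul_left hVpos h1
      rw [hcM, h3]
    have hEq : φ.range = Mof W := AddSubgroup.eq_of_le_of_card_ge hrange_le hcard
    have hm' : m ∈ φ.range := hEq ▸ hm
    obtain ⟨z, hz⟩ := hm'
    exact ⟨z, hz⟩
  intro g hg h hh hgne hhne x
  by_cases hx : h x = x
  · have hxM := hA h hh hhne x hx
    rw [hx, hfix x hxM g hg]
  · have hm_mem : x + h x ∈ Mof W := AddSubgroup.subset_closure ⟨h, hh, x, rfl⟩
    have hm_ne : x + h x ≠ 0 := fun h0 => hx (eq_of_add_eq_zero hQ h0)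
    obtain ⟨z, hz⟩ := hC g hg hgne (x + h x) hm_mem
    have e1 := beta_theta hQ (hI.pres h hh) x
    have e2 := beta_theta hQ (hI.pres g hg) z
    rw [hz] at e2
    have hxz := hB _ hm_mem hm_ne x z e1 e2
    have e3 := hfix _ hxz g hg
    rw [hI.add g hg] at e3
    have e4 : g x = x + z + g z := by
      calc g x = g x + g z + g z := by rw [add_assoc, hQ.two_U, add_zero]
        _ = x + z + g z := by rw [e3]
    rw [e4, add_assoc, hz, ← add_assoc, hQ.two_U, zero_add]

example : M4Stmt.{0} := m4

end Cfsg.Agent.Lib.H4.S3797M4
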