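import Mathlib
import Cfsg.Agent.Lib.H19.S3797Defs
import Cfsg.Agent.Lib.H19.PLength

/-!
# S3797, piece (RED-B) (helper4)

`N` normal of odd order and `G ⧸ N` with a normal Sylow 2-subgroup `T`: the chain
`⊥ ≤ N ≤ M ≤ ⊤`, `M` the preimage of `T`, has factors odd | 2-group | odd, so `G` has 2-length `≤ 1`.
-/

set_option autoImplicit false

namespace Cfsg.Agent.Lib.H4.S3797RedB

open Cfsg Cfsg.Agent.Lib.H19 Cfsg.Agent.Lib.H19.S3797

universe u

/-- **(RED-B)** in the exact shape of helper19's cut. -/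
theorem redb : RedBStmt.{u} := by
  intro G _ _ N _ hN hT
  have : Fact (Nat.Prime 2) := ⟨Nat.prime_two⟩
  rw [plengthLE_iff]
  obtain ⟨T⟩ : Nonempty (Sylow 2 (G ⧸ N)) := inferInstance
  have hTn : (T : Subgroup (G ⧸ N)).Normal := hT T
  set M : Subgroup G := (T : Subgroup (G ⧸ N)).comap (QuotientGroup.mk' N) with hM
  have hMn : M.Normal := by
    rw [hM]; infer_instance
  have hNM : N ≤ M := by
    intro x hx
    rw [hM, Subgroup.mem_comap]
    have : (QuotientGroup.mk' N) x = 1 := (QuotientGroup.eq_one_iff x).mpr hx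
    rw [this]; exact one_mem _
  -- step 1 : ⊥ → N, odd factor
  have h1 : Reach 2 1 N := by
    refine Reach.even Reach.zero (by decide) bot_le inferInstance ?_
    rw [Subgroup.relIndex_bot_left]
    exact Nat.coprime_two_right.mpr hN
  -- step 2 : N → M, a 2-group factor
  have h2 : Reach 2 2 M := by
    refine Reach.odd h1 (by decide) hNM hMn ?_
    obtain ⟨m, hm⟩ := (T.isPGroup').exists_card_eq
    exact ⟨m, by rw [hM, relIndex_comap_mk']; exact hm⟩
  -- step 3 : M → ⊤, odd factor
  refine Reach.even h2 (by decide) le_top inferInstance ?_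
  rw [Subgroup.relIndex_top_right, hM,
    Subgroup.index_comap_of_surjective _ (QuotientGroup.mk'_surjective N)]
  have h3 : ¬ 2 ∣ (T : Subgroup (G ⧸ N)).index := T.not_dvd_index
  exact Nat.coprime_two_right.mpr (Nat.odd_iff.mpr (by omega))

end Cfsg.Agent.Lib.H4.S3797RedB
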