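import Mathlib
import Cfsg.Agent.Lib.H27.S3814C1Defs

/-!
S3814, shape (I), block Case 1, piece (21) LCYC (pure group theory), by induction on `|P|`
through central quotients, with explicit eigen-projections in the base case.
-/

set_option autoImplicit false

namespace Cfsg.Agent.Lib.H4.S3814C1LCyc

universe u

/-- Eigenvector with eigenvalue `≠ 1` for a fixed-point-free additive map of order dividing `t'`
on a nonzero `ZMod t`-module, `t' ∣ t - 1`. -/
theorem eigen_add {t t' : ℕ} [Fact t.Prime] (ht' : t'.Prime) (hdvd : t' ∣ t - 1)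
    {M : Type*} [AddCommGroup M] [Module (ZMod t) M] (F : M →+ M)
    (hF : ∀ x, F^[t'] x = x) (hfix : ∀ x, F x = x → x = 0) (v : M) (hv : v ≠ 0) :
    ∃ (g : M) (c : ZMod t), g ≠ 0 ∧ F g = c • g ∧ c ≠ 1 := by
  classical
  have ht : t.Prime := Fact.out
  have : Fact t'.Prime := ⟨ht'⟩
  have hcard : t' ∣ Fintype.card (ZMod t)ˣ := by rw [ZMod.card_units]; exact hdvd
  obtain ⟨u, hu⟩ := exists_prime_orderOf_dvd_card t' hcard
  set ν : ZMod t := ((u : (ZMod t)ˣ) : ZMod t) with hν
  set μ : ZMod t := ((u⁻¹ : (ZMod t)ˣ) : ZMod t) with hμ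
  have hμν : μ * ν = 1 := by
    rw [hμ, hν, ← Units.val_mul, inv_mul_cancel, Units.val_one]
  have hνt : ν ^ t' = 1 := by
    rw [hν, ← Units.val_pow_eq_pow_val, ← hu, pow_orderOf_eq_one, Units.val_one]
  have hνne : ∀ i, 0 < i → i < t' → ν ^ i ≠ 1 := by
    intro i hi0 hit h1
    have h2 : u ^ i = 1 := by
      apply Units.ext
      rw [Units.val_pow_eq_pow_val, Units.val_one]
      exact h1
    have h3 := orderOf_dvd_of_pow_eq_one h2
    rw [hu] at h3
    have := Nat.le_of_dvd hi0 h3
    omega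
  let Fi : ℕ → M := fun i => F^[i] v
  have hFi : ∀ i, F (Fi i) = Fi (i + 1) := fun i => (Function.iterate_succ_apply' F i v).symm
  have hFt : Fi t' = v := hF v
  have hF0 : Fi 0 = v := rfl
  let w : ℕ → M := fun j => ∑ i ∈ Finset.range t', (ν ^ (i * j)) • Fi i
  have heig : ∀ j, F (w j) = (μ ^ j) • w j := by
    intro j
    let a : ℕ → M := fun i => (μ ^ j * ν ^ (i * j)) • Fi i
    have h1 : F (w j) = ∑ i ∈ Finset.range t', a (i + 1) := by
      simp only [w, map_sum, a]
      apply Finset.sum_congr rfl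
      intro i _
      rw [ZMod.map_smul, hFi]
      congr 1
      rw [add_mul, one_mul, pow_add, ← mul_assoc, mul_comm (μ ^ j), mul_assoc, ← mul_pow,
        hμν, one_pow, mul_one]
    have h2 : (μ ^ j) • w j = ∑ i ∈ Finset.range t', a i := by
      simp only [w, Finset.smul_sum, smul_smul, a]
    have h3 : a t' = a 0 := by
      simp only [a]
      rw [hFt, hF0, zero_mul, pow_zero, pow_mul, hνt, one_pow]
    have e1 := Finset.sum_range_succ' a t'
    have e2 := Finset.sum_range_succ a t'
    rw [h1, h2]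
    rw [e2, h3] at e1
    exact (add_right_cancel e1).symm
  have hsum : ∑ j ∈ Finset.range t', w j = (t' : ZMod t) • v := by
    simp only [w]
    rw [Finset.sum_comm]
    have hterm : ∀ i ∈ Finset.range t', ∑ j ∈ Finset.range t', (ν ^ (i * j)) • Fi i =
        (if i = 0 then (t' : ZMod t) else 0) • Fi i := by
      intro i hi
      rw [← Finset.sum_smul]
      congr 1
      by_cases h0 : i = 0
      · subst h0
        simp
      · rw [if_neg h0]
        have hne := hνne i (Nat.pos_of_ne_zero h0) (Finset.mem_range.1 hi)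
        have h4 : ∑ j ∈ Finset.range t', ν ^ (i * j) = ∑ j ∈ Finset.range t', (ν ^ i) ^ j := by
          apply Finset.sum_congr rfl
          intro j _
          rw [pow_mul]
        rw [h4, geom_sum_eq hne, ← pow_mul, mul_comm, pow_mul, hνt, one_pow, sub_self, zero_div]
    rw [Finset.sum_congr rfl hterm, Finset.sum_eq_single 0]
    · simp [Fi]
    · intro i _ hi
      rw [if_neg hi, zero_smul]
    · intro h
      exfalso
      apply h
      rw [Finset.mem_range]
      exact ht'.pos
  by_contra hcon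
  simp only [not_exists, not_and, not_not] at hcon
  have hw0 : ∀ j, 0 < j → j < t' → w j = 0 := by
    intro j hj0 hjt
    by_contra hne
    have h1 := hcon (w j) (μ ^ j) hne (heig j)
    apply hνne j hj0 hjt
    calc ν ^ j = (μ ^ j) * ν ^ j := by rw [h1, one_mul]
      _ = (μ * ν) ^ j := by rw [mul_pow]
      _ = 1 := by rw [hμν, one_pow]
  have hw00 : w 0 = 0 := hfix _ (by rw [heig 0, pow_zero, one_smul])
  have hzero : ∑ j ∈ Finset.range t', w j = 0 := by
    apply Finset.sum_eq_zero
    intro j hj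
    by_cases h0 : j = 0
    · rw [h0]; exact hw00
    · exact hw0 j (Nat.pos_of_ne_zero h0) (Finset.mem_range.1 hj)
  rw [hsum] at hzero
  have ht'ne : (t' : ZMod t) ≠ 0 := by
    intro h0
    rw [ZMod.natCast_eq_zero_iff] at h0
    have h1 := Nat.le_of_dvd ht'.pos h0
    have h2 : 0 < t - 1 := by have := ht.two_le; omega
    have h3 := Nat.le_of_dvd h2 hdvd
    omega
  exact hv ((smul_eq_zero.1 hzero).resolve_left ht'ne)

/-- the multiplicative form -/
theorem eigen_mul {t t' : ℕ} [Fact t.Prime] (ht' : t'.Prime) (hdvd : t' ∣ t - 1)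
    {A : Type*} [CommGroup A] (hA : ∀ x : A, x ^ t = 1) (f : A →* A)
    (hf : ∀ x, f^[t'] x = x) (hfix : ∀ x, f x = x → x = 1) (v : A) (hv : v ≠ 1) :
    ∃ (g : A) (k : ℕ), g ≠ 1 ∧ f g = g ^ k ∧ (k : ZMod t) ≠ 1 := by
  let _ : Module (ZMod t) (Additive A) := AddCommGroup.zmodModule (n := t) (fun x => by
    show Additive.ofMul (Additive.toMul x ^ t) = 0
    rw [hA]; rfl)
  let F : Additive A →+ Additive A := MonoidHom.toAdditive f
  have hFit : ∀ (i : ℕ) (x : Additive A), F^[i] x = Additive.ofMul (f^[i] (Additive.toMul x)) := by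
    intro i
    induction i with
    | zero => intro x; rfl
    | succ i ih =>
      intro x
      rw [Function.iterate_succ_apply', ih, Function.iterate_succ_apply']
      rfl
  obtain ⟨g, c, hg, hFg, hc⟩ := eigen_add ht' hdvd F
    (fun x => by rw [hFit, hf]; rfl)
    (fun x hx => by
      have h1 : f (Additive.toMul x) = Additive.toMul x := congrArg Additive.toMul hx
      have h2 := hfix _ h1
      exact congrArg Additive.ofMul h2)
    (Additive.ofMul v) (fun h => hv (congrArg Additive.toMul h))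
  refine ⟨Additive.toMul g, c.val, ?_, ?_, ?_⟩
  · intro h
    exact hg (congrArg Additive.ofMul h)
  · have h1 : F g = (c.val : ZMod t) • g := by rw [ZMod.natCast_zmod_val]; exact hFg
    rw [Nat.cast_smul_eq_nsmul] at h1
    exact congrArg Additive.toMul h1
  · rw [ZMod.natCast_zmod_val]; exact hc

/-- the central elements killed by `t` -/
def Om (P : Type u) [Group P] (t : ℕ) : Subgroup P where
  carrier := {z | z ∈ Subgroup.center P ∧ z ^ t = 1}
  one_mem' := ⟨Subgroup.one_mem _, one_pow t⟩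
  mul_mem' := by
    rintro a b ⟨ha, hat⟩ ⟨hb, hbt⟩
    refine ⟨Subgroup.mul_mem _ ha hb, ?_⟩
    have hc : Commute a b := Subgroup.mem_center_iff.1 hb a
    rw [hc.mul_pow, hat, hbt, one_mul]
  inv_mem' := by
    rintro a ⟨ha, hat⟩
    exact ⟨Subgroup.inv_mem _ ha, by rw [inv_pow, hat, inv_one]⟩

instance omCommGroup (P : Type u) [Group P] (t : ℕ) : CommGroup ↥(Om P t) :=
  { (inferInstance : Group ↥(Om P t)) with
    mul_comm := fun a b => Subtype.ext (Subgroup.mem_center_iff.1 b.2.1 a.1) }

/-- The abstract induction. -/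
theorem ind {t t' : ℕ} [Fact t.Prime] (ht' : t'.Prime) (hdvd : t' ∣ t - 1) :
    ∀ (n : ℕ) (P : Type u) [Group P] [Finite P], Nat.card P = n → IsPGroup t P →
    ∀ φ : P →* P, (∀ x, φ^[t'] x = x) → (∃ x, φ x ≠ x) →
    ∃ (g : P) (k : ℕ), g ≠ 1 ∧ g ^ t = 1 ∧ φ g = g ^ k ∧ (k : ZMod t) ≠ 1 := by
  intro n
  induction n using Nat.strong_induction_on with
  | _ n ih =>
  intro P _ _ hcard hP φ hφ hne
  have ht : t.Prime := Fact.out
  have htt' : t' < t := by
    have h2 : 0 < t - 1 := by have := ht.two_le; omega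
    have h3 := Nat.le_of_dvd h2 hdvd
    omega
  have hpow : ∀ (y : P), y ^ t = 1 → ∀ a b : ℕ, (a : ZMod t) = (b : ZMod t) → y ^ a = y ^ b := by
    intro y hy a b hab
    rw [pow_eq_pow_iff_modEq]
    have h1 : a ≡ b [MOD t] := (ZMod.natCast_eq_natCast_iff a b t).1 hab
    exact h1.of_dvd (orderOf_dvd_of_pow_eq_one hy)
  by_cases hA : ∃ z ∈ Subgroup.center P, z ≠ 1 ∧ z ^ t = 1 ∧ φ z = z
  · -- Case A: a central fixed element of order t
    obtain ⟨z, hzc, hz1, hzt, hzφ⟩ := hA
    set N := Subgroup.zpowers z with hN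
    have hNc : ∀ n ∈ N, ∀ x : P, x * n = n * x := by
      intro n hn x
      obtain ⟨i, rfl⟩ := Subgroup.mem_zpowers_iff.1 hn
      have h1 : Commute x z := Subgroup.mem_center_iff.1 hzc x
      exact (h1.zpow_right i).eq
    have hNφ : ∀ n ∈ N, φ n = n := by
      intro n hn
      obtain ⟨i, rfl⟩ := Subgroup.mem_zpowers_iff.1 hn
      rw [map_zpow, hzφ]
    have hNt : ∀ n ∈ N, n ^ t = 1 := by
      intro n hn
      obtain ⟨i, rfl⟩ := Subgroup.mem_zpowers_iff.1 hn
      rw [← zpow_natCast, ← zpow_mul, mul_comm, zpow_mul, zpow_natCast, hzt, one_zpow]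
    have hNn : N.Normal := ⟨fun n hn g => by
      have h1 : g * n * g⁻¹ = n := by rw [hNc n hn g, mul_inv_cancel_right]
      rw [h1]; exact hn⟩
    have hcomap : N ≤ N.comap φ := fun n hn => by
      rw [Subgroup.mem_comap, hNφ n hn]; exact hn
    let φb : P ⧸ N →* P ⧸ N := QuotientGroup.map N N φ hcomap
    have hφb : ∀ x : P, φb (x : P ⧸ N) = ((φ x : P) : P ⧸ N) :=
      fun x => QuotientGroup.map_mk N N φ hcomap x
    have hφbit : ∀ (i : ℕ) (x : P), φb^[i] (x : P ⧸ N) = ((φ^[i] x : P) : P ⧸ N) := by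
      intro i
      induction i with
      | zero => intro x; rfl
      | succ i ih' =>
        intro x
        rw [Function.iterate_succ_apply', ih', hφb, Function.iterate_succ_apply']
    have hφbt : ∀ q : P ⧸ N, φb^[t'] q = q := by
      intro q
      obtain ⟨x, rfl⟩ := QuotientGroup.mk_surjective q
      rw [hφbit, hφ]
    have hφbne : ∃ q : P ⧸ N, φb q ≠ q := by
      by_contra hall
      simp only [not_exists, not_not] at hall
      obtain ⟨x, hx⟩ := hne
      apply hx
      have hn : x⁻¹ * φ x ∈ N := by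
        have h1 := hall (x : P ⧸ N)
        rw [hφb] at h1
        exact QuotientGroup.eq.1 h1.symm
      set n0 := x⁻¹ * φ x with hndef
      have hφx : φ x = x * n0 := by rw [hndef]; group
      have hit : ∀ i : ℕ, φ^[i] x = x * n0 ^ i := by
        intro i
        induction i with
        | zero => simp
        | succ i ih' =>
          rw [Function.iterate_succ_apply', ih', map_mul, map_pow, hNφ n0 hn, hφx, mul_assoc,
            ← pow_succ']
      have h1 : n0 ^ t' = 1 := by
        have h2 := hit t'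
        rw [hφ] at h2
        have h3 : x * 1 = x * n0 ^ t' := by rw [mul_one]; exact h2
        exact (mul_left_cancel h3).symm
      have h2 : n0 ^ t = 1 := hNt n0 hn
      have h3 : n0 = 1 := by
        have hd1 := orderOf_dvd_of_pow_eq_one h1
        have hd2 := orderOf_dvd_of_pow_eq_one h2
        have hcop : Nat.Coprime t' t := (Nat.coprime_primes ht' ht).2 (ne_of_lt htt')
        have h4 := Nat.dvd_gcd hd1 hd2
        rw [hcop] at h4
        exact orderOf_eq_one_iff.1 (Nat.dvd_one.1 h4)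
      rw [hφx, h3, mul_one]
    have hcardN : Nat.card N = t := by
      rw [Nat.card_zpowers]
      have hd := orderOf_dvd_of_pow_eq_one hzt
      rcases (Nat.dvd_prime ht).1 hd with h | h
      · exact absurd (orderOf_eq_one_iff.1 h) hz1
      · exact h
    have hcardq : Nat.card (P ⧸ N) < n := by
      have h1 := Subgroup.card_eq_card_quotient_mul_card_subgroup N
      rw [hcardN, hcard] at h1
      have hq : 0 < Nat.card (P ⧸ N) := Nat.card_pos
      have := ht.two_le
      nlinarith
    obtain ⟨gb, k, hgb1, hgbt, hgbφ, hk⟩ :=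
      ih _ hcardq (P ⧸ N) rfl (hP.to_quotient N) φb hφbt hφbne
    obtain ⟨g, rfl⟩ := QuotientGroup.mk_surjective gb
    have hn : (g ^ k)⁻¹ * φ g ∈ N := by
      rw [hφb] at hgbφ
      have h1 : ((g ^ k : P) : P ⧸ N) = ((φ g : P) : P ⧸ N) := by
        rw [hgbφ]; rfl
      exact QuotientGroup.eq.1 h1
    set n0 := (g ^ k)⁻¹ * φ g with hn0
    have hφg : φ g = g ^ k * n0 := by rw [hn0]; group
    set cK : ZMod t := (k : ZMod t) - 1 with hcKdef
    have hcK : cK ≠ 0 := sub_ne_zero.2 hk
    set d : ℕ := cK.val with hddef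
    set m : ℕ := (cK⁻¹).val with hmdef
    have hd : (d : ZMod t) = (k : ZMod t) - 1 := ZMod.natCast_zmod_val cK
    have hmd : ((m * d : ℕ) : ZMod t) = 1 := by
      rw [Nat.cast_mul, hmdef, hddef, ZMod.natCast_zmod_val, ZMod.natCast_zmod_val]
      exact inv_mul_cancel₀ hcK
    have hkd : (k : ZMod t) = ((d + 1 : ℕ) : ZMod t) := by
      rw [Nat.cast_add, hd, Nat.cast_one]; ring
    set w := n0 ^ m with hw
    have hwN : w ∈ N := Subgroup.pow_mem _ hn m
    have hwk : w ^ k = n0 * w := by
      have h1 : w ^ k = w ^ (d + 1) := hpow w (hNt w hwN) k (d + 1) hkd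
      have h2 : w ^ d = n0 := by
        rw [hw, ← pow_mul]
        have h3 := hpow n0 (hNt n0 hn) (m * d) 1 (by rw [hmd]; simp)
        rw [h3, pow_one]
      rw [h1, pow_succ, h2]
    set g' := g * w with hg'
    have hφg' : φ g' = g' ^ k := by
      have hc : Commute g w := hNc w hwN g
      rw [hg', map_mul, hNφ w hwN, hφg, hc.mul_pow, hwk, mul_assoc]
    have hg'q : ((g' : P) : P ⧸ N) = (g : P ⧸ N) := by
      rw [hg', QuotientGroup.mk_mul, (QuotientGroup.eq_one_iff w).2 hwN, mul_one]
    have hg'1 : g' ≠ 1 := by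
      intro h
      apply hgb1
      rw [← hg'q, h]
      rfl
    have hg't : g' ^ t = 1 := by
      have hyN : g' ^ t ∈ N := by
        rw [← QuotientGroup.eq_one_iff, QuotientGroup.mk_pow, hg'q]
        exact hgbt
      have hyk : (g' ^ t) ^ k = g' ^ t := by
        have h1 : φ (g' ^ t) = g' ^ t := hNφ _ hyN
        rw [map_pow, hφg', ← pow_mul, mul_comm, pow_mul] at h1
        exact h1
      have h1 : (g' ^ t) ^ (d + 1) = g' ^ t := by
        rw [← hpow _ (hNt _ hyN) k (d + 1) hkd]; exact hyk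
      have h2 : (g' ^ t) ^ d = 1 := by
        rw [pow_succ] at h1
        have h3 : (g' ^ t) ^ d * g' ^ t = 1 * g' ^ t := by rw [one_mul]; exact h1
        exact mul_right_cancel h3
      have hdt : Nat.Coprime t d := by
        rw [Nat.Prime.coprime_iff_not_dvd ht]
        intro hdvd'
        apply hcK
        rw [← ZMod.natCast_zmod_val cK, ← hddef]
        exact (ZMod.natCast_eq_zero_iff d t).2 hdvd'
      have hd1 := orderOf_dvd_of_pow_eq_one (hNt _ hyN)
      have hd2 := orderOf_dvd_of_pow_eq_one h2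
      have h4 := Nat.dvd_gcd hd1 hd2
      rw [hdt] at h4
      exact orderOf_eq_one_iff.1 (Nat.dvd_one.1 h4)
    exact ⟨g', k, hg'1, hg't, hφg', hk⟩
  · -- Case B: φ is fixed-point-free on Om
    simp only [not_exists, not_and] at hA
    obtain ⟨x0, hx0⟩ := hne
    have hnt : Nontrivial P := ⟨⟨x0, 1, fun h => hx0 (by rw [h, map_one])⟩⟩
    have hcnt : Nontrivial (Subgroup.center P) := hP.center_nontrivial
    have hcpg : IsPGroup t (Subgroup.center P) := hP.to_subgroup _
    obtain ⟨e, he⟩ := hcpg.exists_card_eq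
    have he0 : e ≠ 0 := by
      rintro rfl
      rw [pow_zero] at he
      have : 1 < Nat.card (Subgroup.center P) := Finite.one_lt_card
      omega
    have htdvd : t ∣ Nat.card (Subgroup.center P) := by
      rw [he]; exact dvd_pow_self t he0
    obtain ⟨z0, hz0⟩ := exists_prime_orderOf_dvd_card' t htdvd
    have hz0o : orderOf (z0 : P) = t := by rw [Subgroup.orderOf_coe, hz0]
    have hz0Om : (z0 : P) ∈ Om P t := ⟨z0.2, by rw [← hz0o]; exact pow_orderOf_eq_one _⟩
    have hz01 : (z0 : P) ≠ 1 := by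
      intro h
      rw [h, orderOf_one] at hz0o
      exact ht.one_lt.ne hz0o
    have hsurj : Function.Surjective φ := by
      intro y
      refine ⟨φ^[t' - 1] y, ?_⟩
      rw [← Function.iterate_succ_apply' (⇑φ) (t' - 1) y, Nat.succ_eq_add_one,
        Nat.sub_add_cancel ht'.pos, hφ]
    have hOm : ∀ z ∈ Om P t, φ z ∈ Om P t := by
      rintro z ⟨hzc, hzt⟩
      refine ⟨?_, by rw [← map_pow, hzt, map_one]⟩
      rw [Subgroup.mem_center_iff]
      intro y
      obtain ⟨y', rfl⟩ := hsurj y
      rw [← map_mul, ← map_mul, Subgroup.mem_center_iff.1 hzc y']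
    let f : ↥(Om P t) →* ↥(Om P t) :=
      (φ.comp (Om P t).subtype).codRestrict (Om P t) (fun z => hOm z z.2)
    have hfit : ∀ (i : ℕ) (z : ↥(Om P t)), ((f^[i] z : ↥(Om P t)) : P) = φ^[i] (z : P) := by
      intro i
      induction i with
      | zero => intro z; rfl
      | succ i ih' =>
        intro z
        rw [Function.iterate_succ_apply', Function.iterate_succ_apply', ← ih']
        rfl
    obtain ⟨g, k, hg1, hfg, hk⟩ := eigen_mul ht' hdvd (A := ↥(Om P t))
      (fun x => Subtype.ext x.2.2) f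
      (fun x => Subtype.ext (by rw [hfit, hφ]))
      (fun x hx => by
        have h1 : φ (x : P) = (x : P) := congrArg Subtype.val hx
        by_contra hx1
        exact hA (x : P) x.2.1 (fun h => hx1 (Subtype.ext h)) x.2.2 h1)
      ⟨(z0 : P), hz0Om⟩ (fun h => hz01 (congrArg Subtype.val h))
    refine ⟨(g : P), k, fun h => hg1 (Subtype.ext h), g.2.2, ?_, hk⟩
    have h1 : ((f g : ↥(Om P t)) : P) = ((g ^ k : ↥(Om P t)) : P) := congrArg Subtype.val hfg
    exact h1

/-- PIECE LCYC. -/
theorem lcyc : Cfsg.Agent.H27.S3814C1.LCycStmt.{u} := by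
  intro G _ _ P t t' ht ht' hdvd hP α hα hn hnc
  have : Fact t.Prime := ⟨ht⟩
  let φ : ↥P →* ↥P :=
    { toFun := fun x => ⟨α * x * α⁻¹, hn x x.2⟩
      map_one' := by
        apply Subtype.ext
        show α * ((1 : ↥P) : G) * α⁻¹ = ((1 : ↥P) : G)
        rw [Subgroup.coe_one, mul_one, mul_inv_cancel]
      map_mul' := by
        intro x y
        apply Subtype.ext
        show α * ((x * y : ↥P) : G) * α⁻¹ = (α * (x : G) * α⁻¹) * (α * (y : G) * α⁻¹)
        rw [Subgroup.coe_mul]
        group }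
  have hφval : ∀ x : ↥P, ((φ x : ↥P) : G) = α * (x : G) * α⁻¹ := fun x => rfl
  have hφit : ∀ (i : ℕ) (x : ↥P), ((φ^[i] x : ↥P) : G) = α ^ i * (x : G) * (α ^ i)⁻¹ := by
    intro i
    induction i with
    | zero => intro x; simp
    | succ i ih =>
      intro x
      rw [Function.iterate_succ_apply', hφval, ih, pow_succ']
      group
  have hφt : ∀ x : ↥P, φ^[t'] x = x := by
    intro x
    apply Subtype.ext
    rw [hφit, ← hα, pow_orderOf_eq_one, one_mul, inv_one, mul_one]
  have hφne : ∃ x : ↥P, φ x ≠ x := by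
    obtain ⟨a, ha, hne⟩ := hnc
    refine ⟨⟨a, ha⟩, ?_⟩
    intro h
    apply hne
    have h1 : α * a * α⁻¹ = a := congrArg Subtype.val h
    calc α * a = α * a * α⁻¹ * α := by group
      _ = a * α := by rw [h1]
  obtain ⟨g, k, hg1, hgt, hφg, hk⟩ := ind ht' hdvd (Nat.card ↥P) ↥P rfl hP φ hφt hφne
  have hgk : α * (g : G) * α⁻¹ = (g : G) ^ k := by
    have h1 : ((φ g : ↥P) : G) = ((g ^ k : ↥P) : G) := congrArg Subtype.val hφg
    rw [hφval, Subgroup.coe_pow] at h1
    exact h1
  have hg1' : (g : G) ≠ 1 := fun h => hg1 (Subtype.ext h)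
  have hgt' : (g : G) ^ t = 1 := by
    have h1 : ((g ^ t : ↥P) : G) = ((1 : ↥P) : G) := congrArg Subtype.val hgt
    rw [Subgroup.coe_pow, Subgroup.coe_one] at h1
    exact h1
  refine ⟨(g : G), g.2, ?_, ?_⟩
  · rw [hgk]
    exact Subgroup.pow_mem _ (Subgroup.mem_zpowers _) k
  · intro hcomm
    apply hk
    have h1 : (g : G) ^ k = (g : G) ^ 1 := by
      rw [pow_one, ← hgk, hcomm, mul_inv_cancel_right]
    rw [pow_eq_pow_iff_modEq] at h1
    have ho : orderOf (g : G) = t := by
      rcases (Nat.dvd_prime ht).1 (orderOf_dvd_of_pow_eq_one hgt') with h | h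
      · exact absurd (orderOf_eq_one_iff.1 h) hg1'
      · exact h
    rw [ho] at h1
    have h2 := (ZMod.natCast_eq_natCast_iff k 1 t).2 h1
    rw [h2, Nat.cast_one]

example : Cfsg.Agent.H27.S3814C1.LCycStmt.{0} := lcyc

end Cfsg.Agent.Lib.H4.S3814C1LCyc
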