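import Mathlib
import Cfsg.Agent.Lib.H12.Lucido

/-!
Pre-built brick for S3814 (shape independent): step (F2) of the frame,
"every Sylow subgroup contains `C_t x C_t`", in element form.
-/

set_option autoImplicit false

namespace Cfsg.Agent.Lib.H4.S3814F2

universe u

open scoped Pointwise

/-- the order of a conjugate -/
theorem orderOf_conj' {G : Type u} [Group G] (k x : G) : orderOf (k * x * k⁻¹) = orderOf x := by
  have h : SemiconjBy k x (k * x * k⁻¹) := by
    unfold SemiconjBy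
    group
  exact (h.orderOf_eq k).symm

/-- the two parts of an element of order `t * d` -/
theorem parts {G : Type u} [Group G] {t d : ℕ} (ht : t.Prime) (hd : d.Prime)
    (g : G) (hg : orderOf g = t * d) :
    orderOf (g ^ d) = t ∧ orderOf (g ^ t) = d ∧ Commute (g ^ d) (g ^ t) := by
  refine ⟨?_, ?_, (Commute.refl g).pow_pow d t⟩
  · rw [orderOf_pow_of_dvd hd.ne_zero (by rw [hg]; exact dvd_mul_left d t), hg]
    exact Nat.mul_div_cancel t hd.pos
  · rw [orderOf_pow_of_dvd ht.ne_zero (by rw [hg]; exact dvd_mul_right t d), hg]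
    exact Nat.mul_div_cancel_left d ht.pos

/-- if commuting elements of order `t` always generate the same subgroup, then the prime `d` of
an element of order `t * d` divides the order of the centraliser of a central element of order `t`
of a Sylow `t`-subgroup -/
theorem dvd_centralizer {G : Type u} [Group G] [Finite G] {t d : ℕ} (ht : t.Prime)
    (hd : d.Prime)
    (hno : ∀ x y : G, orderOf x = t → orderOf y = t → Commute x y → y ∈ Subgroup.zpowers x)
    [Fact t.Prime] (P : Sylow t G) (z : G) (hzP : ∀ w ∈ P, Commute z w) (hz : orderOf z = t)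
    (g : G) (hg : orderOf g = t * d) :
    d ∣ Nat.card (Subgroup.centralizer ({z} : Set G)) := by
  obtain ⟨hx, hy, hxy⟩ := parts ht hd g hg
  set x := g ^ d with hxdef
  set y := g ^ t with hydef
  have hpg : IsPGroup t (Subgroup.zpowers x) := by
    apply IsPGroup.of_card (n := 1)
    rw [Nat.card_zpowers, hx, pow_one]
  obtain ⟨Q, hQ⟩ := hpg.exists_le_sylow
  obtain ⟨k, hk⟩ := MulAction.exists_smul_eq G Q P
  have hxQ : x ∈ (Q : Subgroup G) := hQ (Subgroup.mem_zpowers x)
  have hx'P : k * x * k⁻¹ ∈ (P : Subgroup G) := by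
    have h1 : MulAut.conj k • x ∈ MulAut.conj k • (Q : Subgroup G) :=
      Subgroup.smul_mem_pointwise_smul x (MulAut.conj k) (Q : Subgroup G) hxQ
    rw [← Sylow.coe_subgroup_smul, hk, MulAut.smul_def, MulAut.conj_apply] at h1
    exact h1
  have hx'ord : orderOf (k * x * k⁻¹) = t := by rw [orderOf_conj', hx]
  have hcomm : Commute z (k * x * k⁻¹) := hzP _ hx'P
  have hzmem : z ∈ Subgroup.zpowers (k * x * k⁻¹) := hno _ _ hx'ord hz hcomm.symm
  obtain ⟨j, hj⟩ := Subgroup.mem_zpowers_iff.mp hzmem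
  have hy'ord : orderOf (k * y * k⁻¹) = d := by rw [orderOf_conj', hy]
  have hxy' : Commute (k * x * k⁻¹) (k * y * k⁻¹) := by
    have h := hxy.eq
    unfold Commute SemiconjBy
    calc k * x * k⁻¹ * (k * y * k⁻¹) = k * (x * y) * k⁻¹ := by group
      _ = k * (y * x) * k⁻¹ := by rw [h]
      _ = k * y * k⁻¹ * (k * x * k⁻¹) := by group
  have hy'z : Commute (k * y * k⁻¹) z := by
    rw [← hj]
    exact (hxy'.symm).zpow_right j
  have hmem : k * y * k⁻¹ ∈ Subgroup.centralizer ({z} : Set G) := by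
    rw [Subgroup.mem_centralizer_singleton_iff]
    exact hy'z.eq
  have := Subgroup.orderOf_dvd_natCard (Subgroup.centralizer ({z} : Set G)) hmem
  rwa [hy'ord] at this

/-- (F2), core form. -/
theorem f2_core {G : Type u} [Group G] [Finite G] [Group.IsSolvable G] {t a b c : ℕ}
    (ht : t.Prime) (ha : a.Prime) (hb : b.Prime) (hc : c.Prime)
    (hta : t ≠ a) (htb : t ≠ b) (htc : t ≠ c) (hab : a ≠ b) (hac : a ≠ c) (hbc : b ≠ c)
    (ga gb gc : G) (hga : orderOf ga = t * a) (hgb : orderOf gb = t * b)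
    (hgc : orderOf gc = t * c)
    (hN : ∀ g : G, orderOf g ≠ t * (a * b) ∧ orderOf g ≠ t * (a * c) ∧ orderOf g ≠ t * (b * c)) :
    ∃ x y : G, orderOf x = t ∧ orderOf y = t ∧ Commute x y ∧ y ∉ Subgroup.zpowers x := by
  by_contra hcon
  have hno : ∀ x y : G, orderOf x = t → orderOf y = t → Commute x y →
      y ∈ Subgroup.zpowers x := by
    intro x y hx hy hxy
    by_contra hny
    exact hcon ⟨x, y, hx, hy, hxy, hny⟩
  have : Fact t.Prime := ⟨ht⟩
  -- a Sylow subgroup containing the `t`-part of `ga`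
  obtain ⟨hx, -, -⟩ := parts ht ha ga hga
  have hpg : IsPGroup t (Subgroup.zpowers (ga ^ a)) := by
    apply IsPGroup.of_card (n := 1)
    rw [Nat.card_zpowers, hx, pow_one]
  obtain ⟨P, hP⟩ := hpg.exists_le_sylow
  have hxP : ga ^ a ∈ (P : Subgroup G) := hP (Subgroup.mem_zpowers _)
  have : Nontrivial (P : Subgroup G) := by
    refine ⟨⟨⟨ga ^ a, hxP⟩, 1, ?_⟩⟩
    intro h
    have h1 : ga ^ a = 1 := congrArg Subtype.val h
    rw [h1, orderOf_one] at hx
    exact ht.one_lt.ne hx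
  have : Nontrivial (Subgroup.center (P : Subgroup G)) := P.2.center_nontrivial
  have hcpg : IsPGroup t (Subgroup.center (P : Subgroup G)) := P.2.to_subgroup _
  obtain ⟨n, hn⟩ := hcpg.exists_card_eq
  have hn0 : n ≠ 0 := by
    rintro rfl
    rw [pow_zero] at hn
    have : 1 < Nat.card (Subgroup.center (P : Subgroup G)) := Finite.one_lt_card
    omega
  have htdvd : t ∣ Nat.card (Subgroup.center (P : Subgroup G)) := by
    rw [hn]; exact dvd_pow_self t hn0
  obtain ⟨z0, hz0⟩ := exists_prime_orderOf_dvd_card' t htdvd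
  set z : G := ((z0 : (P : Subgroup G)) : G) with hzdef
  have hz : orderOf z = t := by
    rw [hzdef, Subgroup.orderOf_coe, Subgroup.orderOf_coe, hz0]
  have hzP : ∀ w ∈ P, Commute z w := by
    intro w hw
    have h1 := Subgroup.mem_center_iff.mp z0.2 ⟨w, hw⟩
    have h2 : w * z = z * w := congrArg Subtype.val h1
    exact h2.symm
  have hda := dvd_centralizer ht ha hno P z hzP hz ga hga
  have hdb := dvd_centralizer ht hb hno P z hzP hz gb hgb
  have hdc := dvd_centralizer ht hc hno P z hzP hz gc hgc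
  obtain ⟨g, hg⟩ := Cfsg.Agent.Lib.H12.Lucido.centralizer_three_primes ht ha hb hc hta htb htc
    hab hac hbc z hz hda hdb hdc
  obtain ⟨h1, h2, h3⟩ := hN g
  rcases hg with hg | hg | hg
  · exact h1 hg
  · exact h2 hg
  · exact h3 hg

/-- (F2) with the frozen hypotheses of S3814. -/
theorem f2 {G : Type u} [Group G] [Finite G] [Group.IsSolvable G]
    (σ : Finset ℕ) (hσ : 4 ≤ σ.card) (hprime : ∀ p ∈ σ, p.Prime)
    (h2 : ∀ p ∈ σ, ∀ q ∈ σ, p ≠ q → ∃ g : G, orderOf g = p * q)
    (h3 : ∀ p ∈ σ, ∀ q ∈ σ, ∀ r ∈ σ, p ≠ q → q ≠ r → p ≠ r → ∀ g : G, orderOf g ≠ p * q * r) :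
    ∀ t ∈ σ, ∃ x y : G, orderOf x = t ∧ orderOf y = t ∧ Commute x y ∧
      y ∉ Subgroup.zpowers x := by
  intro t ht
  have hcard : 2 < (σ.erase t).card := by
    rw [Finset.card_erase_of_mem ht]
    omega
  obtain ⟨a, ha, b, hb, c, hc, hab, hac, hbc⟩ := Finset.two_lt_card.mp hcard
  obtain ⟨hat, haσ⟩ := Finset.mem_erase.mp ha
  obtain ⟨hbt, hbσ⟩ := Finset.mem_erase.mp hb
  obtain ⟨hct, hcσ⟩ := Finset.mem_erase.mp hc
  obtain ⟨ga, hga⟩ := h2 t ht a haσ (Ne.symm hat)
  obtain ⟨gb, hgb⟩ := h2 t ht b hbσ (Ne.symm hbt)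
  obtain ⟨gc, hgc⟩ := h2 t ht c hcσ (Ne.symm hct)
  refine f2_core (hprime t ht) (hprime a haσ) (hprime b hbσ) (hprime c hcσ) (Ne.symm hat)
    (Ne.symm hbt) (Ne.symm hct) hab hac hbc ga gb gc hga hgb hgc ?_
  intro g
  refine ⟨?_, ?_, ?_⟩
  · rw [← mul_assoc]
    exact h3 t ht a haσ b hbσ (Ne.symm hat) hab (Ne.symm hbt) g
  · rw [← mul_assoc]
    exact h3 t ht a haσ c hcσ (Ne.symm hat) hac (Ne.symm hct) g
  · rw [← mul_assoc]
    exact h3 t ht b hbσ c hcσ (Ne.symm hbt) hbc (Ne.symm hct) g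

end Cfsg.Agent.Lib.H4.S3814F2
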