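import Mathlib
import Cfsg.Agent.Lib.H6.FrobActG
import Cfsg.Agent.Lib.H8.S3814MPDefs

/-!
S3814, block (MP), piece (5) K3a: every `y ≠ 1` of `T = ⟨c,d⟩` centralises some `e ≠ 1` of
`A = ⟨a,b⟩`.
-/

set_option autoImplicit false

namespace Cfsg.Agent.Lib.H4.S3814MPK3a

universe u

open Cfsg.Agent.H7.S3814Defs Cfsg.Agent.Lib.H8.S3814MP

/-- elements of the closure of two commuting elements killed by `t` -/
theorem closure_pair_mem {G : Type u} [Group G] {t : ℕ} (ht : 0 < t) (a b : G)
    (ha : a ^ t = 1) (hb : b ^ t = 1) (hab : a * b = b * a) :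
    ∀ x ∈ Subgroup.closure ({a, b} : Set G), ∃ i k : ℕ, x = a ^ i * b ^ k := by
  have hc : Commute a b := hab
  intro x hx
  induction hx using Subgroup.closure_induction with
  | mem x hx =>
    rcases hx with rfl | hx
    · exact ⟨1, 0, by simp⟩
    · rw [Set.mem_singleton_iff] at hx
      subst hx
      exact ⟨0, 1, by simp⟩
  | one => exact ⟨0, 0, by simp⟩
  | mul x y _ _ hx hy =>
    obtain ⟨i, k, rfl⟩ := hx
    obtain ⟨i', k', rfl⟩ := hy
    refine ⟨i + i', k + k', ?_⟩
    have h1 : Commute (b ^ k) (a ^ i') := (hc.symm.pow_pow k i')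
    calc a ^ i * b ^ k * (a ^ i' * b ^ k') = a ^ i * (b ^ k * a ^ i') * b ^ k' := by
          simp only [mul_assoc]
      _ = a ^ i * (a ^ i' * b ^ k) * b ^ k' := by rw [h1.eq]
      _ = a ^ (i + i') * b ^ (k + k') := by rw [pow_add, pow_add]; simp only [mul_assoc]
  | inv x _ hx =>
    obtain ⟨i, k, rfl⟩ := hx
    refine ⟨(t - 1) * i, (t - 1) * k, ?_⟩
    have hai : (a ^ i)⁻¹ = a ^ ((t - 1) * i) := by
      rw [inv_eq_iff_mul_eq_one, ← pow_add,
        show i + (t - 1) * i = (t - 1 + 1) * i by ring, Nat.sub_add_cancel ht,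
        pow_mul, ha, one_pow]
    have hbk : (b ^ k)⁻¹ = b ^ ((t - 1) * k) := by
      rw [inv_eq_iff_mul_eq_one, ← pow_add,
        show k + (t - 1) * k = (t - 1 + 1) * k by ring, Nat.sub_add_cancel ht,
        pow_mul, hb, one_pow]
    have h1 : Commute (a ^ i) (b ^ k) := hc.pow_pow i k
    rw [mul_inv_rev, ← hai, ← hbk]
    exact (h1.inv_inv).eq.symm

theorem closure_pair_pow {G : Type u} [Group G] {t : ℕ} (ht : 0 < t) (a b : G)
    (ha : a ^ t = 1) (hb : b ^ t = 1) (hab : a * b = b * a) :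
    ∀ x ∈ Subgroup.closure ({a, b} : Set G), x ^ t = 1 := by
  intro x hx
  obtain ⟨i, k, rfl⟩ := closure_pair_mem ht a b ha hb hab x hx
  have hc : Commute a b := hab
  rw [(hc.pow_pow i k).mul_pow, ← pow_mul, ← pow_mul, mul_comm i, mul_comm k, pow_mul,
    pow_mul, ha, hb, one_pow, one_pow, one_mul]

/-- iterated conjugation -/
theorem pow_conj_mem' {G : Type u} [Group G] (A : Subgroup G) (h : G)
    (hn : ∀ v ∈ A, h * v * h⁻¹ ∈ A) (i : ℕ) : ∀ v ∈ A, h ^ i * v * (h ^ i)⁻¹ ∈ A := by
  induction i with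
  | zero => intro v hv; simpa using hv
  | succ i ih =>
    intro v hv
    have : h ^ (i + 1) * v * (h ^ (i + 1))⁻¹ = h * (h ^ i * v * (h ^ i)⁻¹) * h⁻¹ := by
      rw [pow_succ']; group
    rw [this]
    exact hn _ (ih v hv)

/-- an element conjugating the two generators into the closure normalises the closure -/
theorem conj_closure_pair {G : Type u} [Group G] (a b c : G)
    (hca : c * a * c⁻¹ ∈ Subgroup.closure ({a, b} : Set G))
    (hcb : c * b * c⁻¹ ∈ Subgroup.closure ({a, b} : Set G)) :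
    ∀ x ∈ Subgroup.closure ({a, b} : Set G), c * x * c⁻¹ ∈ Subgroup.closure ({a, b} : Set G) := by
  intro x hx
  induction hx using Subgroup.closure_induction with
  | mem x hx =>
    rcases hx with rfl | hx
    · exact hca
    · rw [Set.mem_singleton_iff] at hx
      subst hx
      exact hcb
  | one => simp
  | mul x y _ _ hx hy =>
    have : c * (x * y) * c⁻¹ = (c * x * c⁻¹) * (c * y * c⁻¹) := by group
    rw [this]
    exact Subgroup.mul_mem _ hx hy
  | inv x _ hx =>
    have : c * x⁻¹ * c⁻¹ = (c * x * c⁻¹)⁻¹ := by group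
    rw [this]
    exact Subgroup.inv_mem _ hx

/-- one colour -/
theorem col_of (hN : NcfProp.{u}) {G : Type u} [Group G] [Finite G] {r s : ℕ}
    {V W X : Subgroup G} (h : Hyp r s V W X) {a b c d : G} (ctx : K3Ctx r s X a b c d)
    (y : G) (hy : y ∈ Subgroup.closure ({c, d} : Set G)) (hy1 : y ≠ 1)
    (hcon : ∀ e ∈ Subgroup.closure ({a, b} : Set G), e ≠ 1 → y * e ≠ e * y) : Col y V := by
  have hs := h.hs
  have hr := h.hr
  obtain ⟨hco, hdo, hcd, -⟩ := ctx.pcd
  obtain ⟨hao, hbo, hab, -⟩ := ctx.pab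
  have hcs : c ^ s = 1 := by rw [← hco]; exact pow_orderOf_eq_one c
  have hds : d ^ s = 1 := by rw [← hdo]; exact pow_orderOf_eq_one d
  -- order of y
  have hys : y ^ s = 1 := closure_pair_pow hs.pos c d hcs hds hcd y hy
  have hyo : orderOf y = s := by
    rcases (Nat.dvd_prime hs).1 (orderOf_dvd_of_pow_eq_one hys) with h1 | h1
    · exact absurd (orderOf_eq_one_iff.1 h1) hy1
    · exact h1
  -- memberships
  have hTX : Subgroup.closure ({c, d} : Set G) ≤ X := by
    rw [Subgroup.closure_le]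
    intro x hx
    rcases hx with rfl | hx
    · exact ctx.hc
    · rw [Set.mem_singleton_iff] at hx
      subst hx
      exact ctx.hd
  have hAX : Subgroup.closure ({a, b} : Set G) ≤ X := by
    rw [Subgroup.closure_le]
    intro x hx
    rcases hx with rfl | hx
    · exact ctx.ha
    · rw [Set.mem_singleton_iff] at hx
      subst hx
      exact ctx.hb
  have hyX : y ∈ X := hTX hy
  -- y normalises A
  have hyA : ∀ k ∈ Subgroup.closure ({a, b} : Set G),
      y * k * y⁻¹ ∈ Subgroup.closure ({a, b} : Set G) := by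
    obtain ⟨i, k, rfl⟩ := closure_pair_mem hs.pos c d hcs hds hcd y hy
    intro x hx
    have h1 := pow_conj_mem' _ d (conj_closure_pair a b d ctx.nda ctx.ndb) k x hx
    have h2 := pow_conj_mem' _ c (conj_closure_pair a b c ctx.nca ctx.ncb) i _ h1
    have : c ^ i * d ^ k * x * (c ^ i * d ^ k)⁻¹ = c ^ i * (d ^ k * x * (d ^ k)⁻¹) * (c ^ i)⁻¹ := by
      group
    rw [this]
    exact h2
  -- X normalises V
  have hXV : ∀ g ∈ X, ∀ v ∈ V, g * v * g⁻¹ ∈ V := by
    intro g hg v hv
    exact (Subgroup.mem_normalizer_iff.1 (h.normV hg) v).1 hv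
  have hfpf : ∀ k ∈ Subgroup.closure ({a, b} : Set G), y * k * y⁻¹ = k → k = 1 := by
    intro k hk hyk
    by_contra hk1
    apply hcon k hk hk1
    calc y * k = y * k * y⁻¹ * y := by group
      _ = k * y := by rw [hyk]
  have hcop : ∀ v ∈ V, v ^ Nat.card (Subgroup.closure ({a, b} : Set G)) = 1 → v = 1 := by
    intro v hv hvp
    have h1 : orderOf v ∣ Nat.card (Subgroup.closure ({a, b} : Set G)) :=
      orderOf_dvd_of_pow_eq_one hvp
    have h2 : orderOf v ∣ Nat.card V := Subgroup.orderOf_dvd_natCard V hv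
    have h3 : Nat.card (Subgroup.closure ({a, b} : Set G)) ∣ Nat.card X :=
      Subgroup.card_dvd_of_le hAX
    have h4 : orderOf v ∣ Nat.gcd (Nat.card V) (Nat.card X) :=
      Nat.dvd_gcd h2 (dvd_trans h1 h3)
    rw [h.copV] at h4
    exact orderOf_eq_one_iff.1 (Nat.dvd_one.1 h4)
  have hnt : ∃ k ∈ Subgroup.closure ({a, b} : Set G), ∃ v ∈ V, k * v * k⁻¹ ≠ v := by
    by_contra hno
    simp only [not_exists, not_and, not_not] at hno
    obtain ⟨v, hv1⟩ := (Subgroup.ne_bot_iff_exists_ne_one.1 h.neV)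
    have hvV' : (v : G) ∈ V := v.2
    have hv1' : (v : G) ≠ 1 := fun hh => hv1 (Subtype.ext hh)
    have haA : a ∈ Subgroup.closure ({a, b} : Set G) := Subgroup.subset_closure (by simp)
    have hbA : b ∈ Subgroup.closure ({a, b} : Set G) := Subgroup.subset_closure (by simp)
    have h1 := hno a haA v hvV'
    have h2 := hno b hbA v hvV'
    apply hv1'
    refine hN h hr ctx.ha ctx.hb ctx.pab v hvV' ?_ ?_
    · calc a * v = a * v * a⁻¹ * a := by group
        _ = v * a := by rw [h1]
    · calc b * v = b * v * b⁻¹ * b := by group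
        _ = v * b := by rw [h2]
  obtain ⟨v, hv, hv1, hvf⟩ := Cfsg.Agent.Lib.H6.FrobActG.t1_group_fix
    (Subgroup.closure ({a, b} : Set G)) V y hs hyo hyA (hXV y hyX)
    (fun k hk v hv => hXV k (hAX hk) v hv) h.commV hfpf hcop hnt
  refine ⟨v, hv, hv1, ?_⟩
  calc y * v = y * v * y⁻¹ * y := by group
    _ = v * y := by rw [hvf]

theorem k3a : K3aStmt.{u} := by
  intro hN G _ _ r s V W X h a b c d ctx y hy hy1
  by_contra hcon
  simp only [not_exists, not_and] at hcon
  have hTX : Subgroup.closure ({c, d} : Set G) ≤ X := by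
    rw [Subgroup.closure_le]
    intro x hx
    rcases hx with rfl | hx
    · exact ctx.hc
    · rw [Set.mem_singleton_iff] at hx
      subst hx
      exact ctx.hd
  have hV : Col y V := col_of hN h ctx y hy hy1 hcon
  have hW : Col y W := col_of hN h.swapVW ctx y hy hy1 hcon
  exact h.h1 y (hTX hy) hy1 hV hW

example : K3aStmt.{0} := k3a

end Cfsg.Agent.Lib.H4.S3814MPK3a
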