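import Mathlib
import Cfsg.Agent.Lib.H8.S3814MPDefs

/-!
S3814, block (MP), piece (11) UNIQ: a normal `r`-subgroup `D` of `X` has at most one subgroup of
order `r`, and it is neutral.
-/

set_option autoImplicit false

namespace Cfsg.Agent.Lib.H4.S3814MPUniq

universe u

open Cfsg.Agent.H7.S3814Defs Cfsg.Agent.Lib.H8.S3814MP

/-- the subgroup of the central elements of `D` killed by `r` -/
def omegaZ {G : Type u} [Group G] (D : Subgroup G) (r : ℕ) : Subgroup G where
  carrier := {z | z ∈ D ∧ (∀ d ∈ D, d * z = z * d) ∧ z ^ r = 1}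
  one_mem' := ⟨D.one_mem, fun d _ => by rw [mul_one, one_mul], one_pow r⟩
  mul_mem' := by
    rintro a b ⟨haD, hac, har⟩ ⟨hbD, hbc, hbr⟩
    refine ⟨D.mul_mem haD hbD, ?_, ?_⟩
    · intro d hd
      rw [← mul_assoc, hac d hd, mul_assoc, hbc d hd, mul_assoc]
    · have hcomm : Commute a b := hbc a haD
      rw [hcomm.mul_pow, har, hbr, one_mul]
  inv_mem' := by
    rintro a ⟨haD, hac, har⟩
    refine ⟨D.inv_mem haD, ?_, ?_⟩
    · intro d hd
      have h := hac d hd
      have h' : Commute d a := h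
      exact h'.inv_right.eq
    · rw [inv_pow, har, inv_one]

theorem mem_omegaZ {G : Type u} [Group G] (D : Subgroup G) (r : ℕ) (z : G) :
    z ∈ omegaZ D r ↔ z ∈ D ∧ (∀ d ∈ D, d * z = z * d) ∧ z ^ r = 1 := Iff.rfl

theorem uniq : UniqStmt.{u} := by
  intro hK4 hQ G _ _ r s V W X h D hDX hDn hDp x hxD hxo
  have hr := h.hr
  have : Fact r.Prime := ⟨hr⟩
  -- the subgroup A
  have hAX : omegaZ D r ≤ X := fun z hz => hDX hz.1
  have hAn : ∀ y ∈ X, ∀ a ∈ omegaZ D r, y * a * y⁻¹ ∈ omegaZ D r := by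
    rintro y hy a ⟨haD, hac, har⟩
    refine ⟨hDn y hy a haD, ?_, ?_⟩
    · intro d hd
      have hyinv : y⁻¹ ∈ X := X.inv_mem hy
      have hd' : y⁻¹ * d * y ∈ D := by
        have := hDn y⁻¹ hyinv d hd
        simpa using this
      have hc := hac _ hd'
      calc d * (y * a * y⁻¹) = y * ((y⁻¹ * d * y) * a) * y⁻¹ := by group
        _ = y * (a * (y⁻¹ * d * y)) * y⁻¹ := by rw [hc]
        _ = y * a * y⁻¹ * d := by group
    · rw [conj_pow, har, mul_one, mul_inv_cancel]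
  have hAc : ∀ a ∈ omegaZ D r, ∀ b ∈ omegaZ D r, a * b = b * a := by
    rintro a ⟨haD, _, _⟩ b ⟨_, hbc, _⟩
    exact hbc a haD
  have hAe : ∀ a ∈ omegaZ D r, a ^ r = 1 := fun a ha => ha.2.2
  obtain ⟨hrank, hneut⟩ := hK4 h (omegaZ D r) hAX hAn hAc hAe
  -- a central element of order r
  have hx1 : x ≠ 1 := by
    intro h1
    rw [h1, orderOf_one] at hxo
    exact hr.one_lt.ne hxo
  have : Nontrivial ↥D := ⟨⟨⟨x, hxD⟩, 1, fun hh => hx1 (congrArg Subtype.val hh)⟩⟩
  have : Nontrivial (Subgroup.center ↥D) := hDp.center_nontrivial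
  have hcpg : IsPGroup r (Subgroup.center ↥D) := hDp.to_subgroup _
  obtain ⟨n, hn⟩ := hcpg.exists_card_eq
  have hn0 : n ≠ 0 := by
    rintro rfl
    rw [pow_zero] at hn
    have : 1 < Nat.card (Subgroup.center ↥D) := Finite.one_lt_card
    omega
  have hrdvd : r ∣ Nat.card (Subgroup.center ↥D) := by
    rw [hn]; exact dvd_pow_self r hn0
  obtain ⟨z0, hz0⟩ := exists_prime_orderOf_dvd_card' r hrdvd
  set z : G := ((z0 : ↥D) : G) with hzdef
  have hzo : orderOf z = r := by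
    rw [hzdef, Subgroup.orderOf_coe, Subgroup.orderOf_coe, hz0]
  have hzD : z ∈ D := (z0 : ↥D).2
  have hzc : ∀ d ∈ D, d * z = z * d := by
    intro d hd
    have h1 := Subgroup.mem_center_iff.mp z0.2 ⟨d, hd⟩
    exact congrArg Subtype.val h1
  have hz1 : z ≠ 1 := by
    intro h1
    rw [h1, orderOf_one] at hzo
    exact hr.one_lt.ne hzo
  have hzA : z ∈ omegaZ D r := ⟨hzD, hzc, by rw [← hzo]; exact pow_orderOf_eq_one z⟩
  obtain ⟨hzV, hzW⟩ := hneut z hzA hz1
  -- (Q): every element of order r of D is central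
  have hcentral : ∀ y ∈ D, orderOf y = r → y ∈ omegaZ D r := by
    intro y hyD hyo
    refine ⟨hyD, hQ h D hDX hDp z hzD hzo hzc hzV hzW y hyD hyo, ?_⟩
    rw [← hyo]; exact pow_orderOf_eq_one y
  have hxA := hcentral x hxD hxo
  refine ⟨?_, hneut x hxA hx1⟩
  intro y hyD hyo
  exact hrank x hxA y (hcentral y hyD hyo) hx1

example : UniqStmt.{0} := uniq

end Cfsg.Agent.Lib.H4.S3814MPUniq
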