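import Cfsg.Agent.Lib.H22.S3901Defs
import Cfsg.Agent.Lib.H6.FrobActG

/-!
# S3901, piece (1): the local lemma (helper4, twin)

`ll : LLStmt`.  `P` a Sylow `p`-subgroup of `T` through a `p`-element `x0 ∈ M \ L`, Frattini and
Cauchy give `y ∈ N_T(P)` of order `q`; a coprime fixed point on the coset `x0 (P ⊓ L)` shows
`y ∉ L`; then `y` is fixed-point-free on `P` and on `V`, the landed T1 brick makes `P` centralise
`V`, and `x0 v` has an order divisible by `p` and `r`.
-/

set_option autoImplicit false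

namespace Cfsg.Agent.Lib.H4.S3901LL

open Cfsg.Agent.Lib.H22.S3901Defs

universe u

theorem not_isPrimePow_mul {a b : ℕ} (hab : Nat.Coprime a b) (ha : a ≠ 1) (hb : b ≠ 1)
    (ha0 : 0 < a) (hb0 : 0 < b) : ¬ IsPrimePow (a * b) := by
  intro h
  rcases (hab.isPrimePow_dvd_mul h).mp dvd_rfl with h1 | h1
  · have h2 : a * b ∣ a * 1 := by simpa using h1
    exact hb (Nat.dvd_one.mp ((Nat.mul_dvd_mul_iff_left ha0).mp h2))
  · have h2 : a * b ∣ 1 * b := by simpa using h1
    exact ha (Nat.dvd_one.mp ((Nat.mul_dvd_mul_iff_right hb0).mp h2))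

/-- FACT 0: two commuting nontrivial elements of coprime prime-power orders whose product lies
outside `L` contradict the hypothesis. -/
theorem bad {T : Type*} [Group T] (L : Subgroup T)
    (hpp : ∀ x : T, x ∉ L → IsPrimePow (orderOf x))
    (a b : T) (hab : a * b = b * a) {s t : ℕ} (hs : s.Prime) (ht : t.Prime) (hst : s ≠ t)
    {i j : ℕ} (ha : a ^ (s ^ i) = 1) (hb : b ^ (t ^ j) = 1) (ha1 : a ≠ 1) (hb1 : b ≠ 1)
    (hn : a * b ∉ L) : False := by
  have hda : orderOf a ∣ s ^ i := orderOf_dvd_of_pow_eq_one ha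
  have hdb : orderOf b ∣ t ^ j := orderOf_dvd_of_pow_eq_one hb
  have hc0 : Nat.Coprime (s ^ i) (t ^ j) :=
    Nat.Coprime.pow _ _ ((Nat.coprime_primes hs ht).mpr hst)
  have hc : Nat.Coprime (orderOf a) (orderOf b) :=
    Nat.Coprime.coprime_dvd_left hda (Nat.Coprime.coprime_dvd_right hdb hc0)
  have hmul : orderOf (a * b) = orderOf a * orderOf b :=
    Commute.orderOf_mul_eq_mul_orderOf_of_coprime (show Commute a b from hab) hc
  have hpa : 0 < orderOf a := Nat.pos_of_dvd_of_pos hda (pow_pos hs.pos _)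
  have hpb : 0 < orderOf b := Nat.pos_of_dvd_of_pos hdb (pow_pos ht.pos _)
  have h1 := hpp _ hn
  rw [hmul] at h1
  exact not_isPrimePow_mul hc (fun h => ha1 (orderOf_eq_one_iff.mp h))
    (fun h => hb1 (orderOf_eq_one_iff.mp h)) hpa hpb h1

/-- coprime fixed point on a coset: `y` of prime order `q ≠ p`, lying in the normal subgroup `L`
and normalising the `p`-group `P`; some element of the coset `x0 (P ⊓ L)` commutes with `y`. -/
theorem exists_fixed {T : Type*} [Group T] [Finite T] (L P : Subgroup T) [L.Normal] {p q : ℕ}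
    (hp : p.Prime) (hq : q.Prime) (hpq : p ≠ q) (hP : IsPGroup p P) (y : T)
    (hy : orderOf y = q) (hyL : y ∈ L)
    (hyP : y ∈ Subgroup.normalizer (P : Set T)) (x0 : T) (hx0 : x0 ∈ P) :
    ∃ d ∈ P ⊓ L, y * (x0 * d) * y⁻¹ = x0 * d := by
  classical
  have hYL : Subgroup.zpowers y ≤ L := (Subgroup.zpowers_le).mpr hyL
  have hYN : Subgroup.zpowers y ≤ Subgroup.normalizer (P : Set T) := Subgroup.zpowers_le.mpr hyP
  let act : MulAction (Subgroup.zpowers y) (P ⊓ L : Subgroup T) :=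
    { smul := fun g d => ⟨x0⁻¹ * ((g : T) * (x0 * (d : T)) * (g : T)⁻¹), by
        have hg1 := hYN g.2
        have hg2 := hYL g.2
        have hd := Subgroup.mem_inf.mp d.2
        refine Subgroup.mem_inf.mpr ⟨?_, ?_⟩
        · refine P.mul_mem (P.inv_mem hx0) ?_
          exact (Subgroup.mem_normalizer_iff.mp hg1 _).mp (P.mul_mem hx0 hd.1)
        · have e : x0⁻¹ * ((g : T) * (x0 * (d : T)) * (g : T)⁻¹)
              = (x0⁻¹ * (g : T) * x0⁻¹⁻¹) * ((d : T) * (g : T)⁻¹) := by group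
          rw [e]
          exact L.mul_mem ((inferInstance : L.Normal).conj_mem (g : T) hg2 x0⁻¹)
            (L.mul_mem hd.2 (L.inv_mem hg2))⟩
      one_smul := fun d => by
        apply Subtype.ext
        show x0⁻¹ * (((1 : Subgroup.zpowers y) : T) * (x0 * (d : T))
          * ((1 : Subgroup.zpowers y) : T)⁻¹) = (d : T)
        simp
      mul_smul := fun g h d => by
        apply Subtype.ext
        show x0⁻¹ * (((g * h : Subgroup.zpowers y) : T) * (x0 * (d : T))
            * ((g * h : Subgroup.zpowers y) : T)⁻¹)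
          = x0⁻¹ * ((g : T) * (x0 * (x0⁻¹ * ((h : T) * (x0 * (d : T)) * (h : T)⁻¹))) * (g : T)⁻¹)
        simp only [Subgroup.coe_mul]
        group }
  have hYq : IsPGroup q (Subgroup.zpowers y) :=
    IsPGroup.of_card (n := 1) (by rw [Nat.card_zpowers, hy, pow_one])
  have : Fact q.Prime := ⟨hq⟩
  have : Fact p.Prime := ⟨hp⟩
  have hDp : IsPGroup p (P ⊓ L : Subgroup T) := hP.to_le inf_le_left
  obtain ⟨n, hn⟩ := IsPGroup.iff_card.mp hDp
  have hnd : ¬ q ∣ Nat.card (P ⊓ L : Subgroup T) := by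
    rw [hn]; intro h
    exact hpq ((Nat.prime_dvd_prime_iff_eq hq hp).mp (hq.dvd_of_dvd_pow h)).symm
  obtain ⟨d, hd⟩ := hYq.nonempty_fixed_point_of_prime_not_dvd_card (P ⊓ L : Subgroup T) hnd
  refine ⟨(d : T), d.2, ?_⟩
  have h1 := hd ⟨y, Subgroup.mem_zpowers y⟩
  have h3 : x0⁻¹ * (y * (x0 * (d : T)) * y⁻¹) = (d : T) :=
    congrArg (fun w : (P ⊓ L : Subgroup T) => (w : T)) h1
  calc y * (x0 * d) * y⁻¹ = x0 * (x0⁻¹ * (y * (x0 * (d : T)) * y⁻¹)) := by group
    _ = x0 * d := by rw [h3]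

theorem ll : LLStmt.{u} := by
  intro T _ _ L M V _ _ _ p q r hp hq hr hpq hpr hqr hLM hMidx hMp hMne hpp hVL hVne hVc hVr
  classical
  have : Fact p.Prime := ⟨hp⟩
  have : Fact q.Prime := ⟨hq⟩
  -- `x0 ∈ M \ L` is a `p`-element
  obtain ⟨x0, hx0M, hx0L⟩ := hMne
  obtain ⟨k0, hk0⟩ := hMp x0 hx0M
  have hx0p : ∃ j : ℕ, x0 ^ (p ^ j) = 1 := by
    obtain ⟨s, j, hs, _, hsj⟩ := (isPrimePow_nat_iff _).mp (hpp x0 hx0L)
    by_cases hsp : s = p
    · exact ⟨j, by rw [← hsp, hsj]; exact pow_orderOf_eq_one x0⟩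
    · exfalso
      have hc : Nat.Coprime (p ^ k0) (orderOf x0) := by
        rw [← hsj]; exact Nat.Coprime.pow _ _ ((Nat.coprime_primes hp hs).mpr (Ne.symm hsp))
      obtain ⟨m, hm⟩ := exists_pow_eq_self_of_coprime hc
      apply hx0L
      rw [← hm]
      exact L.pow_mem hk0 m
  obtain ⟨j0, hj0⟩ := hx0p
  have hzp : IsPGroup p (Subgroup.zpowers x0) := by
    obtain ⟨i, _, hi⟩ := (Nat.dvd_prime_pow hp).mp (orderOf_dvd_of_pow_eq_one hj0)
    exact IsPGroup.of_card (n := i) (by rw [Nat.card_zpowers, hi])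
  obtain ⟨P, hP⟩ := hzp.exists_le_sylow
  have hx0P : x0 ∈ (P : Subgroup T) := hP (Subgroup.mem_zpowers x0)
  have hpow : ∀ x ∈ (P : Subgroup T), ∃ k : ℕ, x ^ (p ^ k) = 1 := by
    intro x hx
    obtain ⟨k, hk⟩ := P.isPGroup' ⟨x, hx⟩
    exact ⟨k, by simpa using congrArg (fun w : (P : Subgroup T) => (w : T)) hk⟩
  have hPM : (P : Subgroup T) ≤ M := by
    intro x hx
    obtain ⟨k, hk'⟩ := hpow x hx
    have hxq : x ^ q ∈ M := by rw [← hMidx]; exact Subgroup.pow_index_mem M x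
    have hc : Nat.Coprime q (orderOf x) := by
      have : orderOf x ∣ p ^ k := orderOf_dvd_of_pow_eq_one hk'
      exact Nat.Coprime.coprime_dvd_right this
        (Nat.Coprime.pow_right _ ((Nat.coprime_primes hq hp).mpr (Ne.symm hpq)))
    obtain ⟨m, hm⟩ := exists_pow_eq_self_of_coprime hc
    rw [← hm]; exact M.pow_mem hxq m
  have hfr : Subgroup.normalizer ((P : Subgroup T) : Set T) ⊔ M = ⊤ :=
    Sylow.normalizer_sup_eq_top' P hPM
  set NP : Subgroup T := Subgroup.normalizer ((P : Subgroup T) : Set T) with hNP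
  have hqN : q ∣ Nat.card NP := by
    have h1 : M.relIndex NP = q := by
      rw [← Subgroup.relIndex_sup_right NP M, hfr, Subgroup.relIndex_top_right, hMidx]
    rw [← h1]; exact Subgroup.relIndex_dvd_card M NP
  obtain ⟨y0, hy0⟩ := exists_prime_orderOf_dvd_card' q hqN
  have hyord : orderOf (y0 : T) = q := by rw [Subgroup.orderOf_coe]; exact hy0
  have hyN : (y0 : T) ∈ NP := y0.2
  generalize (y0 : T) = y at hyord hyN
  have hy1 : y ≠ 1 := by
    intro h
    rw [h, orderOf_one] at hyord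
    exact hq.one_lt.ne hyord
  have hyq1 : y ^ (q ^ 1) = 1 := by rw [pow_one, ← hyord]; exact pow_orderOf_eq_one y
  -- step (2): `y ∉ L`
  have hyL : y ∉ L := by
    intro hyL
    obtain ⟨d, hd, hfix⟩ :=
      exists_fixed L (P : Subgroup T) hp hq hpq P.isPGroup' y hyord hyL hyN x0 hx0P
    have hdm := Subgroup.mem_inf.mp hd
    have hxP : x0 * d ∈ (P : Subgroup T) := (P : Subgroup T).mul_mem hx0P hdm.1
    have hxL : x0 * d ∉ L := fun h => hx0L (by
      have := L.mul_mem h (L.inv_mem hdm.2); simpa using this)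
    obtain ⟨k, hk'⟩ := hpow _ hxP
    have hcomm : (x0 * d) * y = y * (x0 * d) := by
      calc (x0 * d) * y = (y * (x0 * d) * y⁻¹) * y := by rw [hfix]
        _ = y * (x0 * d) := by group
    refine bad L hpp (x0 * d) y hcomm hp hq hpq hk' hyq1
      (fun h => hxL (by rw [h]; exact L.one_mem)) hy1 (fun h => hxL ?_)
    have := L.mul_mem h (L.inv_mem hyL); simpa using this
  -- step (4)
  have hfpf : ∀ c ∈ (P : Subgroup T), y * c * y⁻¹ = c → c = 1 := by
    intro c hc hcf
    by_contra hc1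
    obtain ⟨k, hk'⟩ := hpow c hc
    have hcomm : y * c = c * y := by
      calc y * c = (y * c * y⁻¹) * y := by group
        _ = c * y := by rw [hcf]
    refine bad L hpp y c hcomm hq hp (Ne.symm hpq) hyq1 hk' hy1 hc1 ?_
    intro hyc
    have h1 : (y * c) ^ (p ^ k) = y ^ (p ^ k) := by
      rw [(show Commute y c from hcomm).mul_pow, hk', mul_one]
    have h2 : y ^ (p ^ k) ∈ L := by rw [← h1]; exact L.pow_mem hyc _
    have hcop : Nat.Coprime (p ^ k) (orderOf y) := by
      rw [hyord]; exact Nat.Coprime.pow_left _ ((Nat.coprime_primes hp hq).mpr hpq)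
    obtain ⟨m, hm⟩ := exists_pow_eq_self_of_coprime hcop
    exact hyL (by rw [← hm]; exact L.pow_mem h2 m)
  -- step (5)
  have hfixV : ∀ v ∈ V, y * v * y⁻¹ = v → v = 1 := by
    intro v hv hvf
    by_contra hv1
    obtain ⟨k, hk⟩ := hVr v hv
    have hcomm : y * v = v * y := by
      calc y * v = (y * v * y⁻¹) * y := by group
        _ = v * y := by rw [hvf]
    refine bad L hpp y v hcomm hq hr hqr hyq1 hk hy1 hv1 ?_
    intro h
    exact hyL (by have := L.mul_mem h (L.inv_mem (hVL hv)); simpa using this)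
  -- step (6)
  have hcop : ∀ v ∈ V, v ^ Nat.card (P : Subgroup T) = 1 → v = 1 := by
    intro v hv hvc
    obtain ⟨k, hk⟩ := hVr v hv
    obtain ⟨n, hn⟩ := IsPGroup.iff_card.mp P.isPGroup'
    rw [hn] at hvc
    have h1 : orderOf v ∣ p ^ n := orderOf_dvd_of_pow_eq_one hvc
    have h2 : orderOf v ∣ r ^ k := orderOf_dvd_of_pow_eq_one hk
    have hc : Nat.Coprime (p ^ n) (r ^ k) :=
      Nat.Coprime.pow _ _ ((Nat.coprime_primes hp hr).mpr hpr)
    exact orderOf_eq_one_iff.mp (Nat.eq_one_of_dvd_coprimes hc h1 h2)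
  have hcent := Cfsg.Agent.Lib.H6.FrobActG.t1_group (P : Subgroup T) V y hq hyord
    (fun k hk => (Subgroup.mem_normalizer_iff.mp hyN k).mp hk)
    (fun v hv => (inferInstance : V.Normal).conj_mem v hv y)
    (fun k _ v hv => (inferInstance : V.Normal).conj_mem v hv k)
    hVc hfpf hcop hfixV
  -- step (7)
  obtain ⟨v, hv, hv1⟩ : ∃ v ∈ V, v ≠ 1 := by
    by_contra hno
    apply hVne
    rw [Subgroup.eq_bot_iff_forall]
    intro x hx
    by_contra hx1
    exact hno ⟨x, hx, hx1⟩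
  have hcv := hcent x0 hx0P v hv
  obtain ⟨k, hk⟩ := hVr v hv
  have hcomm : x0 * v = v * x0 := by
    calc x0 * v = (x0 * v * x0⁻¹) * x0 := by group
      _ = v * x0 := by rw [hcv]
  refine bad L hpp x0 v hcomm hp hr hpr hj0 hk
    (fun h => hx0L (by rw [h]; exact L.one_mem)) hv1 ?_
  intro h
  exact hx0L (by have := L.mul_mem h (L.inv_mem (hVL hv)); simpa using this)

end Cfsg.Agent.Lib.H4.S3901LL
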