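import Cfsg.Agent.Lib.H22.S3901Defs

/-!
# S3901, piece (2): PROP A from the local lemma (helper4)

`propA : LLStmt → PropAStmt`.  For a prime `r ∣ |N|` different from `p`, `q` take a Sylow
`r`-subgroup `R` of `N`, `T := N_G(R)` (Frattini: `T ⊔ N = ⊤`), and feed the local lemma with
`L := N ∩ T`, `M := K ∩ T`, `V := Z(R)`, all seen inside the group `T`.
-/

set_option autoImplicit false

namespace Cfsg.Agent.Lib.H4.S3901PropA

open Cfsg.Agent.Lib.H22.S3901Defs

universe u

/-- conjugation by an element of the normaliser of `R0` preserves `R0 ⊓ C(R0)`. -/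
theorem conj_mem_centre_part {G : Type*} [Group G] (R0 : Subgroup G) (t : G)
    (ht : t ∈ Subgroup.normalizer (R0 : Set G)) (z : G)
    (hz : z ∈ R0 ⊓ Subgroup.centralizer (R0 : Set G)) :
    t * z * t⁻¹ ∈ R0 ⊓ Subgroup.centralizer (R0 : Set G) := by
  obtain ⟨hz1, hz2⟩ := Subgroup.mem_inf.mp hz
  refine Subgroup.mem_inf.mpr ⟨(Subgroup.mem_normalizer_iff.mp ht z).mp hz1, ?_⟩
  rw [Subgroup.mem_centralizer_iff]
  intro x hx
  have hx' : t⁻¹ * x * t ∈ R0 := by
    have := (Subgroup.mem_normalizer_iff.mp ht (t⁻¹ * x * t)).mpr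
    apply this
    have e : t * (t⁻¹ * x * t) * t⁻¹ = x := by group
    rw [e]; exact hx
  have h1 : (t⁻¹ * x * t) * z = z * (t⁻¹ * x * t) :=
    (Subgroup.mem_centralizer_iff.mp hz2) _ hx'
  calc x * (t * z * t⁻¹) = t * ((t⁻¹ * x * t) * z) * t⁻¹ := by group
    _ = t * (z * (t⁻¹ * x * t)) * t⁻¹ := by rw [h1]
    _ = t * z * t⁻¹ * x := by group

/-- a nontrivial finite `r`-subgroup has a nontrivial central element. -/
theorem exists_central {G : Type*} [Group G] [Finite G] (r : ℕ) [Fact r.Prime] (R0 : Subgroup G)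
    (hR : IsPGroup r R0) (hne : R0 ≠ ⊥) :
    ∃ z : G, z ∈ R0 ⊓ Subgroup.centralizer (R0 : Set G) ∧ z ≠ 1 := by
  have : Nontrivial R0 := (Subgroup.nontrivial_iff_ne_bot R0).mpr hne
  have := hR.center_nontrivial
  obtain ⟨⟨z, hz⟩, hz1⟩ := exists_ne (1 : Subgroup.center R0)
  refine ⟨(z : G), Subgroup.mem_inf.mpr ⟨z.2, ?_⟩, ?_⟩
  · rw [Subgroup.mem_centralizer_iff]
    intro x hx
    have := (Subgroup.mem_center_iff.mp hz) ⟨x, hx⟩
    exact congrArg (fun w : R0 => (w : G)) this
  · intro h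
    apply hz1
    apply Subtype.ext
    apply Subtype.ext
    simpa using h

theorem propA : LLStmt.{u} → PropAStmt.{u} := by
  intro hLL G _ _ N K _ _ p q hp hq hpq hNK hKidx hKp hKne hpp r hr hrN
  by_contra hcon
  rw [not_or] at hcon
  obtain ⟨hrp, hrq⟩ := hcon
  have : Fact r.Prime := ⟨hr⟩
  -- a Sylow `r`-subgroup of `N`, pushed to `G`
  let R : Sylow r N := default
  set R0 : Subgroup G := (R : Subgroup N).map N.subtype with hR0
  have hR0N : R0 ≤ N := Subgroup.map_subtype_le _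
  have hR0p : IsPGroup r R0 := R.isPGroup'.map N.subtype
  have hR0ne : R0 ≠ ⊥ := by
    intro h
    have h2 : (R : Subgroup N) = ⊥ :=
      (Subgroup.map_eq_bot_iff_of_injective _ N.subtype_injective).mp h
    exact R.ne_bot_of_dvd_card hrN h2
  set T : Subgroup G := Subgroup.normalizer (R0 : Set G) with hT
  have hfr : T ⊔ N = ⊤ := Sylow.normalizer_sup_eq_top R
  have hTK : T ⊔ K = ⊤ := by
    apply top_le_iff.mp
    rw [← hfr]
    exact sup_le_sup_left hNK T
  have hR0T : R0 ≤ T := Subgroup.le_normalizer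
  -- the central part of `R0`
  set Z0 : Subgroup G := R0 ⊓ Subgroup.centralizer (R0 : Set G) with hZ0
  obtain ⟨z, hzZ, hz1⟩ := exists_central r R0 hR0p hR0ne
  -- the three subgroups of `T`
  set L : Subgroup T := N.subgroupOf T with hL
  set M : Subgroup T := K.subgroupOf T with hM
  set V : Subgroup T := Z0.subgroupOf T with hV
  have : V.Normal := by
    refine ⟨fun v hv t => ?_⟩
    rw [hV, Subgroup.mem_subgroupOf] at hv ⊢
    have := conj_mem_centre_part R0 (t : G) t.2 (v : G) hv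
    have e : ((t * v * t⁻¹ : T) : G) = (t : G) * (v : G) * (t : G)⁻¹ := by simp
    rw [e]
    exact this
  refine hLL T L M V p q r hp hq hr hpq (fun h => hrp h.symm) (fun h => hrq h.symm)
    ?_ ?_ ?_ ?_ ?_ ?_ ?_ ?_ ?_
  · -- L ≤ M
    intro x hx
    rw [hL, Subgroup.mem_subgroupOf] at hx
    rw [hM, Subgroup.mem_subgroupOf]
    exact hNK hx
  · -- M.index = q
    have h1 : M.index = K.relIndex T := rfl
    rw [h1, ← Subgroup.relIndex_sup_right T K, hTK, Subgroup.relIndex_top_right, hKidx]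
  · -- M / L is a p-group
    intro m hm
    rw [hM, Subgroup.mem_subgroupOf] at hm
    obtain ⟨j, hj⟩ := hKp (m : G) hm
    refine ⟨j, ?_⟩
    rw [hL, Subgroup.mem_subgroupOf]
    simpa using hj
  · -- M ≠ L
    obtain ⟨k, hkK, hkN⟩ := hKne
    have hk : k ∈ ((T ⊔ N : Subgroup G) : Set G) := by
      rw [hfr]; exact Set.mem_univ k
    rw [Subgroup.mul_normal T N] at hk
    obtain ⟨t, ht, n, hn, rfl⟩ := Set.mem_mul.mp hk
    refine ⟨⟨t, ht⟩, ?_, ?_⟩
    · rw [hM, Subgroup.mem_subgroupOf]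
      have : t = (t * n) * n⁻¹ := by group
      show t ∈ K
      rw [this]
      exact K.mul_mem hkK (K.inv_mem (hNK hn))
    · rw [hL, Subgroup.mem_subgroupOf]
      intro htN
      exact hkN (N.mul_mem htN hn)
  · -- prime-power orders outside L
    intro x hx
    rw [hL, Subgroup.mem_subgroupOf] at hx
    have := hpp (x : G) hx
    rwa [Subgroup.orderOf_coe] at this
  · -- V ≤ L
    intro v hv
    rw [hV, Subgroup.mem_subgroupOf] at hv
    rw [hL, Subgroup.mem_subgroupOf]
    exact hR0N (Subgroup.mem_inf.mp hv).1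
  · -- V ≠ ⊥
    intro hbot
    have hzT : z ∈ T := hR0T (Subgroup.mem_inf.mp hzZ).1
    have hzV : (⟨z, hzT⟩ : T) ∈ V := by
      rw [hV, Subgroup.mem_subgroupOf]; exact hzZ
    rw [hbot, Subgroup.mem_bot] at hzV
    exact hz1 (congrArg (fun w : T => (w : G)) hzV)
  · -- V abelian
    intro a ha b hb
    rw [hV, Subgroup.mem_subgroupOf] at ha hb
    have h1 := (Subgroup.mem_centralizer_iff.mp (Subgroup.mem_inf.mp ha).2) (b : G)
      (Subgroup.mem_inf.mp hb).1
    apply Subtype.ext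
    simpa using h1.symm
  · -- V an r-group
    intro v hv
    rw [hV, Subgroup.mem_subgroupOf] at hv
    obtain ⟨k, hk⟩ := hR0p ⟨(v : G), (Subgroup.mem_inf.mp hv).1⟩
    refine ⟨k, ?_⟩
    apply Subtype.ext
    have := congrArg (fun w : R0 => (w : G)) hk
    simpa using this

end Cfsg.Agent.Lib.H4.S3901PropA
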