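import Mathlib
import Cfsg.Agent.Lib.H1.S77.Hyp

/-!
# S0429, piece (L5) `hl5` (helper4)

`b ∈ B`, `z` a mate of `b`, `c` a neighbour of `b` in `B`: either `c ~ z` (then the blocks are
disjoint) or `c ≁ z` and the blocks of `c` and `z` meet in exactly two points.  Pure counting:
the 12 neighbours of `b` in `B` have `Σ I(c,z) = 16`, four of them are adjacent to `z`
(contributing `0`), the other eight have `I ≤ 2`.
-/

set_option autoImplicit false
set_option linter.unusedSectionVars false
open Cfsg

namespace Cfsg.Agent.Lib.H4.S77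

open Cfsg.Agent.Lib.H1.S77 Finset

section
variable {V : Type*} [Fintype V] [DecidableEq V] {G : SimpleGraph V} [DecidableRel G.Adj]
variable {v0 : V}

/-- (L5) pure counting -/
theorem hl5 (hG : G.IsSRGWith 77 16 0 4) (h2 : HI2 G v0) : HL5 G v0 := by
  intro b hb c hc hbc z hz hzb
  obtain ⟨hzB, hz'⟩ := mem_cls.mp hz
  obtain ⟨hnbz, hdisj⟩ := hz'.resolve_left hzb
  have hb' := mem_nB.mp hb
  have hzB' := mem_nB.mp hzB
  -- the neighbours of `b` among the block vertices
  set Cb : Finset V := (nB G v0).filter (fun m' => G.Adj b m') with hCb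
  have hCbcard : Cb.card = 12 := card_adj_nB hG hb
  have hcCb : c ∈ Cb := Finset.mem_filter.mpr ⟨hc, hbc⟩
  -- (i) the sum of the intersection numbers is 16
  have hsum : ∑ c' ∈ Cb, (blk G v0 z ∩ blk G v0 c').card = 16 := by
    have h1 : ∀ c' ∈ Cb, (blk G v0 z ∩ blk G v0 c').card
        = ((blk G v0 z).bipartiteAbove (fun c' x => x ∈ blk G v0 c') c').card := by
      intro c' _
      rw [Finset.bipartiteAbove, Finset.filter_mem_eq_inter]
    rw [Finset.sum_congr rfl h1, Finset.sum_card_bipartiteAbove_eq_sum_card_bipartiteBelow]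
    have h3 : ∀ a ∈ blk G v0 z,
        (Cb.bipartiteBelow (fun c' x => x ∈ blk G v0 c') a).card = 4 := by
      intro a ha
      have haz := mem_blk.mp ha
      have haA : a ∈ nA G v0 := mem_nA.mpr haz.2
      have hab : a ≠ b := by
        rintro rfl
        exact hb'.2 haz.2
      have hnab : ¬ G.Adj a b := by
        intro h
        have : a ∈ blk G v0 b := mem_blk.mpr ⟨h.symm, haz.2⟩
        exact (Finset.disjoint_left.mp hdisj) this ha
      have heq : Cb.bipartiteBelow (fun c' x => x ∈ blk G v0 c') a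
          = G.neighborFinset a ∩ G.neighborFinset b := by
        ext y
        rw [Finset.bipartiteBelow, Finset.mem_filter, hCb, Finset.mem_filter, mem_blk,
          Finset.mem_inter, SimpleGraph.mem_neighborFinset, SimpleGraph.mem_neighborFinset]
        constructor
        · rintro ⟨⟨-, hby⟩, hya, -⟩
          exact ⟨hya.symm, hby⟩
        · rintro ⟨hay, hby⟩
          have hy0 : y ≠ v0 := by
            rintro rfl
            exact hb'.2 hby.symm
          have hny : ¬ G.Adj v0 y := fun h => indep hG haA (mem_nA.mpr h) hay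
          exact ⟨⟨mem_nB.mpr ⟨hy0, hny⟩, hby⟩, hay.symm, haz.2⟩
      rw [heq]
      exact nadj_common hG hab hnab
    rw [Finset.sum_congr rfl h3, Finset.sum_const, card_blk hG hzB]
    rfl
  -- (ii) four of them are adjacent to `z`
  have hadj : (Cb.filter (fun c' => G.Adj c' z)).card = 4 := by
    have heq : Cb.filter (fun c' => G.Adj c' z) = G.neighborFinset b ∩ G.neighborFinset z := by
      ext y
      rw [Finset.mem_filter, hCb, Finset.mem_filter, Finset.mem_inter,
        SimpleGraph.mem_neighborFinset, SimpleGraph.mem_neighborFinset]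
      constructor
      · rintro ⟨⟨-, hby⟩, hyz⟩
        exact ⟨hby, hyz.symm⟩
      · rintro ⟨hby, hzy⟩
        have hy0 : y ≠ v0 := by
          rintro rfl
          exact hb'.2 hby.symm
        have hny : ¬ G.Adj v0 y := by
          intro h
          have h1 : y ∈ blk G v0 b := mem_blk.mpr ⟨hby, h⟩
          have h2' : y ∈ blk G v0 z := mem_blk.mpr ⟨hzy, h⟩
          exact (Finset.disjoint_left.mp hdisj) h1 h2'
        exact ⟨⟨mem_nB.mpr ⟨hy0, hny⟩, hby⟩, hzy.symm⟩
    rw [heq]
    exact nadj_common hG (Ne.symm hzb) hnbz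
  -- the adjacent ones contribute zero
  have hzero : ∀ c' ∈ Cb.filter (fun c' => G.Adj c' z), (blk G v0 z ∩ blk G v0 c').card = 0 := by
    intro c' hc'
    have h := (Finset.mem_filter.mp hc').2
    rw [Finset.card_eq_zero, ← Finset.disjoint_iff_inter_eq_empty]
    exact (disjoint_of_adj hG h).symm
  -- the others are at most two
  have hle : ∀ c' ∈ Cb.filter (fun c' => ¬ G.Adj c' z), (blk G v0 z ∩ blk G v0 c').card ≤ 2 := by
    intro c' hc'
    have hc'Cb := (Finset.mem_filter.mp hc').1
    have hc'B : c' ∈ nB G v0 := (Finset.mem_filter.mp hc'Cb).1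
    have hbc' : G.Adj b c' := (Finset.mem_filter.mp hc'Cb).2
    have hne : c' ≠ z := by
      rintro rfl
      exact hnbz hbc'
    exact h2 z hzB c' hc'B hne
  have hsplit : ∑ c' ∈ Cb, (blk G v0 z ∩ blk G v0 c').card
      = ∑ c' ∈ Cb.filter (fun c' => G.Adj c' z), (blk G v0 z ∩ blk G v0 c').card
        + ∑ c' ∈ Cb.filter (fun c' => ¬ G.Adj c' z), (blk G v0 z ∩ blk G v0 c').card :=
    (Finset.sum_filter_add_sum_filter_not Cb (fun c' => G.Adj c' z) _).symm
  rw [Finset.sum_eq_zero hzero, zero_add, hsum] at hsplit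
  have hcard8 : (Cb.filter (fun c' => ¬ G.Adj c' z)).card = 8 := by
    have := Finset.card_filter_add_card_filter_not (s := Cb) (fun c' => G.Adj c' z)
    omega
  by_cases hcz : G.Adj c z
  · left
    refine ⟨hcz, ?_⟩
    have := hzero c (Finset.mem_filter.mpr ⟨hcCb, hcz⟩)
    rwa [Finset.inter_comm] at this
  · right
    refine ⟨hcz, ?_⟩
    have hcmem : c ∈ Cb.filter (fun c' => ¬ G.Adj c' z) := Finset.mem_filter.mpr ⟨hcCb, hcz⟩
    have hcle := hle c hcmem
    rw [Finset.inter_comm]
    by_contra hne
    have hlt : (blk G v0 z ∩ blk G v0 c).card ≤ 1 := by omega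
    -- then the sum over the eight non-adjacent ones is at most 15
    have hrest : ∑ c' ∈ (Cb.filter (fun c' => ¬ G.Adj c' z)).erase c,
        (blk G v0 z ∩ blk G v0 c').card ≤ 2 * ((Cb.filter (fun c' => ¬ G.Adj c' z)).erase c).card := by
      have := Finset.sum_le_card_nsmul ((Cb.filter (fun c' => ¬ G.Adj c' z)).erase c)
        (fun c' => (blk G v0 z ∩ blk G v0 c').card) 2
        (fun c' hc' => hle c' (Finset.mem_of_mem_erase hc'))
      simpa [mul_comm] using this
    rw [Finset.card_erase_of_mem hcmem, hcard8] at hrest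
    have hadd := Finset.add_sum_erase (Cb.filter (fun c' => ¬ G.Adj c' z))
      (fun c' => (blk G v0 z ∩ blk G v0 c').card) hcmem
    omega

end

end Cfsg.Agent.Lib.H4.S77
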