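import Mathlib
import Cfsg.Agent.S1293

/-!
# S2924, step 4 (balance), group-level core

`H` finite, `E(H / O(H)) = 1`, `y` an involution of `H`, `D` a subgroup of odd order of `C_H(y)` that is
normalized by `C_H(y)`.  Then `D ≤ O(H)`.

Route: no component in `H / O(H)` means no 2-component, so the 2-layer of `H` is trivial, and the landed row
S1293 (for the 2-subgroup generated by `y`) gives `O(N_H(⟨y⟩)) ≤ O(H)`.
-/

set_option autoImplicit false

namespace Cfsg.Agent.Lib.H4.SF

variable {H : Type*} [Group H] [Finite H]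

omit [Finite H] in
/-- no component in the quotient by the `p'`-core: the `p`-layer is trivial. -/
theorem pLayer_eq_bot_of_layer_quot (p : ℕ)
    (hE : Cfsg.layer (H ⧸ Cfsg.pPrimeCore p H) = ⊥) : Cfsg.pLayer p H = ⊥ := by
  unfold Cfsg.pLayer
  rw [sSup_eq_bot]
  intro K hK
  exfalso
  obtain ⟨_, hcomp, _⟩ := hK
  have hle : K.map (QuotientGroup.mk' (Cfsg.pPrimeCore p H)) ≤ Cfsg.layer (H ⧸ Cfsg.pPrimeCore p H) :=
    le_sSup hcomp
  rw [hE, le_bot_iff] at hle
  obtain ⟨_, hq⟩ := hcomp
  have hs := hq.2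
  have hsub : Subsingleton ↥(K.map (QuotientGroup.mk' (Cfsg.pPrimeCore p H))) := by
    rw [hle]; infer_instance
  have hsub2 : Subsingleton (↥(K.map (QuotientGroup.mk' (Cfsg.pPrimeCore p H))) ⧸
      Subgroup.center ↥(K.map (QuotientGroup.mk' (Cfsg.pPrimeCore p H)))) :=
    Function.Surjective.subsingleton (QuotientGroup.mk_surjective)
  exact not_subsingleton _ hsub2

omit [Finite H] in
/-- the normalizer of the subgroup generated by an involution is its centralizer. -/
theorem normalizer_zpowers_le_centralizer {y : H} (hy : orderOf y = 2) :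
    Subgroup.normalizer ((Subgroup.zpowers y : Subgroup H) : Set H) ≤ Subgroup.centralizer ({y} : Set H) := by
  intro g hg
  rw [Subgroup.mem_centralizer_singleton_iff]
  have hy1 : y ≠ 1 := by
    intro h
    rw [h, orderOf_one] at hy
    omega
  have hmem : g * y * g⁻¹ ∈ Subgroup.zpowers y :=
    (Subgroup.mem_normalizer_iff.mp hg y).mp (Subgroup.mem_zpowers y)
  obtain ⟨k, hk⟩ := Subgroup.mem_zpowers_iff.mp hmem
  rw [← zpow_mod_orderOf, hy, Nat.cast_ofNat] at hk
  have h2 : k % 2 = 0 ∨ k % 2 = 1 := Int.emod_two_eq_zero_or_one k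
  rcases h2 with h2 | h2
  · rw [h2, zpow_zero] at hk
    exfalso
    apply hy1
    have : g * y * g⁻¹ = 1 := hk.symm
    have h3 : y = g⁻¹ * (g * y * g⁻¹) * g := by group
    rw [h3, this]; group
  · rw [h2, zpow_one] at hk
    -- hk : y = g * y * g⁻¹
    calc g * y = (g * y * g⁻¹) * g := by group
      _ = y * g := by rw [← hk]

/-- **BAL core.** -/
theorem bal_core (hE : Cfsg.layer (H ⧸ Cfsg.oddCore H) = ⊥) (y : H) (hy : orderOf y = 2)
    (D : Subgroup H) (hDodd : Odd (Nat.card D))
    (hDy : D ≤ Subgroup.centralizer ({y} : Set H))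
    (hDn : Subgroup.centralizer ({y} : Set H) ≤ Subgroup.normalizer (D : Set H)) :
    D ≤ Cfsg.oddCore H := by
  have : Fact (Nat.Prime 2) := ⟨Nat.prime_two⟩
  have hL : Cfsg.pLayer 2 H = ⊥ := pLayer_eq_bot_of_layer_quot 2 hE
  have hy1 : y ≠ 1 := by
    intro h
    rw [h, orderOf_one] at hy
    omega
  have hP : IsPGroup 2 ↥(Subgroup.zpowers y) := by
    refine IsPGroup.of_card (n := 1) ?_
    rw [Nat.card_zpowers, hy, pow_one]
  have hP1 : Subgroup.zpowers y ≠ ⊥ := by
    rw [Ne, Subgroup.zpowers_eq_bot]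
    exact hy1
  obtain ⟨_, hO⟩ := Cfsg.Agent.S1293.result 2 hL (Subgroup.zpowers y) hP hP1
  set N : Subgroup H := Subgroup.normalizer ((Subgroup.zpowers y : Subgroup H) : Set H) with hN
  have hNC : N ≤ Subgroup.centralizer ({y} : Set H) := normalizer_zpowers_le_centralizer hy
  have hCN : Subgroup.centralizer ({y} : Set H) ≤ N := by
    intro g hg
    rw [Subgroup.mem_centralizer_singleton_iff] at hg
    rw [hN, Subgroup.mem_normalizer_iff]
    intro h
    have hconj : ∀ x ∈ Subgroup.zpowers y, g * x * g⁻¹ = x := by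
      intro x hx
      obtain ⟨k, rfl⟩ := Subgroup.mem_zpowers_iff.mp hx
      have hc : Commute g y := hg
      have := (hc.zpow_right k).eq
      calc g * y ^ k * g⁻¹ = y ^ k * g * g⁻¹ := by rw [this]
        _ = y ^ k := by group
    constructor
    · intro hh
      rw [hconj h hh]; exact hh
    · intro hh
      have h4 : g⁻¹ * (g * h * g⁻¹) * g = h := by group
      have hc' : ∀ x ∈ Subgroup.zpowers y, g⁻¹ * x * g = x := by
        intro x hx
        have := hconj x hx
        calc g⁻¹ * x * g = g⁻¹ * (g * x * g⁻¹) * g := by rw [this]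
          _ = x := by group
      rw [← h4, hc' _ hh]; exact hh
  have hDN : D ≤ N := hDy.trans hCN
  have hnorm : (D.subgroupOf N).Normal :=
    Subgroup.normal_subgroupOf_of_le_normalizer (hNC.trans hDn)
  have hcard : Nat.card ↥(D.subgroupOf N) = Nat.card ↥D :=
    Nat.card_congr (Subgroup.subgroupOfEquivOfLe hDN).toEquiv
  have hle1 : D.subgroupOf N ≤ Cfsg.pPrimeCore 2 ↥N := by
    refine le_sSup ⟨hnorm, ?_⟩
    rw [hcard]
    exact Nat.coprime_two_right.mpr hDodd
  have hmap : (D.subgroupOf N).map N.subtype = D := Subgroup.map_subgroupOf_eq_of_le hDN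
  calc D = (D.subgroupOf N).map N.subtype := hmap.symm
    _ ≤ (Cfsg.pPrimeCore 2 ↥N).map N.subtype := Subgroup.map_mono hle1
    _ ≤ Cfsg.pPrimeCore 2 H := hO

end Cfsg.Agent.Lib.H4.SF
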