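import Mathlib
import Cfsg.Agent.Lib.L0.SFDefs
import Cfsg.Agent.Lib.H26.SFA
import Cfsg.Agent.Lib.H3.SFC2
import Cfsg.Agent.Lib.H4.SFE1Core

/-!
helper4: S4130-E1 (the key lemma), final form: from the core version (Lib/H4/SFE1Core) with
A3/A4 (helper26, Lib/H26/SFA) and C2 (helper3, Lib/H3/SFC2).
-/

set_option autoImplicit false

namespace Cfsg.Agent.Lib.H4.SF

open Cfsg.Agent.Lib.L0.SF

/-- **S4130-E1** (the key lemma).  `N` a normal `r`-subgroup of a group with squarefree class sizes:
some `a ∈ N` has the property that every `r'`-element of `C_G(a)` centralises `N`. -/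
theorem SFClass.exists_mem_centralizer_coprime {G : Type*} [Group G] [Finite G] (h : SFClass G) {r : ℕ}
    [Fact r.Prime] (N : Subgroup G) [N.Normal] (hN : IsPGroup r N) :
    ∃ a ∈ N, ∀ g : G, g * a = a * g → (orderOf g).Coprime r → ∀ n ∈ N, g * n = n * g := by
  refine exists_mem_centralizer_coprime_core ?_ ?_ N hN
  · intro N' hN'n hN'p x
    haveI := hN'n
    exact Cfsg.Agent.Lib.H26.SF.SFClass.relIndex_dvd_prime h N' hN'p x
  · intro M hMn U hUn hUne hUmin
    haveI := hUn
    exact Cfsg.Agent.Lib.H3.SF.SFClass.card_prime_of_minimal_normal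
      (Cfsg.Agent.Lib.H26.SF.SFClass.quotient h M) U hUne hUmin

end Cfsg.Agent.Lib.H4.SF
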