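import Mathlib
import Cfsg.Agent.Lib.H4.SFBAL
import Cfsg.Agent.Lib.H22.PPrimeCore
import Cfsg.Agent.Lib.H24.SG.Defs

/-!
# S2924, piece BAL (balance), exact signature of `tools/blueprints/S2924_sigs.lean`

`θ(y) ∩ C_X(u) ≤ θ(u)` when `E(C_X(u) / O(C_X(u))) = 1`, `y` an involution commuting with `u`.
-/

set_option autoImplicit false

namespace Cfsg.Agent.Lib.H4.SG

open Cfsg Cfsg.Agent.Lib.H24.SG

/-- BAL. -/
theorem bal {X : Type*} [Group X] [Finite X] (u y : X) (hy : orderOf y = 2) (huy : u * y = y * u)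
    (hE : Cfsg.layer (↥(Subgroup.centralizer ({u} : Set X)) ⧸
      Cfsg.pPrimeCore 2 ↥(Subgroup.centralizer ({u} : Set X))) = ⊥) :
    theta X y ⊓ Subgroup.centralizer ({u} : Set X) ≤ theta X u := by
  set C : Subgroup X := Subgroup.centralizer ({u} : Set X) with hC
  set Cy : Subgroup X := Subgroup.centralizer ({y} : Set X) with hCy
  have hyC : y ∈ C := by
    rw [hC, Subgroup.mem_centralizer_singleton_iff]; exact huy.symm
  -- basics of theta y
  have hθle : theta X y ≤ Cy := by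
    intro x hx
    obtain ⟨w, _, rfl⟩ := hx
    exact w.2
  have hθnorm : ∀ c ∈ Cy, ∀ x ∈ theta X y, c * x * c⁻¹ ∈ theta X y := by
    intro c hc x hx
    obtain ⟨w, hw, rfl⟩ := hx
    have hn : (Cfsg.oddCore ↥Cy).Normal := Cfsg.Agent.Lib.H22.pPrimeCore_normal 2
    refine ⟨⟨c, hc⟩ * w * ⟨c, hc⟩⁻¹, hn.conj_mem w hw ⟨c, hc⟩, ?_⟩
    simp
  have hθodd : Odd (Nat.card ↥(theta X y)) := by
    have h1 : (Nat.card ↥(Cfsg.pPrimeCore 2 ↥Cy)).Coprime 2 :=
      Cfsg.Agent.Lib.H22.card_pPrimeCore_coprime 2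
    have h2 : Nat.card ↥(theta X y) = Nat.card ↥(Cfsg.pPrimeCore 2 ↥Cy) := by
      unfold theta
      exact Nat.card_congr
        ((Cfsg.oddCore ↥Cy).equivMapOfInjective Cy.subtype Cy.subtype_injective).symm.toEquiv
    rw [h2]
    exact Nat.coprime_two_right.mp h1
  -- the subgroup D of H = ↥C
  set D : Subgroup ↥C := (theta X y ⊓ C).subgroupOf C with hD
  have hDodd : Odd (Nat.card ↥D) := by
    have h1 : Nat.card ↥D = Nat.card ↥(theta X y ⊓ C) :=
      Nat.card_congr (Subgroup.subgroupOfEquivOfLe inf_le_right).toEquiv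
    have h2 : Nat.card ↥(theta X y ⊓ C) ∣ Nat.card ↥(theta X y) :=
      Subgroup.card_dvd_of_le inf_le_left
    rw [h1]
    exact Odd.of_dvd_nat hθodd h2
  have hy' : orderOf (⟨y, hyC⟩ : ↥C) = 2 := by
    rw [← hy]; exact Subgroup.orderOf_mk y hyC
  have hDy : D ≤ Subgroup.centralizer ({(⟨y, hyC⟩ : ↥C)} : Set ↥C) := by
    intro d hd
    rw [Subgroup.mem_centralizer_singleton_iff]
    have hd' : (d : X) ∈ theta X y ⊓ C := Subgroup.mem_subgroupOf.mp hd
    have h3 : (d : X) ∈ Cy := hθle hd'.1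
    rw [hCy, Subgroup.mem_centralizer_singleton_iff] at h3
    exact Subtype.ext h3
  have hDn : Subgroup.centralizer ({(⟨y, hyC⟩ : ↥C)} : Set ↥C) ≤ Subgroup.normalizer (D : Set ↥C) := by
    intro c hc
    rw [Subgroup.mem_centralizer_singleton_iff] at hc
    have hcy : (c : X) ∈ Cy := by
      rw [hCy, Subgroup.mem_centralizer_singleton_iff]
      exact congrArg Subtype.val hc
    have hconj : ∀ (c : ↥C), (c : X) ∈ Cy → ∀ d ∈ D, c * d * c⁻¹ ∈ D := by
      intro c hcy d hd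
      have hd' : (d : X) ∈ theta X y ⊓ C := Subgroup.mem_subgroupOf.mp hd
      refine Subgroup.mem_subgroupOf.mpr ⟨?_, (c * d * c⁻¹).2⟩
      have := hθnorm (c : X) hcy (d : X) hd'.1
      simpa using this
    rw [Subgroup.mem_normalizer_iff]
    intro d
    constructor
    · exact hconj c hcy d
    · intro hd
      have hcinv : ((c⁻¹ : ↥C) : X) ∈ Cy := by
        have : ((c⁻¹ : ↥C) : X) = (c : X)⁻¹ := rfl
        rw [this]; exact Cy.inv_mem hcy
      have := hconj c⁻¹ hcinv _ hd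
      have h4 : c⁻¹ * (c * d * c⁻¹) * c⁻¹⁻¹ = d := by group
      rwa [h4] at this
  have hcore := Cfsg.Agent.Lib.H4.SF.bal_core hE ⟨y, hyC⟩ hy' D hDodd hDy hDn
  -- map back to X
  have hmap : D.map C.subtype = theta X y ⊓ C := Subgroup.map_subgroupOf_eq_of_le inf_le_right
  calc theta X y ⊓ C = D.map C.subtype := hmap.symm
    _ ≤ (Cfsg.oddCore ↥C).map C.subtype := Subgroup.map_mono hcore
    _ = theta X u := rfl

end Cfsg.Agent.Lib.H4.SG
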