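import Mathlib
import Cfsg.Prelude.Def_Solvable
import Cfsg.Prelude.Def_Local
import Cfsg.Agent.Lib.H22.PPrimeCore
import Cfsg.Agent.Lib.H7.CoprimeFactor

/-!
# S3017 (Shult), piece CORE: `C_K(h) ≤ O_{p'}(C_G(h))`

`H` an abelian `p`-subgroup of `G`, `h ∈ H`, `C = C_G(h)` with `C = N_C(H) O_{p'}(C)` (the induction hypothesis of
S3017 for `C`), and `K` a `p'`-subgroup of `G` normalized by `H` with `K ∩ N_G(H) = 1`.  Then
`K ∩ C_G(h) ≤ O_{p'}(C_G(h))`.

For `w ∈ K ∩ C` write `w = ν o` with `ν ∈ N_C(H)`, `o ∈ O_{p'}(C)`.  For `u ∈ H` the commutator `[w, u]` lies in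
`K` (so it is a `p'`-element) and is congruent to `[ν, u] ∈ H` modulo `O_{p'}(C)`; hence `[w, u] ∈ K ∩ O_{p'}(C) =: Y`.
By coprime lifting some `w n`, `n ∈ Y`, centralizes `H`; then `w n ∈ K ∩ N_G(H) = 1`, so `w ∈ Y`.
-/

set_option autoImplicit false
set_option linter.unusedSectionVars false
set_option linter.unusedVariables false

namespace Cfsg.Agent.Lib.H4.SH

open Cfsg

variable {G : Type*} [Group G]

/-- A subgroup `C` normalizes the image in `G` of a normal subgroup of `C`. -/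
theorem le_normalizer_map_subtype (C : Subgroup G) (O : Subgroup ↥C) [hO : O.Normal] :
    C ≤ Subgroup.normalizer ((O.map C.subtype : Subgroup G) : Set G) := by
  have hconj : ∀ s ∈ C, ∀ k ∈ O.map C.subtype, s * k * s⁻¹ ∈ O.map C.subtype := by
    rintro s hs _ ⟨k', hk', rfl⟩
    exact ⟨⟨s, hs⟩ * k' * ⟨s, hs⟩⁻¹, hO.conj_mem k' hk' ⟨s, hs⟩, by simp⟩
  intro s hs
  rw [Subgroup.mem_normalizer_iff]
  intro k
  constructor
  · exact hconj s hs k
  · intro hk
    have h3 : k = s⁻¹ * (s * k * s⁻¹) * s⁻¹⁻¹ := by group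
    rw [h3]
    exact hconj s⁻¹ (C.inv_mem hs) _ hk

/-- An element whose order divides both a power of `p` and a number prime to `p` is trivial. -/
theorem eq_one_of_orderOf_dvd {X : Type*} [Group X] {p : ℕ} (hp : p.Prime) {x : X} {k m : ℕ}
    (h1 : orderOf x ∣ p ^ k) (h2 : orderOf x ∣ m) (hm : m.Coprime p) : x = 1 := by
  rw [← orderOf_eq_one_iff]
  have hc : (p ^ k).Coprime m := Nat.Coprime.pow_left k hm.symm
  exact Nat.eq_one_of_dvd_coprimes hc h1 h2

/-- **CORE**. -/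
theorem core_le [Finite G] {p : ℕ} [Fact p.Prime] {H : Subgroup G} (hHp : IsPGroup p H)
    (hHab : IsMulCommutative H) {h : G} (hh : h ∈ H)
    (hIH : Subgroup.normalizer
        ((H.subgroupOf (Subgroup.centralizer ({h} : Set G)) :
          Subgroup ↥(Subgroup.centralizer ({h} : Set G))) : Set ↥(Subgroup.centralizer ({h} : Set G))) ⊔
        Cfsg.pPrimeCore p ↥(Subgroup.centralizer ({h} : Set G)) = ⊤)
    (K : Subgroup G) (hK : (Nat.card K).Coprime p) (hHK : H ≤ Subgroup.normalizer (K : Set G))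
    (hKN : K ⊓ Subgroup.normalizer (H : Set G) = ⊥) :
    K ⊓ Subgroup.centralizer ({h} : Set G) ≤ Cfsg.centralizerPPrimeCore p h := by
  have hp : p.Prime := Fact.out
  set C : Subgroup G := Subgroup.centralizer ({h} : Set G) with hC
  set O : Subgroup ↥C := Cfsg.pPrimeCore p ↥C with hO
  have hOn : O.Normal := Cfsg.Agent.Lib.H22.pPrimeCore_normal p
  set OG : Subgroup G := O.map C.subtype with hOG
  have hOGdef : Cfsg.centralizerPPrimeCore p h = OG := rfl
  rw [hOGdef]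
  -- `H ≤ C`
  have hHC : H ≤ C := by
    intro u hu
    rw [hC, Subgroup.mem_centralizer_iff]
    intro y hy
    rw [Set.mem_singleton_iff] at hy
    subst hy
    exact congrArg Subtype.val (hHab.is_comm.comm ⟨y, hh⟩ ⟨u, hu⟩)
  have hCOG : C ≤ Subgroup.normalizer (OG : Set G) := le_normalizer_map_subtype C O
  -- conjugation by `H` inside `K`
  have hKconj : ∀ u ∈ H, ∀ k ∈ K, u * k * u⁻¹ ∈ K := fun u hu k hk =>
    (Subgroup.mem_normalizer_iff.1 (hHK hu) k).1 hk
  rintro w ⟨hwK, hwC⟩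
  -- decomposition `w = ν * o` in `C`
  have hw' : (⟨w, hwC⟩ : ↥C) ∈
      ((Subgroup.normalizer ((H.subgroupOf C : Subgroup ↥C) : Set ↥C) ⊔ O : Subgroup ↥C) : Set ↥C) := by
    rw [hIH]; exact Subgroup.mem_top _
  rw [Subgroup.mul_normal] at hw'
  obtain ⟨ν, hν, o, ho, hνo⟩ := hw'
  -- the commutators `[w, u]` lie in `Y = K ⊓ OG`
  have hcomm : ∀ u ∈ H, w * u * w⁻¹ * u⁻¹ ∈ K ⊓ OG := by
    intro u hu
    have hcK : w * u * w⁻¹ * u⁻¹ ∈ K := by
      have h1 : w * u * w⁻¹ * u⁻¹ = w * (u * w⁻¹ * u⁻¹) := by group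
      rw [h1]
      exact K.mul_mem hwK (hKconj u hu _ (K.inv_mem hwK))
    refine ⟨hcK, ?_⟩
    set u' : ↥C := ⟨u, hHC hu⟩ with hu'
    set w' : ↥C := ⟨w, hwC⟩ with hw'def
    have hu'H : u' ∈ H.subgroupOf C := Subgroup.mem_subgroupOf.2 hu
    set c' : ↥C := w' * u' * w'⁻¹ * u'⁻¹ with hc'
    have hc'coe : (c' : G) = w * u * w⁻¹ * u⁻¹ := by simp [hc', hw'def, hu']
    -- order of `c'` is prime to `p`
    have hc'ord : orderOf c' ∣ Nat.card K := by
      rw [← Subgroup.orderOf_coe, hc'coe]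
      have := orderOf_dvd_natCard (⟨w * u * w⁻¹ * u⁻¹, hcK⟩ : ↥K)
      rwa [Subgroup.orderOf_mk] at this
    -- image of `c'` modulo `O` is the image of `[ν, u']`, an element of `H`
    set hH' : ↥C := ν * u' * ν⁻¹ * u'⁻¹ with hhH'
    have hhH'mem : hH' ∈ H.subgroupOf C := by
      have h1 : ν * u' * ν⁻¹ ∈ H.subgroupOf C := (Subgroup.mem_normalizer_iff.1 hν u').1 hu'H
      exact Subgroup.mul_mem _ h1 (Subgroup.inv_mem _ hu'H)
    have hπ : QuotientGroup.mk' O c' = QuotientGroup.mk' O hH' := by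
      have hwν : QuotientGroup.mk' O w' = QuotientGroup.mk' O ν := by
        have h1 : w' = ν * o := hνo.symm
        have ho1 : QuotientGroup.mk' O o = 1 := (QuotientGroup.eq_one_iff o).2 ho
        rw [h1, map_mul, ho1, mul_one]
      simp only [hc', hhH', map_mul, map_inv, hwν]
    obtain ⟨k, hk⟩ := (hHp.comap_subtype (K := C)) ⟨hH', hhH'mem⟩
    have hHord : orderOf hH' ∣ p ^ k := by
      apply orderOf_dvd_of_pow_eq_one
      have h2 := congrArg Subtype.val hk
      rw [Subgroup.coe_pow, Subgroup.coe_one] at h2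
      exact h2
    have hone : QuotientGroup.mk' O c' = 1 := by
      refine eq_one_of_orderOf_dvd hp (k := k) (m := Nat.card K) ?_ ?_ hK
      · rw [hπ]
        exact (orderOf_map_dvd _ _).trans hHord
      · exact (orderOf_map_dvd _ _).trans hc'ord
    have hc'O : c' ∈ O := (QuotientGroup.eq_one_iff c').1 hone
    rw [← hc'coe]
    exact ⟨c', hc'O, rfl⟩
  -- coprime lifting
  have hHY : H ≤ Subgroup.normalizer ((K ⊓ OG : Subgroup G) : Set G) :=
    Cfsg.Agent.Lib.H7.le_normalizer_inf hHK (hHC.trans hCOG)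
  have hwY : w ∈ Subgroup.normalizer ((K ⊓ OG : Subgroup G) : Set G) := by
    have h1 : Subgroup.zpowers w ≤ Subgroup.normalizer ((K ⊓ OG : Subgroup G) : Set G) := by
      apply Cfsg.Agent.Lib.H7.le_normalizer_inf
      · rw [Subgroup.zpowers_le]; exact Subgroup.le_normalizer hwK
      · rw [Subgroup.zpowers_le]; exact hCOG hwC
    exact h1 (Subgroup.mem_zpowers w)
  have hYcard : (Nat.card ↥(K ⊓ OG)).Coprime p :=
    Nat.Coprime.coprime_dvd_left (Subgroup.card_dvd_of_le inf_le_left) hK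
  obtain ⟨n, hn, hwn⟩ := Cfsg.Agent.Lib.H7.exists_mul_mem_centralizer_of_commutator_mem p
    hYcard hHp hHY hwY hcomm
  have hwnK : w * n ∈ K := K.mul_mem hwK hn.1
  have hwn1 : w * n = 1 := by
    have : w * n ∈ K ⊓ Subgroup.normalizer (H : Set G) :=
      ⟨hwnK, Subgroup.centralizer_le_normalizer _ hwn⟩
    rw [hKN, Subgroup.mem_bot] at this
    exact this
  have h1 : w = n⁻¹ := eq_inv_of_mul_eq_one_left hwn1
  rw [h1]
  exact OG.inv_mem hn.2

end Cfsg.Agent.Lib.H4.SH
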