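import Mathlib
import Cfsg.Prelude.Def_Solvable
import Cfsg.Prelude.Def_SubgroupEmbedding
import Cfsg.Agent.Lib.H22.PPrimeCore
import Cfsg.Agent.Lib.H24.ShIDefs

/-!
# S3016 piece I-WRAP (helper4, twin of helper1's seat): conclusion (I) from conclusion (II)

Exact signature of helper24's cut: if `G = N_G(H) O_{p'}(G)` and the coprime-action lemma
`C_{[Y,H]}(H) = 1` holds for every `H`-invariant `p'`-subgroup `Y` with (EC), then
`⟨H^G⟩ ∩ N_G(H) = H`.

Route: `Y := O_{p'}(G)`; (EC) for `(H, Y)` comes from extreme closure and `H ∩ Y = 1`; `W := [Y,H]` is normal in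
`G = N_G(H) Y`; every conjugate of `h ∈ H` is `y h' y⁻¹ = [y,h'] h' ∈ W H`, so `⟨H^G⟩ ≤ H W`; an element `h w`
of `N_G(H)` has `w ∈ Y ∩ N_G(H) = C_Y(H)`, so `w ∈ W ∩ C(H) = 1`.
-/

set_option autoImplicit false
set_option linter.unusedVariables false

universe u

namespace Cfsg.Agent.Lib.H4.SHP

open Cfsg Cfsg.Agent.Lib.H24.ShI

variable {G : Type u} [Group G]

/-- a subgroup all of whose elements conjugate `W` into itself normalizes `W` -/
theorem le_normalizer_of_conj_mem {S W : Subgroup G}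
    (h : ∀ s ∈ S, ∀ w ∈ W, s * w * s⁻¹ ∈ W) : S ≤ Subgroup.normalizer (W : Set G) := by
  intro s hs
  rw [Subgroup.mem_normalizer_iff]
  intro w
  refine ⟨fun hw => h s hs w hw, fun hw => ?_⟩
  have h1 := h s⁻¹ (S.inv_mem hs) _ hw
  have h2 : s⁻¹ * (s * w * s⁻¹) * s⁻¹⁻¹ = w := by group
  rwa [h2] at h1

/-- a `p`-subgroup meets a subgroup of order prime to `p` trivially -/
theorem inf_eq_bot_of_coprime [Finite G] {p : ℕ} [hp : Fact p.Prime] {H Y : Subgroup G}
    (hHp : IsPGroup p H) (hY : (Nat.card Y).Coprime p) : H ⊓ Y = ⊥ := by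
  have h1 : IsPGroup p ↥(H ⊓ Y) := hHp.to_le inf_le_left
  obtain ⟨k, hk⟩ := h1.exists_card_eq
  have h2 : Nat.card ↥(H ⊓ Y) ∣ Nat.card Y := Subgroup.card_dvd_of_le inf_le_right
  rcases Nat.eq_zero_or_pos k with rfl | hkpos
  · rw [pow_zero] at hk
    exact Subgroup.card_eq_one.mp hk
  · exfalso
    have h3 : p ∣ Nat.card Y := by
      refine dvd_trans ?_ h2
      rw [hk]
      exact dvd_pow_self p hkpos.ne'
    have h4 := Nat.Coprime.eq_one_of_dvd hY.symm h3
    exact hp.out.one_lt.ne' h4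

/-- (EC) for the pair `(H, O_{p'}(G))` follows from extreme closure. -/
theorem ec_of_isExtremelyClosed [Finite G] {p : ℕ} [hp : Fact p.Prime] {H : Subgroup G}
    (hHp : IsPGroup p H) (hcl : IsExtremelyClosed H) (Y : Subgroup G)
    (hY : (Nat.card Y).Coprime p) : EC H Y := by
  intro y _ z hz hzY hzc
  have hzN : z ∈ Subgroup.normalizer (H : Set G) := by
    rw [Subgroup.mem_normalizer_iff]
    intro h
    constructor
    · intro hh
      have h1 : z * h * z⁻¹ = h := by
        rw [← hzc h hh]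
        group
      rw [h1]
      exact hh
    · intro hh
      have h1 := hzc _ hh
      have h2 : h = z * h * z⁻¹ := by
        have h3 : z * h * z⁻¹ * z = z * (z * h * z⁻¹) := h1
        have h4 : z * h = z * (z * h * z⁻¹) := by
          rw [← h3]
          group
        exact mul_left_cancel h4
      rw [h2]
      exact hh
  have h1 : z ∈ (H ⊔ H.map (MulAut.conj y).toMonoidHom) ⊓ Subgroup.normalizer (H : Set G) :=
    ⟨hz, hzN⟩
  rw [hcl y] at h1
  have h2 : z ∈ H ⊓ Y := ⟨h1, hzY⟩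
  rw [inf_eq_bot_of_coprime hHp hY, Subgroup.mem_bot] at h2
  exact h2

/-- **I-WRAP**: conclusion (I) of S3016 from conclusion (II) and the coprime-action lemma. -/
theorem concl_I_of_II [Finite G] {p : ℕ} [hp : Fact p.Prime] (hp2 : p ≠ 2) (H : Subgroup G)
    (hHp : IsPGroup p H) (hHab : IsMulCommutative H) (hcl : Cfsg.IsExtremelyClosed H)
    (hlem : ∀ Y : Subgroup G, ¬ p ∣ Nat.card Y → (∀ h ∈ H, ∀ y ∈ Y, h * y * h⁻¹ ∈ Y) → EC H Y →
      ⁅Y, H⁆ ⊓ Subgroup.centralizer (H : Set G) = ⊥)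
    (hII : Subgroup.normalizer (H : Set G) ⊔ Cfsg.pPrimeCore p G = ⊤) :
    Subgroup.normalClosure (H : Set G) ⊓ Subgroup.normalizer (H : Set G) = H := by
  set Y : Subgroup G := pPrimeCore p G with hYdef
  have hYn : Y.Normal := Cfsg.Agent.Lib.H22.pPrimeCore_normal p
  have hYc : (Nat.card Y).Coprime p := Cfsg.Agent.Lib.H22.card_pPrimeCore_coprime p
  have hYp : ¬ p ∣ Nat.card Y := by
    intro h
    have h4 := Nat.Coprime.eq_one_of_dvd hYc.symm h
    exact hp.out.one_lt.ne' h4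
  have hnorm : ∀ h ∈ H, ∀ y ∈ Y, h * y * h⁻¹ ∈ Y := fun h _ y hy => hYn.conj_mem y hy h
  have hHY : H ⊓ Y = ⊥ := inf_eq_bot_of_coprime hHp hYc
  have hEC : EC H Y := ec_of_isExtremelyClosed hHp hcl Y hYc
  have hW := hlem Y hYp hnorm hEC
  set W : Subgroup G := ⁅Y, H⁆ with hWdef
  have hWY : W ≤ Y := Subgroup.commutator_le_left Y H
  -- `W` is normal in `G = N_G(H) Y`
  have hNW : Subgroup.normalizer (H : Set G) ≤ Subgroup.normalizer (W : Set G) := by
    refine le_normalizer_of_conj_mem (fun n hn w hw => ?_)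
    have hle : W ≤ W.comap (MulAut.conj n).toMonoidHom := by
      rw [hWdef, Subgroup.commutator_le]
      intro y hy h hh
      rw [Subgroup.mem_comap, map_commutatorElement]
      refine Subgroup.commutator_mem_commutator ?_ ?_
      · exact hYn.conj_mem y hy n
      · exact (Subgroup.mem_normalizer_iff.1 hn h).1 hh
    exact hle hw
  have hYW : Y ≤ Subgroup.normalizer (W : Set G) := Subgroup.normalizer_commutator_ge_left Y H
  have hWn : W.Normal := by
    rw [← Subgroup.normalizer_eq_top_iff, eq_top_iff, ← hII]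
    exact sup_le hNW hYW
  -- the normal closure lies in `H W`
  have hYN : Y ⊔ Subgroup.normalizer (H : Set G) = ⊤ := by rw [sup_comm]; exact hII
  have hcl_le : Subgroup.normalClosure (H : Set G) ≤ H ⊔ W := by
    unfold Subgroup.normalClosure
    rw [Subgroup.closure_le]
    intro x hx
    rw [Group.mem_conjugatesOfSet_iff] at hx
    obtain ⟨h, hh, hconj⟩ := hx
    rw [isConj_iff] at hconj
    obtain ⟨g, rfl⟩ := hconj
    have hg : g ∈ ((Y ⊔ Subgroup.normalizer (H : Set G) : Subgroup G) : Set G) := by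
      rw [hYN]
      exact Set.mem_univ g
    rw [Subgroup.normal_mul, Set.mem_mul] at hg
    obtain ⟨y, hy, n, hn, rfl⟩ := hg
    have hh' : n * h * n⁻¹ ∈ H := (Subgroup.mem_normalizer_iff.1 hn h).1 hh
    have h1 : y * n * h * (y * n)⁻¹ =
        (y * (n * h * n⁻¹) * y⁻¹ * (n * h * n⁻¹)⁻¹) * (n * h * n⁻¹) := by
      group
    have h2 : y * (n * h * n⁻¹) * y⁻¹ * (n * h * n⁻¹)⁻¹ ∈ W :=
      Subgroup.commutator_mem_commutator hy hh'
    rw [SetLike.mem_coe, h1]
    exact Subgroup.mul_mem _ ((le_sup_right : W ≤ H ⊔ W) h2) ((le_sup_left : H ≤ H ⊔ W) hh')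
  apply le_antisymm
  · rintro x ⟨hx1, hx2⟩
    have hx3 : x ∈ ((H ⊔ W : Subgroup G) : Set G) := hcl_le hx1
    rw [Subgroup.mul_normal, Set.mem_mul] at hx3
    obtain ⟨h, hh, w, hw, rfl⟩ := hx3
    have hwN : w ∈ Subgroup.normalizer (H : Set G) := by
      have h1 : w = h⁻¹ * (h * w) := by group
      rw [h1]
      exact Subgroup.mul_mem _ (Subgroup.inv_mem _ (Subgroup.le_normalizer hh)) hx2
    have hwY : w ∈ Y := hWY hw
    have hwC : w ∈ Subgroup.centralizer (H : Set G) := by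
      rw [Subgroup.mem_centralizer_iff]
      intro h' hh'
      have h1 : w * h' * w⁻¹ * h'⁻¹ ∈ H ⊓ Y := by
        constructor
        · exact H.mul_mem ((Subgroup.mem_normalizer_iff.1 hwN h').1 hh') (H.inv_mem hh')
        · have h2 : w * h' * w⁻¹ * h'⁻¹ = w * (h' * w⁻¹ * h'⁻¹) := by group
          rw [h2]
          exact Y.mul_mem hwY (hYn.conj_mem _ (Y.inv_mem hwY) h')
      rw [hHY, Subgroup.mem_bot] at h1
      have h3 : w * h' = (w * h' * w⁻¹ * h'⁻¹) * (h' * w) := by group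
      rw [h3, h1, one_mul]
    have hw1 : w ∈ W ⊓ Subgroup.centralizer (H : Set G) := ⟨hw, hwC⟩
    rw [hW, Subgroup.mem_bot] at hw1
    rw [hw1, mul_one]
    exact hh
  · exact le_inf Subgroup.le_normalClosure Subgroup.le_normalizer

end Cfsg.Agent.Lib.H4.SHP
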