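import Mathlib
import Cfsg.Agent.Lib.H4.SLKDefs

/-!
# S2479 piece UP1 (abstract form): `k(SL_n(q)) ≤ ∑_τ wt τ` from the three inputs (helper4)
-/

set_option autoImplicit false
open Polynomial

namespace Cfsg.Agent.Lib.H4.SLK

open Cfsg.Agent.Lib.H12.Cls

universe u
variable {F : Type u} [Field F]

/-- the abstract form of UP1, with the three inputs as hypotheses -/
theorem card_conjClasses_SL_le_of [Fintype F] (n : ℕ)
    (hDt : ∀ A : GL (Fin n) F, (A : Matrix (Fin n) (Fin n) F).det = Dt (tupleOf A))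
    (hcd : ∀ (A : GL (Fin n) F) (j : Fin n), tupleOf A j ≠ 1 → ∀ a : Fˣ,
      ∃ y : GL (Fin n) F, Commute y A ∧ Matrix.GeneralLinearGroup.det y = a ^ ((j : ℕ) + 1))
    (hfib : ∀ (x : Matrix.SpecialLinearGroup (Fin n) F) (J : Finset ℕ),
      (∀ j ∈ J, ∀ a : Fˣ, ∃ y : GL (Fin n) F,
        Commute y (Matrix.SpecialLinearGroup.toGL x) ∧
          Matrix.GeneralLinearGroup.det y = a ^ j) →
      Nat.card {c : ConjClasses (Matrix.SpecialLinearGroup (Fin n) F) //
        ConjClasses.map (Matrix.SpecialLinearGroup.toGL (n := Fin n) (R := F)) c =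
          ConjClasses.mk (Matrix.SpecialLinearGroup.toGL x)} ≤
        Nat.gcd (Fintype.card F - 1) (J.gcd id)) :
    Nat.card (ConjClasses (Matrix.SpecialLinearGroup (Fin n) F)) ≤
      ∑ τ : TSet F n n, wt τ.1 := by
  classical
  set ι := Matrix.SpecialLinearGroup.toGL (n := Fin n) (R := F) with hι
  set Φ : ConjClasses (GL (Fin n) F) → TSet F n n := fun C =>
    ⟨tupleOf (Quotient.out C), fun j => ⟨tupleOf_monic _ j, tupleOf_coeff_zero _ j⟩,
      tupleOf_sum _⟩ with hΦ
  have hinj : Function.Injective Φ := by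
    intro C C' h
    have h1 : tupleOf (Quotient.out C) = tupleOf (Quotient.out C') := congrArg Subtype.val h
    have h2 := isConj_of_tupleOf_eq _ _ h1
    have h3 : ConjClasses.mk (Quotient.out C) = ConjClasses.mk (Quotient.out C') :=
      ConjClasses.mk_eq_mk_iff_isConj.mpr h2
    have h4 : ∀ D : ConjClasses (GL (Fin n) F),
        ConjClasses.mk (Quotient.out D) = D := fun D => Quotient.out_eq D
    rw [h4, h4] at h3
    exact h3
  set Ψ : ConjClasses (Matrix.SpecialLinearGroup (Fin n) F) → TSet F n n :=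
    fun c => Φ (ConjClasses.map ι c) with hΨ
  rw [← Nat.card_congr (Equiv.sigmaFiberEquiv Ψ), Nat.card_sigma]
  apply Finset.sum_le_sum
  intro τ _
  by_cases hne : Nonempty {c // Ψ c = τ}
  swap
  · rw [not_nonempty_iff] at hne
    rw [Nat.card_of_isEmpty]
    exact Nat.zero_le _
  obtain ⟨⟨c₀, hc₀⟩⟩ := hne
  obtain ⟨x₀, rfl⟩ := ConjClasses.exists_rep c₀
  have hmap : ConjClasses.map ι (ConjClasses.mk x₀) = ConjClasses.mk (ι x₀) := rfl
  set B : GL (Fin n) F := Quotient.out (ConjClasses.mk (ι x₀)) with hB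
  have hBc : IsConj B (ι x₀) := by
    apply ConjClasses.mk_eq_mk_iff_isConj.mp
    exact Quotient.out_eq (ConjClasses.mk (ι x₀))
  have hτ : τ.1 = tupleOf B := by
    rw [← hc₀]
    rfl
  obtain ⟨g, hg⟩ := isConj_iff.mp hBc
  -- g * B * g⁻¹ = ι x₀
  have hdetB : (B : Matrix (Fin n) (Fin n) F).det = 1 := by
    have h1 : Matrix.GeneralLinearGroup.det B = Matrix.GeneralLinearGroup.det (ι x₀) := by
      have := congrArg Matrix.GeneralLinearGroup.det hg
      rw [map_mul, map_mul, map_inv, mul_comm, inv_mul_cancel_left] at this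
      exact this
    have h2 : ((Matrix.GeneralLinearGroup.det B : Fˣ) : F) = (B : Matrix (Fin n) (Fin n) F).det := rfl
    have h3 : ((Matrix.GeneralLinearGroup.det (ι x₀) : Fˣ) : F) = 1 := by
      show ((ι x₀ : GL (Fin n) F) : Matrix (Fin n) (Fin n) F).det = 1
      rw [hι, Matrix.SpecialLinearGroup.coe_GL_coe_matrix]
      exact x₀.2
    rw [← h2, h1, h3]
  have hDtτ : Dt τ.1 = 1 := by rw [hτ, ← hDt, hdetB]
  rw [wt_of_eq _ hDtτ]
  -- the fibre lies in a fibre of ConjClasses.map ι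
  have hsub : ∀ c : {c // Ψ c = τ}, ConjClasses.map ι c.1 = ConjClasses.mk (ι x₀) := by
    intro c
    have : Φ (ConjClasses.map ι c.1) = Φ (ConjClasses.map ι (ConjClasses.mk x₀)) := by
      have h1 : Ψ c.1 = τ := c.2
      have h2 : Ψ (ConjClasses.mk x₀) = τ := hc₀
      exact h1.trans h2.symm
    rw [hinj this, hmap]
  have hle1 : Nat.card {c // Ψ c = τ} ≤
      Nat.card {c : ConjClasses (Matrix.SpecialLinearGroup (Fin n) F) //
        ConjClasses.map ι c = ConjClasses.mk (ι x₀)} := by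
    apply Nat.card_le_card_of_injective (fun c => ⟨c.1, hsub c⟩)
    intro c c' h
    exact Subtype.ext (Subtype.mk.inj h)
  refine hle1.trans ?_
  set J : Finset ℕ := Finset.image (fun j : Fin n => (j : ℕ) + 1) (supp τ.1) with hJ
  have hJg : J.gcd id = dg τ.1 := by
    rw [hJ]
    exact Finset.gcd_image (f := id) (g := fun j : Fin n => (j : ℕ) + 1) (s := supp τ.1)
  unfold idx
  rw [← hJg]
  apply hfib x₀ J
  intro j' hj' a
  rw [hJ, Finset.mem_image] at hj'
  obtain ⟨j, hj, rfl⟩ := hj'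
  rw [mem_supp, hτ] at hj
  obtain ⟨y, hy, hdy⟩ := hcd B j hj a
  refine ⟨g * y * g⁻¹, ?_, ?_⟩
  · have hx : ι x₀ = g * B * g⁻¹ := hg.symm
    show g * y * g⁻¹ * ι x₀ = ι x₀ * (g * y * g⁻¹)
    rw [hx]
    have := hy.eq
    calc g * y * g⁻¹ * (g * B * g⁻¹) = g * (y * B) * g⁻¹ := by group
      _ = g * (B * y) * g⁻¹ := by rw [this]
      _ = g * B * g⁻¹ * (g * y * g⁻¹) := by group
  · rw [map_mul, map_mul, map_inv, mul_comm, inv_mul_cancel_left, hdy]

end Cfsg.Agent.Lib.H4.SLK
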