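import Mathlib
import Cfsg.Agent.Lib.H4.SLKP15of
import Cfsg.Agent.Lib.H24.SLKP09
import Cfsg.Agent.Lib.H7.SLKP11
import Cfsg.Agent.Lib.H21.SLKP14

/-!
# S2479 piece UP1: `k(SL_n(q)) ≤ ∑_τ wt τ` (helper4; inputs by helper24, helper7, helper21)
-/

set_option autoImplicit false
open Polynomial

namespace Cfsg.Agent.Lib.H4.SLK

open Cfsg.Agent.Lib.H12.Cls

universe u
variable {F : Type u} [Field F]

theorem card_conjClasses_SL_le [Fintype F] (n : ℕ) :
    Nat.card (ConjClasses (Matrix.SpecialLinearGroup (Fin n) F)) ≤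
      ∑ τ : TSet F n n, wt τ.1 :=
  card_conjClasses_SL_le_of n Cfsg.Agent.Lib.H24.SLK.det_eq_Dt
    (fun A j hj a => Cfsg.Agent.Lib.H7.SLK.exists_commute_det A j hj a)
    (fun x J hJ => Cfsg.Agent.Lib.H21.SLK.card_fiber_SL_le x J hJ)

end Cfsg.Agent.Lib.H4.SLK
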