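import Mathlib
import Cfsg.Agent.Lib.H14.F9

set_option autoImplicit false

/-! # SU3-core3, model computations: `7:3 < L₂(7) < SU₃(3)` over the explicit field `F9 = F₃[i]`

`s0` has order 7; the setwise stabiliser of the 21 points `sig21` contains the normaliser of `⟨s0⟩`,
contains `m1` (which does not normalise `⟨s0⟩`) and does not contain `m2`. -/

namespace Cfsg.Agent.Lib.H4.SU3

open Cfsg.Agent.Lib.H14 Cfsg.Agent.Lib.H14.F9

abbrev M9 := Matrix (Fin 3) (Fin 3) F9

/-- explicit product of 3 × 3 matrices -/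
def mul3 (A B : M9) : M9 := fun a b => A a 0 * B 0 b + A a 1 * B 1 b + A a 2 * B 2 b

theorem mul3_eq (A B : M9) : mul3 A B = A * B := by
  ext a b
  simp [mul3, Matrix.mul_apply, Fin.sum_univ_three]

/-- conjugate transpose (`σ(x) = x³`) -/
def ct (A : M9) : M9 := fun a b => A b a * A b a * A b a

def one3 : M9 := !![e10, e00, e00; e00, e10, e00; e00, e00, e10]

theorem one3_eq : one3 = 1 := by
  ext a b
  fin_cases a <;> fin_cases b <;> rfl

/-- explicit determinant -/
def det3 (A : M9) : F9 :=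
  A 0 0 * A 1 1 * A 2 2 - A 0 0 * A 1 2 * A 2 1 - A 0 1 * A 1 0 * A 2 2 + A 0 1 * A 1 2 * A 2 0 +
    A 0 2 * A 1 0 * A 2 1 - A 0 2 * A 1 1 * A 2 0

theorem det3_eq (A : M9) : det3 A = A.det := by
  rw [Matrix.det_fin_three]; rfl

/-- explicit matrix-vector product -/
def mv3 (A : M9) (v : Fin 3 → F9) : Fin 3 → F9 :=
  ![A 0 0 * v 0 + A 0 1 * v 1 + A 0 2 * v 2, A 1 0 * v 0 + A 1 1 * v 1 + A 1 2 * v 2,
    A 2 0 * v 0 + A 2 1 * v 1 + A 2 2 * v 2]

theorem mv3_eq (A : M9) (v : Fin 3 → F9) : mv3 A v = A.mulVec v := by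
  ext a
  fin_cases a <;> simp [mv3, Matrix.mulVec, dotProduct, Fin.sum_univ_three]

/-- the matrix with columns `u, v, w` -/
def cols3 (u v w : Fin 3 → F9) : M9 := !![u 0, v 0, w 0; u 1, v 1, w 1; u 2, v 2, w 2]

/-- boolean equality of matrices -/
def eqM (A B : M9) : Bool :=
  (A 0 0 == B 0 0) && (A 0 1 == B 0 1) && (A 0 2 == B 0 2) && (A 1 0 == B 1 0) && (A 1 1 == B 1 1) &&
    (A 1 2 == B 1 2) && (A 2 0 == B 2 0) && (A 2 1 == B 2 1) && (A 2 2 == B 2 2)

theorem eqM_iff (A B : M9) : eqM A B = true ↔ A = B := by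
  constructor
  · intro h
    simp only [eqM, Bool.and_eq_true, beq_iff_eq] at h
    obtain ⟨⟨⟨⟨⟨⟨⟨⟨h1, h2⟩, h3⟩, h4⟩, h5⟩, h6⟩, h7⟩, h8⟩, h9⟩ := h
    ext a b
    fin_cases a <;> fin_cases b <;> assumption
  · rintro rfl
    simp [eqM]

def s0 : M9 := !![e00, e00, e10; e11, e11, e00; e21, e12, e00]

/-- the powers of `s0` -/
def pw : Fin 7 → M9
  | 0 => one3
  | 1 => s0
  | 2 => !![e21, e12, e00; e02, e02, e11; e20, e20, e21]
  | 3 => !![e20, e20, e21; e22, e02, e02; e20, e21, e20]
  | 4 => !![e20, e21, e20; e20, e01, e22; e22, e01, e20]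
  | 5 => !![e22, e01, e20; e11, e01, e20; e00, e12, e22]
  | 6 => !![e00, e12, e22; e00, e12, e11; e10, e00, e00]

/-- `B0 = [e₁ | s0 e₁ | s0² e₁]` and its inverse -/
def B0 : M9 := !![e10, e00, e21; e00, e11, e02; e00, e21, e20]
def Bi : M9 := !![e10, e22, e12; e00, e12, e22; e00, e02, e10]

def m1 : M9 := !![e20, e00, e00; e00, e00, e10; e00, e10, e00]
def m2 : M9 := !![e00, e00, e10; e00, e10, e00; e20, e00, e00]

/-- the 21 points, normalised (first non-zero coordinate `1`) -/
def sig21 : List (F9 × F9 × F9) :=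
  [(e00, e10, e10), (e10, e00, e02), (e10, e10, e21), (e10, e20, e11), (e10, e01, e00),
   (e10, e11, e01), (e10, e11, e12), (e10, e11, e22), (e10, e21, e01), (e10, e21, e12),
   (e10, e21, e22), (e10, e02, e11), (e10, e02, e21), (e10, e02, e12), (e10, e02, e22),
   (e10, e12, e20), (e10, e12, e01), (e10, e12, e21), (e10, e22, e10), (e10, e22, e01),
   (e10, e22, e11)]

/-- normalisation of a vector -/
def nrm (a b c : F9) : F9 × F9 × F9 :=
  if a = e00 then (if b = e00 then (if c = e00 then (e00, e00, e00) else (e00, e00, e10))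
    else (e00, e10, inv b * c))
  else (e10, inv a * b, inv a * c)

/-- membership in the set of the 168 vectors spanning the 21 points -/
def inS (v : Fin 3 → F9) : Bool := sig21.contains (nrm (v 0) (v 1) (v 2))

/-- `A` maps the set of vectors into itself -/
def all9 : List F9 := [e00, e10, e20, e01, e11, e21, e02, e12, e22]

theorem mem_all9 (x : F9) : x ∈ all9 := by cases x <;> decide

def stabB (A : M9) : Bool :=
  all9.all fun a => all9.all fun b => all9.all fun c => !inS ![a, b, c] || inS (mv3 A ![a, b, c])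

theorem stabB_iff (A : M9) :
    stabB A = true ↔ ∀ v : Fin 3 → F9, inS v = true → inS (A.mulVec v) = true := by
  have hv : ∀ v : Fin 3 → F9, v = ![v 0, v 1, v 2] := by
    intro v; ext a; fin_cases a <;> rfl
  constructor
  · intro h v hv1
    simp only [stabB, List.all_eq_true, Bool.or_eq_true, Bool.not_eq_true'] at h
    have := h (v 0) (mem_all9 _) (v 1) (mem_all9 _) (v 2) (mem_all9 _)
    rw [← hv v, mv3_eq] at this
    rcases this with h1 | h1
    · rw [h1] at hv1; exact absurd hv1 (by simp)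
    · exact h1
  · intro h
    simp only [stabB, List.all_eq_true, Bool.or_eq_true, Bool.not_eq_true']
    intro a _ b _ c _
    by_cases h1 : inS ![a, b, c] = true
    · right; rw [mv3_eq]; exact h _ h1
    · left; simpa using h1

/-- the candidate normalising matrices -/
def cand (j : Fin 7) (x0 x1 x2 : F9) : M9 :=
  mul3 (cols3 ![x0, x1, x2] (mv3 (pw j) ![x0, x1, x2]) (mv3 (pw j) (mv3 (pw j) ![x0, x1, x2]))) Bi

/-- `A` is an element of `SU₃(3)` conjugating `s0` to `pw j` -/
def goodB (j : Fin 7) (A : M9) : Bool :=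
  eqM (mul3 (ct A) A) one3 && (det3 A == e10) && eqM (mul3 A s0) (mul3 (pw j) A)

/-! ## the computations -/

theorem s0_unit : mul3 (ct s0) s0 = one3 := by decide +kernel

theorem s0_unit' : mul3 s0 (ct s0) = one3 := by decide +kernel

theorem s0_det : det3 s0 = e10 := by decide +kernel

theorem pw_succ : ∀ k : Fin 6, mul3 (pw k.castSucc) s0 = pw k.succ := by decide +kernel

theorem pw_last : mul3 (pw 6) s0 = one3 := by decide +kernel

theorem pw_ne_one : ∀ k : Fin 6, pw k.succ ≠ one3 := by decide +kernel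

theorem B0_Bi : mul3 B0 Bi = one3 := by decide +kernel

theorem B0_eq : B0 = cols3 ![e10, e00, e00] (mv3 s0 ![e10, e00, e00]) (mv3 s0 (mv3 s0 ![e10, e00, e00])) := by
  decide +kernel

set_option maxRecDepth 100000 in
/-- the main computation: the normaliser of `⟨s0⟩` in `SU₃(3)` stabilises the 21 points -/
theorem cand_stab : ∀ (j : Fin 6) (x0 x1 x2 : F9),
    (!goodB j.succ (cand j.succ x0 x1 x2) || stabB (cand j.succ x0 x1 x2)) = true := by
  decide +kernel

theorem m1_unit : mul3 (ct m1) m1 = one3 := by decide +kernel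

theorem m1_unit' : mul3 m1 (ct m1) = one3 := by decide +kernel

theorem m1_det : det3 m1 = e10 := by decide +kernel

set_option maxRecDepth 100000 in
theorem m1_stab : stabB m1 = true := by decide +kernel

set_option maxRecDepth 100000 in
theorem m1_stab' : stabB (ct m1) = true := by decide +kernel

theorem m1_not_norm : ∀ k : Fin 7, mul3 m1 s0 ≠ mul3 (pw k) m1 := by decide +kernel

theorem m2_unit : mul3 (ct m2) m2 = one3 := by decide +kernel

theorem m2_unit' : mul3 m2 (ct m2) = one3 := by decide +kernel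

theorem m2_det : det3 m2 = e10 := by decide +kernel

set_option maxRecDepth 100000 in
theorem m2_not_stab : stabB m2 = false := by decide +kernel

end Cfsg.Agent.Lib.H4.SU3
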