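import Mathlib
import Cfsg.Agent.Lib.H27.SU3Defs
import Cfsg.Agent.Lib.H4.AschUM3
import Cfsg.Agent.Lib.H4.Herm
import Cfsg.Agent.Lib.H4.SU3Core3a
import Cfsg.Agent.Lib.H28.GLBasic

set_option autoImplicit false
set_option maxHeartbeats 800000

/-! # SU3-core3: `Core7 F 3` for every field with nine elements (`7:3 < L₂(7) < SU₃(3)`) -/

namespace Cfsg.Agent.Lib.H4.SU3

open Cfsg Cfsg.Geo Cfsg.Agent.Lib.Lead.Asch Cfsg.Agent.Lib.H4.Asch Cfsg.Agent.Lib.H27.SU3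
open Cfsg.Agent.Lib.H14 Cfsg.Agent.Lib.H14.F9
open scoped MatrixGroups Matrix

/-! ## the model: the normaliser of `⟨s0⟩` consists of candidates -/

theorem mul_cols3 (A : M9) (u v w : Fin 3 → F9) :
    A * cols3 u v w = cols3 (A *ᵥ u) (A *ᵥ v) (A *ᵥ w) := by
  ext a b
  fin_cases a <;> fin_cases b <;>
    simp [cols3, Matrix.mul_apply, Matrix.mulVec, dotProduct, Fin.sum_univ_three]

theorem eq_cand (j : Fin 7) (A : M9) (h : A * s0 = pw j * A) :
    A = cand j (A 0 0) (A 1 0) (A 2 0) := by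
  have he : A *ᵥ ![e10, e00, e00] = ![A 0 0, A 1 0, A 2 0] := by
    ext a
    have h0 : (e00 : F9) = 0 := rfl
    have h1 : (e10 : F9) = 1 := rfl
    fin_cases a <;> simp [Matrix.mulVec, dotProduct, Fin.sum_univ_three, h0, h1]
  have hstep : ∀ v : Fin 3 → F9, A *ᵥ (s0 *ᵥ v) = pw j *ᵥ (A *ᵥ v) := by
    intro v
    rw [Matrix.mulVec_mulVec, h, ← Matrix.mulVec_mulVec]
  have h1 : A *ᵥ (s0 *ᵥ ![e10, e00, e00]) = pw j *ᵥ ![A 0 0, A 1 0, A 2 0] := by
    rw [hstep, he]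
  have h2 : A *ᵥ (s0 *ᵥ (s0 *ᵥ ![e10, e00, e00])) = pw j *ᵥ (pw j *ᵥ ![A 0 0, A 1 0, A 2 0]) := by
    rw [hstep, h1]
  have hB : A * B0 = cols3 ![A 0 0, A 1 0, A 2 0] (pw j *ᵥ ![A 0 0, A 1 0, A 2 0])
      (pw j *ᵥ (pw j *ᵥ ![A 0 0, A 1 0, A 2 0])) := by
    rw [B0_eq, mv3_eq, mv3_eq, mul_cols3, he, h1, h2]
  have hBi : B0 * Bi = 1 := by rw [← mul3_eq, B0_Bi, one3_eq]
  unfold cand
  rw [mv3_eq, mv3_eq, mul3_eq, ← hB, mul_assoc, hBi, mul_one]

/-- an element of `SU₃(3)` (model) normalising `⟨s0⟩` stabilises the 21 points -/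
theorem stab_of_norm (j : Fin 6) (A : M9) (hu : ct A * A = 1) (hd : A.det = 1)
    (h : A * s0 = pw j.succ * A) : stabB A = true := by
  have hc := eq_cand j.succ A h
  have := cand_stab j (A 0 0) (A 1 0) (A 2 0)
  rw [← hc] at this
  have hg : goodB j.succ A = true := by
    simp only [goodB, Bool.and_eq_true, eqM_iff, beq_iff_eq]
    refine ⟨⟨?_, ?_⟩, ?_⟩
    · rw [mul3_eq, one3_eq]; exact hu
    · rw [det3_eq]; exact hd
    · rw [mul3_eq, mul3_eq]; exact h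
  rw [hg] at this
  simpa using this

/-! ## transfer to an arbitrary field with nine elements -/

section transfer

variable {F : Type*} [Field F]

/-- transfer of a model matrix -/
def mp9 (ι : F9 ≃+* F) (A : M9) : Matrix (Fin 3) (Fin 3) F := A.map ι

theorem mp9_apply (ι : F9 ≃+* F) (A : M9) (a b : Fin 3) : mp9 ι A a b = ι (A a b) := rfl

theorem mp9_mul (ι : F9 ≃+* F) (A B : M9) : mp9 ι (A * B) = mp9 ι A * mp9 ι B := by
  unfold mp9
  exact Matrix.map_mul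

theorem mp9_one (ι : F9 ≃+* F) : mp9 ι (1 : M9) = 1 := by
  unfold mp9
  exact Matrix.map_one _ (map_zero ι) (map_one ι)

theorem mp9_injective (ι : F9 ≃+* F) : Function.Injective (mp9 ι) := by
  intro A B h
  ext a b
  exact ι.injective (congrFun (congrFun h a) b)

theorem mp9_surjective (ι : F9 ≃+* F) (M : Matrix (Fin 3) (Fin 3) F) : ∃ A : M9, mp9 ι A = M := by
  refine ⟨M.map ι.symm, ?_⟩
  ext a b
  simp [mp9_apply]

theorem mp9_ct (ι : F9 ≃+* F) (φ : F →+* F) (hφ : ∀ x, φ x = x ^ 3) (A : M9) :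
    mp9 ι (ct A) = Asch.adj φ (mp9 ι A) := by
  ext a b
  rw [Asch.adj_apply, mp9_apply, mp9_apply, hφ]
  show ι (A b a * A b a * A b a) = _
  rw [map_mul, map_mul]
  ring

theorem mp9_det (ι : F9 ≃+* F) (A : M9) : (mp9 ι A).det = ι A.det := by
  unfold mp9
  exact (RingHom.map_det (ι : F9 →+* F) A).symm

theorem mp9_mulVec (ι : F9 ≃+* F) (A : M9) (v : Fin 3 → F9) :
    mp9 ι A *ᵥ (fun a => ι (v a)) = fun a => ι ((A *ᵥ v) a) := by
  funext a
  exact (RingHom.map_mulVec (ι : F9 →+* F) A v a).symm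

/-- the image of the 168 vectors -/
def SF (ι : F9 ≃+* F) : Set (Fin 3 → F) := {u | ∃ v : Fin 3 → F9, inS v = true ∧ u = fun a => ι (v a)}

theorem stab_SF (ι : F9 ≃+* F) (A : M9) (h : stabB A = true) (u : Fin 3 → F) (hu : u ∈ SF ι) :
    mp9 ι A *ᵥ u ∈ SF ι := by
  obtain ⟨v, hv, rfl⟩ := hu
  rw [mp9_mulVec]
  exact ⟨A *ᵥ v, (stabB_iff A).1 h v hv, rfl⟩

theorem stabB_of_SF (ι : F9 ≃+* F) (A : M9) (h : ∀ u ∈ SF ι, mp9 ι A *ᵥ u ∈ SF ι) : stabB A = true := by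
  rw [stabB_iff]
  intro v hv
  obtain ⟨w, hw, hw'⟩ := h _ ⟨v, hv, rfl⟩
  rw [mp9_mulVec] at hw'
  have : A *ᵥ v = w := by
    funext a
    exact ι.injective (congrFun hw' a)
  rw [this]; exact hw

end transfer

/-- **SU3-core3**. -/
theorem core3 {F : Type*} [Field F] [Fintype F] (hF : Fintype.card F = 3 ^ 2) : Core7 F 3 := by
  classical
  obtain ⟨φ, hφ, hφ2⟩ := Cfsg.Agent.Lib.H4.exists_frob hF
  let ι : F9 ≃+* F := FiniteField.ringEquivOfCardEq (K := F9) (K' := F)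
    (by rw [F9.card_eq, hF]; norm_num)
  -- the isometry criterion
  have hiso : ∀ g : Matrix (Fin 3) (Fin 3) F, Asch.adj φ g * g = 1 → ∀ x y : Fin 3 → F,
      hermForm 3 F 3 (g *ᵥ x) (g *ᵥ y) = hermForm 3 F 3 x y := by
    intro g h x y
    rw [Asch.hermForm_adj φ hφ hφ2, Matrix.mulVec_mulVec, h, Matrix.one_mulVec]
  -- elements of `SU₃` from model matrices
  have mk : ∀ A : M9, mul3 (ct A) A = one3 → mul3 A (ct A) = one3 → det3 A = e10 →
      ∃ g : GL (Fin 3) F, (g : Matrix (Fin 3) (Fin 3) F) = mp9 ι A ∧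
        ((g⁻¹ : GL (Fin 3) F) : Matrix (Fin 3) (Fin 3) F) = mp9 ι (ct A) ∧ g ∈ SU3 F 3 := by
    intro A h1 h2 h3
    rw [mul3_eq, one3_eq] at h1 h2
    refine ⟨⟨mp9 ι A, mp9 ι (ct A), by rw [← mp9_mul, h2, mp9_one], by rw [← mp9_mul, h1, mp9_one]⟩,
      rfl, rfl, ?_, ?_⟩
    · intro x y
      refine hiso _ ?_ x y
      show Asch.adj φ (mp9 ι A) * mp9 ι A = 1
      rw [← mp9_ct ι φ hφ, ← mp9_mul, h1, mp9_one]
    · refine (Cfsg.Agent.Lib.H28.mem_specialLinear_iff _).2 ?_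
      show (mp9 ι A).det = 1
      rw [mp9_det, ← det3_eq, h3]
      exact map_one ι
  -- pulling back elements of `SU₃`
  have pull : ∀ g : GL (Fin 3) F, g ∈ SU3 F 3 → ∃ A : M9, mp9 ι A = (g : Matrix (Fin 3) (Fin 3) F) ∧
      ct A * A = 1 ∧ A.det = 1 ∧ ((g⁻¹ : GL (Fin 3) F) : Matrix (Fin 3) (Fin 3) F) = mp9 ι (ct A) := by
    intro g hg
    obtain ⟨A, hA⟩ := mp9_surjective ι (g : Matrix (Fin 3) (Fin 3) F)
    have h1 := Asch.adj_mul_self_of_mem_GU φ hφ hφ2 g hg.1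
    have h2 := Asch.adj_eq_inv_of_mem_GU φ hφ hφ2 g hg.1
    rw [← hA, ← mp9_ct ι φ hφ] at h1 h2
    rw [← mp9_mul] at h1
    refine ⟨A, hA, mp9_injective ι (h1.trans (mp9_one ι).symm), ?_, h2.symm⟩
    have h3 := (Cfsg.Agent.Lib.H28.mem_specialLinear_iff g).1 hg.2
    rw [← hA, mp9_det] at h3
    exact ι.injective (h3.trans (map_one ι).symm)
  obtain ⟨s, hs, hs', hsSU⟩ := mk s0 s0_unit s0_unit' s0_det
  -- powers of `s`
  have hpw : ∀ (n : ℕ) (hn : n < 7), ((s ^ n : GL (Fin 3) F) : Matrix (Fin 3) (Fin 3) F) =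
      mp9 ι (pw ⟨n, hn⟩) := by
    intro n
    induction n with
    | zero =>
      intro _
      rw [pow_zero, Units.val_one]
      show 1 = mp9 ι one3
      rw [one3_eq, mp9_one]
    | succ n ih =>
      intro hn
      have hn' : n < 6 := by omega
      rw [pow_succ, Units.val_mul, ih (by omega), hs, ← mp9_mul, ← mul3_eq]
      exact congrArg (mp9 ι) (pw_succ ⟨n, hn'⟩)
  have hs7 : s ^ 7 = 1 := by
    apply Units.ext
    rw [pow_succ, Units.val_mul, hpw 6 (by norm_num), hs, ← mp9_mul, ← mul3_eq]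
    show mp9 ι (mul3 (pw 6) s0) = _
    rw [pw_last, one3_eq, mp9_one]
    rfl
  have hpw_ne : ∀ (n : ℕ), 0 < n → n < 7 → s ^ n ≠ 1 := by
    intro n hn0 hn h
    obtain ⟨m, rfl⟩ : ∃ m, n = m + 1 := ⟨n - 1, by omega⟩
    have h1 := hpw (m + 1) hn
    rw [h, Units.val_one, ← mp9_one ι, ← one3_eq] at h1
    exact pw_ne_one ⟨m, by omega⟩ (mp9_injective ι h1).symm
  have hord : orderOf s = 7 := by
    have : Fact (Nat.Prime 7) := ⟨by norm_num⟩
    exact orderOf_eq_prime hs7 (by simpa using hpw_ne 1 (by norm_num) (by norm_num))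
  -- elements of the normaliser
  have hnorm : ∀ g : GL (Fin 3) F, g ∈ Subgroup.normalizer (Subgroup.zpowers s : Set (GL (Fin 3) F)) →
      ∃ k : Fin 7, g * s = s ^ (k : ℕ) * g := by
    intro g hg
    have h1 : g * s * g⁻¹ ∈ Subgroup.zpowers s :=
      (Subgroup.mem_normalizer_iff.mp hg s).mp (Subgroup.mem_zpowers s)
    obtain ⟨z, hz⟩ := Subgroup.mem_zpowers_iff.mp h1
    have h2 : s ^ z = s ^ (z % 7) := by
      have := zpow_mod_orderOf s z
      rw [hord] at this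
      exact_mod_cast this.symm
    have h3 : (0 : ℤ) ≤ z % 7 := Int.emod_nonneg z (by norm_num)
    have h4 : z % 7 < 7 := Int.emod_lt_of_pos z (by norm_num)
    obtain ⟨m, hm⟩ := Int.eq_ofNat_of_zero_le h3
    refine ⟨⟨m, by omega⟩, ?_⟩
    show g * s = s ^ m * g
    rw [← zpow_natCast, ← hm, ← h2, hz]
    group
  -- the overgroup
  let M : Subgroup (GL (Fin 3) F) :=
    { carrier := {g | g ∈ SU3 F 3 ∧ (∀ u ∈ SF ι, (g : Matrix (Fin 3) (Fin 3) F) *ᵥ u ∈ SF ι) ∧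
        ∀ u ∈ SF ι, ((g⁻¹ : GL (Fin 3) F) : Matrix (Fin 3) (Fin 3) F) *ᵥ u ∈ SF ι}
      one_mem' := ⟨Subgroup.one_mem _, fun u hu => by simpa using hu, fun u hu => by simpa using hu⟩
      mul_mem' := by
        rintro g h ⟨hg1, hg2, hg3⟩ ⟨hh1, hh2, hh3⟩
        refine ⟨Subgroup.mul_mem _ hg1 hh1, fun u hu => ?_, fun u hu => ?_⟩
        · rw [Units.val_mul, ← Matrix.mulVec_mulVec]
          exact hg2 _ (hh2 u hu)
        · rw [mul_inv_rev, Units.val_mul, ← Matrix.mulVec_mulVec]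
          exact hh3 _ (hg3 u hu)
      inv_mem' := by
        rintro g ⟨hg1, hg2, hg3⟩
        refine ⟨Subgroup.inv_mem _ hg1, hg3, ?_⟩
        rw [inv_inv]; exact hg2 }
  have hM : ∀ g : GL (Fin 3) F, g ∈ M ↔ g ∈ SU3 F 3 ∧
      (∀ u ∈ SF ι, (g : Matrix (Fin 3) (Fin 3) F) *ᵥ u ∈ SF ι) ∧
        ∀ u ∈ SF ι, ((g⁻¹ : GL (Fin 3) F) : Matrix (Fin 3) (Fin 3) F) *ᵥ u ∈ SF ι := fun g => Iff.rfl
  -- the normaliser stabilises the points
  have key : ∀ g : GL (Fin 3) F, g ∈ Subgroup.normalizer (Subgroup.zpowers s : Set (GL (Fin 3) F)) →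
      g ∈ SU3 F 3 → ∀ u ∈ SF ι, (g : Matrix (Fin 3) (Fin 3) F) *ᵥ u ∈ SF ι := by
    intro g hgN hgSU u hu
    obtain ⟨A, hA, hAu, hAd, -⟩ := pull g hgSU
    obtain ⟨k, hk⟩ := hnorm g hgN
    have hk0 : (k : ℕ) ≠ 0 := by
      intro h0
      rw [h0, pow_zero, one_mul] at hk
      have : s = 1 := mul_left_cancel (hk.trans (mul_one g).symm)
      exact hpw_ne 1 (by norm_num) (by norm_num) (by simpa using this)
    obtain ⟨j, hj⟩ : ∃ j : Fin 6, k = j.succ := ⟨⟨(k : ℕ) - 1, by omega⟩, by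
      apply Fin.ext; simp only [Fin.val_succ]; omega⟩
    have h1 := congrArg (fun x : GL (Fin 3) F => (x : Matrix (Fin 3) (Fin 3) F)) hk
    simp only [Units.val_mul] at h1
    rw [hpw (k : ℕ) k.2, ← hA, hs, ← mp9_mul, ← mp9_mul] at h1
    have h2 : A * s0 = pw k * A := mp9_injective ι h1
    rw [hj] at h2
    rw [← hA]
    exact stab_SF ι A (stab_of_norm j A hAu hAd h2) u hu
  obtain ⟨g1, hg1, hg1', hg1SU⟩ := mk m1 m1_unit m1_unit' m1_det
  obtain ⟨g2, hg2, hg2', hg2SU⟩ := mk m2 m2_unit m2_unit' m2_det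
  refine ⟨s, hsSU, hord, M, ?_, ?_, ?_, ?_⟩
  · -- the normaliser lies in `M`
    rintro g ⟨hgN, hgSU⟩
    refine ⟨hgSU, key g hgN hgSU, key g⁻¹ (Subgroup.inv_mem _ hgN) (Subgroup.inv_mem _ hgSU)⟩
  · exact fun g hg => hg.1
  · -- `g2 ∉ M`
    intro hMeq
    have h1 : g2 ∈ M := by rw [hMeq]; exact hg2SU
    have h2 := ((hM g2).1 h1).2.1
    rw [hg2] at h2
    have h3 := stabB_of_SF ι m2 h2
    rw [m2_not_stab] at h3
    exact absurd h3 (by simp)
  · -- `g1 ∈ M` does not normalise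
    intro hle
    have h1 : g1 ∈ M := by
      rw [hM]
      refine ⟨hg1SU, ?_, ?_⟩
      · rw [hg1]; exact stab_SF ι m1 m1_stab
      · rw [hg1']; exact stab_SF ι (ct m1) m1_stab'
    obtain ⟨k, hk⟩ := hnorm g1 (hle h1)
    have h2 := congrArg (fun x : GL (Fin 3) F => (x : Matrix (Fin 3) (Fin 3) F)) hk
    simp only [Units.val_mul] at h2
    rw [hpw (k : ℕ) k.2, hg1, hs, ← mp9_mul, ← mp9_mul] at h2
    have h3 : m1 * s0 = pw k * m1 := mp9_injective ι h2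
    rw [← mul3_eq, ← mul3_eq] at h3
    exact m1_not_norm k h3

end Cfsg.Agent.Lib.H4.SU3
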