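import Mathlib
import Cfsg.Agent.Lib.H10.SU3E6Defs
import Cfsg.Agent.Lib.H4.AschUM3
import Cfsg.Agent.Lib.H4.Herm
import Cfsg.Agent.Lib.H25.AschUT5b

set_option autoImplicit false
set_option maxHeartbeats 800000

/-! # SU3-e6a2: the orthonormal eigenbasis `v, y v, y² v` of a pair `x, y` with `x y = w • y x` in `GU₃(5)` -/

namespace Cfsg.Agent.Lib.H4.SU3

open Cfsg Cfsg.Geo Cfsg.Agent.Lib.Lead.Asch Cfsg.Agent.Lib.H27.SU3 Cfsg.Agent.Lib.H10.SU3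
open scoped MatrixGroups Matrix

variable {F : Type*} [Field F] [Fintype F]

/-- eigenvectors of an isometry for eigenvalues `l₁, l₂` with `l₁ l₂^q ≠ 1` are orthogonal -/
theorem herm_eq_zero_of_eigen {q : ℕ} (X : Matrix (Fin 3) (Fin 3) F)
    (hX : ∀ u v : Fin 3 → F, hermForm 3 F q (X *ᵥ u) (X *ᵥ v) = hermForm 3 F q u v)
    (u₁ u₂ : Fin 3 → F) (l₁ l₂ : F) (h₁ : X *ᵥ u₁ = l₁ • u₁) (h₂ : X *ᵥ u₂ = l₂ • u₂)
    (hl : l₁ * l₂ ^ q ≠ 1) : hermForm 3 F q u₁ u₂ = 0 := by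
  have h := hX u₁ u₂
  rw [h₁, h₂, Cfsg.Agent.Lib.H4.hermForm_smul_left, Cfsg.Agent.Lib.H4.hermForm_smul_right] at h
  have h' : (l₁ * l₂ ^ q - 1) * hermForm 3 F q u₁ u₂ = 0 := by linear_combination h
  rcases mul_eq_zero.1 h' with h0 | h0
  · exact absurd (sub_eq_zero.1 h0) hl
  · exact h0

/-- arithmetic of a primitive cube root of unity in a field with 25 elements -/
theorem w_facts (hF : Fintype.card F = 5 ^ 2) (w : F) (hw : w ^ 2 + w + 1 = 0) :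
    w ≠ 1 ∧ w ^ 2 ≠ 1 ∧ w ^ 2 ≠ w ∧ w ^ 5 = w ^ 2 ∧ (w ^ 2) ^ 5 = w := by
  have h25 : (25 : F) = 0 := by
    have := Nat.cast_card_eq_zero F
    rw [hF] at this
    exact_mod_cast this
  have hw3 : w ^ 3 = 1 := by linear_combination (w - 1) * hw
  have hw1 : w ≠ 1 := by
    rintro rfl
    have h3 : (3 : F) = 0 := by linear_combination hw
    have : (1 : F) = 0 := by linear_combination h25 - 8 * h3
    exact one_ne_zero this
  have hw21 : w ^ 2 ≠ 1 := by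
    intro h
    apply hw1
    have : w * w ^ 2 = 1 := by rw [← pow_succ']; exact hw3
    rw [h, mul_one] at this
    exact this
  have hw0 : w ≠ 0 := by
    rintro rfl
    simp at hw
  refine ⟨hw1, hw21, ?_, ?_, ?_⟩
  · intro h
    apply hw1
    have : w * w = w * 1 := by rw [← sq, h, mul_one]
    exact mul_left_cancel₀ hw0 this
  · have : w ^ 5 = w ^ 3 * w ^ 2 := by ring
    rw [this, hw3, one_mul]
  · have : (w ^ 2) ^ 5 = (w ^ 3) ^ 3 * w := by ring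
    rw [this, hw3, one_pow, one_mul]

/-- the eigenvectors `v, y v, y² v` of `x` and their Gram data -/
theorem eig_facts (hF : Fintype.card F = 5 ^ 2) (w : F) (hw : w ^ 2 + w + 1 = 0)
    (X Y : Matrix (Fin 3) (Fin 3) F)
    (hX : ∀ u v : Fin 3 → F, hermForm 3 F 5 (X *ᵥ u) (X *ᵥ v) = hermForm 3 F 5 u v)
    (hY : ∀ u v : Fin 3 → F, hermForm 3 F 5 (Y *ᵥ u) (Y *ᵥ v) = hermForm 3 F 5 u v)
    (hY3 : Y * Y * Y = 1) (hrel : X * Y = w • (Y * X))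
    (v : Fin 3 → F) (hxv : X *ᵥ v = v) :
    X *ᵥ (Y *ᵥ v) = w • (Y *ᵥ v) ∧ X *ᵥ (Y *ᵥ (Y *ᵥ v)) = (w ^ 2) • (Y *ᵥ (Y *ᵥ v)) ∧
    Y *ᵥ (Y *ᵥ (Y *ᵥ v)) = v ∧
    hermForm 3 F 5 (Y *ᵥ v) (Y *ᵥ v) = hermForm 3 F 5 v v ∧
    hermForm 3 F 5 (Y *ᵥ (Y *ᵥ v)) (Y *ᵥ (Y *ᵥ v)) = hermForm 3 F 5 v v ∧
    hermForm 3 F 5 v (Y *ᵥ v) = 0 ∧ hermForm 3 F 5 v (Y *ᵥ (Y *ᵥ v)) = 0 ∧
    hermForm 3 F 5 (Y *ᵥ v) (Y *ᵥ (Y *ᵥ v)) = 0 ∧
    hermForm 3 F 5 (Y *ᵥ v) v = 0 ∧ hermForm 3 F 5 (Y *ᵥ (Y *ᵥ v)) v = 0 ∧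
    hermForm 3 F 5 (Y *ᵥ (Y *ᵥ v)) (Y *ᵥ v) = 0 := by
  obtain ⟨hw1, hw21, -, hw5, hw10⟩ := w_facts hF w hw
  have hstep : ∀ (u : Fin 3 → F) (l : F), X *ᵥ u = l • u → X *ᵥ (Y *ᵥ u) = (w * l) • (Y *ᵥ u) := by
    intro u l hu
    rw [Matrix.mulVec_mulVec, hrel, Matrix.smul_mulVec, ← Matrix.mulVec_mulVec, hu, Matrix.mulVec_smul,
      smul_smul]
  have hx0 : X *ᵥ v = (1 : F) • v := by rw [one_smul]; exact hxv
  have hx1 : X *ᵥ (Y *ᵥ v) = w • (Y *ᵥ v) := by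
    have := hstep v 1 hx0
    rwa [mul_one] at this
  have hx2 : X *ᵥ (Y *ᵥ (Y *ᵥ v)) = (w ^ 2) • (Y *ᵥ (Y *ᵥ v)) := by
    have := hstep _ w hx1
    rwa [← sq] at this
  have hy2 : Y *ᵥ (Y *ᵥ (Y *ᵥ v)) = v := by
    rw [Matrix.mulVec_mulVec, Matrix.mulVec_mulVec, hY3, Matrix.one_mulVec]
  have h01 : hermForm 3 F 5 v (Y *ᵥ v) = 0 :=
    herm_eq_zero_of_eigen X hX _ _ 1 w hx0 hx1 (by rw [one_mul, hw5]; exact hw21)
  have h02 : hermForm 3 F 5 v (Y *ᵥ (Y *ᵥ v)) = 0 :=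
    herm_eq_zero_of_eigen X hX _ _ 1 (w ^ 2) hx0 hx2 (by rw [one_mul, hw10]; exact hw1)
  have h12 : hermForm 3 F 5 (Y *ᵥ v) (Y *ᵥ (Y *ᵥ v)) = 0 :=
    herm_eq_zero_of_eigen X hX _ _ w (w ^ 2) hx1 hx2 (by rw [hw10, ← sq]; exact hw21)
  have hsym : ∀ a b : Fin 3 → F, hermForm 3 F 5 a b = 0 → hermForm 3 F 5 b a = 0 := by
    intro a b h
    rw [← Cfsg.Agent.Lib.H4.hermForm_conj 3 hF a b, h]
    exact zero_pow (by norm_num)
  exact ⟨hx1, hx2, hy2, hY _ _, by rw [hY, hY], h01, h02, h12, hsym _ _ h01, hsym _ _ h02, hsym _ _ h12⟩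

/-- the Gram matrix of `v, y v, y² v` and the conjugation relations -/
theorem e6a2_gram (hF : Fintype.card F = 5 ^ 2) (φ : F →+* F) (hφ : ∀ x, φ x = x ^ 5)
    (w : F) (hw : w ^ 2 + w + 1 = 0)
    (X Y : Matrix (Fin 3) (Fin 3) F)
    (hX : ∀ u v : Fin 3 → F, hermForm 3 F 5 (X *ᵥ u) (X *ᵥ v) = hermForm 3 F 5 u v)
    (hY : ∀ u v : Fin 3 → F, hermForm 3 F 5 (Y *ᵥ u) (Y *ᵥ v) = hermForm 3 F 5 u v)
    (hY3 : Y * Y * Y = 1) (hrel : X * Y = w • (Y * X))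
    (v : Fin 3 → F) (hxv : X *ᵥ v = v) :
    ∃ G0 : Matrix (Fin 3) (Fin 3) F, (∀ i, G0 i 0 = v i) ∧
      Asch.adj φ G0 * G0 = hermForm 3 F 5 v v • (1 : Matrix (Fin 3) (Fin 3) F) ∧
      X * G0 = G0 * Xm w ∧ Y * G0 = G0 * Ym ∧ (v ≠ 0 → IsUnit G0) := by
  classical
  obtain ⟨hx1, hx2, hy2, hn1, hn2, h01, h02, h12, h10, h20, h21⟩ :=
    eig_facts hF w hw X Y hX hY hY3 hrel v hxv
  set e1 : Fin 3 → F := Y *ᵥ v with he1
  set e2 : Fin 3 → F := Y *ᵥ e1 with he2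
  obtain ⟨E, hE0, hE1, hE2⟩ : ∃ E : Fin 3 → Fin 3 → F, E 0 = v ∧ E 1 = e1 ∧ E 2 = e2 :=
    ⟨![v, e1, e2], rfl, rfl, rfl⟩
  obtain ⟨G0, hG0⟩ : ∃ G0 : Matrix (Fin 3) (Fin 3) F, ∀ i j, G0 i j = E j i :=
    ⟨Matrix.of fun i j => E j i, fun _ _ => rfl⟩
  have hmulG : ∀ (M : Matrix (Fin 3) (Fin 3) F) (i j : Fin 3), (M * G0) i j = (M *ᵥ E j) i := by
    intro M i j
    rw [Matrix.mul_apply]
    simp only [Matrix.mulVec, dotProduct, hG0]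
  refine ⟨G0, fun i => by rw [hG0, hE0], ?_, ?_, ?_, ?_⟩
  · ext i j
    rw [hmulG]
    have : (Asch.adj φ G0 *ᵥ E j) i = hermForm 3 F 5 (E j) (E i) := by
      simp only [Matrix.mulVec, dotProduct, Asch.adj_apply, hφ, hermForm, hG0]
      refine Finset.sum_congr rfl fun k _ => by ring
    rw [this]
    fin_cases i <;> fin_cases j <;>
      simp [hE0, hE1, hE2, hn1, hn2, h01, h02, h12, h10, h20, h21]
  · ext i j
    rw [hmulG, Xm, Matrix.mul_diagonal, hG0]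
    fin_cases j
    · show (X *ᵥ E 0) i = E 0 i * 1
      rw [hE0, hxv, mul_one]
    · show (X *ᵥ E 1) i = E 1 i * w
      rw [hE1, hx1, Pi.smul_apply, smul_eq_mul, mul_comm]
    · show (X *ᵥ E 2) i = E 2 i * w ^ 2
      rw [hE2, hx2, Pi.smul_apply, smul_eq_mul, mul_comm]
  · ext i j
    rw [hmulG, Matrix.mul_apply, Fin.sum_univ_three, hG0, hG0, hG0, hE0, hE1, hE2]
    fin_cases j
    · show (Y *ᵥ E 0) i = v i * Ym 0 0 + e1 i * Ym 1 0 + e2 i * Ym 2 0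
      rw [hE0]
      simp [Ym, he1]
    · show (Y *ᵥ E 1) i = v i * Ym 0 1 + e1 i * Ym 1 1 + e2 i * Ym 2 1
      rw [hE1]
      simp [Ym, he2]
    · show (Y *ᵥ E 2) i = v i * Ym 0 2 + e1 i * Ym 1 2 + e2 i * Ym 2 2
      rw [hE2, hy2]
      simp [Ym]
  · -- independence of eigenvectors
    intro hv0
    obtain ⟨hw1, hw21, hw2w, -, -⟩ := w_facts hF w hw
    rw [← Matrix.linearIndependent_cols_iff_isUnit]
    have hcol : G0.col = E := by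
      funext j i
      exact hG0 i j
    rw [hcol]
    have hYinj : ∀ u : Fin 3 → F, Y *ᵥ u = 0 → u = 0 := by
      intro u hu
      have : Y *ᵥ (Y *ᵥ (Y *ᵥ u)) = u := by
        rw [Matrix.mulVec_mulVec, Matrix.mulVec_mulVec, hY3, Matrix.one_mulVec]
      rw [← this, hu, Matrix.mulVec_zero, Matrix.mulVec_zero]
    have he1ne : e1 ≠ 0 := fun h => hv0 (hYinj v h)
    have he2ne : e2 ≠ 0 := fun h => he1ne (hYinj e1 h)
    refine Module.End.eigenvectors_linearIndependent' (Matrix.toLin' X) ![1, w, w ^ 2] ?_ E ?_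
    · intro a b hab
      fin_cases a <;> fin_cases b
      · rfl
      · exact absurd (hab : (1 : F) = w).symm hw1
      · exact absurd (hab : (1 : F) = w ^ 2).symm hw21
      · exact absurd (hab : w = (1 : F)) hw1
      · rfl
      · exact absurd (hab : w = w ^ 2).symm hw2w
      · exact absurd (hab : w ^ 2 = (1 : F)) hw21
      · exact absurd (hab : w ^ 2 = w) hw2w
      · rfl
    · intro j
      fin_cases j
      · refine ⟨Module.End.mem_eigenspace_iff.2 ?_, by show E 0 ≠ 0; rw [hE0]; exact hv0⟩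
        show Matrix.toLin' X (E 0) = (1 : F) • E 0
        rw [Matrix.toLin'_apply, hE0, hxv, one_smul]
      · refine ⟨Module.End.mem_eigenspace_iff.2 ?_, by show E 1 ≠ 0; rw [hE1]; exact he1ne⟩
        show Matrix.toLin' X (E 1) = w • E 1
        rw [Matrix.toLin'_apply, hE1, hx1]
      · refine ⟨Module.End.mem_eigenspace_iff.2 ?_, by show E 2 ≠ 0; rw [hE2]; exact he2ne⟩
        show Matrix.toLin' X (E 2) = (w ^ 2) • E 2
        rw [Matrix.toLin'_apply, hE2, hx2]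

/-- **SU3-e6a2**. -/
theorem e6a2 (hF : Fintype.card F = 5 ^ 2) : E6a2Stmt F := by
  intro w hw x y hxU hyU _ hy3 hrel hv
  obtain ⟨v₀, hv₀, hxv₀⟩ := hv
  classical
  obtain ⟨φ, hφ, hφ2⟩ := Cfsg.Agent.Lib.H4.exists_frob hF
  have hY3 : (y : Matrix (Fin 3) (Fin 3) F) * (y : Matrix (Fin 3) (Fin 3) F) *
      (y : Matrix (Fin 3) (Fin 3) F) = 1 := by
    have h := congrArg (fun g : GL (Fin 3) F => (g : Matrix (Fin 3) (Fin 3) F)) hy3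
    simpa only [pow_succ, pow_zero, one_mul, Units.val_mul, Units.val_one] using h
  -- the norm of `v₀` is non-zero
  have hb : hermForm 3 F 5 v₀ v₀ ≠ 0 := by
    intro hb0
    obtain ⟨G0, hG00, hgram, -, -, hunit⟩ :=
      e6a2_gram hF φ hφ w hw _ _ hxU hyU hY3 hrel v₀ hxv₀
    rw [hb0, zero_smul] at hgram
    obtain ⟨u, rfl⟩ := hunit hv₀
    have h1 : Asch.adj φ (u : Matrix (Fin 3) (Fin 3) F) = 0 := by
      have : Asch.adj φ (u : Matrix (Fin 3) (Fin 3) F) * (u : Matrix (Fin 3) (Fin 3) F) *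
          (↑u⁻¹ : Matrix (Fin 3) (Fin 3) F) = 0 := by rw [hgram, zero_mul]
      rwa [mul_assoc, Units.mul_inv, mul_one] at this
    apply hv₀
    funext i
    have h2 := congrFun (congrFun h1 0) i
    rw [Asch.adj_apply, hG00] at h2
    exact (map_eq_zero φ).1 h2
  -- rescale
  have hbfix : (hermForm 3 F 5 v₀ v₀)⁻¹ ^ 5 = (hermForm 3 F 5 v₀ v₀)⁻¹ := by
    rw [inv_pow, Cfsg.Agent.Lib.H4.hermForm_conj 3 hF]
  obtain ⟨c, hc0, hc⟩ := Cfsg.Agent.Lib.H25.Asch.exists_norm_eq hF _ (inv_ne_zero hb) hbfix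
  have hv1 : hermForm 3 F 5 (c • v₀) (c • v₀) = 1 := by
    rw [Cfsg.Agent.Lib.H4.hermForm_smul_left, Cfsg.Agent.Lib.H4.hermForm_smul_right, ← mul_assoc, hc,
      inv_mul_cancel₀ hb]
  have hxv : (x : Matrix (Fin 3) (Fin 3) F) *ᵥ (c • v₀) = c • v₀ := by
    rw [Matrix.mulVec_smul, hxv₀]
  obtain ⟨G0, -, hgram, hXG, hYG, -⟩ :=
    e6a2_gram hF φ hφ w hw _ _ hxU hyU hY3 hrel (c • v₀) hxv
  rw [hv1, one_smul] at hgram
  have hgram' : G0 * Asch.adj φ G0 = 1 := mul_eq_one_comm.mp hgram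
  refine ⟨⟨G0, Asch.adj φ G0, hgram', hgram⟩, ?_, hXG, hYG⟩
  intro a b
  show hermForm 3 F 5 (G0 *ᵥ a) (G0 *ᵥ b) = hermForm 3 F 5 a b
  rw [Asch.hermForm_adj φ hφ hφ2, Matrix.mulVec_mulVec, hgram, Matrix.one_mulVec]

end Cfsg.Agent.Lib.H4.SU3
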