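import Cfsg.Agent.Lib.H7.SpMinDefs

/-!
# S2142-CQ: the stabiliser in `Sp_{2m}(2)` of a quadratic form `Q` polarising to the symplectic form
has index `#{v | Q v = 0}`; the standard minus form is such a form
-/

set_option autoImplicit false
set_option linter.unusedSectionVars false
set_option linter.unusedVariables false

namespace Cfsg.Agent.Lib.H4.SpMin

open Matrix Cfsg.Agent.Lib.H4 Cfsg.Agent.Lib.H2.Sp Cfsg.Agent.Lib.H7.SpMin

variable {F : Type*} [Field F] [Fintype F] (m : ℕ)

set_option quotPrecheck false in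
local notation "Sp" => ↥(Matrix.symplecticGroup (Fin m) F)

set_option quotPrecheck false in
local notation "MM" => Matrix (Fin m ⊕ Fin m) (Fin m ⊕ Fin m) F

set_option quotPrecheck false in
local notation "VV" => (Fin m ⊕ Fin m → F)

set_option quotPrecheck false in
local notation "B" => Cfsg.sympForm m F

theorem sympForm_eq_sum' (u v : VV) :
    B u v = -(∑ i, u (.inl i) * v (.inr i)) + ∑ i, u (.inr i) * v (.inl i) := by
  unfold Cfsg.sympForm
  simp only [Matrix.J, dotProduct, Fintype.sum_sum_type, Matrix.mulVec, Matrix.fromBlocks_apply₁₁,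
    Matrix.fromBlocks_apply₁₂, Matrix.fromBlocks_apply₂₁, Matrix.fromBlocks_apply₂₂,
    Matrix.zero_apply, zero_mul, Finset.sum_const_zero, zero_add, add_zero, Matrix.neg_apply,
    Matrix.one_apply, neg_mul, ite_mul, one_mul, Finset.sum_neg_distrib, Finset.sum_ite_eq,
    Finset.mem_univ, if_true, mul_neg]

theorem Qminus_isQuad (hF : Fintype.card F = 2) (hm : 1 ≤ m) : IsQuad m (Qminus (F := F) m hm) := by
  intro x y
  unfold Qminus
  rw [sympForm_eq_sum', neg_eq hF]
  simp only [Pi.add_apply]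
  have h1 : ∀ i : Fin m, (x (Sum.inl i) + y (Sum.inl i)) * (x (Sum.inr i) + y (Sum.inr i)) =
      x (Sum.inl i) * x (Sum.inr i) + y (Sum.inl i) * y (Sum.inr i) +
        (x (Sum.inl i) * y (Sum.inr i) + x (Sum.inr i) * y (Sum.inl i)) := by
    intro i
    ring
  rw [Finset.sum_congr rfl (fun i _ => h1 i), Finset.sum_add_distrib, Finset.sum_add_distrib,
    Finset.sum_add_distrib]
  ring

/-! ## the action on functions -/

/-- functions on the natural module (a synonym carrying the action of `Sp` by precomposition) -/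
def QFun (m : ℕ) (F : Type*) : Type _ := (Fin m ⊕ Fin m → F) → F

instance : MulAction Sp (QFun m F) where
  smul g f := fun x => f (((g⁻¹ : Sp) : MM) *ᵥ x)
  one_smul f := by
    funext x
    show f (((1⁻¹ : Sp) : MM) *ᵥ x) = f x
    rw [inv_one, Submonoid.coe_one, Matrix.one_mulVec]
  mul_smul g h f := by
    funext x
    show f ((((g * h)⁻¹ : Sp) : MM) *ᵥ x) = f (((h⁻¹ : Sp) : MM) *ᵥ (((g⁻¹ : Sp) : MM) *ᵥ x))
    rw [_root_.mul_inv_rev, Submonoid.coe_mul, ← Matrix.mulVec_mulVec]

/-- view a function as an element of `QFun` -/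
def toQFun (Q : (Fin m ⊕ Fin m → F) → F) : QFun m F := Q

theorem toQFun_apply (Q : (Fin m ⊕ Fin m → F) → F) (x : Fin m ⊕ Fin m → F) : toQFun m Q x = Q x := rfl

theorem smul_apply (g : Sp) (f : QFun m F) (x : VV) :
    (g • f) x = f (((g⁻¹ : Sp) : MM) *ᵥ x) := rfl

theorem inv_smul_apply (g : Sp) (f : QFun m F) (x : VV) :
    (g⁻¹ • f) x = f ((g : MM) *ᵥ x) := by
  rw [smul_apply, inv_inv]

/-- the family of forms `Q + B(·, v)`, `Q v = 0` -/
def fam (Q : VV → F) : Set (QFun m F) :=
  {f | ∃ v : VV, Q v = 0 ∧ f = fun x => Q x + B x v}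

theorem isQuad_zero (Q : VV → F) (hQ : IsQuad m Q) : Q 0 = 0 := by
  have h := hQ 0 0
  rw [add_zero, sympForm_self] at h
  rw [add_zero] at h
  have h' : Q 0 + Q 0 = Q 0 + 0 := by rw [add_zero]; exact h.symm
  exact add_left_cancel h'

theorem isQuad_smul (hF : Fintype.card F = 2) (Q : VV → F) (hQ : IsQuad m Q) (c : F) (u : VV) :
    Q (c • u) = c * Q u := by
  rcases eq_zero_or_one hF c with rfl | rfl
  · rw [zero_smul, zero_mul, isQuad_zero m Q hQ]
  · rw [one_smul, one_mul]

/-- composing a member of the family with a transvection stays in the family -/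
theorem fam_comp_tv (hF : Fintype.card F = 2) (Q : VV → F) (hQ : IsQuad m Q) (f : QFun m F)
    (hf : f ∈ fam m Q) (u : VV) (c : F) :
    (fun x => f (((tv m u c : Sp) : MM) *ᵥ x)) ∈ fam m Q := by
  obtain ⟨v, hv, rfl⟩ := hf
  rcases eq_zero_or_one hF c with rfl | rfl
  · refine ⟨v, hv, ?_⟩
    funext x
    show Q (((tv m u 0 : Sp) : MM) *ᵥ x) + B (((tv m u 0 : Sp) : MM) *ᵥ x) v = Q x + B x v
    rw [tv_mulVec, zero_mul, zero_smul, add_zero]
  · -- `ε = Q u + B u v + 1`
    have key : ∀ x : VV, Q (((tv m u 1 : Sp) : MM) *ᵥ x) + B (((tv m u 1 : Sp) : MM) *ᵥ x) v =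
        Q x + B x v + B x u * (Q u + B u v + 1) := by
      intro x
      rw [tv_mulVec, one_mul, hQ, isQuad_smul m hF Q hQ, sympForm_add_left, sympForm_smul_left,
        sympForm_smul_right]
      have hsq := mul_self_eq hF (B x u)
      linear_combination hsq
    rcases eq_zero_or_one hF (Q u + B u v + 1) with h0 | h1
    · refine ⟨v, hv, ?_⟩
      funext x
      show Q (((tv m u 1 : Sp) : MM) *ᵥ x) + B (((tv m u 1 : Sp) : MM) *ᵥ x) v = Q x + B x v
      rw [key, h0, mul_zero, add_zero]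
    · have hQu : Q u + B u v = 0 := by
        have h2 : Q u + B u v + 1 = 0 + 1 := by rw [h1, zero_add]
        exact add_right_cancel h2
      refine ⟨v + u, ?_, ?_⟩
      · rw [hQ, hv, zero_add, sympForm_symm m hF v u]
        exact hQu
      · funext x
        show Q (((tv m u 1 : Sp) : MM) *ᵥ x) + B (((tv m u 1 : Sp) : MM) *ᵥ x) v = Q x + B x (v + u)
        rw [key, h1, mul_one, sympForm_add_right, add_assoc]

theorem tv_inv (u : VV) (c : F) : (tv m u c : Sp)⁻¹ = tv m u (-c) := by
  rw [inv_eq_iff_mul_eq_one, tv_mul, add_neg_cancel, tv_zero_right]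

/-- the family is invariant under `Sp` -/
theorem smul_mem_fam (hF : Fintype.card F = 2) (Q : VV → F) (hQ : IsQuad m Q) (g : Sp) :
    ∀ f ∈ fam m Q, g • f ∈ fam m Q ∧ g⁻¹ • f ∈ fam m Q := by
  have hg : g ∈ TS F m := by rw [TS_eq_top]; exact Subgroup.mem_top g
  unfold TS at hg
  induction hg using Subgroup.closure_induction with
  | mem g hg =>
    obtain ⟨u, c, rfl⟩ := hg
    intro f hf
    refine ⟨?_, ?_⟩
    · have := fam_comp_tv m hF Q hQ f hf u (-c)
      rw [← tv_inv] at this
      exact this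
    · have := fam_comp_tv m hF Q hQ f hf u c
      have h2 : ((tv m u c : Sp)⁻¹ • f) = fun x => f (((tv m u c : Sp) : MM) *ᵥ x) := by
        funext x
        exact inv_smul_apply m _ f x
      rw [h2]
      exact this
  | one =>
    intro f hf
    rw [inv_one, one_smul]
    exact ⟨hf, hf⟩
  | mul g h _ _ ihg ihh =>
    intro f hf
    refine ⟨?_, ?_⟩
    · rw [mul_smul]
      exact (ihg _ (ihh f hf).1).1
    · rw [_root_.mul_inv_rev, mul_smul]
      exact (ihh _ (ihg f hf).2).2
  | inv g _ ih =>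
    intro f hf
    rw [inv_inv]
    exact ⟨(ih f hf).2, (ih f hf).1⟩

theorem Q_mem_fam (Q : VV → F) (hQ : IsQuad m Q) : (toQFun m Q) ∈ fam m Q := by
  refine ⟨0, isQuad_zero m Q hQ, ?_⟩
  funext x
  have h0 : B x 0 = 0 := by
    have := sympForm_smul_right m (0 : F) x 0
    rw [zero_smul, zero_mul] at this
    exact this
  rw [h0, add_zero, toQFun_apply]

theorem orbit_eq_fam (hF : Fintype.card F = 2) (Q : VV → F) (hQ : IsQuad m Q) :
    MulAction.orbit Sp (toQFun m Q) = fam m Q := by
  ext f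
  constructor
  · rintro ⟨g, rfl⟩
    exact (smul_mem_fam m hF Q hQ g _ (Q_mem_fam m Q hQ)).1
  · rintro ⟨v, hv, rfl⟩
    refine ⟨(t m v)⁻¹, ?_⟩
    funext x
    show ((t m v)⁻¹ • (toQFun m Q)) x = Q x + B x v
    rw [inv_smul_apply, toQFun_apply]
    unfold t
    rw [tv_mulVec, one_mul, hQ, isQuad_smul m hF Q hQ, hv, mul_zero, add_zero, sympForm_smul_right,
      mul_self_eq hF]

theorem stabilizer_eq_OQ (Q : VV → F) : MulAction.stabilizer Sp (toQFun m Q) = OQ m Q := by
  ext g
  rw [MulAction.mem_stabilizer_iff, mem_OQ]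
  constructor
  · intro h x
    have h1 : (g • (toQFun m Q)) ((g : MM) *ᵥ x) = Q ((g : MM) *ᵥ x) := by rw [h, toQFun_apply]
    rw [smul_apply, toQFun_apply, Matrix.mulVec_mulVec, ← Submonoid.coe_mul, inv_mul_cancel, Submonoid.coe_one,
      Matrix.one_mulVec] at h1
    exact h1.symm
  · intro h
    funext x
    rw [smul_apply, toQFun_apply, toQFun_apply]
    have h1 := h (((g⁻¹ : Sp) : MM) *ᵥ x)
    rw [Matrix.mulVec_mulVec, ← Submonoid.coe_mul, mul_inv_cancel, Submonoid.coe_one,
      Matrix.one_mulVec] at h1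
    exact h1.symm

theorem index_OQ (hF : Fintype.card F = 2) (Q : VV → F) (hQ : IsQuad m Q) :
    (OQ m Q).index = Nat.card {v : VV // Q v = 0} := by
  rw [← stabilizer_eq_OQ, MulAction.index_stabilizer, orbit_eq_fam m hF Q hQ]
  let φ : {v : VV // Q v = 0} → QFun m F := fun v => fun x => Q x + B x v.1
  have hφ : Function.Injective φ := by
    intro v w hvw
    apply Subtype.ext
    by_contra hne
    have hd : v.1 - w.1 ≠ 0 := sub_ne_zero.2 hne
    obtain ⟨z, hz⟩ := exists_sympForm_ne_zero m (v.1 - w.1) hd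
    apply hz
    have h1 := congrFun hvw z
    have h2 : B z v.1 = B z w.1 := add_left_cancel h1
    rw [sympForm_swap, sympForm_sub_right, h2, sub_self, neg_zero]
  have hrange : fam m Q = Set.range φ := by
    ext f
    constructor
    · rintro ⟨v, hv, rfl⟩
      exact ⟨⟨v, hv⟩, rfl⟩
    · rintro ⟨v, rfl⟩
      exact ⟨v.1, v.2, rfl⟩
  rw [hrange, ← Nat.card_coe_set_eq, Nat.card_range_of_injective hφ]

end Cfsg.Agent.Lib.H4.SpMin
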