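import Cfsg.Agent.Lib.H7.SpMinDefs

/-!
# S2142-CZ: the minus-type quadratic form over the field with two elements has
`2^(2m-1) - 2^(m-1)` zeros (character-sum count)
-/

set_option autoImplicit false
set_option linter.unusedSectionVars false
set_option linter.unusedVariables false

namespace Cfsg.Agent.Lib.H4.SpMin

open Matrix Cfsg.Agent.Lib.H4 Cfsg.Agent.Lib.H2.Sp Cfsg.Agent.Lib.H7.SpMin

variable {F : Type*} [Field F] [Fintype F] (m : ℕ)

set_option quotPrecheck false in
local notation "VV" => (Fin m ⊕ Fin m → F)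

open Classical in
/-- the sign character of the field with two elements -/
noncomputable def sg (x : F) : ℤ := if x = 0 then 1 else -1

theorem sg_zero : sg (0 : F) = 1 := by
  unfold sg
  rw [if_pos rfl]

theorem sg_one : sg (1 : F) = -1 := by
  unfold sg
  rw [if_neg one_ne_zero]

theorem sg_add (hF : Fintype.card F = 2) (a b : F) : sg (a + b) = sg a * sg b := by
  rcases eq_zero_or_one hF a with rfl | rfl <;> rcases eq_zero_or_one hF b with rfl | rfl
  · rw [add_zero, sg_zero]; norm_num
  · rw [zero_add, sg_zero, sg_one]; norm_num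
  · rw [add_zero, sg_zero, sg_one]; norm_num
  · rw [add_self_eq hF, sg_zero, sg_one]; norm_num

theorem sg_sum (hF : Fintype.card F = 2) {ι : Type*} (s : Finset ι) (f : ι → F) :
    sg (∑ i ∈ s, f i) = ∏ i ∈ s, sg (f i) := by
  classical
  induction s using Finset.induction_on with
  | empty => rw [Finset.sum_empty, Finset.prod_empty, sg_zero]
  | insert a s ha ih => rw [Finset.sum_insert ha, Finset.prod_insert ha, sg_add hF, ih]

theorem ind_eq (y : F) [Decidable (y = 0)] : (if y = 0 then (2 : ℤ) else 0) = 1 + sg y := by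
  unfold sg
  by_cases h : y = 0
  · rw [if_pos h, if_pos h]; norm_num
  · rw [if_neg h, if_neg h]; norm_num

theorem sum_two (hF : Fintype.card F = 2) (h : F → ℤ) : ∑ a, h a = h 0 + h 1 := by
  classical
  have hu : (Finset.univ : Finset F) = {0, 1} := by
    symm
    apply Finset.eq_univ_of_card
    rw [Finset.card_pair zero_ne_one, hF]
  rw [hu, Finset.sum_pair zero_ne_one]

/-- the local factor at the coordinate pair `i` -/
noncomputable def fac (hm : 1 ≤ m) (i : Fin m) (p : F × F) : ℤ := by
  classical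
  exact sg (p.1 * p.2) * (if i = ⟨0, hm⟩ then sg p.1 * sg p.2 else 1)

theorem sum_fac (hF : Fintype.card F = 2) (hm : 1 ≤ m) (i : Fin m) :
    ∑ p : F × F, fac m hm i p = 2 * (if i = ⟨0, hm⟩ then -1 else 1) := by
  classical
  rw [Fintype.sum_prod_type, sum_two hF, sum_two hF, sum_two hF]
  unfold fac
  by_cases h : i = ⟨0, hm⟩
  · simp only [if_pos h, mul_zero, mul_one, sg_zero, sg_one]
    norm_num
  · simp only [if_neg h, mul_zero, mul_one, sg_zero, sg_one]
    norm_num

theorem sg_Qminus (hF : Fintype.card F = 2) (hm : 1 ≤ m) (x : VV) :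
    sg (Qminus m hm x) = ∏ i : Fin m, fac m hm i (x (Sum.inl i), x (Sum.inr i)) := by
  classical
  unfold Qminus fac
  rw [sg_add hF, sg_add hF, sg_sum hF, Finset.prod_mul_distrib, Finset.prod_ite_eq' Finset.univ,
    if_pos (Finset.mem_univ _), mul_assoc]

/-- coordinates in pairs -/
def pairEquiv : VV ≃ (Fin m → F × F) where
  toFun x := fun i => (x (Sum.inl i), x (Sum.inr i))
  invFun z := Sum.elim (fun i => (z i).1) (fun i => (z i).2)
  left_inv x := by
    funext j
    cases j <;> rfl
  right_inv z := by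
    funext i
    rfl

theorem sum_sg_Qminus (hF : Fintype.card F = 2) (hm : 1 ≤ m) :
    ∑ x : VV, sg (Qminus m hm x) = -(2 : ℤ) ^ m := by
  classical
  have h1 : ∑ x : VV, sg (Qminus m hm x) =
      ∑ z : Fin m → F × F, ∏ i : Fin m, fac m hm i (z i) := by
    refine Fintype.sum_equiv (pairEquiv m) _ _ fun x => ?_
    rw [sg_Qminus m hF hm]
    rfl
  rw [h1, ← Fintype.prod_sum, Finset.prod_congr rfl (fun i _ => sum_fac m hF hm i),
    Finset.prod_mul_distrib, Finset.prod_const, Finset.card_univ, Fintype.card_fin,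
    Finset.prod_ite_eq' Finset.univ, if_pos (Finset.mem_univ _)]
  ring

theorem card_zeros_Qminus (hF : Fintype.card F = 2) (hm : 1 ≤ m) :
    Nat.card {x : VV // Qminus (F := F) m hm x = 0} = 2 ^ (2 * m - 1) - 2 ^ (m - 1) := by
  classical
  rw [Nat.card_eq_fintype_card, Fintype.card_subtype]
  set N := (Finset.univ.filter fun x : VV => Qminus (F := F) m hm x = 0).card with hN
  have hcardV : Fintype.card VV = 4 ^ m := by
    rw [Fintype.card_fun, hF, Fintype.card_sum, Fintype.card_fin, ← two_mul, pow_mul]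
    norm_num
  have h1 : (2 : ℤ) * N = ∑ x : VV, (if Qminus (F := F) m hm x = 0 then (2 : ℤ) else 0) := by
    rw [hN, Finset.card_filter, Nat.cast_sum, Finset.mul_sum]
    refine Finset.sum_congr rfl fun x _ => ?_
    split_ifs <;> simp
  have h2 : (2 : ℤ) * N = (4 : ℤ) ^ m - 2 ^ m := by
    rw [h1, Finset.sum_congr rfl (fun x _ => ind_eq (Qminus (F := F) m hm x)),
      Finset.sum_add_distrib, sum_sg_Qminus m hF hm, Finset.sum_const, Finset.card_univ, hcardV]
    simp
    ring
  have h3 : 2 * N + 2 ^ m = 4 ^ m := by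
    have : ((2 * N + 2 ^ m : ℕ) : ℤ) = ((4 ^ m : ℕ) : ℤ) := by
      push_cast
      linarith
    exact_mod_cast this
  have h4 : 4 ^ m = 2 * 2 ^ (2 * m - 1) := by
    rw [← pow_succ', show (4 : ℕ) = 2 ^ 2 from rfl, ← pow_mul]
    congr 1
    omega
  have h5 : 2 ^ m = 2 * 2 ^ (m - 1) := by
    rw [← pow_succ']
    congr 1
    omega
  omega

end Cfsg.Agent.Lib.H4.SpMin
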