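import Mathlib

set_option autoImplicit false

namespace Cfsg.Agent.Lib.H4

open MulAction SubMulAction

theorem exists_third {α : Type*} (h3 : 3 ≤ Nat.card α) (x y : α) : ∃ z : α, z ≠ x ∧ z ≠ y := by
  classical
  have hfin : Finite α := Nat.finite_of_card_ne_zero (by omega)
  have : Fintype α := Fintype.ofFinite α
  by_contra hcon
  push Not at hcon
  have hsub : (Finset.univ : Finset α) ⊆ {x, y} := by
    intro z _
    by_cases hz : z = x
    · simp [hz]
    · simp [hcon z hz]
  have h1 := Finset.card_le_card hsub
  rw [Finset.card_univ, ← Nat.card_eq_fintype_card] at h1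
  have h2 : ({x, y} : Finset α).card ≤ 2 := Finset.card_le_two
  omega

/-- If all point stabilizers are transitive on the remaining points and there are at least three
points, the action is transitive. -/
theorem isPretransitive_of_stabilizers {G α : Type*} [Group G] [MulAction G α]
    (h3 : 3 ≤ Nat.card α)
    (h : ∀ c : α, IsPretransitive (stabilizer G c) (ofStabilizer G c)) : IsPretransitive G α := by
  constructor
  intro a b
  obtain ⟨c, hca, hcb⟩ := exists_third h3 a b
  obtain ⟨g, hg⟩ := (h c).exists_smul_eq (⟨a, Ne.symm hca⟩ : ofStabilizer G c) ⟨b, Ne.symm hcb⟩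
  refine ⟨(g : G), ?_⟩
  have := congrArg Subtype.val hg
  exact this

end Cfsg.Agent.Lib.H4
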