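import Mathlib
import Cfsg.Agent.S0623

/-!
helper4 library: general facts on the stable normal closure `W(S)` (KS 9.4).

* `snc_mem_fam`: `W(S)` itself belongs to the defining family, so its image under every
  stable embedding is normal (`snc_map_normal`).
* `central_of_quadratic`: the inductive step of KS 9.4.3 in a general form.
* `snc_map_equiv`: transport of `W` of a subgroup under an automorphism of the ambient group.
-/

set_option autoImplicit false

namespace Cfsg.Agent.Lib.H4.StableW

open Cfsg.Agent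
open scoped commutatorElement

universe u

theorem omegaOne_center_le_snc {S : Type u} [Group S] (p : ℕ) :
    Cfsg.omegaOne p (Subgroup.center S) ≤ Cfsg.stableNormalClosure p S := by
  rw [S0622.snc_eq]
  exact le_sInf (fun W hW => hW.1)

theorem snc_le_oct {S : Type u} [Group S] [Finite S] (p : ℕ) :
    Cfsg.stableNormalClosure p S ≤ Cfsg.omegaCenterThompson p S := by
  rw [S0622.snc_eq]
  exact sInf_le (S0622.oct_mem_fam p)

theorem snc_mem_fam {S : Type u} [Group S] [Finite S] (p : ℕ) :
    Cfsg.stableNormalClosure p S ∈ S0622.fam p S := by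
  refine ⟨omegaOne_center_le_snc p, ?_⟩
  intro H' _ τ' hτ'
  rw [S0622.snc_eq]
  have hinj' := hτ'.1
  refine ⟨fun n hn g => ?_⟩
  obtain ⟨s, hs, rfl⟩ := hn
  have hs : s ∈ sInf (S0622.fam p S) := hs
  rw [Subgroup.mem_sInf] at hs
  have h0 := (S0622.oct_mem_fam (S := S) p).2 H' τ' hτ'
  obtain ⟨s₀, _, hs₀⟩ :=
    h0.conj_mem _ (Subgroup.mem_map_of_mem τ' (hs _ (S0622.oct_mem_fam p))) g
  refine ⟨s₀, ?_, hs₀⟩
  show s₀ ∈ sInf (S0622.fam p S)
  rw [Subgroup.mem_sInf]
  intro X hX
  obtain ⟨s', hs', hss'⟩ :=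
    (hX.2 H' τ' hτ').conj_mem _ (Subgroup.mem_map_of_mem τ' (hs X hX)) g
  rw [← hs₀] at hss'
  rw [← hinj' hss']
  exact hs'

theorem snc_map_normal {S H : Type u} [Group S] [Finite S] [Group H] (p : ℕ) (τ : S →* H)
    (hτ : Cfsg.IsStableEmbedding p τ) : ((Cfsg.stableNormalClosure p S).map τ).Normal :=
  (snc_mem_fam p).2 H τ hτ

theorem snc_map_of_injOn {G G' : Type u} [Group G] [Group G'] (p : ℕ) (f : G →* G')
    (T : Subgroup G) (hf : Set.InjOn f (T : Set G)) :
    (Cfsg.stableNormalClosure p ↥(T.map f)).map (T.map f).subtype =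
      ((Cfsg.stableNormalClosure p ↥T).map T.subtype).map f := by
  have hbij : Function.Bijective (f.subgroupMap T) := by
    refine ⟨?_, f.subgroupMap_surjective T⟩
    intro a b hab
    apply Subtype.ext
    apply hf a.2 b.2
    exact congrArg Subtype.val hab
  let e : ↥T ≃* ↥(T.map f) := MulEquiv.ofBijective (f.subgroupMap T) hbij
  have he : (T.map f).subtype.comp e.toMonoidHom = f.comp T.subtype := by
    ext x; rfl
  rw [← S0622.map_eq p e, Subgroup.map_map, he, ← Subgroup.map_map]

theorem snc_map_equiv {G : Type u} [Group G] (p : ℕ) (T : Subgroup G) (φ : G ≃* G) :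
    (Cfsg.stableNormalClosure p ↥(T.map φ.toMonoidHom)).map (T.map φ.toMonoidHom).subtype =
      ((Cfsg.stableNormalClosure p ↥T).map T.subtype).map φ.toMonoidHom :=
  snc_map_of_injOn p φ.toMonoidHom T (fun a _ b _ hab => φ.injective hab)

/-- General form of the inductive step of KS 9.4.3: if `V` is the normal closure of the image of
`U`, the group is `p`-stable on `V`, and quadratic elements of `S` centralize `U`, then every
element acting quadratically on `V` centralizes `V`. -/
theorem central_of_quadratic {S H : Type*} [Group S] [Group H] [Finite H] {p : ℕ} [Fact p.Prime]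
    (τ : S →* H) (hinj : Function.Injective τ) (P : Sylow p H)
    (hP : (P : Subgroup H) = τ.range) (U : Subgroup S) (hQ : S0623.QP U) (V : Subgroup H)
    [hVn : V.Normal] (hVdef : V = Subgroup.normalClosure ((U.map τ : Subgroup H) : Set H))
    (hstV : Cfsg.IsPStableOn p V) (b : H)
    (h1 : ⁅⁅V, Subgroup.zpowers b⁆, Subgroup.zpowers b⁆ = ⊥) :
    b ∈ Subgroup.centralizer (V : Set H) := by
  have hUV : U.map τ ≤ V := by rw [hVdef]; exact Subgroup.le_normalClosure
  have hle : V ≤ Subgroup.centralizer ({b} : Set H) := by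
    rw [hVdef, Subgroup.normalClosure, Subgroup.closure_le]
    intro y hy
    rw [Group.mem_conjugatesOfSet_iff] at hy
    obtain ⟨w, hw, hwy⟩ := hy
    obtain ⟨u, hu, rfl⟩ := hw
    rw [isConj_iff] at hwy
    obtain ⟨h, rfl⟩ := hwy
    obtain ⟨a, ha⟩ : ∃ a, a = h⁻¹ * b * h := ⟨_, rfl⟩
    have ha1 : (QuotientGroup.mk a : H ⧸ Subgroup.centralizer (V : Set H)) ∈
        Cfsg.pCore p (H ⧸ Subgroup.centralizer (V : Set H)) := by
      have := (Lib.H1.pCore_normal p (H ⧸ Subgroup.centralizer (V : Set H))).conj_mem _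
        (hstV b h1) (QuotientGroup.mk h)⁻¹
      rw [inv_inv] at this
      rw [ha]
      exact this
    have hsurj : Function.Surjective (QuotientGroup.mk' (Subgroup.centralizer (V : Set H))) :=
      QuotientGroup.mk'_surjective _
    have ha2 := Lib.H1.pCore_le_sylow (P.mapSurjective hsurj) ha1
    have ha2' : (QuotientGroup.mk a : H ⧸ Subgroup.centralizer (V : Set H)) ∈
        ((P.mapSurjective hsurj : Sylow p _) : Subgroup _) := ha2
    rw [Sylow.coe_mapSurjective] at ha2'
    obtain ⟨s, hs, hsa⟩ := ha2'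
    have hs' : s ∈ τ.range := by rw [← hP]; exact hs
    obtain ⟨y, rfl⟩ := hs'
    have hsa' : (τ y)⁻¹ * a ∈ Subgroup.centralizer (V : Set H) := QuotientGroup.eq.1 hsa
    have hsa'' : a⁻¹ * τ y ∈ Subgroup.centralizer (V : Set H) := by
      have := Subgroup.inv_mem _ hsa'
      rwa [mul_inv_rev, inv_inv] at this
    have ha3 : ⁅⁅V, Subgroup.zpowers a⁆, Subgroup.zpowers a⁆ = ⊥ := by
      have := congrArg (Subgroup.map (MulAut.conj h⁻¹).toMonoidHom) h1
      rw [Subgroup.map_commutator, Subgroup.map_commutator, S0623.map_conj_normal,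
        MonoidHom.map_zpowers, Subgroup.map_bot] at this
      have h5 : (MulAut.conj h⁻¹).toMonoidHom b = a := by
        rw [ha]
        show h⁻¹ * b * h⁻¹⁻¹ = _
        rw [inv_inv]
      rw [h5] at this
      exact this
    have hy3 : ⁅⁅V, Subgroup.zpowers (τ y)⁆, Subgroup.zpowers (τ y)⁆ = ⊥ := by
      rw [eq_bot_iff, ← ha3]
      exact S0623.quad_le V hsa''
    have hy4 : ⁅⁅U, Subgroup.zpowers y⁆, Subgroup.zpowers y⁆ = ⊥ := by
      apply (Subgroup.map_eq_bot_iff_of_injective _ hinj).1
      rw [Subgroup.map_commutator, Subgroup.map_commutator, MonoidHom.map_zpowers, eq_bot_iff,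
        ← hy3]
      exact Subgroup.commutator_mono (Subgroup.commutator_mono hUV le_rfl) le_rfl
    have hy5 := hQ y hy4
    rw [Subgroup.commutator_eq_bot_iff_le_centralizer] at hy5
    have hyu : y * u = u * y := hy5 hu y (Subgroup.mem_zpowers y)
    have hτyu : τ y * τ u = τ u * τ y := by rw [← map_mul, ← map_mul, hyu]
    obtain ⟨c, hc⟩ : ∃ c, c = (τ y)⁻¹ * a := ⟨_, rfl⟩
    rw [← hc] at hsa'
    have hac : a = τ y * c := by rw [hc]; group
    have hcu : τ u * c = c * τ u := hsa' (τ u) (hUV (Subgroup.mem_map_of_mem τ hu))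
    have hau : a * τ u = τ u * a := by
      rw [hac, mul_assoc, ← hcu, ← mul_assoc, hτyu, mul_assoc]
    show h * τ u * h⁻¹ ∈ Subgroup.centralizer ({b} : Set H)
    rw [Subgroup.mem_centralizer_iff]
    intro z hz
    rw [Set.mem_singleton_iff] at hz
    subst hz
    have hb : z = h * a * h⁻¹ := by rw [ha]; group
    rw [hb]
    calc h * a * h⁻¹ * (h * τ u * h⁻¹) = h * (a * τ u) * h⁻¹ := by group
      _ = h * (τ u * a) * h⁻¹ := by rw [hau]
      _ = h * τ u * h⁻¹ * (h * a * h⁻¹) := by group
  rw [Subgroup.mem_centralizer_iff]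
  intro v hv
  have := hle hv
  rw [Subgroup.mem_centralizer_iff] at this
  exact (this b rfl).symm

end Cfsg.Agent.Lib.H4.StableW
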