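import Mathlib
import Cfsg.Prelude.Def_PLocal
import Cfsg.Agent.S0624
import Cfsg.Agent.Lib.H4.StableW
import Cfsg.Agent.Lib.H7.CoprimeQuot
import Cfsg.Agent.Lib.H9.PPrimeCore
import Cfsg.Agent.Lib.H22.PPrimeCore
import Cfsg.Agent.Lib.H10.PSolvable
import Cfsg.Agent.Lib.H10.PSolvable2
import Cfsg.Agent.Lib.L0.ThompsonNPC

/-!
# `G = O_{p'}(G) N_G(W(S))` for `p`-solvable action-`p`-stable groups
-/

set_option autoImplicit false

namespace Cfsg.Agent.Lib.H4.WFactor

open Cfsg.Agent.Lib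
open scoped commutatorElement

universe u

variable {p : ℕ} [Fact p.Prime]

theorem factor_of_actionStable {G : Type u} [Group G] [Finite G]
    (hsep : Cfsg.IsPSolvable p G)
    (hAS : Cfsg.IsActionPStable p (G ⧸ Cfsg.pPrimeCore p G)) (S : Sylow p G) :
    Cfsg.pPrimeCore p G ⊔ Subgroup.normalizer
      (((Cfsg.stableNormalClosure p ↥(S : Subgroup G)).map (S : Subgroup G).subtype) : Set G) = ⊤ := by
  have hNn : (Cfsg.pPrimeCore p G).Normal := H22.pPrimeCore_normal p
  have hNc : (Nat.card (Cfsg.pPrimeCore p G)).Coprime p := H22.card_pPrimeCore_coprime p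
  have hsurj := QuotientGroup.mk'_surjective (Cfsg.pPrimeCore p G)
  -- the image Sylow subgroup
  obtain ⟨Sb, hSb⟩ : ∃ Sb : Sylow p (G ⧸ Cfsg.pPrimeCore p G),
      (Sb : Subgroup _) = (S : Subgroup G).map (QuotientGroup.mk' (Cfsg.pPrimeCore p G)) :=
    ⟨S.mapSurjective hsurj, Sylow.coe_mapSurjective _ _⟩
  have hsolq : Cfsg.IsPSolvable p (G ⧸ Cfsg.pPrimeCore p G) :=
    H10.isPSolvable_quotient hsep _
  have hc : Subgroup.centralizer (Cfsg.pCore p (G ⧸ Cfsg.pPrimeCore p G) : Set _) ≤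
      Cfsg.pCore p (G ⧸ Cfsg.pPrimeCore p G) :=
    H10.centralizer_pCore_le_of_isPSolvable p hsolq (H9.pPrimeCore_quotient_eq_bot p)
  have hnorm := S0624.result hAS hc Sb
  have hinj := L0.injOn_mk_of_coprime (p := p) (Cfsg.pPrimeCore p G) hNc (S : Subgroup G) S.2
  have hW : (Cfsg.stableNormalClosure p ↥(Sb : Subgroup (G ⧸ Cfsg.pPrimeCore p G))).map
      (Sb : Subgroup (G ⧸ Cfsg.pPrimeCore p G)).subtype =
      ((Cfsg.stableNormalClosure p ↥(S : Subgroup G)).map (S : Subgroup G).subtype).map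
        (QuotientGroup.mk' (Cfsg.pPrimeCore p G)) := by
    rw [hSb]
    exact H4.StableW.snc_map_of_injOn p _ (S : Subgroup G) hinj
  rw [hW] at hnorm
  have hWp : IsPGroup p ↥((Cfsg.stableNormalClosure p ↥(S : Subgroup G)).map
      (S : Subgroup G).subtype) := S.2.to_le (Subgroup.map_subtype_le _)
  have h1 := H7.map_normalizer_of_coprime p hNc hWp
  rw [Subgroup.normalizer_eq_top_iff.2 hnorm] at h1
  have h2 := congrArg (Subgroup.comap (QuotientGroup.mk' (Cfsg.pPrimeCore p G))) h1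
  rw [Subgroup.comap_map_eq, QuotientGroup.ker_mk', Subgroup.comap_top] at h2
  rw [sup_comm]
  exact h2

end Cfsg.Agent.Lib.H4.WFactor
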